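import Cfsg.Agent.Lib.Lie.MultExc.USixTwo.CoverData
import Cfsg.Agent.Lib.Lie.MultExc.USixTwo.Table

/-!
Checks of the monomial actions.
-/

set_option autoImplicit false
set_option maxRecDepth 100000
set_option maxHeartbeats 0

namespace CfsgLib.Lie.MultExc.USixTwo

/-- The check of one pair. -/
def commPart (i : Fin 3) : Bool :=
  let u := (comms.getD i.1 ([], [])).1
  let v := (comms.getD i.1 ([], [])).2
  ((u ++ v).all fun x => Nat.blt x 2) &&
  ((List.range 672).all fun b => Nat.beq (CfsgLib.Spor.PermCert.comp tab.w tab.R (u ++ v) b)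
    (CfsgLib.Spor.PermCert.comp tab.w tab.R (v ++ u) b)) &&
  (List.finRange 3).all fun j =>
    Nat.beq (diffAt layers j u v) (if i = j then 1 % (layers j).m else 0)

theorem comm0_ok : commPart 0 = true := by decide +kernel

theorem comm1_ok : commPart 1 = true := by decide +kernel

theorem comm2_ok : commPart 2 = true := by decide +kernel

end CfsgLib.Lie.MultExc.USixTwo
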