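import Cfsg.Agent.Lib.Lie.MultExc.Monomial

/-!
The checks on a generator of a monomial action with 672 blocks, split in four parts.
-/

set_option autoImplicit false
set_option maxRecDepth 100000

namespace CfsgLib.Lie.MultExc.USixTwo

open CfsgLib.Spor.PermCert

/-- The check on a generator at one block. -/
def genAt (L : Layer) (n : ℕ) (h : ℕ → ℕ) (s x : ℕ) : Bool :=
  let P := L.perms.getD s 0
  let F := L.offs.getD s 0
  let x' := unp L.w P x
  let b := L.blk x
  let b' := L.blk x'
  (b.lab.all fun c => Nat.testBit b'.mask (L.codeImg n h c)) &&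
  (let r := b.row
   let r' := b'.row
   let o := L.m - unp L.w F x % L.m
   b.adj.all fun q =>
     Nat.beq (unp L.we r' (unp L.w P q.1)) ((unp L.we r q.1 - 1 + unp L.w F q.1 + o) % L.m + 1))

/-- The check on a quarter of the blocks. -/
def genQuarter (L : Layer) (h : ℕ → ℕ) (s j : ℕ) : Bool :=
  (List.range' (168 * j) 168).all fun x => genAt L 672 h s x

theorem genOK_of_quarters (L : Layer) (h : ℕ → ℕ) (s : ℕ) (hnx : L.nx = 672)
    (hb : Nat.beq (bitSet ((List.range L.nx).map fun x => unp L.w (L.perms.getD s 0) x)) (2 ^ L.nx - 1) = true)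
    (hq : ∀ j < 4, genQuarter L h s j = true) : L.genOK 672 h s = true := by
  show (Nat.beq _ _ && (List.range L.nx).all fun x => genAt L 672 h s x) = true
  rw [Bool.and_eq_true]
  refine ⟨hb, List.all_eq_true.2 fun x hx => ?_⟩
  rw [List.mem_range, hnx] at hx
  have hq' := hq (x / 168) (by omega)
  exact List.all_eq_true.1 hq' x (List.mem_range'_1.2 ⟨by omega, by omega⟩)

end CfsgLib.Lie.MultExc.USixTwo
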