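import Cfsg.Agent.Lib.Lie.MultExc.USixTwo.Table
import Cfsg.Agent.Lib.Lie.MultExc.USixTwo.Layer0
import Cfsg.Agent.Lib.Lie.MultExc.USixTwo.GenPart

/-!
Check of one monomial action on one generator.
-/

set_option autoImplicit false
set_option maxRecDepth 100000
set_option maxHeartbeats 0

namespace CfsgLib.Lie.MultExc.USixTwo

theorem gen00q3_ok : genQuarter layer0 (CfsgLib.Spor.PermCert.look tab.w tab.R 0) 0 3 = true := by decide +kernel

end CfsgLib.Lie.MultExc.USixTwo
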