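import Cfsg.Agent.Lib.Lie.MultExc.USixTwo.CheckGen01Q0
import Cfsg.Agent.Lib.Lie.MultExc.USixTwo.CheckGen01Q1
import Cfsg.Agent.Lib.Lie.MultExc.USixTwo.CheckGen01Q2
import Cfsg.Agent.Lib.Lie.MultExc.USixTwo.CheckGen01Q3

/-!
Check of one monomial action on one generator.
-/

set_option autoImplicit false
set_option maxRecDepth 100000
set_option maxHeartbeats 0

namespace CfsgLib.Lie.MultExc.USixTwo

theorem gen01_ok : layer0.genOK 672 (CfsgLib.Spor.PermCert.look tab.w tab.R 1) 1 = true :=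
  genOK_of_quarters layer0 (CfsgLib.Spor.PermCert.look tab.w tab.R 1) 1 rfl (by decide +kernel) (fun j hj => by
    interval_cases j
    exacts [gen01q0_ok, gen01q1_ok, gen01q2_ok, gen01q3_ok])

end CfsgLib.Lie.MultExc.USixTwo
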