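import Cfsg.Agent.Lib.Lie.MultExc.USixTwo.CheckBase
import Cfsg.Agent.Lib.Lie.MultExc.USixTwo.CheckGen00
import Cfsg.Agent.Lib.Lie.MultExc.USixTwo.CheckGen01
import Cfsg.Agent.Lib.Lie.MultExc.USixTwo.CheckGen10
import Cfsg.Agent.Lib.Lie.MultExc.USixTwo.CheckGen11
import Cfsg.Agent.Lib.Lie.MultExc.USixTwo.CheckGen20
import Cfsg.Agent.Lib.Lie.MultExc.USixTwo.CheckGen21
import Cfsg.Agent.Lib.Lie.MultExc.USixTwo.CheckComms

/-!
The monomial actions pass their checks.
-/

set_option autoImplicit false
set_option maxRecDepth 100000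

namespace CfsgLib.Lie.MultExc.USixTwo

theorem gens_ok : gensOK layers 672 tab.w tab.R tab.ngen = true := by
  simp only [gensOK, List.all_eq_true, List.mem_finRange, List.mem_range, Bool.and_eq_true, forall_const]
  intro i
  refine ⟨?_, fun s hs => ?_⟩
  · fin_cases i
    exacts [base0_ok, base1_ok, base2_ok]
  · have hs2 : s < 2 := hs
    interval_cases s <;> fin_cases i
    exacts [gen00_ok, gen10_ok, gen20_ok, gen01_ok, gen11_ok, gen21_ok]

theorem comms_ok : commsOK layers 672 tab.w tab.R tab.ngen comms = true := by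
  show (List.finRange 3).all commPart = true
  refine List.all_eq_true.2 fun i _ => ?_
  fin_cases i
  exacts [comm0_ok, comm1_ok, comm2_ok]

end CfsgLib.Lie.MultExc.USixTwo
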