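import Cfsg.Agent.Lib.Lie.MultExc.USixTwo.P2

/-!
The certificate at the prime two passes its checks on the permutations.
-/

set_option autoImplicit false
set_option maxRecDepth 100000
set_option maxHeartbeats 0

namespace CfsgLib.Lie.MultExc.USixTwo.P2

open CfsgLib.Spor.PermCert

theorem checks : certChecks 672 tab cert sw gw orbits = true := by decide +kernel

end CfsgLib.Lie.MultExc.USixTwo.P2
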