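import Cfsg.Agent.Lib.Lie.MultExc.USixTwo.P2

/-!
What remains of the tails follows from the relations.
-/

set_option autoImplicit false
set_option maxRecDepth 100000
set_option maxHeartbeats 0

namespace CfsgLib.Lie.MultExc.USixTwo.P2

open CfsgLib.Spor.SchurCert

theorem tgt_ok : ((List.range cert.rules.length).all fun r =>
    (((cert.tgt.getD r ([], [])).1.all fun t => Nat.blt t.1 cert.base.length) &&
    Packed.eqP cert.N cert.nv ((r, 1) :: cert.adjW (cert.rules.getD r ([], [])).1)
      (cert.adjW (cert.rules.getD r ([], [])).2 ++ cert.baseComb (cert.tgt.getD r ([], [])).1)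
      (Packed.pkC (cert.dense.map Packed.pkD) (cert.tgt.getD r ([], [])).2)
      (Packed.mass (cert.tgt.getD r ([], [])).2 * cert.N))) = true := by
  decide +kernel

theorem base_ok : (cert.base.all fun b => Nat.blt 0 b.2.1 &&
    Packed.eqP cert.N cert.nv (scale b.2.1 b.1) [] (Packed.pkC (cert.dense.map Packed.pkD) b.2.2)
      (Packed.mass b.2.2 * cert.N)) = true := by
  decide +kernel

end CfsgLib.Lie.MultExc.USixTwo.P2
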