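import Cfsg.Agent.Lib.Lie.MultExc.USixTwo.P2LinA
import Cfsg.Agent.Lib.Lie.MultExc.USixTwo.P2LinB

/-!
The linear part of the certificate at the prime two.
-/

set_option autoImplicit false
set_option maxRecDepth 100000
set_option maxHeartbeats 0

namespace CfsgLib.Lie.MultExc.USixTwo.P2

open CfsgLib.Spor.SchurCert

theorem lin_ok : cert.linOK = true :=
  Packed.linOK_of_linP cert (by simp only [Packed.linP, dense_ok, tgt_ok, base_ok, Bool.and_self])

end CfsgLib.Lie.MultExc.USixTwo.P2
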