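import Cfsg.Agent.Lib.Lie.MultExc.USixTwo.Table

/-!
The certificate at the prime 3: a polycyclic sequence of a Sylow subgroup and conjugations.
-/

set_option autoImplicit false
set_option maxRecDepth 100000
set_option maxHeartbeats 0

namespace CfsgLib.Lie.MultExc.USixTwo.P3

open CfsgLib.Spor.PermCert

open CfsgLib.Spor.SchurCert

/-- The Sylow elements. -/
def sw : List (List ℕ) := [
    [872, 1092, 443, 661, 552],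
    [763, 682, 376, 660, 1074, 835, 1073],
    [211, 677, 1075, 658, 780, 835, 1072],
    [875, 466, 665, 441, 780, 1072],
    [1205, 1082, 664, 441, 553, 835, 1179],
    [691, 222, 283, 658, 553]]

/-- The conjugating elements. -/
def gw : List (List ℕ) := [
    [1107, 962, 940, 659, 1074, 836, 1179],
    [232, 794, 443, 658, 935, 836, 1072],
    [964, 563, 373, 658, 553, 836, 1072],
    [980, 946, 1076, 441, 781, 1179],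
    [1097, 221, 372, 662, 836],
    [1009, 789, 557, 661, 836, 1179],
    [821, 564, 837, 662, 937, 835, 1073],
    [242, 219, 559, 663, 935, 836, 1072],
    [530, 299, 561, 441, 553, 836],
    [500, 461, 838, 661, 780, 1073]]

/-- The certificate. -/
def cert : Spor.SchurCert.Cert where
  p := 3
  m := 6
  N := 9
  rules := [
    ([0, 0, 0], [5]),
    ([1, 1, 1], [5, 5]),
    ([2, 2, 2], []),
    ([3, 3, 3], []),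
    ([4, 4, 4], []),
    ([5, 5, 5], []),
    ([1, 0], [0, 1, 2, 3, 3, 5]),
    ([2, 0], [0, 2, 4, 4, 5, 5]),
    ([2, 1], [1, 2, 4]),
    ([3, 0], [0, 3, 4, 4]),
    ([3, 1], [1, 3, 4, 5]),
    ([3, 2], [2, 3]),
    ([4, 0], [0, 4, 5, 5]),
    ([4, 1], [1, 4, 5]),
    ([4, 2], [2, 4, 5, 5]),
    ([4, 3], [3, 4, 5, 5]),
    ([5, 0], [0, 5]),
    ([5, 1], [1, 5]),
    ([5, 2], [2, 5]),
    ([5, 3], [3, 5]),
    ([5, 4], [4, 5])]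
  maps := [
    [([0, 1, 3], [0, 0, 1, 1, 2, 3, 4, 5, 5]), ([2, 3, 3, 4, 5], [2, 3, 3, 4, 5])],
    [([0, 1, 4], [0, 1, 4]), ([2, 3, 4, 4, 5], [2, 2, 3, 3, 4, 5, 5])],
    [([0, 1, 1, 3, 5], [0, 1, 1, 3, 5]), ([2, 3, 3, 4, 4, 5], [0, 1, 1, 2, 4, 5, 5])],
    [([0], [1, 1, 3, 4, 4]), ([1], [0, 0, 3, 3, 5, 5]), ([2], [2, 2]), ([3], [3, 3, 5]), ([4], [4, 4, 5, 5]), ([5], [5])],
    [([0, 1], [2, 2, 4, 5]), ([2], [0, 1, 3, 3, 4, 5]), ([3], [0, 0, 1, 1, 3, 3, 4, 4, 5]), ([4], [2, 2, 3, 3, 4, 4, 5, 5]), ([5], [5])],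
    [([0, 1, 3, 3, 4, 4], [0, 1, 3, 3, 4, 4]), ([2, 3, 3, 4, 4, 5], [2, 3, 3, 4, 4, 5])],
    [([0, 1, 3, 3, 4, 4, 5], [0, 1, 3, 3, 4, 4, 5]), ([2, 3, 3, 4, 4], [2, 3, 3, 4, 4])],
    [([0, 1, 2, 5, 5], [0, 0, 1, 1, 3, 3, 5, 5]), ([3], [3, 3])],
    [([0, 1], [0, 0, 1, 1, 2, 2, 3, 3, 4, 5]), ([2], [4, 5, 5]), ([3], [0, 0, 1, 1, 4, 4]), ([4], [2, 5, 5]), ([5], [5, 5])],
    [([0, 1, 1, 2, 2, 3, 3, 4], [0, 0, 1, 3, 3, 5, 5])]]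
  overlaps := [
    ([0, 0, 0, 0], [(0, 0), (16, 0)], [(0, 1)]),
    ([1, 1, 1, 1], [(1, 0), (17, 1), (17, 0)], [(1, 1)]),
    ([1, 1, 1, 0], [(1, 0), (16, 1), (16, 0)], [(6, 2), (6, 1), (6, 0), (17, 5), (10, 4), (10, 3), (8, 2), (15, 4), (20, 7), (20, 6), (5, 7), (15, 6), (15, 5), (20, 8), (20, 7), (5, 8), (20, 8), (4, 6), (5, 6), (11, 5), (11, 4), (3, 5), (17, 6), (10, 5), (8, 4), (8, 3), (1, 1), (18, 2), (18, 1), (20, 3), (20, 2), (18, 4), (18, 3), (14, 2), (5, 4), (20, 4), (19, 5), (15, 4), (15, 3), (20, 6), (20, 5), (5, 6), (20, 7), (20, 6), (4, 4), (5, 4), (18, 4), (11, 3), (2, 1), (19, 2), (19, 3), (3, 1)]),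
    ([1, 0, 0, 0], [(0, 1)], [(6, 0), (16, 5), (9, 4), (9, 3), (7, 2), (6, 1), (18, 6), (11, 5), (11, 4), (20, 7), (20, 8), (5, 9), (15, 8), (15, 7), (3, 5), (20, 7), (20, 6), (5, 7), (20, 7), (4, 5), (20, 5), (19, 6), (15, 5), (5, 7), (4, 6), (16, 6), (9, 5), (7, 4), (7, 3), (6, 2), (0, 0), (17, 0), (18, 1), (19, 2), (19, 3), (18, 5), (18, 4), (11, 3), (11, 2), (20, 6), (20, 5), (20, 7), (20, 6), (5, 7), (18, 7), (14, 6), (14, 5), (11, 4), (11, 3), (2, 1), (20, 5), (20, 4), (5, 5), (20, 6), (20, 5), (4, 3), (20, 4), (20, 3), (5, 4), (19, 4), (15, 3), (3, 1), (5, 2), (4, 1)]),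
    ([2, 2, 2, 0], [(2, 0)], [(7, 2), (7, 1), (7, 0), (18, 5), (18, 4), (14, 3), (14, 2), (20, 5), (20, 4), (5, 5), (5, 5), (4, 3), (18, 5), (18, 4), (14, 3), (2, 1), (5, 2), (20, 2), (20, 3), (4, 1), (5, 1)]),
    ([2, 0, 0, 0], [(0, 1)], [(7, 0), (16, 5), (16, 4), (12, 3), (12, 2), (7, 1), (20, 6), (20, 5), (4, 3), (5, 3), (20, 3), (5, 4), (16, 5), (16, 4), (12, 3), (7, 2), (0, 0), (18, 0), (20, 1), (20, 2), (5, 3), (4, 1), (5, 1)]),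
    ([2, 1, 1, 1], [(1, 1)], [(8, 0), (13, 2), (8, 1), (17, 5), (13, 4), (13, 3), (8, 2), (1, 0), (18, 1), (18, 0), (20, 2), (20, 1), (20, 3), (20, 2), (5, 3), (4, 1)]),
    ([2, 1, 0], [(8, 0), (12, 2), (7, 1), (6, 0), (18, 5), (11, 4), (11, 3), (20, 6), (20, 7), (5, 8), (4, 6)], [(6, 1), (7, 0), (17, 5), (17, 4), (13, 3), (13, 2), (8, 1), (20, 5), (4, 3), (5, 3), (18, 3), (19, 4), (19, 5)]),
    ([3, 3, 3, 0], [(3, 0)], [(9, 2), (9, 1), (9, 0), (15, 3), (15, 2), (20, 5), (20, 4), (5, 5), (20, 5), (4, 3), (20, 3), (19, 4), (15, 3), (3, 1), (5, 2), (4, 1)]),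
    ([3, 2, 0], [(11, 0), (9, 1), (7, 0), (19, 5), (19, 4), (15, 3), (15, 2), (20, 5), (20, 4), (5, 5), (5, 5), (4, 3)], [(7, 1), (9, 0), (14, 3), (14, 2), (11, 1), (20, 5), (20, 4), (5, 5), (20, 5), (4, 3), (20, 3), (5, 4)]),
    ([4, 0, 0, 0], [(0, 1)], [(12, 0), (16, 3), (16, 2), (12, 1), (5, 3), (16, 3), (12, 2), (0, 0), (20, 0), (5, 1)])]
  fuses := [
    ⟨0, [0, 0, 0], [], [(9, 2), (6, 1), (19, 6), (3, 4), (20, 4), (20, 5), (17, 6), (13, 5), (13, 4), (8, 3), (20, 7), (4, 5), (5, 5), (9, 5), (7, 4), (6, 3), (6, 2), (0, 0), (17, 0), (18, 1), (19, 2), (19, 3), (17, 5), (17, 4), (10, 3), (10, 2), (8, 1), (15, 3), (20, 6), (20, 5), (5, 6), (15, 5), (15, 4), (20, 7), (20, 6), (5, 7), (20, 7), (4, 5), (5, 5), (18, 5), (11, 4), (11, 3), (19, 6), (3, 4), (19, 4), (18, 6), (18, 5), (11, 4), (2, 2), (20, 4), (20, 3),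 (20, 5), (20, 4), (5, 5), (19, 5), (15, 4), (15, 3), (20, 6), (20, 5), (5, 6), (20, 7), (20, 6), (4, 4), (20, 5), (20, 4), (17, 6), (17, 5), (13, 4), (10, 3), (10, 2), (1, 0), (19, 1), (19, 0), (20, 2), (20, 1), (5, 2), (15, 1), (20, 4), (20, 3), (5, 4), (4, 2), (5, 2), (3, 0)], [], [(16, 8), (16, 7), (12, 6), (9, 5), (7, 4), (6, 3), (6, 2), (0, 0), (17, 0), (18, 1), (19, 2), (19, 3), (17, 5), (17, 4), (10, 3), (10, 2), (8, 1), (15, 3), (20, 6), (20, 5), (5, 6), (15, 5), (15, 4), (20, 7), (20, 6), (5, 7), (20, 7), (4, 5), (5, 5), (18, 5), (11, 4), (11, 3), (19, 6), (3, 4), (19, 4), (18, 6), (18, 5), (11, 4), (2, 2), (20, 4), (20, 3), (20, 5), (20, 4), (5, 5), (19, 5), (15, 4), (15, 3), (20, 6), (20, 5), (5, 6), (20, 7), (20, 6), (4, 4), (20, 5), (20, 4), (20, 6), (20, 5), (5, 6), (5, 6), (12, 5), (12, 4), (9, 3),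 (9, 2), (6, 1), (6, 0), (17, 5), (10, 4), (10, 3), (8, 2), (15, 4), (20, 7), (20, 6), (5, 7), (15, 6), (15, 5), (20, 8), (20, 7), (5, 8), (20, 8), (4, 6), (5, 6), (11, 5), (11, 4), (3, 5), (19, 6), (20, 7), (20, 8), (19, 9), (15, 8), (15, 7), (3, 5), (20, 7), (20, 6), (5, 7), (20, 8), (20, 7), (4, 5), (20, 6), (20, 5), (20, 7), (20, 6), (5, 7), (20, 7), (4, 5), (5, 5), (8, 4), (8, 3), (1, 1), (18, 2), (18, 1), (20, 3), (20, 2), (18, 4), (18, 3), (14, 2), (5, 4), (20, 4), (17, 5), (13, 4), (13, 3), (8, 2), (8, 1), (14, 3), (20, 6), (20, 5), (20, 7), (20, 6), (4, 4), (5, 4), (18, 6), (18, 5), (14, 4), (2, 2), (5, 3), (19, 3), (15, 2), (5, 4), (16, 6), (16, 5), (12, 4), (12, 3), (9, 2), (6, 1), (19, 6), (3, 4), (20, 4), (20, 5), (20, 6), (4, 4), (5, 4), (5, 5), (16, 5), (12, 4), (7, 3), (6, 2), (0, 0), (17, 0), (18,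 1), (19, 2), (19, 3), (18, 5), (18, 4), (11, 3), (11, 2), (20, 6), (20, 5), (20, 7), (20, 6), (5, 7), (20, 7), (4, 5), (5, 5), (17, 5), (10, 4), (10, 3), (8, 2), (8, 1), (14, 3), (20, 6), (20, 5), (19, 7), (19, 6), (15, 5), (15, 4), (20, 7), (20, 6), (5, 7), (5, 7), (4, 5), (19, 5), (20, 6), (5, 7), (13, 6), (10, 5), (10, 4), (8, 3), (8, 2), (1, 0), (18, 1), (18, 0), (20, 2), (20, 1), (18, 3), (18, 2), (14, 1), (5, 3), (20, 3), (19, 4), (15, 3), (15, 2), (20, 5), (20, 4), (5, 5), (20, 6), (20, 5), (4, 3), (5, 3), (20, 5), (18, 7), (18, 6), (14, 5), (14, 4), (11, 3), (11, 2), (2, 0), (20, 4), (20, 3), (5, 4), (5, 4), (15, 3), (15, 2), (3, 0), (20, 2), (20, 1), (5, 2), (20, 2), (4, 0), (5, 0)], []⟩,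
    ⟨0, [1, 0], [0, 1], [(16, 4), (12, 3), (9, 2), (9, 1), (7, 0), (19, 5), (19, 4), (15, 3), (15, 2), (20, 5), (20, 4), (5, 5), (5, 5), (4, 3), (15, 3), (20, 6), (20, 5), (20, 7), (20, 6), (4, 4), (20, 5), (20, 4), (5, 5), (17, 6), (17, 5), (13, 4), (10, 3), (10, 2), (8, 1), (15, 3), (20, 6), (20, 5), (5, 6), (15, 5), (15, 4), (20, 7), (20, 6), (5, 7), (20, 7), (4, 5), (20, 6), (20, 5), (5, 6), (19, 7), (19, 6), (15, 5), (3, 3), (5, 4)], [(11, 2), (3, 3)], [(16, 4), (12, 3), (9, 2), (9, 1), (7, 0), (19, 5), (19, 4), (15, 3), (15, 2), (20, 5), (20, 4), (5, 5), (5, 5), (4, 3), (15, 3), (20, 6), (20, 5), (20, 7), (20, 6), (4, 4), (20, 5), (20, 4), (5, 5), (16, 6), (16, 5), (12, 4), (9, 3), (9, 2), (7, 1), (19, 6), (19, 5), (15, 4), (15, 3), (20, 6), (20, 5), (5, 6), (5, 6), (4, 4), (15, 4), (20, 7), (20, 6), (20,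 8), (20, 7), (4, 5), (20, 6), (20, 5), (5, 6), (5, 6), (13, 5), (10, 4), (10, 3), (8, 2), (15, 4), (20, 7), (20, 6), (5, 7), (15, 6), (15, 5), (20, 8), (20, 7), (5, 8), (20, 8), (4, 6), (20, 7), (20, 6), (5, 7), (13, 6), (10, 5), (10, 4), (8, 3), (15, 5), (20, 8), (20, 7), (5, 8), (15, 7), (15, 6), (20, 9), (20, 8), (5, 9), (20, 9), (4, 7), (20, 8), (20, 7), (5, 8), (14, 7), (11, 6), (11, 5), (19, 10), (19, 9), (15, 8), (3, 6), (5, 7), (20, 7), (5, 8)], [(18, 8), (18, 7), (14, 6), (11, 5), (5, 8), (19, 8), (15, 7), (5, 9), (15, 8), (3, 6), (20, 8), (20, 7), (5, 8)]⟩,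
    ⟨1, [1, 0], [0, 1], [(16, 4), (12, 3), (12, 2), (9, 1), (7, 0), (19, 5), (19, 4), (15, 3), (15, 2), (20, 5), (20, 4), (5, 5), (5, 5), (4, 3), (20, 6), (20, 5), (4, 3), (5, 3), (17, 4), (17, 3), (10, 2), (8, 1), (15, 3), (20, 6), (20, 5), (5, 6), (20, 7), (20, 6), (4, 4)], [(14, 2), (19, 5), (19, 4), (15, 3), (5, 5), (20, 5), (20, 6), (4, 4)], [(16, 6), (16, 5), (12, 4), (9, 3), (9, 2), (7, 1), (7, 0), (18, 5), (18, 4), (14, 3), (14, 2), (20, 5), (20, 4), (5, 5), (5, 5), (4, 3), (19, 5), (19, 4), (15, 3), (5, 5), (20, 5), (20, 6), (4, 4), (19, 4), (20, 5), (20, 6), (20, 7), (4, 5), (5, 5), (17, 6), (17, 5), (10, 4), (10, 3), (8, 2), (8, 1), (14, 3), (20, 6), (20, 5), (19, 7), (19, 6), (15, 5), (15, 4), (20, 7), (20, 6), (5, 7), (5, 7), (4, 5), (19, 5), (20, 6), (5, 7), (20, 7)], [(14, 2), (18, 5), (18, 4), (14,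 3), (5, 5), (19, 5), (15, 4), (5, 6), (15, 5), (20, 8), (20, 7), (5, 8)]⟩,
    ⟨1, [1, 1, 1], [], [(18, 4), (14, 3), (14, 2), (11, 1), (20, 5), (20, 4), (5, 5), (19, 6), (19, 5), (15, 4), (15, 3), (20, 6), (20, 5), (5, 6), (5, 6), (4, 4), (18, 5), (14, 4), (11, 3), (11, 2), (2, 0), (5, 3), (15, 2), (3, 0), (20, 2), (20, 1), (20, 3), (20, 2), (4, 0), (5, 0)], [], [(18, 6), (18, 5), (14, 4), (11, 3), (11, 2), (2, 0), (5, 3), (18, 3), (14, 2), (11, 1), (11, 0), (5, 4), (15, 3), (3, 1), (19, 3), (19, 2), (15, 1), (5, 3), (20, 3), (5, 4), (14, 3), (14, 2), (11, 1), (20, 5), (20, 4), (5, 5), (18, 5), (14, 4), (14, 3), (11, 2), (2, 0), (20, 3), (20, 2), (5, 3), (19, 4), (19, 3), (15, 2), (15, 1), (20, 4), (20, 3), (5, 4), (5, 4), (15, 3), (15, 2), (3, 0), (20, 2), (20, 1), (5, 2), (20, 2), (4, 0), (5, 0)], []⟩,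
    ⟨2, [1, 0], [0, 1], [(16, 5), (12, 4), (12, 3), (9, 2), (9, 1), (7, 0), (19, 5), (19, 4), (15, 3), (15, 2), (20, 5), (20, 4), (5, 5), (5, 5), (4, 3), (15, 3), (20, 6), (20, 5), (20, 7), (20, 6), (4, 4), (20, 5), (20, 4), (5, 5), (20, 5), (5, 6), (17, 6), (13, 5), (13, 4), (10, 3), (10, 2), (8, 1), (15, 3), (20, 6), (20, 5), (5, 6), (15, 5), (15, 4), (20, 7), (20, 6), (5, 7), (20, 7), (4, 5), (20, 6), (20, 5), (5, 6), (17, 8), (17, 7), (13, 6), (13, 5), (10, 4), (10, 3), (8, 2), (15, 4), (20, 7), (20, 6), (5, 7), (15, 6), (15, 5), (20, 8), (20, 7), (5, 8), (20, 8), (4, 6), (20, 7), (20, 6), (5, 7), (5, 8), (15, 7), (15, 6), (3, 4), (20, 6), (20, 5), (5, 6)], [(18, 4), (11, 3), (19, 5), (19, 6), (3, 4), (20, 4), (20, 5)], [(16, 6), (16, 5), (12, 4), (7, 3), (6, 2), (6, 1), (17, 6), (10, 5), (10, 4), (8, 3), (15,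 5), (20, 8), (20, 7), (5, 8), (15, 7), (15, 6), (20, 9), (20, 8), (5, 9), (20, 9), (4, 7), (5, 7), (11, 6), (11, 5), (3, 6), (18, 7), (11, 6), (2, 4), (20, 5), (20, 6), (5, 7), (4, 5), (5, 5), (17, 5), (10, 4), (1, 2), (19, 3), (19, 2), (20, 4), (20, 3), (5, 4), (17, 4), (13, 3), (10, 2), (20, 5), (5, 6), (15, 5), (15, 4), (20, 7), (20, 6), (5, 7)], [(16, 4), (9, 3), (6, 2), (6, 1), (17, 6), (10, 5), (10, 4), (8, 3), (15, 5), (20, 8), (20, 7), (5, 8), (15, 7), (15, 6), (20, 9), (20, 8), (5, 9), (20, 9), (4, 7), (5, 7), (11, 6), (11, 5), (3, 6), (19, 7), (20, 8), (20, 9), (17, 11), (17, 10), (13, 9), (13, 8), (10, 7), (10, 6), (8, 5), (8, 4), (1, 2), (18, 3), (18, 2), (20, 4), (20, 3), (18, 5), (18, 4), (14, 3), (5, 5), (20, 5), (19, 6), (15, 5), (15, 4), (20, 7), (20, 6), (5, 7), (20, 8), (20, 7), (4, 5), (5, 5),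 (20, 7), (20, 9), (20, 8), (4, 6), (5, 6), (17, 7), (17, 6), (10, 5), (10, 4), (8, 3), (8, 2), (14, 4), (20, 7), (20, 6), (19, 8), (19, 7), (15, 6), (15, 5), (20, 8), (20, 7), (5, 8), (5, 8), (4, 6), (19, 6), (20, 7), (5, 8), (18, 8), (14, 7), (11, 6), (11, 5), (2, 3), (5, 6)]⟩,
    ⟨2, [1, 1, 1], [], [(18, 5), (14, 4), (14, 3), (11, 2), (11, 1), (20, 6), (20, 5), (5, 6), (19, 7), (19, 6), (15, 5), (15, 4), (3, 2), (20, 4), (20, 3), (5, 4), (5, 4), (15, 3), (15, 2), (20, 5), (20, 4), (5, 5), (20, 5), (4, 3), (20, 3), (18, 5), (18, 4), (14, 3), (11, 2), (2, 0), (5, 2), (19, 2), (15, 1), (5, 3), (15, 2), (3, 0), (20, 2), (20, 1), (20, 3), (20, 2), (4, 0), (5, 0)], [], [(16, 6), (16, 5), (12, 4), (7, 3), (6, 2), (6, 1), (17, 6), (10, 5), (10, 4), (8, 3), (15, 5), (20, 8), (20, 7), (5, 8), (15, 7), (15, 6), (20, 9),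 (20, 8), (5, 9), (20, 9), (4, 7), (5, 7), (11, 6), (11, 5), (3, 6), (18, 7), (11, 6), (2, 4), (20, 5), (20, 6), (5, 7), (4, 5), (5, 5), (17, 5), (10, 4), (1, 2), (19, 3), (19, 2), (20, 4), (20, 3), (5, 4), (17, 4), (13, 3), (10, 2), (20, 5), (5, 6), (14, 5), (14, 4), (11, 3), (20, 7), (20, 6), (5, 7), (20, 7), (4, 5), (5, 5), (9, 4), (7, 3), (6, 2), (0, 0), (17, 0), (18, 1), (19, 2), (19, 3), (18, 5), (18, 4), (11, 3), (11, 2), (20, 6), (20, 5), (20, 7), (20, 6), (5, 7), (19, 7), (15, 6), (15, 5), (3, 3), (20, 5), (20, 4), (5, 5), (20, 6), (20, 5), (4, 3), (20, 4), (20, 3), (17, 5), (17, 4), (13, 3), (8, 2), (8, 1), (14, 3), (20, 6), (20, 5), (20, 7), (20, 6), (4, 4), (5, 4), (17, 5), (17, 4), (8, 3), (8, 2), (1, 0), (18, 1), (18, 0), (20, 2), (20, 1), (18, 3), (18, 2), (14, 1), (5, 3), (20, 3), (5, 4), (14, 3),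 (14, 2), (2, 0), (20, 2), (20, 1), (5, 2), (20, 2), (4, 0), (5, 0)], []⟩,
    ⟨3, [0, 0, 0], [5], [(0, 0)], [], [(13, 4), (13, 3), (10, 2), (1, 0), (19, 1), (19, 0), (20, 2), (20, 1), (5, 2), (20, 3), (4, 1), (17, 2), (17, 1), (10, 0), (5, 3), (15, 2), (20, 5), (20, 4), (20, 6), (20, 5), (4, 3), (17, 4), (17, 3), (10, 2), (10, 1), (19, 4), (15, 3), (5, 5), (5, 6), (13, 5), (13, 4), (10, 3), (10, 2), (1, 0), (19, 1), (19, 0), (20, 2), (20, 1), (5, 2), (15, 1), (20, 4), (20, 3), (5, 4), (4, 2), (20, 2), (19, 4), (19, 3), (15, 2), (3, 0), (5, 1), (20, 1), (20, 2), (4, 0)], []⟩,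
    ⟨3, [2, 0], [0, 2, 4, 4, 5, 5], [(7, 0)], [], [(8, 1), (8, 0), (14, 2), (20, 5), (20, 4), (17, 6), (17, 5), (13, 4), (13, 3), (8, 2), (8, 1), (14, 3), (20, 6), (20, 5), (20, 7), (20, 6), (4, 4), (5, 4), (5, 5), (15, 4), (20, 7), (20, 6), (20, 8), (20, 7), (4, 5)], [(14, 4), (14, 3), (11, 2), (20, 6), (20, 5), (5, 6), (18, 6), (14, 5), (14, 4), (11, 3), (20, 7), (20, 6), (5, 7), (20, 8), (20, 7), (4, 5), (20, 6), (20, 5), (5, 6), (20, 6), (20, 7), (4, 5), (5, 5)]⟩,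
    ⟨3, [3, 0], [0, 3, 4, 4], [(9, 0)], [], [(17, 2), (10, 1), (10, 0), (19, 3), (15, 2), (5, 4), (17, 6), (17, 5), (13, 4), (13, 3), (10, 2), (10, 1), (19, 4), (15, 3), (5, 5), (20, 6), (4, 4), (20, 5), (20, 4), (5, 5), (19, 6), (19, 5), (15, 4), (3, 2), (5, 3), (20, 3), (20, 4), (4, 2)], [(15, 4), (15, 3), (20, 6), (20, 5), (5, 6), (19, 6), (15, 5), (15, 4), (3, 2), (20, 4), (20, 3), (5, 4), (5, 4), (4, 2), (20, 4), (20, 3), (20, 5), (20, 4), (4, 2), (5, 2)]⟩,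
    ⟨3, [4, 0], [0, 4, 5, 5], [(12, 0)], [], [(17, 3), (17, 2), (13, 1), (13, 0), (20, 2), (5, 3), (17, 3), (13, 2), (13, 1), (20, 3), (5, 4), (15, 3), (15, 2), (20, 5), (20, 4), (5, 5), (20, 5), (4, 3), (20, 3)], [(4, 3), (5, 4)]⟩,
    ⟨3, [2, 2, 2], [], [(2, 0)], [], [(2, 0), (2, 0)], []⟩,
    ⟨4, [0, 0, 0], [], [(6, 1), (17, 6), (10, 5), (10, 4), (8, 3), (15, 5), (20, 8), (20, 7), (5, 8), (15, 7), (15, 6), (20, 9), (20, 8), (5, 9), (20, 9), (4, 7), (5, 7), (9, 6), (9, 5), (7, 4), (6, 3), (6, 2), (0, 0), (17, 0), (18, 1), (19, 2), (19, 3), (17, 5), (17, 4), (10, 3), (10, 2), (8, 1), (15, 3), (20, 6), (20, 5), (5, 6), (15, 5), (15, 4), (20, 7), (20, 6), (5, 7), (20, 7), (4, 5), (5, 5), (18, 5), (11, 4), (11, 3), (19, 6), (3, 4), (19, 4), (18, 6), (18, 5), (11, 4), (2, 2), (20, 4), (20, 3), (20, 5), (20, 4), (5,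 5), (19, 5), (15, 4), (15, 3), (20, 6), (20, 5), (5, 6), (20, 7), (20, 6), (4, 4), (20, 5), (20, 4), (19, 6), (19, 5), (15, 4), (3, 2), (5, 3), (20, 3), (20, 4), (4, 2), (17, 2), (1, 0), (5, 0)], [], [(18, 3), (14, 2), (2, 0), (5, 1), (14, 0), (20, 3), (20, 2), (5, 3), (14, 2), (14, 1), (20, 4), (20, 3), (5, 4), (18, 4), (14, 3), (14, 2), (2, 0), (20, 2), (20, 1), (5, 2), (20, 3), (20, 2), (4, 0), (5, 0)], []⟩,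
    ⟨4, [1, 1, 1], [], [(2, 0)], [], [(16, 5), (12, 4), (9, 3), (9, 2), (6, 1), (19, 6), (3, 4), (20, 4), (20, 5), (19, 6), (15, 5), (15, 4), (20, 7), (20, 6), (5, 7), (20, 8), (20, 7), (4, 5), (20, 6), (20, 5), (20, 7), (20, 6), (5, 7), (17, 8), (17, 7), (13, 6), (13, 5), (10, 4), (8, 3), (15, 5), (20, 8), (20, 7), (5, 8), (4, 6), (20, 6), (5, 7), (19, 7), (15, 6), (5, 8), (15, 7), (3, 5), (20, 7), (20, 6), (5, 7), (12, 6), (12, 5), (7, 4), (6, 3), (6, 2), (0, 0), (17, 0), (18, 1), (19, 2), (19, 3), (17, 5), (17, 4), (10, 3), (10, 2), (8, 1), (15, 3), (20, 6), (20, 5), (5, 6), (15, 5), (15, 4), (20, 7), (20, 6), (5, 7), (20, 7), (4, 5), (5, 5), (18, 5), (11, 4), (11, 3), (19, 6), (3, 4), (19, 4), (18, 6), (18, 5), (11, 4), (2, 2), (20, 4), (20, 3), (20, 5), (20, 4), (5, 5), (20, 5), (4, 3), (5, 3), (17, 5), (17,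 4), (13, 3), (10, 2), (1, 0), (19, 1), (19, 0), (20, 2), (20, 1), (5, 2), (5, 3), (15, 2), (15, 1), (20, 4), (20, 3), (5, 4), (19, 4), (15, 3), (15, 2), (3, 0), (20, 2), (20, 1), (5, 2), (20, 3), (20, 2), (4, 0), (5, 0)], []⟩,
    ⟨4, [2, 2, 2], [], [(3, 0)], [], [(16, 8), (12, 7), (12, 6), (9, 5), (9, 4), (6, 3), (6, 2), (0, 0), (17, 0), (18, 1), (19, 2), (19, 3), (17, 5), (17, 4), (10, 3), (10, 2), (8, 1), (15, 3), (20, 6), (20, 5), (5, 6), (15, 5), (15, 4), (20, 7), (20, 6), (5, 7), (20, 7), (4, 5), (5, 5), (18, 5), (11, 4), (11, 3), (19, 6), (3, 4), (19, 4), (19, 6), (19, 5), (20, 7), (20, 6), (20, 8), (20, 7), (19, 9), (19, 8), (15, 7), (15, 6), (3, 4), (20, 6), (20, 5), (5, 6), (5, 6), (4, 4), (20, 7), (20, 6), (4, 4), (5, 4), (16, 5), (16, 4), (7, 3), (7, 2), (6, 1), (6, 0), (17, 5), (10, 4), (10, 3), (8,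 2), (15, 4), (20, 7), (20, 6), (5, 7), (15, 6), (15, 5), (20, 8), (20, 7), (5, 8), (20, 8), (4, 6), (5, 6), (11, 5), (11, 4), (3, 5), (18, 6), (11, 5), (2, 3), (20, 4), (20, 5), (5, 6), (14, 5), (14, 4), (11, 3), (20, 7), (20, 6), (5, 7), (20, 7), (4, 5), (20, 5), (5, 6), (17, 7), (17, 6), (13, 5), (10, 4), (8, 3), (1, 1), (18, 2), (18, 1), (20, 3), (20, 2), (19, 4), (19, 3), (15, 2), (5, 4), (20, 4), (20, 6), (20, 5), (4, 3), (5, 3), (17, 4), (17, 3), (10, 2), (8, 1), (15, 3), (20, 6), (20, 5), (5, 6), (19, 7), (19, 6), (15, 5), (15, 4), (20, 7), (20, 6), (5, 7), (5, 7), (15, 6), (15, 5), (3, 3), (20, 5), (20, 4), (5, 5), (20, 5), (4, 3), (20, 3), (16, 5), (16, 4), (12, 3), (7, 2), (6, 1), (18, 6), (11, 5), (11, 4), (20, 7), (20, 8), (5, 9), (4, 7), (5, 7), (16, 7), (9, 6), (9, 5), (7, 4), (7, 3), (6, 2), (0,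 0), (17, 0), (18, 1), (19, 2), (19, 3), (18, 5), (18, 4), (11, 3), (11, 2), (20, 6), (20, 5), (20, 7), (20, 6), (5, 7), (18, 7), (14, 6), (14, 5), (11, 4), (11, 3), (2, 1), (20, 5), (20, 4), (5, 5), (20, 6), (20, 5), (4, 3), (20, 4), (20, 3), (5, 4), (19, 4), (15, 3), (3, 1), (5, 2), (4, 1), (17, 4), (13, 3), (13, 2), (10, 1), (20, 4), (20, 6), (20, 5), (4, 3), (5, 3), (17, 3), (10, 2), (1, 0), (19, 1), (19, 0), (20, 2), (20, 1), (5, 2), (19, 2), (15, 1), (5, 3), (15, 2), (3, 0), (20, 2), (20, 1), (20, 3), (20, 2), (4, 0), (5, 0)], []⟩,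
    ⟨4, [3, 3, 3], [], [(4, 0)], [], [(18, 7), (18, 6), (14, 5), (14, 4), (11, 3), (11, 2), (2, 0), (20, 4), (20, 3), (5, 4), (5, 4), (14, 3), (14, 2), (11, 1), (11, 0), (20, 5), (20, 4), (5, 5), (19, 5), (15, 4), (15, 3), (3, 1), (20, 3), (20, 2), (5, 3), (19, 4), (19, 3), (15, 2), (15, 1), (20, 4), (20, 3), (5, 4), (5, 4), (4, 2), (18, 4), (18, 3), (14, 2), (11, 1), (5, 4), (18, 4), (14, 3), (11, 2), (2, 0), (5, 2), (15, 1), (19, 4), (19, 3), (15, 2), (3, 0), (5, 1), (20, 1), (20, 2), (4, 0), (5, 0)], []⟩,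
    ⟨7, [0, 0, 0], [], [(16, 4), (16, 3), (7, 2), (6, 1), (18, 6), (11, 5), (11, 4), (20, 7), (20, 8), (5, 9), (17, 10), (17, 9), (13, 8), (13, 7), (10, 6), (10, 5), (8, 4), (8, 3), (14, 5), (20, 8), (20, 7), (19, 9), (19, 8), (15, 7), (15, 6), (20, 9), (20, 8), (5, 9), (5, 9), (4, 7), (19, 7), (20, 8), (20, 10), (20, 9), (5, 10), (4, 8), (5, 8), (11, 7), (11, 6), (2, 4), (16, 7), (16, 6), (9, 5), (9, 4), (6, 3), (6, 2), (0, 0), (17, 0), (18, 1), (19, 2), (19, 3), (17, 5), (17, 4), (10, 3), (10, 2), (8, 1), (15, 3), (20, 6), (20, 5), (5, 6), (15, 5), (15, 4), (20, 7), (20, 6), (5, 7), (20, 7), (4, 5), (5, 5), (18, 5), (11, 4), (11, 3), (19, 6), (3, 4), (19, 4), (19, 6), (19, 5), (20, 7), (20, 6), (20, 8), (20, 7), (19, 9), (19, 8), (15, 7), (15, 6), (3, 4), (20, 6), (20, 5), (5, 6), (5, 6), (4, 4), (17, 6), (17,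 5), (13, 4), (8, 3), (8, 2), (1, 0), (18, 1), (18, 0), (20, 2), (20, 1), (18, 3), (18, 2), (14, 1), (5, 3), (20, 3), (20, 4), (4, 2), (5, 2), (18, 2), (2, 0), (5, 0)], [], [(16, 7), (16, 6), (9, 5), (9, 4), (6, 3), (6, 2), (0, 0), (17, 0), (18, 1), (19, 2), (19, 3), (17, 5), (17, 4), (10, 3), (10, 2), (8, 1), (15, 3), (20, 6), (20, 5), (5, 6), (15, 5), (15, 4), (20, 7), (20, 6), (5, 7), (20, 7), (4, 5), (5, 5), (18, 5), (11, 4), (11, 3), (19, 6), (3, 4), (19, 4), (19, 6), (19, 5), (20, 7), (20, 6), (20, 8), (20, 7), (19, 9), (19, 8), (15, 7), (15, 6), (3, 4), (20, 6), (20, 5), (5, 6), (5, 6), (4, 4), (16, 6), (16, 5), (12, 4), (7, 3), (7, 2), (6, 1), (6, 0), (17, 5), (10, 4), (10, 3), (8, 2), (15, 4), (20, 7), (20, 6), (5, 7), (15, 6), (15, 5), (20, 8), (20, 7), (5, 8), (20, 8), (4, 6), (5, 6), (11, 5), (11, 4),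 (3, 5), (18, 6), (11, 5), (2, 3), (20, 4), (20, 5), (5, 6), (14, 5), (14, 4), (11, 3), (20, 7), (20, 6), (5, 7), (20, 7), (4, 5), (20, 5), (5, 6), (5, 7), (17, 7), (13, 6), (13, 5), (10, 4), (8, 3), (1, 1), (18, 2), (18, 1), (20, 3), (20, 2), (19, 4), (19, 3), (15, 2), (5, 4), (20, 4), (20, 6), (20, 5), (4, 3), (5, 3), (17, 5), (17, 4), (13, 3), (10, 2), (8, 1), (15, 3), (20, 6), (20, 5), (5, 6), (4, 4), (5, 4), (3, 3), (16, 4), (16, 3), (7, 2), (6, 1), (18, 6), (11, 5), (11, 4), (20, 7), (20, 8), (5, 9), (16, 10), (16, 9), (12, 8), (12, 7), (9, 6), (9, 5), (7, 4), (7, 3), (6, 2), (0, 0), (17, 0), (18, 1), (19, 2), (19, 3), (18, 5), (18, 4), (11, 3), (11, 2), (20, 6), (20, 5), (20, 7), (20, 6), (5, 7), (18, 7), (14, 6), (14, 5), (11, 4), (11, 3), (2, 1), (20, 5), (20, 4), (5, 5), (20, 6), (20, 5), (4, 3), (20,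 4), (20, 3), (5, 4), (19, 4), (15, 3), (3, 1), (5, 2), (4, 1), (4, 2), (20, 3), (20, 2), (5, 3), (5, 3), (13, 2), (10, 1), (20, 4), (17, 6), (17, 5), (13, 4), (13, 3), (10, 2), (1, 0), (19, 1), (19, 0), (20, 2), (20, 1), (5, 2), (20, 3), (4, 1), (5, 1), (19, 1), (19, 2), (3, 0), (5, 0)], []⟩,
    ⟨7, [1, 1, 1], [], [(3, 0)], [], [(3, 0), (3, 0)], []⟩,
    ⟨8, [0, 0, 0], [], [(6, 1), (17, 6), (10, 5), (10, 4), (8, 3), (15, 5), (20, 8), (20, 7), (5, 8), (15, 7), (15, 6), (20, 9), (20, 8), (5, 9), (20, 9), (4, 7), (5, 7), (9, 6), (9, 5), (7, 4), (6, 3), (6, 2), (0, 0), (17, 0), (18, 1), (19, 2), (19, 3), (17, 5), (17, 4), (10, 3), (10, 2), (8, 1), (15, 3), (20, 6), (20, 5), (5, 6), (15, 5), (15, 4), (20, 7), (20, 6), (5, 7), (20, 7), (4, 5), (5, 5), (18, 5), (11, 4), (11, 3), (19, 6), (3, 4), (19, 4), (18, 6), (18,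 5), (11, 4), (2, 2), (20, 4), (20, 3), (20, 5), (20, 4), (5, 5), (19, 5), (15, 4), (15, 3), (20, 6), (20, 5), (5, 6), (20, 7), (20, 6), (4, 4), (20, 5), (20, 4), (19, 6), (19, 5), (15, 4), (3, 2), (5, 3), (20, 3), (20, 4), (4, 2), (17, 2), (1, 0), (5, 0)], [], [(16, 9), (12, 8), (9, 7), (9, 6), (7, 5), (7, 4), (6, 3), (6, 2), (0, 0), (17, 0), (18, 1), (19, 2), (19, 3), (17, 5), (17, 4), (10, 3), (10, 2), (8, 1), (15, 3), (20, 6), (20, 5), (5, 6), (15, 5), (15, 4), (20, 7), (20, 6), (5, 7), (20, 7), (4, 5), (5, 5), (18, 5), (11, 4), (11, 3), (19, 6), (3, 4), (19, 4), (18, 6), (18, 5), (11, 4), (2, 2), (20, 4), (20, 3), (20, 5), (20, 4), (5, 5), (18, 5), (14, 4), (14, 3), (11, 2), (20, 6), (20, 5), (5, 6), (20, 7), (20, 6), (4, 4), (20, 5), (20, 4), (5, 5), (19, 5), (15, 4), (5, 6), (4, 5), (3, 3), (4, 3), (5, 3),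 (7, 2), (6, 1), (6, 0), (17, 5), (10, 4), (10, 3), (8, 2), (15, 4), (20, 7), (20, 6), (5, 7), (15, 6), (15, 5), (20, 8), (20, 7), (5, 8), (20, 8), (4, 6), (5, 6), (11, 5), (11, 4), (3, 5), (18, 6), (11, 5), (2, 3), (20, 4), (20, 5), (5, 6), (13, 5), (13, 4), (10, 3), (1, 1), (19, 2), (19, 1), (20, 3), (20, 2), (5, 3), (20, 4), (4, 2), (17, 3), (17, 2), (10, 1), (5, 4), (14, 3), (11, 2), (18, 6), (18, 5), (14, 4), (11, 3), (5, 6), (19, 6), (15, 5), (5, 7), (15, 6), (3, 4), (20, 6), (20, 5), (5, 6), (12, 5), (12, 4), (7, 3), (7, 2), (6, 1), (18, 6), (11, 5), (11, 4), (20, 7), (20, 8), (5, 9), (14, 8), (14, 7), (11, 6), (11, 5), (2, 3), (20, 7), (20, 6), (5, 7), (20, 7), (4, 5), (20, 5), (5, 6), (20, 8), (20, 7), (4, 5), (5, 5), (16, 5), (9, 4), (9, 3), (6, 2), (0, 0), (17, 0), (18, 1), (19, 2), (19, 3), (19, 5),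 (19, 4), (3, 2), (20, 3), (20, 2), (20, 4), (20, 3), (19, 5), (19, 4), (15, 3), (15, 2), (20, 5), (20, 4), (5, 5), (5, 5), (4, 3), (17, 4), (13, 3), (10, 2), (8, 1), (15, 3), (20, 6), (20, 5), (5, 6), (4, 4), (17, 5), (17, 4), (10, 3), (8, 2), (1, 0), (18, 1), (18, 0), (20, 2), (20, 1), (19, 3), (19, 2), (15, 1), (5, 3), (20, 3), (5, 4), (18, 4), (14, 3), (14, 2), (11, 1), (20, 5), (20, 4), (5, 5), (18, 6), (18, 5), (14, 4), (14, 3), (11, 2), (2, 0), (20, 3), (20, 2), (5, 3), (5, 3), (15, 2), (15, 1), (20, 4), (20, 3), (5, 4), (19, 4), (15, 3), (15, 2), (3, 0), (20, 2), (20, 1), (5, 2), (20, 3), (20, 2), (4, 0), (5, 0)], []⟩,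
    ⟨8, [1, 0], [0, 1, 4], [(7, 0), (17, 5), (17, 4), (13, 3), (13, 2), (8, 1), (20, 5), (4, 3), (5, 3)], [], [(16, 2), (16, 1), (12, 0), (5, 2), (16, 2), (12, 1), (5, 3), (13, 2), (17, 4), (13, 3), (18, 6), (18, 5), (14, 4), (5, 6), (18, 6), (14, 5), (5, 7), (15, 6), (19, 9), (19, 8), (15, 7), (5, 9), (20, 9)], [(20, 9), (5, 10)]⟩,
    ⟨8, [1, 1, 1], [], [(2, 0)], [], [(20, 2), (20, 1), (5, 2), (20, 2), (4, 0), (5, 0)], []⟩,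
    ⟨8, [2, 2, 2], [], [(3, 0)], [], [(12, 5), (12, 4), (6, 3), (6, 2), (0, 0), (17, 0), (18, 1), (19, 2), (19, 3), (17, 5), (17, 4), (10, 3), (10, 2), (8, 1), (15, 3), (20, 6), (20, 5), (5, 6), (15, 5), (15, 4), (20, 7), (20, 6), (5, 7), (20, 7), (4, 5), (5, 5), (18, 5), (11, 4), (11, 3), (19, 6), (3, 4), (19, 4), (20, 6), (20, 5), (5, 6), (20, 6), (5, 7), (12, 6), (12, 5), (9, 4), (7, 3), (7, 2), (6, 1), (6, 0), (17, 5), (10, 4), (10, 3), (8, 2), (15, 4), (20, 7), (20, 6), (5, 7), (15, 6), (15, 5), (20, 8), (20, 7), (5, 8), (20, 8), (4, 6), (5, 6), (11, 5), (11, 4), (3, 5), (18, 6), (11, 5), (2, 3), (20, 4), (20, 5), (5, 6), (14, 5), (14, 4), (11, 3), (20, 7), (20, 6), (5, 7), (20, 7), (4, 5), (20, 5), (5, 6), (15, 5), (20, 8), (20, 7), (20, 9), (20, 8), (4, 6), (20, 7), (20, 6), (5, 7), (20, 7), (5, 8), (13,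 7), (13, 6), (10, 5), (10, 4), (8, 3), (1, 1), (18, 2), (18, 1), (20, 3), (20, 2), (19, 4), (19, 3), (15, 2), (5, 4), (20, 4), (19, 6), (19, 5), (15, 4), (15, 3), (20, 6), (20, 5), (5, 6), (5, 6), (4, 4), (20, 4), (20, 6), (20, 5), (5, 6), (13, 5), (13, 4), (10, 3), (10, 2), (8, 1), (15, 3), (20, 6), (20, 5), (5, 6), (15, 5), (15, 4), (20, 7), (20, 6), (5, 7), (20, 7), (4, 5), (20, 6), (20, 5), (5, 6), (20, 7), (4, 5), (20, 5), (16, 6), (12, 5), (9, 4), (9, 3), (7, 2), (6, 1), (18, 6), (11, 5), (11, 4), (20, 7), (20, 8), (5, 9), (15, 8), (15, 7), (3, 5), (20, 7), (20, 6), (5, 7), (20, 7), (4, 5), (20, 5), (19, 6), (15, 5), (5, 7), (4, 6), (5, 7), (12, 6), (9, 5), (7, 4), (7, 3), (6, 2), (0, 0), (17, 0), (18, 1), (19, 2), (19, 3), (18, 5), (18, 4), (11, 3), (11, 2), (20, 6), (20, 5), (20, 7), (20, 6), (5, 7), (18,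 7), (14, 6), (14, 5), (11, 4), (11, 3), (2, 1), (20, 5), (20, 4), (5, 5), (20, 6), (20, 5), (4, 3), (20, 4), (20, 3), (5, 4), (19, 4), (15, 3), (3, 1), (5, 2), (4, 1), (17, 3), (17, 2), (13, 1), (5, 3), (13, 2), (1, 0), (20, 1), (20, 0), (5, 1), (4, 0)], []⟩,
    ⟨8, [3, 3, 3], [], [(4, 0)], [], [(18, 2), (18, 1), (5, 2), (18, 2), (2, 0), (5, 0)], []⟩,
    ⟨9, [0, 0, 0], [], [(12, 7), (9, 6), (9, 5), (7, 4), (7, 3), (6, 2), (6, 1), (17, 6), (10, 5), (10, 4), (8, 3), (15, 5), (20, 8), (20, 7), (5, 8), (15, 7), (15, 6), (20, 9), (20, 8), (5, 9), (20, 9), (4, 7), (5, 7), (11, 6), (11, 5), (3, 6), (18, 7), (11, 6), (2, 4), (20, 5), (20, 6), (5, 7), (14, 6), (14, 5), (11, 4), (20, 8), (20, 7), (5, 8), (20, 8), (4, 6), (20, 6), (5, 7), (15, 6), (20, 9), (20, 8), (20, 10), (20, 9), (4, 7), (19, 8), (19, 7), (3, 5), (20,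 6), (20, 5), (20, 7), (20, 6), (20, 8), (20, 7), (4, 5), (5, 5), (17, 5), (8, 4), (1, 2), (18, 3), (18, 2), (20, 4), (20, 3), (5, 4), (13, 3), (8, 2), (18, 6), (14, 5), (14, 4), (20, 7), (20, 6), (5, 7), (18, 8), (18, 7), (14, 6), (14, 5), (2, 3), (20, 5), (20, 4), (5, 5), (5, 5), (15, 4), (15, 3), (20, 6), (20, 5), (5, 6), (19, 6), (15, 5), (15, 4), (20, 7), (20, 6), (5, 7), (20, 8), (20, 7), (4, 5), (16, 6), (16, 5), (9, 4), (9, 3), (6, 2), (0, 0), (17, 0), (18, 1), (19, 2), (19, 3), (19, 5), (19, 4), (3, 2), (20, 3), (20, 2), (20, 4), (20, 3), (19, 5), (19, 4), (15, 3), (15, 2), (20, 5), (20, 4), (5, 5), (5, 5), (4, 3), (17, 5), (17, 4), (13, 3), (10, 2), (8, 1), (15, 3), (20, 6), (20, 5), (5, 6), (4, 4), (5, 4), (10, 3), (8, 2), (1, 0), (18, 1), (18, 0), (20, 2), (20, 1), (19, 3), (19, 2), (15, 1), (5, 3),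 (20, 3), (18, 5), (18, 4), (14, 3), (14, 2), (11, 1), (20, 5), (20, 4), (5, 5), (5, 5), (14, 4), (14, 3), (11, 2), (2, 0), (20, 3), (20, 2), (5, 3), (19, 3), (15, 2), (15, 1), (20, 4), (20, 3), (5, 4), (19, 5), (19, 4), (15, 3), (15, 2), (3, 0), (20, 2), (20, 1), (5, 2), (5, 2), (4, 0)], [], [(16, 6), (16, 5), (9, 4), (9, 3), (6, 2), (0, 0), (17, 0), (18, 1), (19, 2), (19, 3), (19, 5), (19, 4), (3, 2), (20, 3), (20, 2), (20, 4), (20, 3), (19, 5), (19, 4), (15, 3), (15, 2), (20, 5), (20, 4), (5, 5), (5, 5), (4, 3), (16, 5), (16, 4), (12, 3), (9, 2), (7, 1), (6, 0), (18, 5), (11, 4), (11, 3), (20, 6), (20, 7), (5, 8), (15, 7), (15, 6), (3, 4), (20, 6), (20, 5), (5, 6), (20, 6), (4, 4), (20, 4), (20, 5), (5, 6), (17, 7), (17, 6), (13, 5), (13, 4), (8, 3), (8, 2), (14, 4), (20, 7), (20, 6), (20, 8), (20, 7), (4, 5),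 (5, 5), (5, 6), (15, 5), (19, 8), (19, 7), (15, 6), (5, 8), (5, 8), (12, 7), (9, 6), (9, 5), (7, 4), (7, 3), (6, 2), (6, 1), (17, 6), (10, 5), (10, 4), (8, 3), (15, 5), (20, 8), (20, 7), (5, 8), (15, 7), (15, 6), (20, 9), (20, 8), (5, 9), (20, 9), (4, 7), (5, 7), (11, 6), (11, 5), (3, 6), (18, 7), (11, 6), (2, 4), (20, 5), (20, 6), (5, 7), (14, 6), (14, 5), (11, 4), (20, 8), (20, 7), (5, 8), (20, 8), (4, 6), (20, 6), (5, 7), (15, 6), (20, 9), (20, 8), (20, 10), (20, 9), (4, 7), (19, 8), (19, 7), (3, 5), (20, 6), (20, 5), (20, 7), (20, 6), (20, 8), (20, 7), (4, 5), (5, 5), (16, 5), (7, 4), (6, 3), (6, 2), (0, 0), (17, 0), (18, 1), (19, 2), (19, 3), (17, 5), (17, 4), (10, 3), (10, 2), (8, 1), (15, 3), (20, 6), (20, 5), (5, 6), (15, 5), (15, 4), (20, 7), (20, 6), (5, 7), (20, 7), (4, 5), (5, 5), (18, 5), (11, 4),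 (11, 3), (19, 6), (3, 4), (19, 4), (18, 6), (18, 5), (11, 4), (2, 2), (20, 4), (20, 3), (20, 5), (20, 4), (5, 5), (17, 6), (17, 5), (13, 4), (13, 3), (10, 2), (1, 0), (19, 1), (19, 0), (20, 2), (20, 1), (5, 2), (20, 3), (4, 1), (5, 1), (19, 1), (19, 2), (3, 0), (5, 0)], []⟩]
  adj := [
    [(64, 2), (69, 2), (75, 2)],
    [(64, 5), (69, 5), (72, 1), (75, 4)],
    [(6, 1), (9, 1), (43, 1), (63, 3), (64, 7), (69, 6), (70, 3), (72, 3), (73, 6)],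
    [(64, 1)],
    [(9, 4), (43, 2), (45, 6), (47, 3), (48, 6), (63, 6), (64, 3), (69, 3), (70, 3), (72, 6), (73, 8)],
    [(73, 1)]]
  base := [
    ([(9, 1), (43, 1), (64, 6), (69, 3), (71, 3), (72, 3), (73, 7)], 3, [(0, 5), (1, 2), (2, 3), (4, 5), (5, 2), (6, 7), (7, 6), (9, 3), (10, 5), (11, 6), (12, 3), (13, 6), (14, 3), (17, 6), (18, 6), (29, 3)])]
  dense := [
    [0, 0, 0, 0, 0, 0, 0, 0, 0, 0, 0, 0, 0, 0, 0, 0, 1],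
    [0, 0, 0, 0, 0, 0, 0, 0, 0, 0, 0, 0, 0, 0, 0, 0, 0, 2],
    [0, 0, 8, 7, 7, 3, 6, 0, 6, 0, 6, 6, 0, 0, 8, 4, 2, 7, 4, 6, 6],
    [0, 0, 8, 7, 5, 2, 6, 6, 0, 6, 0, 3, 0, 0, 7, 5, 7, 8, 4, 5, 2],
    [0, 0, 0, 0, 7, 5, 0, 6, 0, 0, 0, 0, 0, 0, 6, 0, 0, 0, 5, 0, 5],
    [0, 0, 0, 0, 7, 5, 0, 6, 0, 0, 0, 0, 6, 0, 0, 0, 5, 0, 8, 0, 4],
    [0, 0, 0, 0, 8, 8, 0, 0, 6, 0, 0, 0, 0, 6, 0, 0, 0, 8, 7, 0, 5],
    [0, 0, 0, 0, 0, 0, 0, 0, 0, 0, 0, 2, 1, 7, 0, 0, 0, 7, 0, 7, 1],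
    [0, 0, 0, 0, 7, 7, 0, 0, 0, 6, 0, 0, 0, 0, 0, 6, 0, 0, 0, 8, 5],
    [0, 0, 0, 0, 0, 0, 0, 0, 0, 0, 0, 0, 0, 0, 7, 2, 0, 0, 0, 2, 7],
    [0, 0, 0, 0, 0, 7, 0, 0, 0, 0, 0, 0, 6, 0, 0, 0, 6, 0, 0, 0, 8],
    [8, 8, 7, 7, 2, 5, 6, 8, 1, 7, 5, 3, 3, 0, 2, 7, 4, 8, 3, 2, 1, 6],
    [0, 0, 0, 0, 6, 4, 0, 8, 8, 7, 7, 7, 8, 8, 0, 5, 7, 2, 2, 8, 4],
    [0, 0, 0, 0, 7, 8, 0, 8, 8, 8, 8, 0, 1, 0, 7, 1, 8, 0, 0, 4, 4],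
    [0, 0, 8, 8, 1, 4, 0, 0, 0, 0, 0, 6, 0, 0, 6, 6, 0, 0, 7, 7, 7, 0, 0, 0, 0, 0, 0, 0, 6],
    [0, 0, 0, 0, 6, 6, 0, 0, 6, 3, 6, 0, 1, 5, 3, 4, 0, 5, 3, 3, 6],
    [8, 7, 8, 0, 5, 0, 6, 7, 4, 8, 5, 6, 8, 7, 6, 1, 7, 1, 4, 7, 6, 0, 0, 0, 0, 0, 0, 0, 0, 0, 0, 0, 0, 0, 6],
    [1, 7, 0, 8, 5, 2, 0, 0, 0, 0, 3, 0, 0, 5, 0, 5, 0, 5, 0, 2, 4, 0, 0, 0, 0, 0, 0, 0, 0, 0, 0, 0, 0, 0, 0, 0, 0, 0, 0, 6, 0, 0, 0, 0, 1],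
    [0, 0, 0, 0, 0, 2, 0, 1, 5, 0, 0, 2, 0, 7, 2, 8, 0, 7, 1, 0, 0, 0, 0, 0, 0, 0, 0, 0, 0, 0, 0, 0, 0, 0, 0, 0, 0, 0, 0, 0, 0, 0, 0, 2, 2],
    [0, 0, 0, 0, 0, 0, 0, 0, 0, 1, 5, 0, 0, 7, 0, 1, 0, 6, 0, 6, 3, 0, 0, 0, 0, 0, 0, 0, 0, 0, 0, 0, 0, 0, 0, 0, 0, 0, 0, 0, 0, 0, 0, 2],
    [0, 0, 0, 0, 0, 7, 0, 0, 0, 0, 0, 0, 1, 5, 0, 7, 0, 6, 0, 0, 3, 0, 0, 0, 0, 0, 0, 0, 0, 0, 0, 0, 0, 0, 0, 0, 0, 0, 0, 0, 0, 0, 0, 0, 2],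
    [0, 0, 8, 0, 0, 0, 0, 0, 0, 0, 0, 0, 0, 0, 0, 0, 0, 0, 0, 0, 0, 0, 0, 0, 0, 0, 0, 0, 0, 0, 0, 0, 0, 0, 0, 0, 0, 0, 0, 0, 0, 6],
    [1, 1, 8, 2, 3, 5, 3, 1, 2, 2, 4, 3, 0, 0, 3, 0, 0, 5, 2, 7, 5, 0, 0, 0, 0, 0, 0, 0, 0, 0, 0, 0, 0, 0, 0, 0, 0, 0, 0, 0, 0, 0, 0, 0, 0, 6],
    [8, 8, 0, 5, 4, 2, 6, 8, 7, 7, 5, 6, 6, 6, 0, 6, 8, 2, 5, 8, 3, 0, 0, 0, 0, 0, 0, 0, 0, 0, 0, 0, 0, 0, 0, 0, 0, 0, 0, 0, 0, 0, 0, 0, 0, 0, 6],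
    [7, 7, 7, 4, 6, 8, 3, 4, 5, 5, 1, 6, 6, 6, 5, 1, 3, 7, 8, 0, 5, 0, 0, 0, 0, 0, 0, 0, 0, 0, 0, 0, 0, 0, 0, 0, 0, 0, 0, 0, 0, 0, 0, 0, 0, 0, 0, 6],
    [0, 0, 7, 7, 8, 8, 0, 0, 0, 0, 0, 3, 0, 0, 3, 3, 0, 0, 4, 4, 8, 0, 0, 0, 0, 0, 0, 0, 0, 0, 0, 0, 0, 0, 0, 0, 0, 0, 0, 0, 0, 0, 0, 0, 0, 0, 0, 0, 6],
    [8, 8, 0, 5, 4, 5, 6, 5, 1, 7, 5, 3, 6, 6, 7, 5, 5, 6, 7, 3, 4, 0, 0, 0, 0, 0, 0, 0, 0, 0, 0, 0, 0, 0, 0, 0, 0, 0, 0, 0, 0, 0, 0, 0, 0, 0, 0, 0, 0, 0, 0, 0, 0, 0, 0, 0, 0, 0, 0, 0, 0, 0, 0, 6],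
    [0, 0, 0, 8, 0, 0, 0, 0, 0, 0, 0, 0, 0, 0, 0, 0, 0, 0, 0, 0, 0, 0, 0, 0, 0, 0, 0, 0, 0, 0, 0, 0, 0, 0, 0, 0, 0, 0, 0, 0, 0, 0, 0, 0, 0, 0, 0, 0, 0, 0, 0, 0, 0, 0, 0, 0, 0, 0, 0, 0, 0, 0, 0, 0, 6],
    [8, 8, 6, 5, 2, 5, 6, 5, 7, 7, 5, 6, 6, 6, 8, 1, 7, 4, 7, 8, 2, 0, 0, 0, 0, 0, 0, 0, 0, 0, 0, 0, 0, 0, 0, 0, 0, 0, 0, 0, 0, 0, 0, 0, 0, 0, 0, 0, 0, 0, 0, 0, 0, 0, 0, 0, 0, 0, 0, 0, 0, 0, 0, 0, 0, 0, 0, 0, 0, 6],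
    [0, 0, 0, 0, 1, 6, 0, 1, 1, 0, 0, 0, 7, 0, 7, 7, 6, 1, 6, 7, 1, 0, 0, 0, 0, 0, 0, 0, 0, 0, 0, 0, 0, 0, 0, 0, 0, 0, 0, 0, 0, 0, 0, 0, 0, 0, 0, 0, 0, 0, 0, 0, 0, 0, 0, 0, 0, 0, 0, 0, 0, 0, 0, 0, 0, 0, 0, 0, 0, 0, 0, 0, 0, 1],
    [0, 0, 1, 0, 8, 7, 0, 0, 0, 0, 0, 0, 0, 0, 0, 0, 0, 0, 0, 0, 6, 0, 0, 0, 0, 0, 0, 0, 0, 0, 0, 0, 0, 0, 0, 0, 0, 0, 0, 0, 0, 0, 0, 0, 0, 0, 0, 0, 0, 0, 0, 0, 0, 0, 0, 0, 0, 0, 0, 0, 0, 0, 0, 0, 0, 0, 0, 0, 0, 0, 6],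
    [7, 7, 7, 6, 6, 6, 3, 4, 5, 5, 1, 6, 3, 3, 5, 1, 8, 2, 8, 6, 2, 0, 0, 0, 0, 0, 0, 0, 0, 0, 0, 0, 0, 0, 0, 0, 0, 0, 0, 0, 0, 0, 0, 0, 0, 0, 0, 0, 0, 0, 0, 0, 0, 0, 0, 0, 0, 0, 0, 0, 0, 0, 0, 0, 0, 0, 0, 0, 0, 0, 0, 6],
    [0, 0, 8, 0, 1, 7, 0, 0, 0, 0, 0, 0, 0, 0, 0, 0, 0, 0, 6, 0, 0, 0, 0, 0, 0, 0, 0, 0, 0, 0, 0, 0, 0, 0, 0, 0, 0, 0, 0, 0, 0, 0, 0, 0, 0, 0, 0, 0, 0, 0, 0, 0, 0, 0, 0, 0, 0, 0, 0, 0, 0, 0, 0, 0, 0, 0, 0, 0, 0, 0, 0, 0, 6],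
    [8, 1, 1, 7, 8, 1, 6, 7, 1, 8, 8, 6, 8, 7, 7, 3, 6, 5, 4, 5, 2, 0, 0, 0, 0, 0, 0, 0, 0, 0, 0, 0, 0, 0, 0, 0, 0, 0, 0, 0, 0, 0, 0, 0, 0, 0, 0, 0, 0, 0, 0, 0, 0, 0, 0, 0, 0, 0, 0, 0, 0, 0, 0, 0, 0, 0, 0, 0, 0, 0, 0, 0, 0, 0, 0, 6]]
  tgt := [
    ([(0, 1)], [(1, 8), (2, 8), (3, 2), (4, 8), (5, 6), (6, 6), (7, 7), (8, 5), (9, 5), (10, 2), (12, 5), (13, 6), (14, 3), (15, 5), (16, 3), (17, 6), (18, 4), (20, 2), (25, 3), (27, 3), (28, 5), (29, 1), (30, 6), (31, 7), (32, 1), (33, 1)]),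
    ([(0, 1)], [(0, 6), (1, 5), (2, 8), (3, 4), (4, 1), (5, 6), (6, 7), (7, 3), (8, 2), (9, 2), (10, 3), (12, 7), (13, 7), (15, 3), (16, 3), (17, 6), (18, 4), (20, 2), (26, 6), (27, 6), (28, 8), (30, 6), (31, 7), (33, 2)]),
    ([], [(0, 8), (1, 6), (3, 5), (4, 8), (5, 1), (6, 4), (9, 1), (14, 3), (18, 6), (20, 3), (21, 3), (23, 3), (24, 3), (27, 5)]),
    ([], [(0, 3), (3, 3), (4, 6), (5, 3), (6, 6), (14, 6), (21, 3), (23, 3), (24, 3), (27, 5)]),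
    ([], [(0, 5), (1, 1), (2, 7), (3, 5), (4, 4), (6, 7), (7, 6), (8, 8), (9, 5), (10, 5), (11, 6), (12, 6), (13, 6), (14, 3), (17, 6), (18, 3), (20, 3), (29, 6)]),
    ([], [(0, 5), (1, 3), (2, 3), (3, 6), (4, 7), (5, 8), (6, 6), (7, 6), (8, 3), (10, 1), (12, 6), (13, 6), (29, 3)]),
    ([(0, 2)], [(0, 1), (1, 4), (2, 7), (3, 2), (5, 6), (8, 8), (9, 7), (10, 4), (11, 3), (12, 6), (14, 6), (15, 3), (17, 3), (18, 3), (21, 6), (24, 3), (25, 6), (26, 1), (27, 1), (28, 7), (29, 6), (30, 7), (31, 2)]),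
    ([(0, 1)], [(0, 4), (1, 2), (2, 4), (3, 5), (4, 3), (5, 6), (6, 3), (7, 7), (8, 2), (9, 1), (10, 5), (11, 6), (12, 6), (13, 3), (14, 3), (15, 2), (17, 3), (18, 2), (20, 1), (21, 6), (22, 4), (23, 6), (24, 5), (25, 7), (26, 4), (27, 1), (28, 6), (29, 2), (30, 2), (31, 1), (32, 5)]),
    ([], [(0, 8), (1, 3), (2, 8), (3, 7), (4, 5), (5, 1), (6, 3), (7, 2), (8, 2), (9, 2), (10, 2), (11, 6), (13, 2), (14, 3), (15, 8), (18, 7), (19, 1), (20, 2), (21, 3), (22, 5), (24, 1), (25, 2), (26, 5), (27, 4), (28, 1), (29, 1), (30, 7), (32, 5)]),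
    ([(0, 2)], [(0, 3), (1, 7), (2, 8), (3, 4), (4, 7), (5, 3), (6, 3), (8, 7), (9, 5), (10, 8), (11, 3), (12, 6), (14, 6), (18, 6), (20, 3), (21, 6), (22, 4), (23, 6), (24, 5), (25, 1), (26, 1), (28, 7), (29, 6), (30, 8), (31, 2)]),
    ([(0, 2)], [(0, 6), (1, 2), (2, 1), (3, 5), (4, 6), (5, 8), (6, 3), (7, 3), (8, 6), (9, 4), (10, 7), (11, 3), (12, 6), (13, 7), (14, 6), (15, 7), (17, 6), (18, 6), (19, 1), (21, 3), (22, 8), (23, 3), (24, 1), (25, 8), (26, 5), (27, 2), (28, 6), (29, 4), (30, 7), (31, 2), (32, 1)]),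
    ([(0, 1)], [(0, 3), (1, 7), (2, 4), (3, 5), (4, 6), (5, 5), (6, 5), (7, 5), (8, 6), (10, 5), (11, 3), (12, 6), (13, 5), (14, 6), (15, 3), (17, 3), (18, 3), (19, 1), (23, 6), (24, 6), (26, 3), (27, 8), (28, 4), (29, 2), (30, 3), (31, 1), (32, 1)]),
    ([(0, 2)], [(1, 2), (2, 2), (3, 1), (4, 5), (5, 1), (6, 2), (7, 5), (8, 5), (10, 5), (12, 5), (13, 3), (15, 5), (18, 3), (19, 5), (20, 6), (23, 6), (24, 6), (25, 3), (27, 7), (28, 5), (29, 2), (31, 2), (32, 5)]),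
    ([(0, 2)], [(0, 3), (1, 6), (2, 1), (3, 8), (6, 1), (7, 1), (8, 6), (9, 1), (10, 1), (11, 3), (12, 4), (13, 8), (14, 6), (15, 4), (17, 3), (18, 3), (19, 5), (23, 6), (24, 6), (25, 3), (27, 7), (28, 5), (29, 3), (31, 2), (32, 5)]),
    ([], [(0, 2), (1, 6), (2, 6), (4, 3), (5, 8), (6, 7), (7, 8), (8, 8), (9, 7), (10, 1), (11, 3), (12, 8), (13, 8), (14, 6), (15, 3), (17, 3), (20, 3), (29, 7)]),
    ([], [(0, 7), (1, 7), (2, 2), (3, 7), (4, 8), (6, 1), (7, 2), (8, 1), (9, 7), (12, 5), (13, 2), (15, 6), (29, 7)]),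
    ([], [(0, 1)]),
    ([], [(1, 5)]),
    ([], [(1, 3), (2, 7), (3, 2), (5, 1), (6, 5), (8, 5), (9, 5), (12, 6), (13, 3), (15, 6)]),
    ([], [(0, 2), (1, 7), (2, 4), (3, 2), (4, 1), (5, 6), (6, 7), (8, 4), (9, 2), (11, 3), (12, 6), (14, 6), (15, 3), (17, 3), (20, 3)]),
    ([], [(0, 4), (1, 5), (4, 3), (5, 4), (6, 4), (7, 3), (8, 6), (9, 6), (10, 5), (12, 3), (13, 3), (15, 6)])]

/-- Orbits inside the subgroup. -/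
def orbits : List (ℕ × List (ℕ × List ℕ)) := [
    (0, [(0, []), (1, [2, 3, 4]), (5, [2, 4, 5, 5]), (6, [2, 4, 5]), (10, [2, 4]), (13, [2, 2, 3, 5, 5]), (18, [2, 3, 5, 5]), (22, [1, 2, 2, 3, 4]), (24, [0, 2, 3, 5, 5]), (25, [1, 1, 2]), (26, [0, 0, 2, 5]), (28, [1, 1, 3, 3, 4, 5, 5]), (32, [0, 2, 4]), (36, [0, 1, 1, 5]), (37, [0, 1, 1, 2, 5]), (41, [0, 1, 3, 5]), (46, [4, 4]), (50, [0, 2, 3, 4, 5, 5]), (54, [0, 2, 3, 3, 4, 4]), (58, [0, 0, 2]), (59, [0, 1, 1, 3, 3]), (62, [1, 2, 4]), (64, [0, 2, 4, 5, 5]), (65, [1, 1, 3, 3, 4, 5]), (66, [1, 3, 3]), (75, [1, 1, 3, 3, 4]), (76, [1, 3, 4, 4]), (80, [0, 2, 4, 5]), (83, [1, 2, 3, 4, 4, 5]), (86, [1, 1, 2, 3, 3, 5, 5]), (89, [1, 3]), (91, [0, 1, 1, 3, 4]), (93, [1, 1, 3, 4, 4]), (95, [1, 2, 2, 3, 4, 5]), (99, [1, 1]), (100, [0, 0, 2, 5, 5]), (101, [1, 1, 3, 4, 5, 5]),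 (105, [2, 3, 3, 4, 4, 5]), (106, [0, 1, 2, 2]), (107, [2, 2]), (109, [3, 3, 4, 4]), (112, [3, 4, 4, 5, 5]), (119, [2, 2, 3, 3]), (122, [3, 4, 4]), (129, [2, 2, 3, 3, 5]), (132, [3, 4, 4, 5]), (139, [2, 2, 3, 3, 5, 5]), (142, [2, 2, 4, 4, 5, 5]), (143, [2, 3, 3, 4, 5]), (146, [1]), (147, [0, 2, 3, 3, 4, 5]), (150, [1, 5]), (152, [0, 0, 1, 3, 5]), (154, [1, 5, 5]), (156, [1, 1, 2, 3, 5, 5]), (158, [0, 1, 1, 3]), (160, [1, 1, 2, 3]), (164, [1, 1, 2, 3, 5]), (165, [1, 2, 2, 3, 3]), (167, [1, 2, 3]), (168, [0, 5, 5]), (172, [1, 2, 4, 4]), (175, [1, 1, 4, 5, 5]), (178, [0, 1, 2, 2, 3]), (185, [2, 4, 4]), (187, [0, 0, 1, 2, 3, 4]), (188, [1, 3, 3, 4]), (189, [0, 1, 1, 5, 5]), (191, [0, 2, 3, 4, 5]), (194, [1, 1, 2, 5]), (195, [0, 2, 3]), (199, [1, 3, 3, 5, 5]), (203, [1, 2, 4, 5, 5]), (206, [2, 2, 4, 4, 5]), (207, [2,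 3, 3, 4]), (211, [1, 2, 2, 4]), (212, [1, 1, 3]), (216, [1, 2, 2, 3, 3, 5]), (219, [1, 1, 2, 2, 3]), (220, [1, 2, 3, 3, 4]), (221, [0]), (224, [1, 2, 3, 3, 4, 5]), (226, [1, 1, 4]), (228, [0, 0, 2, 4, 4]), (230, [1, 1, 3, 3, 4, 4]), (232, [0, 0, 5, 5]), (234, [0, 0, 1, 2, 2, 3]), (238, [0, 2, 2, 3, 3, 4]), (239, [1, 3, 4]), (240, [3, 3, 4, 4, 5]), (242, [0, 1]), (243, [2]), (244, [0, 1, 2, 3, 4]), (247, [2, 3, 4, 4, 5]), (252, [2, 3, 3, 5]), (257, [0, 1, 2, 4]), (262, [2, 3, 3, 5, 5]), (267, [2, 3, 4, 4]), (272, [2, 3, 3]), (284, [0, 2, 3, 5]), (287, [0, 1, 1, 4]), (289, [1, 2, 3, 4]), (291, [1, 1, 2, 5, 5]), (293, [1, 2, 3, 3]), (297, [0, 3, 3, 5, 5]), (298, [1, 4, 5]), (299, [0, 4, 5]), (303, [0, 0, 1, 5]), (304, [0, 1, 1]), (308, [1, 1, 3, 3, 5]), (311, [0, 1, 1, 2]), (312, [2, 2, 5, 5]), (313, [2, 5]), (316,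 [2, 2, 3, 4, 5]), (317, [0, 1, 5]), (323, [4]), (325, [2, 2, 4, 5]), (333, [4, 5]), (335, [2, 2, 4, 5, 5]), (343, [4, 5, 5]), (345, [2, 2, 4]), (350, [2, 3]), (357, [2, 2, 3]), (359, [1, 2, 5]), (363, [1, 2, 2, 5]), (365, [1, 1, 4, 4, 5]), (366, [0, 0, 2, 4, 5]), (367, [1, 4]), (369, [0, 2, 3, 3, 5, 5]), (372, [0, 0, 1]), (373, [1, 1, 3, 3]), (379, [3, 5, 5]), (380, [3, 5]), (384, [3]), (387, [1, 2, 3, 5]), (388, [0, 5]), (389, [1, 1, 4, 5]), (391, [1, 2, 4, 4, 5]), (392, [0, 0, 5]), (393, [0, 2, 3, 3, 4, 5, 5]), (396, [1, 3, 4, 5, 5]), (397, [0, 3, 3, 4]), (398, [1, 1, 3, 5, 5]), (400, [1, 2, 2, 4, 5]), (401, [0, 0, 2, 2, 4]), (402, [0, 2, 3, 4, 4]), (405, [2, 2, 3, 5]), (410, [2, 3, 5]), (416, [1, 3, 4, 4, 5]), (417, [1, 2, 3, 4, 4, 5, 5]), (420, [1, 4, 4]), (422, [1, 1, 2, 3, 3]), (423, [0, 0, 1, 2, 2]), (424,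 [1, 2, 2, 3, 5]), (426, [1, 1, 2, 2]), (430, [0, 3, 5, 5]), (433, [2, 2, 4, 4]), (437, [2, 3, 3, 4, 5, 5]), (440, [1, 3, 4, 5]), (443, [0, 0, 1, 3]), (445, [0, 2, 3, 3, 4]), (447, [0, 0]), (448, [0, 1, 1, 3, 3, 4, 5]), (450, [0, 0, 1, 2, 4]), (451, [1, 2, 2, 3, 4, 4]), (452, [0, 1, 1, 3, 3, 4]), (457, [1, 1, 3, 5]), (458, [0, 2, 5]), (461, [0, 2, 5, 5]), (462, [0, 2]), (463, [1, 2, 4, 4, 5, 5]), (465, [1, 2, 3, 5, 5]), (469, [3, 3, 4, 4, 5, 5]), (470, [3, 4]), (473, [2, 2, 3, 4]), (474, [2, 3, 3, 4, 4]), (475, [2, 2, 5]), (477, [2, 5, 5]), (498, [4, 4, 5, 5]), (505, [0, 1, 3]), (508, [0, 3, 3, 5]), (509, [0, 4]), (513, [1, 2, 2, 3]), (517, [0, 0, 3]), (519, [0, 3, 5]), (520, [0, 1, 1, 4, 5, 5]), (521, [1, 2, 3, 4, 5, 5]), (523, [0, 2, 4, 4]), (529, [2, 4, 4, 5]), (531, [2, 2, 3, 3, 4]), (534, [0, 1, 1, 3, 4, 5]),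 (538, [1, 3, 5]), (540, [1, 1, 3, 4]), (541, [1, 2, 2, 5, 5]), (544, [1, 1, 5]), (545, [1, 2, 5, 5]), (547, [0, 2, 3, 3]), (551, [0, 2, 2, 4]), (559, [0, 2, 3, 3, 5]), (560, [1, 3, 3, 5]), (564, [1, 1, 4, 4]), (567, [1, 2, 4, 5]), (570, [1, 1, 2, 2, 3, 3]), (573, [1, 4, 4, 5]), (575, [1, 2, 2, 3, 5, 5]), (577, [0, 2, 3, 4]), (579, [1, 2, 2]), (583, [1, 1, 2, 2, 5]), (584, [1, 2]), (585, [0, 3]), (589, [2, 4, 4, 5, 5]), (594, [2, 2, 3, 3, 4, 5]), (598, [0, 2, 2, 3, 4]), (602, [1, 1, 2, 3, 3, 5]), (606, [1, 2, 3, 4, 5]), (607, [0, 1, 1, 4, 5]), (610, [1, 2, 3, 4, 4]), (612, [0, 4, 5, 5]), (613, [0, 3, 3]), (614, [0, 0, 3, 3]), (621, [3, 3, 4]), (623, [4, 4, 5]), (627, [1, 1, 5, 5]), (631, [1, 1, 3, 4, 5]), (632, [1, 4, 5, 5]), (636, [0, 0, 2, 4]), (638, [1, 1, 3, 3, 5, 5]), (639, [1, 3, 5, 5]), (642, [0, 3, 4]),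 (643, [1, 2, 2, 4, 4]), (644, [0, 1, 2, 2, 3, 4]), (645, [2, 3, 4, 5]), (647, [2, 2, 3, 3, 4, 4]), (649, [5, 5]), (650, [5]), (651, [2, 3, 4, 5, 5]), (652, [0, 1, 2, 2, 3, 4, 5]), (654, [3, 3, 5]), (658, [0, 1, 2, 2, 4, 5]), (660, [3, 3, 5, 5]), (664, [2, 2, 3, 4, 4]), (666, [3, 3]), (670, [0, 1, 2, 2, 4])]),
    (3, [(3, []), (7, [0, 1, 3, 3, 4, 4, 5]), (11, [0, 0, 1, 1, 2, 4, 5])])]

theorem checks : certChecks 672 tab cert sw gw orbits = true := by decide +kernel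

theorem lin_ok : cert.linOK = true := by decide +kernel

end CfsgLib.Lie.MultExc.USixTwo.P3
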