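import Cfsg.Agent.Lib.Lie.MultExc.USixTwo.Group
import Cfsg.Agent.Lib.Lie.MultExc.USixTwo.CoverChecks
import Cfsg.Agent.Lib.Lie.MultExc.USixTwo.P2Check
import Cfsg.Agent.Lib.Lie.MultExc.USixTwo.P2Lin
import Cfsg.Agent.Lib.Lie.MultExc.USixTwo.P3

/-!
The Schur multiplier of PSU(6, 2) is the product of cyclic groups of orders three, two and two.
-/

set_option autoImplicit false
set_option maxRecDepth 100000

namespace CfsgLib.Lie.MultExc.USixTwo

open CfsgLib.Spor.SchurCert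

theorem cert_facts : (P2.cert.p = 2 ∧ P2.cert.N = 2 ^ 3 ∧ P2.cert.bound = 4 ∧ P2.cert.m = 15) ∧
    (P3.cert.p = 3 ∧ P3.cert.N = 3 ^ 2 ∧ P3.cert.bound = 3 ∧ P3.cert.m = 6) ∧
    (tab.trans.map List.length).prod = 9196830720 := by
  decide +kernel

theorem ker_dvd {H : Subgroup (Equiv.Perm (Fin 672))} (M : Model 672 tab H) {Γ : Type*} [Group Γ] [Finite Γ]
    (τ : Γ →* ↥H) (hτ : Cfsg.IsStemExtension τ) : Nat.card τ.ker ∣ 12 := by
  obtain ⟨⟨hp, hN, hbd, hm⟩, ⟨hp3, hN3, hbd3, hm3⟩, hord⟩ := cert_facts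
  have e12 : (12 : ℕ) = 2 ^ 2 * 3 ^ 1 := by norm_num
  refine card_dvd_of_parts τ.ker (by norm_num) fun ℓ hℓ P hP hPp => ?_
  by_cases h2 : ℓ = 2
  · subst h2
    have h := part_le M hτ P2.cert (by rw [hp]; norm_num) (e := 3) (by rw [hp, hN]) (by rw [hbd, hN]; norm_num)
      (r := 280665) (by rw [hp]; norm_num) (by rw [hp, hm, hord]; norm_num) P2.checks P2.lin_ok P hP (by rw [hp]; exact hPp)
    rw [hbd] at h
    refine h.trans (le_of_eq ?_)
    rw [e12, Nat.factorization_mul (by norm_num) (by norm_num), Finsupp.add_apply,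
      Nat.Prime.factorization_pow hℓ, Finsupp.single_eq_same,
      Nat.factorization_eq_zero_of_not_dvd (n := 3 ^ 1) (by norm_num)]
    rfl
  by_cases h3 : ℓ = 3
  · subst h3
    have h := part_le M hτ P3.cert (by rw [hp3]; norm_num) (e := 2) (by rw [hp3, hN3]) (by rw [hbd3, hN3]; norm_num)
      (r := 12615680) (by rw [hp3]; norm_num) (by rw [hp3, hm3, hord]; norm_num) P3.checks P3.lin_ok P hP
      (by rw [hp3]; exact hPp)
    rw [hbd3] at h
    refine h.trans (le_of_eq ?_)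
    rw [e12, Nat.factorization_mul (by norm_num) (by norm_num), Finsupp.add_apply,
      Nat.factorization_eq_zero_of_not_dvd (n := 2 ^ 2) (by norm_num), Nat.Prime.factorization_pow hℓ,
      Finsupp.single_eq_same]
    rfl
  refine le_trans ?_ (Nat.one_le_pow _ _ hℓ.pos)
  by_cases h5 : ℓ = 5
  · subst h5
    exact part_once M hτ hℓ (r := 1839366144) (by rw [hord]) (by norm_num) P hP hPp
  by_cases h7 : ℓ = 7
  · subst h7
    exact part_once M hτ hℓ (r := 1313832960) (by rw [hord]) (by norm_num) P hP hPp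
  by_cases h11 : ℓ = 11
  · subst h11
    exact part_once M hτ hℓ (r := 836075520) (by rw [hord]) (by norm_num) P hP hPp
  refine part_other M hτ hℓ ?_ P hP hPp
  rw [hord, show (9196830720 : ℕ) = 2 ^ 15 * (3 ^ 6 * (5 * (7 * 11))) by norm_num]
  intro hd
  rcases hℓ.dvd_mul.1 hd with h | h
  · exact h2 ((Nat.prime_dvd_prime_iff_eq hℓ Nat.prime_two).1 (hℓ.dvd_of_dvd_pow h))
  rcases hℓ.dvd_mul.1 h with h | h
  · exact h3 ((Nat.prime_dvd_prime_iff_eq hℓ Nat.prime_three).1 (hℓ.dvd_of_dvd_pow h))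
  rcases hℓ.dvd_mul.1 h with h | h
  · exact h5 ((Nat.prime_dvd_prime_iff_eq hℓ (by norm_num)).1 h)
  rcases hℓ.dvd_mul.1 h with h | h
  · exact h7 ((Nat.prime_dvd_prime_iff_eq hℓ (by norm_num)).1 h)
  · exact h11 ((Nat.prime_dvd_prime_iff_eq hℓ (by norm_num)).1 h)

/-- The kernel of the covering group. -/
def kerEquiv : Multiplicative ((i : Fin 3) → ZMod (layers i).m) ≃*
    Multiplicative (ZMod 3 × ZMod 2 × ZMod 2) where
  toFun f := Multiplicative.ofAdd ((f.toAdd 0 : ZMod 3), (f.toAdd 1 : ZMod 2), (f.toAdd 2 : ZMod 2))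
  invFun q := Multiplicative.ofAdd fun i => Fin.cases (q.toAdd.1 : ZMod 3)
    (fun j => Fin.cases (q.toAdd.2.1 : ZMod 2)
      (fun k => Fin.cases (q.toAdd.2.2 : ZMod 2) (fun l => l.elim0) k) j) i
  left_inv f := by
    apply Multiplicative.toAdd.injective
    funext i
    fin_cases i <;> rfl
  right_inv q := rfl
  map_mul' f g := rfl

universe u

theorem multiplier_U62 {F : Type u} [Field F] [Fintype F] (hF : Fintype.card F = 4) :
    Cfsg.HasSchurMultiplier (Cfsg.PSU 6 F 2) (Multiplicative (ZMod 3 × ZMod 2 × ZMod 2)) := by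
  obtain ⟨H, M, ⟨e⟩⟩ := exists_model_u62 hF
  have : Finite (Cfsg.PSU 6 F 2) := Finite.of_equiv _ e.toEquiv
  obtain ⟨σ, hσ, hH⟩ := M.gens
  obtain ⟨Γ, _, _, τ, hτ, ⟨k⟩⟩ := exists_cover gens_ok comms_ok σ hσ H hH
  refine hasSchurMultiplier_of_cover_bound e hτ ⟨k.trans kerEquiv⟩ fun Δ _ _ π hπ => ?_
  have h4 : Nat.card (Multiplicative (ZMod 3 × ZMod 2 × ZMod 2)) = 12 := by
    rw [Nat.card_congr Multiplicative.toAdd, Nat.card_prod, Nat.card_prod, Nat.card_zmod, Nat.card_zmod]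
  rw [h4]
  exact ker_dvd M π hπ

end CfsgLib.Lie.MultExc.USixTwo
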