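import Cfsg.Agent.Lib.Lie.MultExc.Monomial
import Cfsg.Agent.Lib.Lie.MultExc.Bound

/-!
Blocks of a monomial action with single labels, read off from packed rows of the gain graph.
-/

set_option autoImplicit false

namespace CfsgLib.Lie.MultExc.USixTwo

/-- The block of a point: the neighbours are the nonzero entries of its packed row. -/
def blockOf (rows : List (List ℕ)) (x : ℕ) : Block :=
  let r := (rows.getD (x / 32) []).getD (x % 32) 0
  ⟨[x], 1 <<< x, (List.range 672).filterMap fun y =>
    bif Nat.beq (unp 3 r y) 0 then none else some (y, unp 3 r y), r⟩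

end CfsgLib.Lie.MultExc.USixTwo
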