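import Cfsg.Agent.Lib.Lie.MultExc.USixTwo.CoverData

/-!
Checks of the monomial actions.
-/

set_option autoImplicit false
set_option maxRecDepth 100000
set_option maxHeartbeats 0

namespace CfsgLib.Lie.MultExc.USixTwo

theorem base0_ok : layer0.baseOK 672 = true := by decide +kernel

theorem base1_ok : layer1.baseOK 672 = true := by decide +kernel

theorem base2_ok : layer2.baseOK 672 = true := by decide +kernel

end CfsgLib.Lie.MultExc.USixTwo
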