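import Cfsg.Agent.Lib.Lie.MultExc.USixTwo.Table
import Cfsg.Agent.Lib.Lie.MultExc.USixTwo.Points
import Cfsg.Agent.Lib.Lie.MultExc.LThreeFour.Group

/-!
The checks on the nonisotropic points of the hermitian space of dimension six over four elements.
-/

set_option autoImplicit false
set_option maxRecDepth 100000
set_option maxHeartbeats 0

namespace CfsgLib.Lie.MultExc.USixTwo

open CfsgLib.Spor.PermCert Matrix
open CfsgLib.Lie.MultExc.LThreeFour (Four)

/-- The code of a vector. -/
def code (x : Fin 6 → Four) : ℕ :=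
  (x 0).v.1 * 1024 + (x 1).v.1 * 256 + (x 2).v.1 * 64 + (x 3).v.1 * 16 + (x 4).v.1 * 4 + (x 5).v.1

/-- The vector of a code. -/
def dec (c : ℕ) : Fin 6 → Four :=
  ![Four.ofN (c / 1024), Four.ofN (c / 256), Four.ofN (c / 64), Four.ofN (c / 16), Four.ofN (c / 4), Four.ofN c]

/-- The vector of a point. -/
def vec (i : ℕ) : Fin 6 → Four := dec ((ptsArr >>> (13 * i)) &&& 8191)

/-- The entry of a code. -/
def lineAt (c : ℕ) : ℕ := (lineArr >>> (13 * c)) &&& 8191

/-- The form. -/
def form (x y : Fin 6 → Four) : Four :=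
  x 0 * y 0 ^ 2 + x 1 * y 1 ^ 2 + x 2 * y 2 ^ 2 + x 3 * y 3 ^ 2 + x 4 * y 4 ^ 2 + x 5 * y 5 ^ 2

/-- The generators. -/
def gmat (s : ℕ) : Matrix (Fin 6) (Fin 6) Four := fun i j =>
  Four.ofN (((gentries.getD s []).getD i.1 []).getD j.1 0)

/-- A scaled vector. -/
def scal (c : Four) (x : Fin 6 → Four) : Fin 6 → Four := fun q => c * x q

/-- The image of a vector. -/
def image (s : ℕ) (x : Fin 6 → Four) : Fin 6 → Four := fun i =>
  gmat s i 0 * x 0 + gmat s i 1 * x 1 + gmat s i 2 * x 2 + gmat s i 3 * x 3 + gmat s i 4 * x 4 + gmat s i 5 * x 5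

theorem dec_code (x : Fin 6 → Four) : dec (code x) = x := by
  have h : ∀ a b c d e f : Four, dec (a.v.1 * 1024 + b.v.1 * 256 + c.v.1 * 64 + d.v.1 * 16 + e.v.1 * 4 + f.v.1) =
      ![a, b, c, d, e, f] := by decide +kernel
  funext q
  rw [code, h]
  fin_cases q <;> rfl

theorem line_spec : ((List.range 4096).all fun c => decide (form (dec c) (dec c) = 0) ||
    (Nat.blt (lineAt c / 4) 672 &&
      decide (∀ q, scal (Four.ofN (lineAt c % 4)) (vec (lineAt c / 4)) q = dec c q))) = true := by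
  decide +kernel

theorem vec_spec : ((List.range 672).all fun i => decide (form (vec i) (vec i) ≠ 0) &&
    decide (∀ k : Fin 4, k.1 = 0 ∨ lineAt (code (scal (Four.ofN k.1) (vec i))) / 4 = i)) = true := by
  decide +kernel

theorem images_ok : ((List.range 2).all fun s => (List.range 672).all fun i => Nat.blt (look tab.w tab.R s i) 672 &&
    decide (lineAt (code (image s (vec i))) / 4 = look tab.w tab.R s i ∧
      form (image s (vec i)) (image s (vec i)) ≠ 0)) = true := by
  decide +kernel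

theorem gmat_unit : ∀ s : Fin 2, (gmat s.1)ᵀ * (gmat s.1).map (fun a => a ^ 2) = 1 := by
  decide +kernel

theorem gmat_det : ∀ s : Fin 2, (gmat s.1).det = 1 := by
  decide +kernel

theorem moved : look tab.w tab.R 0 0 ≠ 0 ∨ look tab.w tab.R 0 1 ≠ 1 ∨ look tab.w tab.R 1 0 ≠ 0 := by
  decide +kernel

end CfsgLib.Lie.MultExc.USixTwo
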