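import Cfsg.Agent.Lib.Lie.MultExc.USixTwo.OpsPart

/-!
Some products of the table are right.
-/

set_option autoImplicit false
set_option maxRecDepth 100000
set_option maxHeartbeats 0

namespace CfsgLib.Lie.MultExc.USixTwo

theorem ops8_ok : opsPart 512 = true := by decide +kernel

theorem ops9_ok : opsPart 576 = true := by decide +kernel

theorem ops10_ok : opsPart 640 = true := by decide +kernel

theorem ops11_ok : opsPart 704 = true := by decide +kernel

end CfsgLib.Lie.MultExc.USixTwo
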