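import Cfsg.Agent.Lib.Lie.MultExc.USixTwo.Layer0
import Cfsg.Agent.Lib.Lie.MultExc.USixTwo.Layer1
import Cfsg.Agent.Lib.Lie.MultExc.USixTwo.Layer2

/-!
The monomial actions of the covering group.
-/

set_option autoImplicit false
set_option maxRecDepth 100000
set_option maxHeartbeats 0

namespace CfsgLib.Lie.MultExc.USixTwo

open CfsgLib.Spor.PermCert

/-- The actions. -/
def layers : Fin 3 → Layer := ![layer0, layer1, layer2]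

/-- Pairs of words commuting in the group whose lifts differ by the unit shifts. -/
def comms : List (List ℕ × List ℕ) := [([0, 1, 0, 0, 0, 0, 0, 0, 1, 1, 0, 0, 0, 1, 0, 0, 0, 0, 0, 0, 1, 1, 0, 0], [1, 1, 1, 1, 0, 0, 0, 1, 1, 1, 1, 0, 0, 0]), ([0, 1, 1, 0, 0, 1, 1, 1, 0, 0, 1, 0, 0, 1, 1, 0, 0, 1, 1, 0, 0, 1, 1, 1, 0, 0, 1, 0, 0, 1, 1, 0], [0, 1, 1, 0, 0, 1, 0, 1, 1, 0, 0, 1, 1, 0, 0, 1, 0, 1, 1, 0, 0, 1, 1, 0, 0, 1, 0, 1, 1, 0]), ([1, 0, 1, 0, 1, 0, 0, 0, 1, 0, 1, 0, 1, 0, 0, 0], [0, 0, 0, 1, 1, 0, 0, 0, 1, 1, 1, 0, 0, 0, 1, 1, 0, 0, 0, 1, 1, 0, 0, 0, 1, 1, 1, 0, 0, 0, 1, 1])]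


end CfsgLib.Lie.MultExc.USixTwo
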