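import Cfsg.Agent.Lib.Lie.MultExc.USixTwo.OpsPart

/-!
Some products of the table are right.
-/

set_option autoImplicit false
set_option maxRecDepth 100000
set_option maxHeartbeats 0

namespace CfsgLib.Lie.MultExc.USixTwo

theorem ops0_ok : opsPart 0 = true := by decide +kernel

theorem ops1_ok : opsPart 64 = true := by decide +kernel

theorem ops2_ok : opsPart 128 = true := by decide +kernel

theorem ops3_ok : opsPart 192 = true := by decide +kernel

end CfsgLib.Lie.MultExc.USixTwo
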