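import Cfsg.Agent.Lib.Lie.MultExc.USixTwo.Table

/-!
The table of the permutation group of degree 672 checks of its products in parts.
-/

set_option autoImplicit false
set_option maxRecDepth 100000
set_option maxHeartbeats 0

namespace CfsgLib.Lie.MultExc.USixTwo

open CfsgLib.Spor.PermCert

/-- The check of some of the products. -/
def opsPart (k0 : ℕ) : Bool :=
  (List.range' k0 64).all fun k =>
    Nat.ble tab.ops.length k ||
      (let e := tab.ops.getD k (0, 0)
      decide (e.1 < 2 + k) && decide (e.2 < 2 + k) &&
        (List.range 672).all fun i => look 10 tab.R (2 + k) i == look 10 tab.R e.1 (look 10 tab.R e.2 i))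

end CfsgLib.Lie.MultExc.USixTwo
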