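import Cfsg.Agent.Lib.Lie.MultExc.USixTwo.Table
import Cfsg.Agent.Lib.Spor.SchurCert.LinPacked

/-!
The certificate at the prime 2: a polycyclic sequence of a Sylow subgroup and conjugations.
-/

set_option autoImplicit false
set_option maxRecDepth 100000
set_option maxHeartbeats 0

namespace CfsgLib.Lie.MultExc.USixTwo.P2

open CfsgLib.Spor.PermCert

open CfsgLib.Spor.SchurCert

/-- The Sylow elements. -/
def sw : List (List ℕ) := [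
    [316, 570, 558, 441, 552, 1179],
    [715, 785, 283, 442, 934, 1072],
    [522, 671, 558, 661, 935, 1180],
    [986, 459, 561, 659, 933, 836, 1181],
    [243, 1183, 1182, 658, 836, 1179],
    [1003, 571, 285, 937, 1180],
    [873, 1084, 838, 659, 937, 835, 1073],
    [98, 564, 448, 442, 780, 835],
    [361, 786, 443, 661, 553, 1181],
    [250, 451, 941, 663, 932, 836],
    [1024, 465, 374, 660, 1074, 1181],
    [755, 296, 559, 441, 835, 1179],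
    [721, 682, 665, 662, 937, 836, 1181],
    [102, 787, 561, 660, 934, 835, 1181],
    [755, 296, 838, 659, 934, 835, 1179]]

/-- The conjugating elements. -/
def gw : List (List ℕ) := [
    [876, 1081, 938, 663, 1074, 1179],
    [378, 782, 659, 1074, 1180],
    [361, 951, 562, 661, 933, 1073],
    [888, 387, 938, 658, 780, 1072],
    [401, 219, 443, 661, 780, 1179],
    [981, 671, 284, 441, 934, 836, 1181],
    [501, 853, 837, 658, 1074, 836, 1072],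
    [263, 378, 375, 661, 781, 1073],
    [317, 294, 555, 661, 933, 836, 1179],
    [354, 852, 373, 658, 836]]

/-- Part of the certificate. -/
def overlapsPart0 : List (List ℕ × List (ℕ × ℕ) × List (ℕ × ℕ)) := [
    ([0, 0, 0], [(0, 0), (106, 6), (93, 5), (70, 4), (36, 3), (25, 2), (21, 1), (16, 0), (110, 4), (55, 3), (40, 2), (14, 6), (100, 5), (58, 4), (7, 3), (115, 4), (102, 3), (118, 5), (105, 4), (14, 6), (13, 5), (89, 4), (59, 3), (118, 5), (115, 6), (90, 5), (9, 4), (118, 4), (14, 5), (92, 4), (86, 5), (75, 4), (48, 3), (117, 6), (104, 5), (119, 7), (13, 6), (118, 6), (14, 7), (89, 6), (78, 5), (8, 4), (100, 6), (88, 5), (77, 4), (104, 7), (92, 6), (11, 5), (105, 6), (12, 5), (104, 5), (13, 6)], [(0, 1)]),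
    ([1, 1, 1], [(1, 0), (94, 3), (61, 2), (44, 1), (31, 0), (89, 4), (78, 3), (68, 2), (91, 5), (80, 4), (10, 3), (92, 4), (11, 3), (91, 3), (12, 4)], [(1, 1)]),
    ([1, 1, 0], [(1, 0), (93, 3), (60, 2), (43, 1), (30, 0), (89, 5), (68, 4), (59, 3), (8, 2), (116, 3), (118, 4), (116, 5), (91, 4), (10, 3), (117, 4), (92, 3), (118, 5), (12, 4), (119, 4), (116, 5), (103, 4), (80, 3), (119, 6), (13, 5)], [(15, 1), (15, 0), (82, 7), (61, 6), (44, 5), (26, 4), (22, 3), (17, 2), (1, 1), (95, 4), (62, 3), (45, 2), (32, 1), (89, 5), (59, 4), (8, 3), (118, 4), (118, 5), (12, 4), (116, 4), (118, 5), (119, 6), (14, 7), (13, 6), (88, 5), (67, 4), (58, 3), (116, 6), (91, 5), (14, 7), (12, 6), (68, 5), (59, 4), (116, 6), (115, 7), (69, 6), (9, 5), (116, 5), (14, 6), (110, 6), (64, 5), (47, 4), (40, 3), (34, 2), (100, 5), (88, 4), (101, 6), (89, 5), (103, 7), (91, 6), (105, 8),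 (12, 7), (14, 8), (99, 7), (66, 6), (49, 5), (42, 4), (6, 3), (88, 3), (12, 4), (114, 5), (101, 4), (118, 6), (105, 5), (116, 7), (103, 6), (91, 5), (119, 8), (13, 7), (115, 7), (90, 6), (69, 5), (116, 8), (91, 7), (10, 6), (118, 7), (12, 6), (111, 6), (56, 5), (48, 4), (41, 3), (101, 8), (89, 7), (59, 6), (8, 5), (118, 6), (119, 7), (119, 8), (13, 7), (14, 7), (90, 6), (9, 5), (118, 5), (119, 6), (14, 7), (112, 7), (99, 6), (87, 5), (42, 4), (118, 8), (105, 7), (12, 6), (119, 7), (13, 6), (14, 6), (7, 5), (115, 6), (102, 5), (118, 7), (105, 6), (114, 8), (101, 7), (89, 6), (59, 5), (118, 7), (119, 8), (14, 9), (103, 8), (91, 7), (104, 9), (92, 8), (103, 10), (91, 9), (80, 8), (10, 7), (105, 9), (12, 8), (105, 8), (95, 9), (83, 8), (72, 7), (53, 6), (45, 5), (32, 4), (27, 3), (23, 2), (2, 1), (110, 5), (64, 4), (47, 3), (40, 2), (34, 1), (100, 4), (88, 3), (101,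 5), (89, 4), (103, 6), (91, 5), (105, 7), (12, 6), (14, 7), (99, 6), (66, 5), (49, 4), (42, 3), (6, 2), (88, 2), (12, 3), (114, 4), (101, 3), (118, 5), (105, 4), (116, 6), (103, 5), (91, 4), (119, 7), (13, 6), (113, 6), (88, 5), (67, 4), (50, 3), (7, 2), (114, 3), (101, 2), (118, 4), (105, 3), (14, 5), (103, 4), (91, 3), (118, 6), (105, 5), (12, 4), (14, 5), (102, 4), (69, 3), (103, 5), (10, 4), (105, 4), (13, 5), (111, 5), (86, 4), (56, 3), (48, 2), (115, 5), (102, 4), (119, 6), (13, 5), (14, 5), (14, 6), (87, 5), (57, 4), (49, 3), (90, 5), (12, 6), (118, 6), (113, 7), (88, 6), (58, 5), (50, 4), (115, 7), (90, 6), (118, 8), (12, 7), (14, 7), (114, 8), (89, 7), (59, 6), (8, 5), (118, 6), (14, 7), (12, 6), (99, 6), (57, 5), (42, 4), (6, 3), (88, 3), (12, 4), (115, 5), (102, 4), (118, 6), (105, 5), (14, 7), (13, 6), (89, 5), (59, 4), (118, 6), (115, 7), (90, 6), (9,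 5), (118, 5), (14, 6), (12, 5), (8, 4), (90, 4), (12, 5), (104, 5), (13, 6), (119, 7), (110, 8), (97, 7), (85, 6), (74, 5), (55, 4), (40, 3), (29, 2), (4, 1), (100, 7), (77, 6), (67, 5), (58, 4), (7, 3), (115, 4), (102, 3), (118, 5), (105, 4), (14, 6), (103, 5), (91, 4), (117, 7), (104, 6), (92, 5), (119, 8), (13, 7), (115, 7), (90, 6), (79, 5), (69, 4), (9, 3), (116, 3), (117, 4), (118, 5), (14, 6), (117, 7), (104, 6), (92, 5), (11, 4), (118, 6), (105, 5), (12, 4), (119, 5), (13, 4), (14, 4), (65, 3), (35, 2), (5, 1), (99, 4), (87, 3), (76, 2), (66, 1), (101, 5), (89, 4), (78, 3), (68, 2), (102, 6), (90, 5), (79, 4), (69, 3), (116, 8), (103, 7), (91, 6), (80, 5), (10, 4), (119, 7), (13, 6), (14, 6), (89, 5), (78, 4), (59, 3), (8, 2), (117, 3), (118, 4), (116, 5), (91, 4), (80, 3), (118, 6), (12, 5)]),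
    ([1, 0, 0], [(0, 1)], [(15, 0), (81, 7), (60, 6), (43, 5), (25, 4), (21, 3), (16, 2), (15, 1), (0, 0), (107, 6), (94, 5), (71, 4), (37, 3), (26, 2), (22, 1), (17, 0), (110, 5), (55, 4), (47, 3), (40, 2), (14, 7), (99, 6), (57, 5), (49, 4), (42, 3), (114, 7), (101, 6), (89, 5), (118, 8), (105, 7), (12, 6), (115, 7), (102, 6), (118, 8), (105, 7), (14, 9), (13, 8), (90, 7), (9, 6), (118, 6), (116, 7), (91, 6), (118, 8), (12, 7), (111, 7), (65, 6), (48, 5), (41, 4), (35, 3), (113, 7), (58, 6), (50, 5), (115, 8), (90, 7), (118, 9), (12, 8), (14, 8), (114, 8), (59, 7), (8, 6), (14, 7), (9, 6), (118, 6), (119, 7), (114, 8), (101, 7), (89, 6), (119, 9), (13, 8), (14, 8), (91, 7), (14, 10), (99, 9), (87, 8), (66, 7), (49, 6), (42, 5), (6, 4), (88, 4), (12, 5), (114, 6), (101, 5), (118, 7), (105, 6), (116, 8), (103, 7), (91, 6), (118, 9), (105, 8), (12, 7), (119, 8),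 (13, 7), (113, 7), (67, 6), (50, 5), (7, 4), (114, 5), (101, 4), (118, 6), (105, 5), (14, 7), (103, 6), (91, 5), (14, 8), (102, 7), (90, 6), (69, 5), (105, 8), (12, 7), (100, 7), (67, 6), (58, 5), (50, 4), (115, 7), (90, 6), (118, 8), (12, 7), (14, 7), (119, 8), (114, 9), (101, 8), (68, 7), (59, 6), (8, 5), (116, 6), (119, 7), (14, 8), (102, 7), (69, 6), (9, 5), (116, 5), (119, 6), (118, 7), (105, 6), (119, 8), (13, 7), (117, 7), (92, 6), (119, 8), (14, 9), (95, 8), (83, 7), (72, 6), (62, 5), (38, 4), (27, 3), (23, 2), (2, 1), (110, 5), (64, 4), (47, 3), (40, 2), (34, 1), (100, 4), (88, 3), (101, 5), (89, 4), (103, 6), (91, 5), (105, 7), (12, 6), (14, 7), (99, 6), (66, 5), (49, 4), (42, 3), (6, 2), (88, 2), (12, 3), (114, 4), (101, 3), (118, 5), (105, 4), (116, 6), (103, 5), (91, 4), (119, 7), (13, 6), (113, 6), (88, 5), (67, 4), (50, 3), (7, 2), (114, 3), (101,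 2), (118, 4), (105, 3), (14, 5), (103, 4), (91, 3), (118, 6), (105, 5), (12, 4), (14, 5), (102, 4), (69, 3), (103, 5), (10, 4), (105, 4), (13, 5), (111, 5), (86, 4), (56, 3), (48, 2), (115, 5), (102, 4), (119, 6), (13, 5), (14, 5), (14, 6), (87, 5), (57, 4), (49, 3), (90, 5), (12, 6), (118, 6), (113, 7), (88, 6), (58, 5), (50, 4), (115, 7), (90, 6), (118, 8), (12, 7), (14, 7), (114, 8), (89, 7), (59, 6), (8, 5), (118, 6), (14, 7), (12, 6), (100, 6), (58, 5), (7, 4), (115, 5), (102, 4), (118, 6), (105, 5), (14, 7), (13, 6), (89, 5), (59, 4), (118, 6), (115, 7), (90, 6), (9, 5), (118, 5), (14, 6), (12, 5), (116, 6), (103, 5), (118, 7), (105, 6), (119, 8), (13, 7), (14, 7), (92, 6), (105, 8), (12, 7), (119, 8), (13, 7), (110, 7), (74, 6), (64, 5), (47, 4), (34, 3), (29, 2), (4, 1), (99, 7), (76, 6), (66, 5), (57, 4), (42, 3), (6, 2), (88, 2), (12, 3), (115, 4), (102,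 3), (118, 5), (105, 4), (14, 6), (103, 5), (91, 4), (104, 6), (92, 5), (13, 7), (12, 6), (101, 6), (78, 5), (68, 4), (59, 3), (116, 5), (117, 6), (119, 7), (116, 8), (103, 7), (80, 6), (10, 5), (118, 7), (105, 6), (14, 8), (104, 7), (92, 6), (11, 5), (111, 7), (98, 6), (86, 5), (56, 4), (48, 3), (41, 2), (5, 1), (100, 4), (88, 3), (77, 2), (67, 1), (117, 3), (118, 4), (119, 5), (114, 6), (101, 5), (89, 4), (78, 3), (68, 2), (115, 7), (102, 6), (90, 5), (79, 4), (69, 3), (118, 8), (105, 7), (12, 6), (119, 7), (13, 6), (114, 6), (78, 5), (68, 4), (59, 3), (8, 2), (116, 3), (117, 4), (14, 5), (115, 6), (102, 5), (79, 4), (69, 3), (9, 2), (116, 2), (117, 3), (119, 4), (14, 5), (13, 4), (118, 4), (14, 5), (114, 6), (101, 5), (89, 4), (78, 3), (68, 2), (116, 7), (103, 6), (91, 5), (80, 4), (10, 3), (118, 6), (105, 5), (12, 4), (108, 5), (95, 4), (72, 3), (45, 2), (38,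 1), (114, 7), (101, 6), (89, 5), (59, 4), (8, 3), (118, 4), (119, 5), (14, 6), (105, 5), (12, 4), (104, 4), (13, 5), (113, 6), (100, 5), (77, 4), (58, 3), (7, 2), (115, 3), (102, 2), (118, 4), (105, 3), (14, 5), (104, 4), (92, 3), (13, 5), (115, 5), (90, 4), (79, 3), (9, 2), (117, 2), (118, 3), (14, 4), (110, 4), (85, 3), (74, 2), (113, 5), (88, 4), (77, 3), (114, 6), (89, 5), (78, 4), (115, 7), (90, 6), (79, 5), (117, 8), (92, 7), (11, 6), (111, 7), (86, 6), (56, 5), (48, 4), (41, 3), (101, 8), (89, 7), (59, 6), (8, 5), (118, 6), (119, 7), (119, 8), (13, 7), (14, 7), (90, 6), (9, 5), (118, 5), (119, 6), (14, 7), (105, 6), (12, 5), (14, 6), (101, 5), (13, 6), (8, 5), (103, 8), (91, 7), (80, 6), (10, 5), (105, 7), (12, 6)]),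
    ([2, 2, 2], [(2, 0), (108, 4), (62, 3), (45, 2), (38, 1), (32, 0), (88, 4), (58, 3), (50, 2), (115, 5), (90, 4), (118, 6), (12, 5), (14, 5), (89, 5), (59, 4), (8, 3), (118, 4), (115, 5), (90, 4), (9, 3), (118, 3), (14, 4), (12, 3), (114, 4), (101, 3), (118, 5), (105, 4), (116, 6), (103, 5), (91, 4), (118, 7), (105, 6), (12, 5), (119, 6), (13, 5), (14, 5)], [(2, 1)]),
    ([2, 2, 0], [(2, 0), (106, 4), (60, 3), (43, 2), (36, 1), (30, 0), (88, 5), (67, 4), (58, 3), (50, 2), (115, 5), (90, 4), (118, 6), (12, 5), (14, 5), (118, 6), (117, 7), (92, 6), (118, 8), (12, 7), (114, 7), (78, 6), (68, 5), (59, 4), (8, 3), (116, 4), (117, 5), (14, 6), (80, 5), (10, 4), (11, 4), (103, 5), (91, 4)], [(16, 1), (16, 0), (108, 4), (53, 3), (38, 2), (2, 1), (113, 5), (67, 4), (50, 3), (7, 2), (114, 3), (101, 2), (118, 4), (105, 3), (14, 5), (103, 4), (91, 3), (14, 6), (101, 5),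 (89, 4), (68, 3), (8, 2), (102, 4), (90, 3), (69, 2), (105, 5), (12, 4), (13, 4), (115, 4), (69, 3), (9, 2), (116, 2), (14, 3), (113, 5), (100, 4), (88, 3), (67, 2), (118, 4), (119, 5), (14, 6), (102, 5), (90, 4), (69, 3)]),
    ([2, 0, 0], [(0, 1), (2, 0), (110, 4), (64, 3), (47, 2), (40, 1), (34, 0), (100, 3), (88, 2), (101, 4), (89, 3), (103, 5), (91, 4), (105, 6), (12, 5), (14, 6), (98, 5), (65, 4), (48, 3), (41, 2), (35, 1), (113, 5), (58, 4), (50, 3), (115, 6), (90, 5), (118, 7), (12, 6), (14, 6), (114, 6), (59, 5), (8, 4), (14, 5), (9, 4), (118, 4), (119, 5), (114, 6), (101, 5), (89, 4), (119, 7), (13, 6), (14, 6), (91, 5), (119, 8), (13, 7), (113, 7), (88, 6), (67, 5), (50, 4), (7, 3), (114, 4), (101, 3), (118, 5), (105, 4), (14, 6), (103, 5), (91, 4), (118, 7), (105, 6), (12, 5), (14, 6), (104, 5), (13, 6)], [(16, 0), (106, 4), (51, 3), (36, 2), (16, 1),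 (0, 0), (108, 6), (95, 5), (72, 4), (38, 3), (27, 2), (23, 1), (2, 0), (110, 4), (64, 3), (47, 2), (40, 1), (34, 0), (100, 3), (88, 2), (101, 4), (89, 3), (103, 5), (91, 4), (105, 6), (12, 5), (14, 6), (99, 5), (66, 4), (49, 3), (42, 2), (6, 1), (88, 1), (12, 2), (114, 3), (101, 2), (118, 4), (105, 3), (116, 5), (103, 4), (91, 3), (119, 6), (13, 5), (113, 5), (88, 4), (67, 3), (50, 2), (7, 1), (114, 2), (101, 1), (118, 3), (105, 2), (14, 4), (103, 3), (91, 2), (118, 5), (105, 4), (12, 3), (14, 4), (102, 3), (69, 2), (103, 4), (10, 3), (105, 3), (13, 4), (111, 4), (86, 3), (56, 2), (48, 1), (115, 4), (102, 3), (119, 5), (13, 4), (14, 4), (14, 5), (87, 4), (57, 3), (49, 2), (90, 4), (12, 5), (118, 5), (113, 6), (88, 5), (58, 4), (50, 3), (115, 6), (90, 5), (118, 7), (12, 6), (14, 6), (114, 7), (89, 6), (59, 5), (8, 4), (118, 5), (14, 6), (12, 5), (100, 5), (58, 4),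 (7, 3), (115, 4), (102, 3), (118, 5), (105, 4), (14, 6), (13, 5), (89, 4), (59, 3), (118, 5), (115, 6), (90, 5), (9, 4), (118, 4), (14, 5), (12, 4), (117, 5), (104, 4), (119, 6), (13, 5), (119, 5), (14, 6), (100, 5), (77, 4), (50, 3), (117, 6), (92, 5), (119, 7), (115, 8), (102, 7), (90, 6), (79, 5), (14, 9), (100, 8), (88, 7), (77, 6), (58, 5), (50, 4), (7, 3), (114, 4), (101, 3), (118, 5), (105, 4), (14, 6), (102, 5), (90, 4), (105, 6), (12, 5), (117, 6), (104, 5), (118, 7), (105, 6), (119, 8), (13, 7), (117, 7), (92, 6), (11, 5), (118, 6), (12, 5), (115, 5), (9, 4), (14, 4)]),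
    ([2, 2, 1], [(2, 0), (107, 4), (61, 3), (44, 2), (37, 1), (31, 0), (88, 4), (77, 3), (67, 2), (117, 4), (118, 5), (114, 6), (89, 5), (78, 4), (68, 3), (115, 7), (90, 6), (79, 5), (69, 4), (118, 8), (12, 7), (119, 7), (114, 8), (101, 7), (78, 6), (68, 5), (59, 4), (8, 3), (116, 4), (117, 5), (119, 6), (14, 7), (103, 6), (80, 5), (10, 4), (104, 5), (11, 4), (103, 4), (105, 5)], [(17, 1), (17, 0), (108, 5), (53, 4), (45, 3), (38, 2), (2, 1), (113, 5), (67, 4), (50, 3), (7, 2), (114, 3), (101, 2), (118, 4), (105, 3), (14, 5), (103, 4), (91, 3), (14, 6), (101, 5), (89, 4), (68, 3), (8, 2), (102, 4), (90, 3), (69, 2), (105, 5), (12, 4), (13, 4), (114, 4), (68, 3), (59, 2), (116, 4), (14, 5), (90, 5), (69, 4), (9, 3), (116, 3), (118, 4), (118, 5), (12, 4), (119, 4), (14, 5), (100, 4), (67, 3), (50, 2), (116, 5), (91, 4), (14, 6), (101, 6), (89, 5), (68, 4), (8, 3),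 (102, 5), (90, 4), (69, 3)])]

/-- Part of the certificate. -/
def overlapsPart1 : List (List ℕ × List (ℕ × ℕ) × List (ℕ × ℕ)) := [
    ([2, 1, 1], [(1, 1)], [(17, 0), (107, 5), (52, 4), (44, 3), (37, 2), (17, 1), (1, 0), (95, 3), (62, 2), (45, 1), (32, 0), (89, 4), (59, 3), (8, 2), (118, 3), (118, 4), (12, 3), (116, 3), (118, 4), (119, 5), (14, 6), (13, 5), (88, 4), (67, 3), (58, 2), (116, 5), (91, 4), (14, 6), (12, 5), (68, 4), (59, 3), (116, 5), (115, 6), (69, 5), (9, 4), (116, 4), (14, 5), (113, 5), (67, 4), (50, 3), (7, 2), (114, 3), (101, 2), (118, 4), (105, 3), (14, 5), (103, 4), (91, 3), (14, 6), (101, 5), (89, 4), (68, 3), (8, 2), (102, 4), (90, 3), (69, 2), (105, 5), (12, 4), (13, 4), (68, 3), (59, 2), (116, 4), (116, 5), (10, 4), (117, 4), (115, 5), (79, 4), (9, 3), (117, 3), (14, 4), (80, 3), (11, 4), (14, 5)]),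
    ([2, 1, 0], [(17, 0), (106, 5), (51, 4), (43, 3), (36, 2), (16, 1), (15, 0), (83, 7), (62, 6), (45, 5), (27, 4), (23, 3), (2, 2), (110, 6), (64, 5), (47, 4), (40, 3), (34, 2), (100, 5), (88, 4), (101, 6), (89, 5), (103, 7), (91, 6), (105, 8), (12, 7), (14, 8), (99, 7), (66, 6), (49, 5), (42, 4), (6, 3), (88, 3), (12, 4), (114, 5), (101, 4), (118, 6), (105, 5), (116, 7), (103, 6), (91, 5), (119, 8), (13, 7), (113, 7), (88, 6), (67, 5), (50, 4), (7, 3), (114, 4), (101, 3), (118, 5), (105, 4), (14, 6), (103, 5), (91, 4), (118, 7), (105, 6), (12, 5), (14, 6), (102, 5), (69, 4), (103, 6), (10, 5), (105, 5), (13, 6), (111, 6), (86, 5), (56, 4), (48, 3), (115, 6), (102, 5), (119, 7), (13, 6), (14, 6), (14, 7), (87, 6), (57, 5), (49, 4), (90, 6), (12, 7), (118, 7), (113, 8), (88, 7), (58, 6), (50, 5), (115, 8), (90, 7), (118, 9), (12, 8), (14, 8), (114, 9), (89, 8),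 (59, 7), (8, 6), (118, 7), (14, 8), (12, 7), (101, 7), (59, 6), (119, 8), (118, 9), (105, 8), (116, 10), (103, 9), (91, 8), (118, 11), (105, 10), (12, 9), (119, 10), (13, 9), (14, 9), (113, 10), (88, 9), (67, 8), (58, 7), (50, 6), (7, 5), (114, 6), (101, 5), (118, 7), (105, 6), (14, 8), (102, 7), (90, 6), (105, 8), (12, 7), (116, 8), (103, 7), (14, 9), (105, 8), (115, 10), (102, 9), (90, 8), (69, 7), (9, 6), (116, 6), (118, 7), (119, 8), (14, 9), (113, 9), (100, 8), (88, 7), (67, 6), (50, 5), (116, 8), (91, 7), (14, 9), (12, 8), (117, 9), (104, 8), (118, 10), (105, 9), (114, 11), (101, 10), (89, 9), (78, 8), (68, 7), (8, 6), (116, 10), (103, 9), (91, 8), (80, 7), (10, 6), (117, 9), (104, 8), (92, 7), (11, 6), (118, 8), (105, 7), (12, 6), (119, 7), (13, 6), (115, 6), (116, 7), (117, 8), (14, 9)], [(15, 1), (16, 0), (107, 4), (52, 3), (37, 2), (17, 1), (113, 6), (58,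 5), (50, 4), (7, 3), (114, 4), (101, 3), (118, 5), (105, 4), (14, 6), (102, 5), (90, 4), (105, 6), (12, 5), (14, 6), (101, 5), (59, 4), (8, 3), (119, 4), (115, 5), (102, 4), (9, 3), (119, 3), (14, 4), (105, 3), (13, 4), (90, 3), (91, 4), (92, 5), (14, 8), (95, 7), (83, 6), (72, 5), (62, 4), (53, 3), (2, 2), (115, 6), (69, 5), (118, 7), (119, 8), (116, 9), (103, 8), (91, 7), (10, 6), (118, 8), (105, 7), (12, 6), (119, 7), (13, 6), (14, 6), (105, 7), (119, 9), (13, 8), (110, 8), (85, 7), (74, 6), (55, 5), (47, 4), (40, 3), (34, 2), (100, 5), (88, 4), (101, 6), (89, 5), (102, 7), (90, 6), (13, 8), (117, 8), (92, 7), (118, 9), (12, 8), (14, 8), (75, 7), (56, 6), (48, 5), (41, 4), (35, 3), (113, 7), (58, 6), (50, 5), (115, 8), (90, 7), (118, 9), (12, 8), (14, 8), (114, 8), (59, 7), (8, 6), (14, 7), (9, 6), (118, 6), (119, 7), (114, 8), (101, 7), (89, 6), (119, 9), (13,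 8), (14, 8), (90, 7), (117, 10), (104, 9), (92, 8), (119, 11), (13, 10), (114, 10), (89, 9), (78, 8), (59, 7), (8, 6), (117, 7), (118, 8), (14, 9), (91, 8), (80, 7), (12, 9)]),
    ([3, 3, 3], [(3, 0), (109, 4), (96, 3), (84, 2), (73, 1), (63, 0), (92, 2), (12, 3), (118, 3), (119, 4), (14, 5)], [(3, 1)]),
    ([3, 3, 0], [(3, 0), (106, 4), (93, 3), (81, 2), (70, 1), (60, 0), (105, 3), (119, 5), (13, 4), (14, 4)], [(18, 1), (18, 0), (109, 9), (84, 8), (73, 7), (63, 6), (54, 5), (46, 4), (39, 3), (33, 2), (3, 1), (112, 5), (99, 4), (87, 3), (76, 2), (66, 1), (116, 6), (103, 5), (91, 4), (80, 3), (10, 2), (117, 5), (104, 4), (92, 3), (11, 2), (119, 4), (13, 3), (14, 3), (88, 2), (91, 3), (92, 4), (114, 6), (89, 5), (78, 4), (68, 3), (118, 7), (12, 6), (115, 6), (79, 5), (69, 4), (118, 7), (14, 8), (91, 7), (80, 6), (10, 5), (12, 6), (11, 5), (118, 6), (12, 5), (14,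 5), (57, 4), (49, 3), (42, 2), (6, 1), (88, 1), (12, 2), (114, 3), (101, 2), (118, 4), (105, 3), (115, 5), (102, 4), (90, 3), (118, 6), (105, 5), (12, 4), (14, 5), (100, 4), (58, 3), (50, 2), (7, 1), (114, 2), (101, 1), (118, 3), (105, 2), (14, 4), (102, 3), (90, 2), (105, 4), (12, 3), (119, 4), (13, 3), (114, 3), (59, 2), (8, 1), (14, 2), (9, 1), (116, 1), (117, 2), (118, 3), (14, 4)]),
    ([3, 0, 0], [(0, 1), (20, 0), (110, 7), (97, 6), (85, 5), (74, 4), (64, 3), (55, 2), (116, 5), (103, 4), (118, 6), (105, 5), (14, 7), (104, 6), (92, 5), (105, 7), (12, 6), (13, 6), (111, 6), (75, 5), (65, 4), (56, 3), (116, 6), (103, 5), (119, 7), (13, 6), (14, 6), (113, 8), (100, 7), (77, 6), (67, 5), (58, 4), (116, 7), (91, 6), (14, 8), (92, 7), (117, 10), (104, 9), (92, 8), (11, 7), (119, 9), (13, 8), (14, 8)], [(18, 0), (106, 9), (81, 8), (70, 7), (60, 6), (51, 5), (43,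 4), (36, 3), (30, 2), (18, 1), (0, 0), (109, 6), (96, 5), (73, 4), (39, 3), (28, 2), (24, 1), (111, 6), (98, 5), (86, 4), (48, 3), (118, 6), (105, 5), (14, 7), (13, 6), (116, 6), (91, 5), (117, 7), (92, 6), (118, 8), (12, 7), (119, 7), (14, 8), (100, 7), (77, 6), (67, 5), (50, 4), (116, 7), (91, 6), (14, 8), (92, 7), (103, 9), (91, 8), (80, 7), (10, 6), (104, 8), (92, 7), (11, 6), (117, 8), (104, 7), (92, 6), (118, 9), (105, 8), (12, 7), (14, 8), (13, 7), (14, 7), (76, 6), (49, 5), (42, 4), (114, 8), (101, 7), (89, 6), (118, 9), (105, 8), (12, 7), (117, 8), (104, 7), (113, 9), (100, 8), (77, 7), (50, 6), (7, 5), (114, 6), (101, 5), (118, 7), (105, 6), (14, 8), (104, 7), (92, 6), (13, 8), (114, 8), (89, 7), (78, 6), (8, 5), (115, 7), (90, 6), (79, 5), (116, 8), (91, 7), (80, 6), (117, 9), (92, 8), (11, 7), (118, 8), (12, 7), (14, 7), (66, 6), (57, 5), (6, 4), (90,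 4), (12, 5), (116, 5), (114, 6), (68, 5), (59, 4), (116, 6), (14, 7), (69, 6), (9, 5), (116, 5), (116, 6), (10, 5), (118, 5), (113, 6), (88, 5), (50, 4), (118, 7), (12, 6), (14, 6), (89, 7), (78, 6), (8, 5), (91, 6), (80, 5), (92, 7), (11, 6), (12, 6), (102, 6), (69, 5), (103, 7), (10, 6), (104, 6), (103, 7), (80, 6), (104, 8), (11, 7), (13, 7), (14, 8)]),
    ([3, 3, 1], [(3, 0), (107, 4), (94, 3), (82, 2), (71, 1), (61, 0), (92, 2), (12, 3)], [(19, 1), (19, 0), (54, 2), (3, 1), (115, 5), (102, 4), (90, 3), (79, 2), (69, 1), (118, 6), (105, 5), (12, 4), (14, 5), (102, 4), (79, 3), (69, 2), (9, 1), (116, 1), (117, 2), (119, 3)]),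
    ([3, 1, 1], [(1, 1)], [(19, 0), (52, 2), (19, 1), (1, 0), (96, 3), (63, 2), (46, 1), (33, 0), (114, 5), (101, 4), (78, 3), (68, 2), (118, 6), (105, 5), (116, 7), (103, 6), (91, 5), (80, 4), (10, 3), (118, 6), (105, 5), (12, 4), (119, 5), (13, 4), (14, 4), (79, 3), (79, 4), (9, 3), (117, 3), (116, 4), (80, 3), (117, 5), (11, 4), (119, 4), (14, 5)]),
    ([3, 1, 0], [(19, 0), (51, 2), (18, 1), (15, 0), (84, 7), (63, 6), (46, 5), (28, 4), (24, 3), (111, 8), (98, 7), (86, 6), (48, 5), (118, 8), (105, 7), (14, 9), (13, 8), (116, 8), (91, 7), (117, 9), (92, 8), (118, 10), (12, 9), (119, 9), (14, 10), (101, 9), (78, 8), (68, 7), (8, 6), (105, 8), (103, 9), (91, 8), (80, 7), (10, 6), (105, 8), (12, 7), (105, 7), (99, 8), (87, 7), (76, 6), (100, 9), (88, 8), (77, 7), (101, 10), (89, 9), (78, 8), (102, 11), (90, 10), (79, 9), (103, 12), (91, 11), (80, 10), (104, 13),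 (92, 12), (11, 11), (105, 12), (12, 11), (115, 12), (102, 11), (69, 10), (9, 9), (116, 9), (119, 10), (14, 11), (103, 10), (10, 9), (104, 9)], [(15, 1), (18, 0), (107, 9), (82, 8), (71, 7), (61, 6), (52, 5), (44, 4), (37, 3), (31, 2), (19, 1), (57, 3), (116, 6), (91, 5), (117, 7), (92, 6), (118, 8), (12, 7), (113, 7), (77, 6), (67, 5), (58, 4), (116, 7), (91, 6), (14, 8), (92, 7), (114, 9), (89, 8), (78, 7), (68, 6), (59, 5), (116, 7), (117, 8), (118, 9), (14, 10), (90, 9), (79, 8), (69, 7), (9, 6), (116, 6), (117, 7), (118, 8), (118, 9), (12, 8), (119, 8), (114, 9), (101, 8), (78, 7), (68, 6), (8, 5), (116, 8), (103, 7), (80, 6), (10, 5), (117, 7), (104, 6), (11, 5), (115, 6), (102, 5), (116, 7), (103, 6), (117, 8), (104, 7), (119, 9), (13, 8), (14, 8), (80, 7), (10, 6), (92, 7), (11, 6), (12, 6), (108, 6), (53, 5), (38, 4), (32, 3), (20, 2), (112, 9), (99, 8),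 (87, 7), (76, 6), (66, 5), (57, 4), (116, 7), (91, 6), (117, 8), (92, 7), (118, 9), (12, 8), (119, 8), (14, 9), (101, 8), (78, 7), (68, 6), (59, 5), (116, 7), (117, 8), (119, 9), (115, 10), (102, 9), (79, 8), (69, 7), (9, 6), (116, 6), (117, 7), (119, 8), (14, 9), (105, 8), (100, 9), (88, 8), (77, 7), (67, 6), (50, 5), (116, 8), (91, 7), (14, 9), (92, 8), (12, 9), (101, 9), (78, 8), (68, 7), (8, 6), (102, 8), (79, 7), (69, 6), (105, 9), (13, 10), (115, 10), (90, 9), (79, 8), (69, 7), (9, 6), (116, 6), (117, 7), (118, 8), (14, 9), (12, 8), (110, 9), (97, 8), (74, 7), (64, 6), (40, 5), (34, 4), (100, 7), (88, 6), (103, 8), (91, 7), (105, 9), (12, 8), (117, 9), (104, 8), (119, 10), (13, 9), (14, 9), (75, 8), (65, 7), (41, 6), (35, 5), (113, 9), (58, 8), (50, 7), (115, 10), (90, 9), (118, 11), (12, 10), (14, 10), (114, 10), (59, 9), (8, 8), (14, 9), (9, 8), (118, 8),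 (119, 9), (116, 10), (103, 9), (91, 8), (119, 11), (13, 10), (14, 10), (92, 9), (101, 11), (89, 10), (78, 9), (68, 8), (103, 12), (91, 11), (80, 10), (10, 9), (105, 11), (12, 10)])]

/-- Part of the certificate. -/
def overlapsPart2 : List (List ℕ × List (ℕ × ℕ) × List (ℕ × ℕ)) := [
    ([3, 3, 2], [(3, 0), (108, 4), (95, 3), (83, 2), (72, 1), (62, 0), (117, 4), (104, 3), (92, 2), (119, 5), (13, 4), (118, 4), (12, 3), (14, 3)], [(20, 1), (20, 0), (109, 7), (96, 6), (84, 5), (73, 4), (63, 3), (54, 2), (3, 1), (115, 5), (102, 4), (90, 3), (79, 2), (69, 1), (118, 6), (105, 5), (12, 4), (14, 5), (103, 4), (80, 3), (10, 2), (105, 3), (104, 4), (92, 3), (11, 2), (105, 3), (12, 2), (118, 3), (105, 2), (119, 4), (13, 3), (14, 3), (115, 3), (90, 2), (9, 1), (118, 1), (14, 2), (91, 1), (92, 2), (12, 3)]),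
    ([3, 2, 2], [(2, 1)], [(20, 0), (108, 7), (95, 6), (83, 5), (72, 4), (62, 3), (53, 2), (20, 1), (2, 0), (109, 4), (63, 3), (46, 2), (39, 1), (33, 0), (113, 5), (100, 4), (77, 3), (67, 2), (117, 4), (119, 5), (14, 6), (103, 5), (80, 4), (10, 3), (104, 4), (11, 3), (114, 4), (101, 3), (118, 5), (105, 4), (116, 6), (103, 5), (91, 4), (118, 7), (105, 6), (12, 5), (14, 6), (102, 5), (69, 4), (103, 6), (10, 5), (104, 5), (105, 6), (13, 7), (115, 7), (90, 6), (79, 5), (9, 4), (117, 4), (118, 5), (14, 6), (12, 5), (103, 5), (80, 4), (105, 6), (13, 7), (117, 7), (92, 6), (11, 5), (119, 6), (118, 7), (105, 6), (12, 5), (14, 6), (13, 5)]),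
    ([3, 2, 0], [(20, 0), (106, 7), (93, 6), (81, 5), (70, 4), (60, 3), (51, 2), (18, 1), (16, 0), (109, 4), (54, 3), (39, 2), (115, 6), (79, 5), (69, 4), (118, 7), (14, 8), (112, 8), (87, 7), (76, 6), (66, 5), (57, 4), (42, 3), (115, 7), (102, 6), (90, 5), (118, 8), (105, 7), (12, 6), (14, 7), (103, 6), (104, 7), (105, 8), (113, 10), (100, 9), (88, 8), (77, 7), (67, 6), (58, 5), (7, 4), (115, 5), (102, 4), (118, 6), (105, 5), (14, 7), (103, 6), (91, 5), (117, 8), (104, 7), (92, 6), (118, 9), (105, 8), (12, 7), (119, 8), (13, 7), (14, 7), (78, 6), (68, 5), (59, 4), (116, 6), (117, 7), (115, 8), (79, 7), (69, 6), (9, 5), (116, 5), (117, 6), (14, 7), (80, 6), (10, 5), (11, 5), (115, 6), (90, 5), (116, 7), (91, 6), (117, 8), (92, 7), (116, 9), (91, 8), (80, 7), (10, 6), (117, 8), (92, 7), (11, 6), (119, 7), (118, 8), (105, 7), (12, 6), (14, 7), (13, 6)], [(16, 1),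 (18, 0), (108, 9), (83, 8), (72, 7), (62, 6), (53, 5), (45, 4), (38, 3), (32, 2), (20, 1), (112, 8), (99, 7), (87, 6), (76, 5), (66, 4), (57, 3), (116, 6), (91, 5), (117, 7), (92, 6), (118, 8), (12, 7), (119, 7), (14, 8), (101, 7), (78, 6), (68, 5), (59, 4), (116, 6), (117, 7), (119, 8), (115, 9), (102, 8), (79, 7), (69, 6), (9, 5), (116, 5), (117, 6), (119, 7), (14, 8), (105, 7), (100, 8), (88, 7), (77, 6), (67, 5), (50, 4), (116, 7), (91, 6), (14, 8), (92, 7), (12, 8), (101, 8), (78, 7), (68, 6), (8, 5), (102, 7), (79, 6), (69, 5), (105, 8), (13, 9), (114, 9), (89, 8), (78, 7), (68, 6), (59, 5), (116, 7), (117, 8), (118, 9), (14, 10), (12, 9), (79, 8), (69, 7), (9, 6), (116, 6), (117, 7), (118, 8), (119, 9), (116, 10), (103, 9), (91, 8), (80, 7), (10, 6), (118, 9), (105, 8), (12, 7), (119, 8), (13, 7), (14, 7), (11, 6), (105, 6), (14, 8), (100, 7), (88, 6), (50,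 5), (7, 4), (114, 5), (101, 4), (118, 6), (105, 5), (14, 7), (105, 6), (12, 5), (13, 5)]),
    ([3, 2, 1], [(20, 0), (107, 7), (94, 6), (82, 5), (71, 4), (61, 3), (52, 2), (19, 1), (17, 0), (109, 5), (54, 4), (46, 3), (39, 2), (114, 6), (78, 5), (68, 4), (118, 7), (115, 8), (90, 7), (79, 6), (69, 5), (118, 9), (12, 8), (14, 8), (115, 8), (79, 7), (69, 6), (9, 5), (116, 5), (117, 6), (14, 7), (79, 6), (69, 5), (80, 7), (10, 6), (11, 6), (116, 7), (103, 6), (118, 8), (105, 7), (117, 9), (104, 8), (92, 7), (118, 10), (105, 9), (12, 8), (119, 9), (13, 8), (14, 8)], [(17, 1), (19, 0), (53, 2), (20, 1), (115, 8), (102, 7), (90, 6), (79, 5), (69, 4), (9, 3), (116, 3), (117, 4), (118, 5), (119, 6), (14, 7), (105, 6), (12, 5), (13, 5), (77, 4), (67, 3), (117, 5), (114, 6), (78, 5), (68, 4), (115, 7), (79, 6), (69, 5), (14, 8)]),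
    ([4, 4, 0], [(4, 0)], [(21, 1), (21, 0), (74, 5), (55, 4), (47, 3), (40, 2), (4, 1), (117, 5), (104, 4), (113, 6), (100, 5), (77, 4), (58, 3), (50, 2), (7, 1), (114, 2), (101, 1), (118, 3), (105, 2), (14, 4), (102, 3), (90, 2), (105, 4), (12, 3), (117, 4), (104, 3), (119, 5), (13, 4), (14, 4), (78, 3), (59, 2), (8, 1), (117, 2), (115, 3), (79, 2), (9, 1), (117, 1), (14, 2), (11, 1)]),
    ([4, 0, 0], [(0, 1), (23, 0), (110, 8), (97, 7), (85, 6), (64, 5), (55, 4), (40, 3), (34, 2), (4, 1), (100, 3), (88, 2), (102, 4), (90, 3), (13, 5), (116, 5), (91, 4), (118, 6), (12, 5), (14, 5), (111, 7), (98, 6), (86, 5), (65, 4), (56, 3), (41, 2), (35, 1), (113, 5), (58, 4), (50, 3), (115, 6), (90, 5), (118, 7), (12, 6), (14, 6), (114, 6), (59, 5), (8, 4), (14, 5), (9, 4), (118, 4), (119, 5), (115, 6), (102, 5), (90, 4), (119, 7), (13, 6), (14, 6), (91, 5), (118, 8), (105,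 7), (12, 6), (14, 7), (13, 6), (113, 6), (67, 5), (58, 4), (7, 3), (115, 4), (102, 3), (118, 5), (105, 4), (14, 6), (103, 5), (91, 4), (14, 7), (104, 6), (92, 5), (13, 7)], [(21, 0), (70, 5), (51, 4), (43, 3), (36, 2), (21, 1), (0, 0), (110, 6), (97, 5), (74, 4), (40, 3), (29, 2), (4, 1), (100, 7), (77, 6), (67, 5), (58, 4), (7, 3), (115, 4), (102, 3), (118, 5), (105, 4), (14, 6), (103, 5), (91, 4), (117, 7), (104, 6), (92, 5), (119, 8), (13, 7), (117, 7), (92, 6), (11, 5), (119, 6), (14, 7), (100, 6), (88, 5), (67, 4), (58, 3), (116, 6), (91, 5), (14, 7), (12, 6), (101, 6), (68, 5), (59, 4), (116, 6), (119, 7), (115, 8), (102, 7), (69, 6), (9, 5), (116, 5), (119, 6), (14, 7), (104, 6), (100, 7), (77, 6), (67, 5), (50, 4), (7, 3), (114, 4), (101, 3), (118, 5), (105, 4), (14, 6), (103, 5), (91, 4), (117, 7), (104, 6), (92, 5), (119, 8), (13, 7), (117, 7), (92, 6),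 (11, 5), (118, 6), (12, 5), (114, 5), (68, 4), (8, 3), (116, 4), (10, 3), (117, 3), (118, 4), (119, 5), (115, 6), (102, 5), (90, 4), (79, 3), (116, 7), (103, 6), (91, 5), (80, 4), (117, 8), (104, 7), (92, 6), (11, 5), (117, 7), (104, 6), (92, 5), (119, 8), (13, 7)]),
    ([4, 4, 1], [(4, 0)], [(22, 1), (22, 0), (85, 5), (64, 4), (55, 3), (34, 2), (4, 1), (102, 3), (90, 2), (13, 4), (116, 4), (91, 3), (118, 5), (12, 4), (14, 4), (87, 4), (66, 3), (57, 2), (6, 1), (90, 1), (12, 2), (116, 2), (118, 3), (115, 4), (90, 3), (69, 2), (9, 1), (116, 1), (118, 2), (14, 3), (91, 2), (10, 1), (12, 1)]),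
    ([4, 1, 1], [(1, 1)], [(22, 0), (82, 5), (61, 4), (52, 3), (31, 2), (22, 1), (1, 0), (97, 3), (64, 2), (47, 1), (34, 0), (101, 3), (89, 2), (103, 4), (91, 3), (105, 5), (12, 4), (119, 5), (13, 4), (112, 4), (66, 3), (49, 2), (6, 1), (89, 1), (12, 2), (115, 3), (69, 2), (116, 4), (10, 3), (118, 3), (112, 4), (87, 3), (57, 2), (49, 1), (90, 3), (12, 4), (118, 4), (14, 5), (91, 4), (92, 5), (12, 6), (79, 5), (69, 4), (9, 3), (116, 3), (117, 4), (116, 5), (80, 4), (10, 3), (117, 4), (11, 3), (119, 3), (14, 4), (103, 3), (105, 4), (105, 5), (12, 4)])]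

/-- Part of the certificate. -/
def overlapsPart3 : List (List ℕ × List (ℕ × ℕ) × List (ℕ × ℕ)) := [
    ([4, 1, 0], [(22, 0), (81, 5), (60, 4), (51, 3), (30, 2), (21, 1), (15, 0), (85, 7), (64, 6), (47, 5), (29, 4), (4, 3), (101, 9), (78, 8), (68, 7), (59, 6), (116, 8), (117, 9), (119, 10), (116, 11), (103, 10), (80, 9), (10, 8), (118, 10), (105, 9), (14, 11), (105, 10), (12, 9), (100, 9), (77, 8), (58, 7), (50, 6), (7, 5), (114, 6), (101, 5), (118, 7), (105, 6), (14, 8), (102, 7), (90, 6), (105, 8), (12, 7), (117, 8), (104, 7), (119, 9), (13, 8), (114, 8), (78, 7), (59, 6), (8, 5), (117, 6), (14, 7), (79, 6), (9, 5), (117, 5), (117, 6), (11, 5), (112, 5), (6, 4), (114, 5), (89, 4), (115, 6), (90, 5), (116, 7), (91, 6), (118, 8), (12, 7), (115, 7), (69, 6), (9, 5), (116, 5), (14, 6), (10, 5), (80, 5)], [(15, 1), (21, 0), (71, 5), (52, 4), (44, 3), (37, 2), (22,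 1), (88, 6), (67, 5), (58, 4), (116, 7), (91, 6), (14, 8), (12, 7), (68, 6), (59, 5), (116, 7), (115, 8), (69, 7), (9, 6), (116, 6), (14, 7), (101, 8), (89, 7), (68, 6), (8, 5), (103, 7), (91, 6), (10, 5), (104, 6), (92, 5), (102, 7), (90, 6), (79, 5), (103, 8), (91, 7), (80, 6), (104, 9), (92, 8), (11, 7), (13, 8), (117, 8), (92, 7), (108, 9), (83, 8), (72, 7), (62, 6), (53, 5), (38, 4), (32, 3), (23, 2), (112, 10), (99, 9), (87, 8), (66, 7), (57, 6), (42, 5), (6, 4), (88, 4), (12, 5), (115, 6), (102, 5), (118, 7), (105, 6), (14, 8), (103, 7), (91, 6), (105, 8), (12, 7), (13, 7), (114, 7), (68, 6), (59, 5), (116, 7), (14, 8), (69, 7), (9, 6), (116, 6), (118, 7), (113, 8), (88, 7), (67, 6), (50, 5), (7, 4), (114, 5), (101, 4), (118, 6), (105, 5), (14, 7), (103, 6), (91, 5), (118, 8), (105, 7), (12, 6), (14, 7), (101, 6), (68, 5), (8, 4), (102, 5), (69, 4), (105,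 6), (13, 7), (115, 7), (90, 6), (69, 5), (9, 4), (116, 4), (118, 5), (14, 6), (12, 5), (103, 5), (10, 4), (105, 4), (13, 5), (117, 5), (92, 4), (119, 6), (118, 7), (105, 6), (12, 5), (14, 6), (110, 6), (97, 5), (74, 4), (4, 3), (111, 5), (98, 4), (75, 3), (13, 5), (114, 5), (78, 4), (116, 6), (80, 5), (118, 7)]),
    ([4, 4, 2], [(4, 0)], [(23, 1), (23, 0), (110, 8), (97, 7), (85, 6), (64, 5), (55, 4), (40, 3), (34, 2), (4, 1), (100, 3), (88, 2), (102, 4), (90, 3), (13, 5), (116, 5), (91, 4), (118, 6), (12, 5), (14, 5), (112, 7), (99, 6), (87, 5), (66, 4), (57, 3), (42, 2), (6, 1), (88, 1), (12, 2), (115, 3), (102, 2), (118, 4), (105, 3), (14, 5), (103, 4), (91, 3), (105, 5), (12, 4), (13, 4), (113, 4), (67, 3), (58, 2), (7, 1), (115, 2), (102, 1), (118, 3), (105, 2), (14, 4), (103, 3), (91, 2), (14, 5), (102, 4), (90, 3), (69, 2), (9, 1), (116, 1), (118, 2), (119,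 3), (116, 4), (103, 3), (91, 2), (10, 1), (118, 3), (105, 2), (12, 1), (119, 2), (13, 1), (14, 1)]),
    ([4, 2, 2], [(2, 1)], [(23, 0), (108, 8), (95, 7), (83, 6), (62, 5), (53, 4), (38, 3), (32, 2), (23, 1), (2, 0), (110, 4), (64, 3), (47, 2), (40, 1), (34, 0), (100, 3), (88, 2), (101, 4), (89, 3), (103, 5), (91, 4), (105, 6), (12, 5), (14, 6), (99, 5), (66, 4), (49, 3), (42, 2), (6, 1), (88, 1), (12, 2), (114, 3), (101, 2), (118, 4), (105, 3), (116, 5), (103, 4), (91, 3), (119, 6), (13, 5), (113, 5), (88, 4), (67, 3), (50, 2), (7, 1), (114, 2), (101, 1), (118, 3), (105, 2), (14, 4), (103, 3), (91, 2), (118, 5), (105, 4), (12, 3), (14, 4), (102, 3), (69, 2), (103, 4), (10, 3), (105, 3), (13, 4), (112, 4), (87, 3), (57, 2), (49, 1), (90, 3), (12, 4), (118, 4), (14, 5), (89, 4), (59, 3), (8, 2), (118, 3), (115, 4), (90, 3), (9, 2), (118, 2), (14, 3), (12, 2), (115,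 7), (102, 6), (90, 5), (9, 4), (118, 4), (119, 5), (14, 6), (105, 5), (12, 4), (13, 4), (118, 7), (105, 6), (12, 5), (14, 6), (13, 5)]),
    ([4, 2, 0], [(23, 0), (106, 8), (93, 7), (81, 6), (60, 5), (51, 4), (36, 3), (30, 2), (21, 1), (16, 0), (110, 4), (55, 3), (40, 2), (14, 6), (100, 5), (58, 4), (7, 3), (115, 4), (102, 3), (118, 5), (105, 4), (14, 6), (13, 5), (89, 4), (59, 3), (118, 5), (115, 6), (90, 5), (9, 4), (118, 4), (14, 5), (92, 4), (87, 5), (76, 4), (49, 3), (92, 5), (12, 6), (78, 5), (8, 4), (79, 4), (80, 5), (88, 7), (77, 6), (67, 5), (58, 4), (116, 7), (91, 6), (14, 8), (92, 7), (12, 8), (11, 7), (90, 7), (69, 6), (9, 5), (116, 5), (118, 6), (116, 7), (91, 6), (10, 5), (117, 6), (92, 5), (116, 7), (91, 6), (80, 5), (118, 8), (12, 7), (14, 7)], [(16, 1), (21, 0), (72, 5), (53, 4), (45, 3), (38, 2), (23, 1), (113, 9), (100, 8), (88, 7), (67, 6), (58,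 5), (7, 4), (115, 5), (102, 4), (118, 6), (105, 5), (14, 7), (103, 6), (91, 5), (118, 8), (105, 7), (12, 6), (119, 7), (13, 6), (14, 6), (68, 5), (59, 4), (116, 6), (115, 7), (69, 6), (9, 5), (116, 5), (14, 6), (114, 8), (101, 7), (89, 6), (68, 5), (8, 4), (118, 7), (105, 6), (12, 5), (115, 6), (102, 5), (69, 4), (118, 7), (105, 6), (119, 8), (13, 7), (117, 7), (92, 6), (119, 8), (113, 9), (100, 8), (88, 7), (77, 6), (67, 5), (58, 4), (116, 7), (91, 6), (14, 8), (92, 7), (12, 8), (115, 9), (102, 8), (79, 7), (69, 6), (9, 5), (116, 5), (117, 6), (119, 7), (14, 8)]),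
    ([4, 2, 1], [(23, 0), (107, 8), (94, 7), (82, 6), (61, 5), (52, 4), (37, 3), (31, 2), (22, 1), (17, 0), (110, 5), (55, 4), (47, 3), (40, 2), (14, 7), (99, 6), (57, 5), (49, 4), (42, 3), (114, 7), (101, 6), (89, 5), (118, 8), (105, 7), (12, 6), (115, 7), (102, 6), (118, 8), (105, 7), (14, 9), (13, 8), (90, 7), (9, 6), (118, 6), (116, 7), (91, 6), (118, 8), (12, 7), (112, 7), (66, 6), (49, 5), (42, 4), (6, 3), (88, 3), (12, 4), (114, 5), (101, 4), (118, 6), (105, 5), (116, 7), (103, 6), (91, 5), (14, 8), (103, 7), (91, 6), (10, 5), (104, 6), (92, 5), (105, 7), (12, 6), (100, 6), (77, 5), (50, 4), (7, 3), (114, 4), (101, 3), (118, 5), (105, 4), (14, 6), (104, 5), (92, 4), (13, 6), (89, 5), (78, 4), (8, 3), (90, 4), (79, 3), (12, 5), (102, 5), (79, 4), (9, 3), (117, 3), (119, 4), (116, 5), (103, 4), (80, 3), (117, 6), (104, 5), (11, 4), (119, 5), (13, 4), (14, 4),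 (10, 3), (12, 3)], [(17, 1), (22, 0), (83, 5), (62, 4), (53, 3), (32, 2), (23, 1), (112, 9), (99, 8), (87, 7), (66, 6), (57, 5), (42, 4), (6, 3), (88, 3), (12, 4), (115, 5), (102, 4), (118, 6), (105, 5), (14, 7), (103, 6), (91, 5), (105, 7), (12, 6), (13, 6), (114, 6), (68, 5), (59, 4), (116, 6), (14, 7), (69, 6), (9, 5), (116, 5), (118, 6), (115, 7), (90, 6), (69, 5), (118, 8), (12, 7), (119, 7), (116, 8), (103, 7), (10, 6), (118, 7), (105, 6), (119, 8), (13, 7), (14, 7), (12, 6), (113, 6), (58, 5), (50, 4), (7, 3), (114, 4), (101, 3), (118, 5), (105, 4), (14, 6), (102, 5), (90, 4), (105, 6), (12, 5), (14, 6), (101, 5), (59, 4), (8, 3), (119, 4), (115, 5), (102, 4), (9, 3), (119, 3), (14, 4)]),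
    ([4, 4, 3], [(4, 0)], [(24, 1), (24, 0), (110, 5), (97, 4), (85, 3), (47, 2), (4, 1), (114, 4), (101, 3), (89, 2), (8, 1), (118, 3), (105, 2), (12, 1), (119, 2), (13, 1), (14, 1)]),
    ([4, 3, 3], [(3, 1)], [(24, 0), (109, 5), (96, 4), (84, 3), (46, 2), (24, 1), (3, 0), (110, 4), (97, 3), (85, 2), (74, 1), (64, 0), (117, 3), (92, 2), (118, 4), (12, 3), (119, 3), (14, 4), (101, 3), (78, 2), (68, 1), (105, 4), (13, 5), (114, 5), (89, 4), (78, 3), (68, 2), (8, 1), (118, 4), (12, 3), (118, 3), (119, 4), (14, 5)]),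
    ([4, 3, 0], [(24, 0), (106, 5), (93, 4), (81, 3), (43, 2), (21, 1), (18, 0), (110, 9), (85, 8), (74, 7), (64, 6), (55, 5), (47, 4), (40, 3), (34, 2), (100, 5), (88, 4), (101, 6), (89, 5), (102, 7), (90, 6), (13, 8), (116, 8), (91, 7), (118, 9), (12, 8), (14, 8), (113, 10), (88, 9), (77, 8), (67, 7), (58, 6), (50, 5), (7, 4), (114, 5), (101, 4), (118, 6), (105, 5), (14, 7), (102, 6), (90, 5), (105, 7), (12, 6), (116, 7), (103, 6), (14, 8), (104, 7), (105, 8), (114, 10), (101, 9), (89, 8), (78, 7), (68, 6), (59, 5), (8, 4), (116, 5), (117, 6), (118, 7), (119, 8), (14, 9), (102, 8), (90, 7), (79, 6), (69, 5), (9, 4), (116, 4), (117, 5), (118, 6), (119, 7), (117, 8), (104, 7), (92, 6), (11, 5), (114, 7), (101, 6), (89, 5), (68, 4), (116, 8), (103, 7), (91, 6), (10, 5), (117, 7), (104, 6), (92, 5), (118, 8), (105, 7), (12, 6), (119, 7), (13, 6), (118, 6), (14, 7)],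 [(18, 1), (21, 0), (73, 5), (54, 4), (46, 3), (39, 2), (24, 1), (113, 6), (100, 5), (88, 4), (50, 3), (118, 6), (12, 5), (119, 5), (14, 6), (103, 5), (104, 6), (114, 8), (101, 7), (78, 6), (68, 5), (8, 4), (118, 7), (105, 6), (115, 8), (102, 7), (90, 6), (79, 5), (69, 4), (118, 9), (105, 8), (12, 7), (14, 8), (104, 7), (11, 6), (105, 6), (112, 8), (99, 7), (87, 6), (66, 5), (57, 4), (42, 3), (115, 7), (102, 6), (90, 5), (118, 8), (105, 7), (12, 6), (14, 7), (103, 6), (105, 7), (13, 8), (113, 8), (88, 7), (67, 6), (58, 5), (7, 4), (115, 5), (102, 4), (118, 6), (105, 5), (14, 7), (103, 6), (91, 5), (118, 8), (105, 7), (12, 6), (14, 7), (101, 6), (68, 5), (59, 4), (116, 6), (119, 7), (115, 8), (102, 7), (69, 6), (9, 5), (116, 5), (119, 6), (14, 7), (103, 6), (10, 5), (104, 5), (105, 6)])]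

/-- Part of the certificate. -/
def overlapsPart4 : List (List ℕ × List (ℕ × ℕ) × List (ℕ × ℕ)) := [
    ([4, 3, 1], [(24, 0), (107, 5), (94, 4), (82, 3), (44, 2), (22, 1), (19, 0), (55, 2), (112, 5), (99, 4), (57, 3), (119, 6), (14, 7), (102, 6), (90, 5), (9, 4), (118, 4), (119, 5), (116, 6), (103, 5), (91, 4), (118, 7), (105, 6), (12, 5), (114, 6), (101, 5), (68, 4), (116, 7), (103, 6), (10, 5), (117, 6), (104, 5), (118, 7), (105, 6), (119, 8), (13, 7), (14, 7)], [(19, 1), (22, 0), (84, 5), (63, 4), (54, 3), (33, 2), (24, 1), (112, 6), (99, 5), (87, 4), (49, 3), (12, 5), (116, 6), (103, 5), (117, 7), (104, 6), (119, 8), (13, 7), (14, 7), (79, 6), (69, 5), (116, 9), (91, 8), (80, 7), (10, 6), (118, 8), (12, 7), (118, 7), (115, 8), (90, 7), (79, 6), (9, 5), (117, 5), (118, 6), (14, 7)]),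
    ([4, 3, 2], [(24, 0), (108, 5), (95, 4), (83, 3), (45, 2), (23, 1), (20, 0), (110, 7), (97, 6), (85, 5), (74, 4), (64, 3), (55, 2), (116, 5), (103, 4), (118, 6), (105, 5), (14, 7), (104, 6), (92, 5), (105, 7), (12, 6), (13, 6), (112, 6), (76, 5), (66, 4), (57, 3), (116, 6), (91, 5), (117, 7), (92, 6), (14, 8), (88, 7), (77, 6), (67, 5), (58, 4), (116, 7), (91, 6), (14, 8), (92, 7), (12, 8), (79, 7), (69, 6), (9, 5), (116, 5), (117, 6), (116, 7), (80, 6), (10, 5), (118, 6), (119, 7), (14, 8), (101, 7), (89, 6), (78, 5), (105, 8), (12, 7), (105, 7), (119, 9), (13, 8), (14, 8)], [(20, 1), (23, 0), (109, 8), (96, 7), (84, 6), (63, 5), (54, 4), (39, 3), (33, 2), (24, 1), (112, 6), (99, 5), (87, 4), (49, 3), (12, 5), (116, 6), (103, 5), (117, 7), (104, 6), (119, 8), (13, 7), (14, 7), (77, 6), (67, 5), (50, 4), (116, 7), (91, 6), (14, 8), (92, 7), (91, 8), (80, 7),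 (10, 6), (92, 7), (11, 6), (115, 7), (90, 6), (118, 8), (12, 7), (14, 7), (12, 8), (14, 9), (102, 8), (69, 7), (9, 6), (116, 6), (119, 7), (116, 8), (103, 7), (10, 6), (117, 7), (104, 6), (118, 8), (105, 7), (119, 9), (13, 8), (14, 8)]),
    ([5, 5, 5], [(5, 0), (98, 3), (86, 2), (75, 1), (65, 0), (117, 3), (104, 2), (119, 4), (13, 3), (118, 3), (14, 4)], [(5, 1)]),
    ([5, 5, 0], [(5, 0), (93, 3), (81, 2), (70, 1), (60, 0), (105, 3), (119, 5), (13, 4)], [(25, 1), (25, 0), (98, 3), (48, 2), (5, 1), (101, 4), (89, 3), (78, 2), (68, 1), (13, 5), (119, 5), (114, 6), (101, 5), (89, 4), (78, 3), (68, 2), (8, 1), (119, 5), (13, 4)]),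
    ([5, 0, 0], [(0, 1), (27, 0), (97, 6), (85, 5), (47, 4), (40, 3), (34, 2), (29, 1), (99, 8), (76, 7), (66, 6), (57, 5), (42, 4), (6, 3), (88, 3), (12, 4), (115, 5), (102, 4), (118, 6), (105, 5), (14, 7), (103, 6), (91, 5), (104, 7), (92, 6), (13, 8), (12, 7), (100, 7), (77, 6), (67, 5), (58, 4), (7, 3), (115, 4), (102, 3), (118, 5), (105, 4), (14, 6), (103, 5), (91, 4), (117, 7), (104, 6), (92, 5), (119, 8), (13, 7), (114, 7), (89, 6), (78, 5), (68, 4), (59, 3), (116, 5), (117, 6), (118, 7), (14, 8), (12, 7), (98, 7), (75, 6), (65, 5), (56, 4), (48, 3), (5, 2), (101, 5), (89, 4), (78, 3), (68, 2), (13, 6), (115, 6), (90, 5), (79, 4), (69, 3), (119, 7), (14, 8), (103, 7), (91, 6), (80, 5), (10, 4), (13, 6), (117, 6), (92, 5), (11, 4), (119, 5), (119, 6), (13, 5), (113, 5), (88, 4), (58, 3), (50, 2), (115, 5), (90, 4), (118, 6), (12, 5), (14, 5), (117, 6), (92,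 5), (119, 7), (14, 8)], [(25, 0), (93, 3), (43, 2), (25, 1), (0, 0), (111, 6), (98, 5), (75, 4), (41, 3), (5, 2), (100, 5), (88, 4), (77, 3), (67, 2), (117, 4), (118, 5), (119, 6), (114, 7), (101, 6), (89, 5), (78, 4), (68, 3), (115, 8), (102, 7), (90, 6), (79, 5), (69, 4), (118, 9), (105, 8), (12, 7), (119, 8), (13, 7), (117, 7), (11, 6), (119, 6), (119, 7), (13, 6), (14, 6), (68, 5), (59, 4), (8, 3), (116, 4), (119, 5), (114, 6), (101, 5), (68, 4), (59, 3), (116, 5), (119, 6), (14, 7), (103, 6), (10, 5), (104, 5), (105, 6), (13, 7)]),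
    ([5, 5, 1], [(5, 0), (94, 3), (82, 2), (71, 1), (61, 0), (92, 2), (12, 3)], [(26, 1), (26, 0), (86, 5), (56, 4), (41, 3), (35, 2), (5, 1), (99, 4), (87, 3), (76, 2), (66, 1), (101, 5), (89, 4), (78, 3), (68, 2), (102, 6), (90, 5), (79, 4), (69, 3), (113, 8), (100, 7), (88, 6), (77, 5), (67, 4), (58, 3), (50, 2), (115, 5), (90, 4), (118, 6), (12, 5), (14, 5), (117, 6), (118, 7), (119, 8), (14, 9), (101, 8), (89, 7), (78, 6), (68, 5), (59, 4), (8, 3), (116, 4), (117, 5), (118, 6), (119, 7), (115, 8), (102, 7), (90, 6), (79, 5), (69, 4), (9, 3), (116, 3), (117, 4), (118, 5), (119, 6), (14, 7), (105, 6), (12, 5), (13, 5), (79, 4), (69, 3), (118, 7), (105, 6), (14, 8), (99, 7), (87, 6), (76, 5), (66, 4), (57, 3), (42, 2), (6, 1), (88, 1), (12, 2), (115, 3), (102, 2), (118, 4), (105, 3), (14, 5), (103, 4), (91, 3), (104, 5), (92, 4), (105, 6), (12, 5), (13, 5), (77,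 4), (67, 3), (58, 2), (7, 1), (115, 2), (102, 1), (118, 3), (105, 2), (14, 4), (103, 3), (91, 2), (117, 5), (104, 4), (92, 3), (115, 6), (102, 5), (90, 4), (79, 3), (69, 2), (9, 1), (116, 1), (117, 2), (118, 3), (119, 4), (14, 5), (105, 4), (12, 3)]),
    ([5, 1, 1], [(1, 1)], [(26, 0), (82, 5), (52, 4), (37, 3), (31, 2), (26, 1), (1, 0), (98, 3), (65, 2), (48, 1), (35, 0), (114, 4), (59, 3), (8, 2), (14, 3), (116, 4), (103, 3), (119, 5), (13, 4), (14, 4), (99, 4), (66, 3), (57, 2), (6, 1), (90, 1), (12, 2), (116, 2), (119, 3), (113, 4), (100, 3), (67, 2), (58, 1), (116, 4), (91, 3), (14, 5), (115, 6), (102, 5), (90, 4), (69, 3), (9, 2), (116, 2), (118, 3), (119, 4), (14, 5), (105, 4), (12, 3), (99, 3), (66, 2), (42, 1), (116, 5), (103, 4), (91, 3), (119, 6), (13, 5), (116, 5), (91, 4), (10, 3), (117, 4), (92, 3), (118, 5), (12, 4), (113, 4), (77, 3), (7, 2), (117,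 3), (104, 2), (14, 4), (101, 3), (78, 2), (102, 4), (79, 3), (105, 5), (13, 6), (90, 5), (79, 4), (9, 3), (117, 3), (118, 4), (116, 5), (91, 4), (80, 3), (117, 6), (92, 5), (11, 4), (119, 5), (14, 6), (105, 5), (12, 4)]),
    ([5, 1, 0], [(26, 0), (81, 5), (51, 4), (36, 3), (30, 2), (25, 1), (15, 0), (86, 7), (65, 6), (48, 5), (5, 4), (101, 7), (89, 6), (78, 5), (68, 4), (13, 8), (116, 8), (91, 7), (80, 6), (10, 5), (119, 7), (14, 8), (105, 7), (12, 6), (114, 7), (101, 6), (78, 5), (8, 4), (119, 6), (13, 5), (112, 5), (76, 4), (114, 6), (78, 5), (115, 7), (79, 6), (116, 8), (80, 7), (118, 9), (113, 10), (88, 9), (77, 8), (67, 7), (58, 6), (50, 5), (115, 8), (90, 7), (118, 9), (12, 8), (14, 8), (117, 9), (118, 10), (14, 11), (92, 10), (11, 9), (12, 9), (69, 8), (9, 7), (116, 7), (116, 8), (10, 7), (117, 7), (118, 8), (14, 9)], [(15, 1), (25, 0), (94, 3), (44, 2),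 (26, 1), (89, 6), (59, 5), (118, 7), (116, 8), (91, 7), (117, 9), (92, 8), (119, 10), (108, 11), (95, 10), (83, 9), (72, 8), (62, 7), (53, 6), (45, 5), (38, 4), (32, 3), (27, 2), (99, 8), (87, 7), (49, 6), (42, 5), (6, 4), (88, 4), (12, 5), (114, 6), (101, 5), (118, 7), (105, 6), (118, 8), (105, 7), (12, 6), (119, 7), (13, 6), (114, 6), (8, 5), (115, 5), (118, 6), (113, 7), (88, 6), (58, 5), (7, 4), (115, 5), (102, 4), (118, 6), (105, 5), (14, 7), (105, 6), (12, 5), (114, 6), (101, 5), (59, 4), (119, 6), (14, 7), (102, 6), (9, 5), (119, 5), (118, 6), (105, 5), (119, 7), (13, 6), (14, 6), (89, 5), (8, 4), (12, 4), (103, 6), (91, 5), (105, 7), (12, 6), (13, 6), (117, 6), (119, 7), (118, 8), (105, 7), (14, 9), (13, 8), (110, 8), (85, 7), (74, 6), (64, 5), (55, 4), (29, 3), (102, 10), (79, 9), (69, 8), (9, 7), (116, 7), (117, 8), (119, 9), (119, 10), (13, 9), (14, 9),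 (80, 8), (10, 7), (117, 9), (92, 8), (11, 7), (118, 8), (12, 7), (14, 7), (41, 6), (35, 5), (5, 4), (99, 7), (87, 6), (76, 5), (66, 4), (101, 8), (89, 7), (78, 6), (68, 5), (102, 9), (90, 8), (79, 7), (69, 6), (113, 11), (100, 10), (88, 9), (77, 8), (67, 7), (58, 6), (50, 5), (115, 8), (90, 7), (118, 9), (12, 8), (14, 8), (117, 9), (118, 10), (119, 11), (14, 12), (101, 11), (89, 10), (78, 9), (68, 8), (59, 7), (8, 6), (116, 7), (117, 8), (118, 9), (119, 10), (115, 11), (102, 10), (90, 9), (79, 8), (69, 7), (9, 6), (116, 6), (117, 7), (118, 8), (119, 9), (14, 10), (105, 9), (12, 8), (13, 8), (78, 7), (68, 6), (80, 8), (10, 7)])]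

/-- Part of the certificate. -/
def overlapsPart5 : List (List ℕ × List (ℕ × ℕ) × List (ℕ × ℕ)) := [
    ([5, 5, 2], [(5, 0), (95, 3), (83, 2), (72, 1), (62, 0), (117, 4), (104, 3), (92, 2), (119, 5), (13, 4), (118, 4), (12, 3), (14, 3)], [(27, 1), (27, 0), (98, 6), (86, 5), (48, 4), (41, 3), (35, 2), (5, 1), (99, 4), (87, 3), (76, 2), (66, 1), (101, 5), (89, 4), (78, 3), (68, 2), (102, 6), (90, 5), (79, 4), (69, 3), (113, 8), (100, 7), (88, 6), (77, 5), (67, 4), (58, 3), (50, 2), (115, 5), (90, 4), (118, 6), (12, 5), (14, 5), (117, 6), (118, 7), (119, 8), (14, 9), (101, 8), (89, 7), (78, 6), (68, 5), (59, 4), (8, 3), (116, 4), (117, 5), (118, 6), (119, 7), (115, 8), (102, 7), (90, 6), (79, 5), (69, 4), (9, 3), (116, 3), (117, 4), (118, 5), (119, 6), (14, 7), (105, 6), (12, 5), (13, 5), (78, 4), (68, 3), (118, 7), (105, 6), (14, 8), (13, 7), (87, 6), (76, 5), (66,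 4), (49, 3), (42, 2), (6, 1), (88, 1), (12, 2), (114, 3), (101, 2), (118, 4), (105, 3), (116, 5), (103, 4), (91, 3), (117, 6), (104, 5), (92, 4), (118, 7), (105, 6), (12, 5), (113, 6), (100, 5), (77, 4), (67, 3), (50, 2), (7, 1), (114, 2), (101, 1), (118, 3), (105, 2), (14, 4), (103, 3), (91, 2), (117, 5), (104, 4), (92, 3), (119, 6), (13, 5), (14, 5), (89, 4), (78, 3), (68, 2), (8, 1), (12, 3)]),
    ([5, 2, 2], [(2, 1)], [(27, 0), (95, 6), (83, 5), (45, 4), (38, 3), (32, 2), (27, 1), (2, 0), (111, 4), (65, 3), (48, 2), (41, 1), (35, 0), (113, 4), (58, 3), (50, 2), (115, 5), (90, 4), (118, 6), (12, 5), (14, 5), (114, 5), (59, 4), (8, 3), (14, 4), (9, 3), (118, 3), (119, 4), (114, 5), (101, 4), (89, 3), (119, 6), (13, 5), (14, 5), (91, 4), (14, 7), (99, 6), (87, 5), (66, 4), (49, 3), (42, 2), (6, 1), (88, 1), (12, 2), (114, 3), (101, 2), (118, 4), (105, 3), (116,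 5), (103, 4), (91, 3), (118, 6), (105, 5), (12, 4), (119, 5), (13, 4), (113, 4), (67, 3), (50, 2), (7, 1), (114, 2), (101, 1), (118, 3), (105, 2), (14, 4), (103, 3), (91, 2), (14, 5), (101, 4), (89, 3), (68, 2), (8, 1), (105, 3), (12, 2), (13, 2), (66, 1), (68, 2), (69, 3), (88, 5), (67, 4), (58, 3), (50, 2), (115, 5), (90, 4), (118, 6), (12, 5), (14, 5), (118, 6), (114, 7), (89, 6), (68, 5), (59, 4), (8, 3), (116, 4), (118, 5), (14, 6), (90, 5), (69, 4), (9, 3), (116, 3), (118, 4), (118, 5), (12, 4), (119, 4), (14, 5), (101, 4), (68, 3), (105, 5), (105, 6), (12, 5), (119, 6), (13, 5)]),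
    ([5, 2, 0], [(27, 0), (93, 6), (81, 5), (43, 4), (36, 3), (30, 2), (25, 1), (16, 0), (111, 4), (56, 3), (41, 2), (102, 7), (90, 6), (9, 5), (118, 5), (119, 6), (119, 7), (13, 6), (14, 6), (114, 6), (89, 5), (8, 4), (119, 5), (112, 6), (99, 5), (87, 4), (42, 3), (118, 7), (105, 6), (12, 5), (119, 6), (13, 5), (14, 5), (88, 8), (67, 7), (58, 6), (50, 5), (7, 4), (114, 5), (101, 4), (118, 6), (105, 5), (14, 7), (102, 6), (90, 5), (105, 7), (12, 6), (116, 7), (103, 6), (14, 8), (105, 7), (104, 8), (92, 7), (105, 9), (12, 8), (101, 8), (78, 7), (68, 6), (59, 5), (8, 4), (116, 5), (117, 6), (119, 7), (116, 8), (103, 7), (80, 6), (10, 5), (117, 7), (104, 6), (11, 5), (118, 6), (105, 5), (119, 7), (13, 6), (118, 6), (12, 5), (14, 5)], [(16, 1), (25, 0), (95, 3), (45, 2), (27, 1), (101, 7), (89, 6), (8, 5), (105, 6), (12, 5), (13, 5), (7, 4), (115, 5), (102, 4), (14,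 6)]),
    ([5, 2, 1], [(27, 0), (94, 6), (82, 5), (44, 4), (37, 3), (31, 2), (26, 1), (17, 0), (111, 5), (56, 4), (48, 3), (41, 2), (101, 7), (89, 6), (59, 5), (8, 4), (118, 5), (119, 6), (119, 7), (13, 6), (14, 6), (90, 5), (9, 4), (118, 4), (119, 5), (14, 6), (112, 6), (99, 5), (87, 4), (42, 3), (118, 7), (105, 6), (12, 5), (119, 6), (13, 5), (14, 5), (7, 4), (115, 5), (102, 4), (118, 6), (105, 5), (112, 7), (99, 6), (87, 5), (57, 4), (6, 3), (90, 3), (12, 4), (118, 4), (119, 5), (14, 6), (103, 5), (91, 4), (104, 6), (92, 5), (105, 7), (12, 6), (100, 6), (77, 5), (67, 4), (58, 3), (116, 6), (91, 5), (14, 7), (92, 6), (101, 8), (89, 7), (78, 6), (68, 5), (59, 4), (116, 6), (117, 7), (118, 8), (119, 9), (115, 10), (102, 9), (90, 8), (79, 7), (69, 6), (9, 5), (116, 5), (117, 6), (118, 7), (119, 8), (14, 9), (105, 8), (12, 7), (13, 7), (78, 6), (68, 5), (8, 4), (80,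 5), (10, 4), (11, 4)], [(17, 1), (26, 0), (83, 5), (53, 4), (38, 3), (32, 2), (27, 1), (99, 7), (87, 6), (49, 5), (42, 4), (6, 3), (88, 3), (12, 4), (114, 5), (101, 4), (118, 6), (105, 5), (118, 7), (105, 6), (12, 5), (119, 6), (13, 5), (114, 5), (8, 4), (115, 4), (118, 5), (113, 6), (88, 5), (58, 4), (7, 3), (115, 4), (102, 3), (118, 5), (105, 4), (14, 6), (105, 5), (12, 4), (114, 5), (101, 4), (59, 3), (119, 5), (14, 6), (102, 5), (9, 4), (119, 4), (118, 5), (105, 4), (119, 6), (13, 5), (14, 5), (90, 4), (12, 5), (105, 5), (113, 7), (100, 6), (88, 5), (58, 4), (50, 3), (115, 6), (90, 5), (118, 7), (12, 6), (14, 6), (114, 8), (101, 7), (89, 6), (59, 5), (8, 4), (118, 5), (119, 6), (14, 7), (102, 6), (90, 5), (9, 4), (118, 4), (119, 5), (14, 6)]),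
    ([5, 5, 3], [(5, 0), (96, 3), (84, 2), (73, 1), (63, 0), (92, 2), (12, 3), (118, 3), (119, 4), (14, 5)], [(28, 1), (28, 0), (111, 6), (98, 5), (86, 4), (75, 3), (65, 2), (5, 1), (103, 4), (91, 3), (80, 2), (10, 1), (13, 3), (117, 3), (92, 2), (11, 1), (119, 2), (118, 3), (105, 2), (12, 1), (14, 2), (13, 1), (116, 1), (117, 2), (118, 3), (119, 4), (14, 5)]),
    ([5, 3, 3], [(3, 1)], [(28, 0), (109, 6), (96, 5), (84, 4), (73, 3), (63, 2), (28, 1), (3, 0), (111, 4), (98, 3), (86, 2), (75, 1), (65, 0), (117, 3), (104, 2), (119, 4), (13, 3), (118, 3), (14, 4), (116, 5), (103, 4), (91, 3), (80, 2), (10, 1), (117, 4), (104, 3), (92, 2), (11, 1), (118, 3), (105, 2), (12, 1), (119, 2), (13, 1), (14, 1), (92, 2), (12, 3), (118, 3), (119, 4), (14, 5)]),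
    ([5, 3, 0], [(28, 0), (106, 6), (93, 5), (81, 4), (70, 3), (60, 2), (25, 1), (18, 0), (111, 9), (86, 8), (75, 7), (65, 6), (56, 5), (48, 4), (41, 3), (35, 2), (113, 6), (58, 5), (50, 4), (115, 7), (90, 6), (118, 8), (12, 7), (14, 7), (114, 7), (59, 6), (8, 5), (14, 6), (9, 5), (118, 5), (119, 6), (114, 7), (101, 6), (89, 5), (119, 8), (13, 7), (14, 7), (90, 6), (116, 9), (103, 8), (91, 7), (119, 10), (13, 9), (14, 9), (92, 8), (105, 10), (12, 9), (14, 10), (101, 9), (78, 8), (68, 7), (59, 6), (8, 5), (116, 6), (117, 7), (119, 8), (119, 9), (13, 8), (116, 8), (80, 7), (10, 6), (117, 7), (11, 6), (119, 6), (118, 7), (105, 6), (14, 8), (13, 7)], [(18, 1), (25, 0), (96, 3), (46, 2), (28, 1), (114, 7), (101, 6), (89, 5), (78, 4), (68, 3), (118, 8), (105, 7), (12, 6), (119, 7), (13, 6), (14, 6), (76, 5), (66, 4), (49, 3), (91, 5), (92, 6), (88, 7), (77, 6), (67, 5),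 (50, 4), (116, 7), (91, 6), (14, 8), (92, 7), (12, 8), (78, 7), (68, 6), (8, 5), (79, 6), (69, 5), (80, 7), (10, 6), (11, 6)]),
    ([5, 3, 1], [(28, 0), (107, 6), (94, 5), (82, 4), (71, 3), (61, 2), (26, 1), (19, 0), (56, 2), (112, 5), (99, 4), (57, 3), (119, 6), (14, 7), (100, 6), (88, 5), (58, 4), (118, 7), (12, 6), (119, 6), (115, 7), (102, 6), (9, 5), (119, 5), (14, 6), (105, 5), (103, 6), (91, 5), (105, 7), (12, 6), (104, 6), (105, 7), (13, 8)], [(19, 1), (26, 0), (84, 5), (54, 4), (39, 3), (33, 2), (28, 1), (112, 7), (99, 6), (87, 5), (76, 4), (66, 3), (116, 8), (103, 7), (91, 6), (80, 5), (10, 4), (117, 7), (104, 6), (92, 5), (11, 4), (119, 6), (13, 5), (14, 5), (88, 4), (91, 5), (92, 6), (115, 8), (90, 7), (79, 6), (69, 5), (118, 9), (12, 8), (14, 8), (90, 8), (79, 7), (69, 6), (9, 5), (116, 5), (117, 6), (118, 7)])]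

/-- Part of the certificate. -/
def overlapsPart6 : List (List ℕ × List (ℕ × ℕ) × List (ℕ × ℕ)) := [
    ([5, 3, 2], [(28, 0), (108, 6), (95, 5), (83, 4), (72, 3), (62, 2), (27, 1), (20, 0), (111, 7), (98, 6), (86, 5), (75, 4), (65, 3), (56, 2), (116, 5), (103, 4), (119, 6), (13, 5), (14, 5), (105, 6), (119, 8), (13, 7), (14, 7), (87, 6), (76, 5), (66, 4), (57, 3), (116, 6), (91, 5), (117, 7), (92, 6), (118, 8), (12, 7), (113, 7), (77, 6), (67, 5), (58, 4), (116, 7), (91, 6), (14, 8), (92, 7), (114, 9), (89, 8), (78, 7), (68, 6), (59, 5), (116, 7), (117, 8), (118, 9), (14, 10), (12, 9), (103, 9), (80, 8), (10, 7), (105, 8), (13, 9), (117, 9), (92, 8), (11, 7), (119, 8), (118, 9), (105, 8), (12, 7), (14, 8), (13, 7)], [(20, 1), (27, 0), (96, 6), (84, 5), (46, 4), (39, 3), (33, 2), (28, 1), (112, 7), (99, 6), (87, 5), (76, 4), (66, 3), (116, 8), (103, 7), (91, 6),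 (80, 5), (10, 4), (117, 7), (104, 6), (92, 5), (11, 4), (119, 6), (13, 5), (14, 5), (88, 4), (91, 5), (92, 6), (114, 8), (89, 7), (78, 6), (68, 5), (118, 9), (12, 8), (118, 8), (119, 9), (14, 10), (102, 9), (90, 8), (79, 7), (69, 6), (103, 10), (91, 9), (80, 8), (10, 7), (104, 9), (92, 8), (11, 7), (105, 8), (12, 7), (13, 7)]),
    ([5, 5, 4], [(5, 0), (97, 3), (85, 2), (74, 1), (64, 0), (117, 3), (92, 2), (118, 4), (12, 3), (119, 3)], [(29, 1), (29, 0), (98, 7), (75, 6), (65, 5), (56, 4), (41, 3), (35, 2), (5, 1), (99, 4), (87, 3), (76, 2), (66, 1), (101, 5), (89, 4), (78, 3), (68, 2), (102, 6), (90, 5), (79, 4), (69, 3), (113, 8), (100, 7), (88, 6), (77, 5), (67, 4), (58, 3), (50, 2), (115, 5), (90, 4), (118, 6), (12, 5), (14, 5), (117, 6), (118, 7), (119, 8), (14, 9), (101, 8), (89, 7), (78, 6), (68, 5), (59, 4), (8, 3), (116, 4), (117, 5), (118, 6), (119, 7),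 (115, 8), (102, 7), (90, 6), (79, 5), (69, 4), (9, 3), (116, 3), (117, 4), (118, 5), (119, 6), (14, 7), (105, 6), (12, 5), (13, 5), (79, 4), (69, 3), (116, 7), (103, 6), (80, 5), (10, 4), (119, 6), (13, 5), (14, 5), (11, 4), (13, 4), (57, 3), (42, 2), (6, 1), (88, 1), (12, 2), (115, 3), (102, 2), (118, 4), (105, 3), (14, 5), (100, 4), (88, 3), (58, 2), (7, 1), (115, 2), (102, 1), (118, 3), (105, 2), (14, 4), (105, 3), (12, 2), (13, 2), (9, 1), (116, 1), (117, 2), (119, 3)]),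
    ([5, 4, 4], [(4, 1)], [(29, 0), (97, 7), (74, 6), (64, 5), (55, 4), (40, 3), (34, 2), (29, 1), (4, 0), (99, 6), (76, 5), (66, 4), (57, 3), (42, 2), (6, 1), (88, 1), (12, 2), (115, 3), (102, 2), (118, 4), (105, 3), (14, 5), (103, 4), (91, 3), (104, 5), (92, 4), (13, 6), (12, 5), (100, 5), (77, 4), (67, 3), (58, 2), (7, 1), (115, 2), (102, 1), (118, 3), (105, 2), (14, 4), (103, 3), (91, 2), (117, 5), (104, 4), (92, 3), (119, 6), (13, 5), (115, 5), (90, 4), (79, 3), (69, 2), (9, 1), (116, 1), (117, 2), (118, 3), (14, 4), (116, 5), (103, 4), (91, 3), (80, 2), (10, 1), (118, 4), (105, 3), (12, 2), (14, 3), (104, 2), (11, 1), (13, 1)]),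
    ([5, 4, 0], [(29, 0), (93, 7), (70, 6), (60, 5), (51, 4), (36, 3), (30, 2), (25, 1), (21, 0), (75, 5), (56, 4), (48, 3), (41, 2), (101, 7), (89, 6), (59, 5), (8, 4), (118, 5), (119, 6), (119, 7), (13, 6), (14, 6), (90, 5), (9, 4), (118, 4), (119, 5), (14, 6), (104, 5), (92, 4), (13, 6), (89, 5), (78, 4), (99, 7), (87, 6), (76, 5), (49, 4), (42, 3), (114, 7), (101, 6), (89, 5), (118, 8), (105, 7), (12, 6), (117, 7), (104, 6), (118, 8), (105, 7), (119, 9), (13, 8), (114, 8), (89, 7), (78, 6), (8, 5), (115, 7), (90, 6), (79, 5), (116, 8), (91, 7), (80, 6), (118, 9), (12, 8), (113, 8), (77, 7), (67, 6), (58, 5), (7, 4), (115, 5), (102, 4), (118, 6), (105, 5), (14, 7), (103, 6), (91, 5), (117, 8), (104, 7), (92, 6), (14, 9), (104, 8), (92, 7), (11, 6), (105, 7), (12, 6), (102, 6), (69, 5), (9, 4), (116, 4), (119, 5), (116, 6), (103, 5), (10, 4), (117, 5), (104, 4),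 (116, 6), (103, 5), (80, 4), (117, 7), (104, 6), (11, 5), (119, 6), (13, 5), (119, 5)], [(21, 1), (25, 0), (97, 3), (47, 2), (29, 1), (101, 8), (78, 7), (68, 6), (59, 5), (116, 7), (117, 8), (119, 9), (119, 10), (13, 9), (113, 9), (77, 8), (67, 7), (58, 6), (50, 5), (7, 4), (114, 5), (101, 4), (118, 6), (105, 5), (14, 7), (102, 6), (90, 5), (105, 7), (12, 6), (116, 7), (103, 6), (14, 8), (104, 7), (114, 9), (101, 8), (78, 7), (68, 6), (59, 5), (8, 4), (116, 5), (117, 6), (119, 7), (14, 8), (102, 7), (79, 6), (69, 5), (9, 4), (116, 4), (117, 5), (119, 6), (117, 7), (104, 6), (11, 5)]),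
    ([5, 4, 1], [(29, 0), (94, 7), (71, 6), (61, 5), (52, 4), (37, 3), (31, 2), (26, 1), (22, 0), (86, 5), (65, 4), (56, 3), (35, 2), (115, 6), (9, 5), (14, 5), (116, 6), (103, 5), (119, 7), (13, 6), (14, 6), (112, 7), (87, 6), (66, 5), (49, 4), (6, 3), (89, 3), (12, 4), (113, 6), (88, 5), (67, 4), (50, 3), (116, 6), (91, 5), (14, 7), (12, 6), (115, 6), (69, 5), (118, 7), (112, 8), (87, 7), (66, 6), (57, 5), (49, 4), (42, 3), (114, 7), (101, 6), (89, 5), (118, 8), (105, 7), (12, 6), (115, 7), (102, 6), (118, 8), (105, 7), (14, 9), (103, 8), (91, 7), (105, 9), (12, 8), (116, 9), (103, 8), (10, 7), (117, 8), (104, 7), (118, 9), (105, 8), (113, 10), (100, 9), (88, 8), (77, 7), (58, 6), (50, 5), (7, 4), (114, 5), (101, 4), (118, 6), (105, 5), (14, 7), (102, 6), (90, 5), (105, 7), (12, 6), (117, 7), (104, 6), (118, 8), (105, 7), (119, 9), (13, 8), (14, 8), (89, 7), (78,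 6), (59, 5), (8, 4), (117, 5), (118, 6), (115, 7), (90, 6), (79, 5), (9, 4), (117, 4), (118, 5), (14, 6), (12, 5), (102, 5), (79, 4), (103, 6), (80, 5), (104, 7), (11, 6), (13, 6), (116, 6), (10, 5), (118, 5), (117, 6), (92, 5), (119, 7)], [(22, 1), (26, 0), (85, 5), (55, 4), (40, 3), (34, 2), (29, 1), (99, 8), (76, 7), (66, 6), (57, 5), (42, 4), (6, 3), (88, 3), (12, 4), (115, 5), (102, 4), (118, 6), (105, 5), (14, 7), (103, 6), (91, 5), (104, 7), (92, 6), (13, 8), (12, 7), (100, 7), (77, 6), (67, 5), (58, 4), (7, 3), (115, 4), (102, 3), (118, 5), (105, 4), (14, 6), (103, 5), (91, 4), (117, 7), (104, 6), (92, 5), (119, 8), (13, 7), (115, 7), (90, 6), (79, 5), (69, 4), (9, 3), (116, 3), (117, 4), (118, 5), (14, 6), (118, 7), (105, 6), (12, 5), (112, 6), (99, 5), (76, 4), (66, 3), (115, 7), (102, 6), (79, 5), (69, 4), (116, 8), (103, 7), (80, 6), (10, 5), (118, 7),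 (105, 6)]),
    ([5, 4, 2], [(29, 0), (95, 7), (72, 6), (62, 5), (53, 4), (38, 3), (32, 2), (27, 1), (23, 0), (111, 8), (98, 7), (86, 6), (65, 5), (56, 4), (41, 3), (35, 2), (113, 6), (58, 5), (50, 4), (115, 7), (90, 6), (118, 8), (12, 7), (14, 7), (114, 7), (59, 6), (8, 5), (14, 6), (9, 5), (118, 5), (119, 6), (115, 7), (102, 6), (90, 5), (119, 8), (13, 7), (14, 7), (91, 6), (118, 9), (105, 8), (12, 7), (14, 8), (13, 7), (112, 7), (66, 6), (57, 5), (42, 4), (6, 3), (88, 3), (12, 4), (115, 5), (102, 4), (118, 6), (105, 5), (14, 7), (103, 6), (91, 5), (113, 8), (100, 7), (88, 6), (67, 5), (58, 4), (7, 3), (115, 4), (102, 3), (118, 5), (105, 4), (14, 6), (103, 5), (91, 4), (118, 7), (105, 6), (12, 5), (119, 6), (13, 5), (14, 5), (68, 4), (59, 3), (116, 5), (118, 6), (119, 7), (112, 8), (99, 7), (87, 6), (66, 5), (57, 4), (49, 3), (90, 5), (12, 6), (116, 6), (118,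 7), (119, 8), (14, 9), (101, 8), (89, 7), (68, 6), (59, 5), (8, 4), (116, 5), (118, 6), (119, 7), (115, 8), (102, 7), (90, 6), (69, 5), (9, 4), (116, 4), (118, 5), (119, 6), (14, 7), (105, 6), (12, 5), (100, 5), (67, 4), (119, 6), (114, 7), (101, 6), (68, 5), (115, 8), (102, 7), (69, 6), (118, 9), (105, 8), (119, 10), (13, 9), (14, 9), (90, 8), (69, 7), (9, 6), (116, 6), (118, 7), (118, 8), (12, 7), (119, 7), (116, 8), (103, 7), (10, 6), (118, 7), (105, 6), (119, 8), (13, 7), (14, 7), (92, 6), (13, 8)], [(23, 1), (27, 0), (97, 6), (85, 5), (47, 4), (40, 3), (34, 2), (29, 1), (99, 8), (76, 7), (66, 6), (57, 5), (42, 4), (6, 3), (88, 3), (12, 4), (115, 5), (102, 4), (118, 6), (105, 5), (14, 7), (103, 6), (91, 5), (104, 7), (92, 6), (13, 8), (12, 7), (100, 7), (77, 6), (67, 5), (58, 4), (7, 3), (115, 4), (102, 3), (118, 5), (105, 4), (14, 6), (103, 5), (91, 4), (117,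 7), (104, 6), (92, 5), (119, 8), (13, 7), (114, 7), (89, 6), (78, 5), (68, 4), (59, 3), (116, 5), (117, 6), (118, 7), (14, 8), (12, 7), (99, 7), (76, 6), (66, 5), (57, 4), (49, 3), (90, 5), (12, 6), (116, 6), (117, 7), (119, 8), (113, 9), (100, 8), (77, 7), (67, 6), (58, 5), (50, 4), (115, 7), (90, 6), (118, 8), (12, 7), (14, 7), (117, 8), (119, 9), (14, 10), (102, 9), (79, 8), (69, 7), (9, 6), (116, 6), (117, 7), (119, 8), (116, 9), (103, 8), (80, 7), (10, 6), (118, 8), (105, 7), (119, 9), (13, 8), (14, 8)]),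
    ([5, 4, 3], [(29, 0), (96, 7), (73, 6), (63, 5), (54, 4), (39, 3), (33, 2), (28, 1), (24, 0), (111, 5), (98, 4), (86, 3), (48, 2), (118, 5), (105, 4), (14, 6), (13, 5), (116, 5), (91, 4), (117, 6), (92, 5), (118, 7), (12, 6), (119, 6), (14, 7), (99, 6), (76, 5), (66, 4), (49, 3), (91, 5), (92, 6), (103, 8), (91, 7), (80, 6), (10, 5), (104, 7), (92, 6), (11, 5), (13, 6), (113, 6), (88, 5), (50, 4), (118, 7), (12, 6), (14, 6), (115, 8), (79, 7), (69, 6), (118, 9), (14, 10), (91, 9), (80, 8), (10, 7), (12, 8), (11, 7), (119, 8), (14, 9)], [(24, 1), (28, 0), (110, 6), (97, 5), (85, 4), (74, 3), (64, 2), (29, 1), (103, 8), (80, 7), (10, 6), (105, 7), (117, 9), (104, 8), (92, 7), (11, 6), (118, 8), (105, 7), (12, 6), (119, 7), (13, 6), (14, 6), (59, 5), (118, 7), (119, 8), (14, 9)]),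
    ([6, 6, 6], [(6, 0), (87, 0)], [(6, 1)])]

/-- Part of the certificate. -/
def overlapsPart7 : List (List ℕ × List (ℕ × ℕ) × List (ℕ × ℕ)) := [
    ([6, 6, 0], [(6, 0), (81, 0)], [(30, 1), (30, 0), (87, 5), (66, 4), (57, 3), (49, 2), (6, 1), (89, 1), (12, 2), (116, 4), (91, 3), (118, 5), (12, 4), (114, 4), (68, 3), (59, 2), (8, 1), (116, 2), (14, 3), (69, 2), (9, 1), (116, 1), (116, 2), (10, 1), (118, 1)]),
    ([6, 0, 0], [(0, 1), (32, 0), (85, 4), (55, 3), (47, 2), (34, 1), (101, 4), (89, 3), (102, 5), (90, 4), (13, 6), (118, 6), (12, 5), (111, 5), (56, 4), (48, 3), (35, 2), (114, 6), (59, 5), (8, 4), (14, 5), (115, 6), (102, 5), (9, 4), (119, 4), (14, 5), (13, 4), (14, 4)], [(30, 0), (81, 5), (60, 4), (51, 3), (43, 2), (30, 1), (0, 0), (112, 6), (99, 5), (76, 4), (42, 3), (117, 7), (104, 6), (92, 5), (119, 8), (13, 7), (14, 7), (89, 6), (78, 5), (90, 7),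 (79, 6), (91, 8), (80, 7), (12, 9), (78, 8), (68, 7), (59, 6), (8, 5), (116, 6), (117, 7), (116, 8), (80, 7), (10, 6), (117, 7), (11, 6), (118, 6), (119, 7), (115, 8), (102, 7), (90, 6), (9, 5), (118, 5), (119, 6), (14, 7), (103, 6), (91, 5), (104, 7), (92, 6), (103, 8), (91, 7), (80, 6), (10, 5), (105, 7), (12, 6)]),
    ([6, 6, 1], [(6, 0), (82, 0)], [(31, 1), (31, 0), (87, 4), (76, 3), (66, 2), (6, 1), (91, 1), (92, 2), (12, 3), (80, 2), (10, 1), (11, 1)]),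
    ([6, 1, 1], [(1, 1), (6, 0), (89, 0), (91, 1)], [(31, 0), (82, 4), (71, 3), (61, 2), (31, 1), (1, 0), (99, 3), (66, 2), (49, 1), (6, 0), (89, 0), (12, 1), (103, 2), (10, 1), (104, 1), (105, 2), (103, 3), (91, 2), (80, 1), (105, 4), (12, 3), (104, 3), (11, 2), (105, 2)]),
    ([6, 1, 0], [(31, 0), (81, 4), (70, 3), (60, 2), (30, 1), (15, 0), (87, 7), (66, 6), (49, 5), (91, 7), (12, 8), (68, 7), (8, 6), (69, 6), (10, 7), (91, 7), (92, 8), (105, 10), (12, 9)], [(15, 1), (30, 0), (82, 5), (61, 4), (52, 3), (44, 2), (31, 1), (89, 5), (78, 4), (68, 3), (91, 6), (80, 5), (10, 4), (92, 5), (11, 4), (90, 4), (91, 5), (92, 6), (116, 9), (103, 8), (91, 7), (80, 6), (10, 5), (118, 8), (105, 7), (12, 6), (118, 7), (105, 6), (108, 8), (95, 7), (83, 6), (72, 5), (53, 4), (45, 3), (32, 2), (89, 6), (59, 5), (8, 4), (118, 5), (118, 6), (12, 5), (115, 5), (9, 4), (14, 4), (104,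 5), (92, 4), (13, 6), (12, 5), (119, 5), (14, 6), (97, 5), (74, 4), (34, 3), (104, 6), (92, 5), (13, 7), (86, 6), (75, 5), (35, 4), (117, 8), (119, 9), (118, 10), (105, 9), (14, 11), (101, 10), (89, 9), (78, 8), (59, 7), (8, 6), (117, 7), (118, 8), (119, 9), (116, 10), (103, 9), (91, 8), (80, 7), (118, 11), (105, 10), (12, 9)]),
    ([6, 6, 2], [(6, 0), (83, 0)], [(32, 1), (32, 0), (87, 4), (57, 3), (49, 2), (6, 1), (89, 1), (12, 2), (118, 4), (12, 3), (114, 3), (59, 2), (8, 1), (14, 2), (9, 1), (118, 1)]),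
    ([6, 2, 2], [(2, 1), (6, 0), (88, 0), (89, 1), (91, 2)], [(32, 0), (83, 4), (53, 3), (45, 2), (32, 1), (2, 0), (112, 4), (66, 3), (49, 2), (42, 1), (6, 0), (88, 0), (12, 1), (114, 2), (101, 1), (118, 3), (105, 2), (116, 4), (103, 3), (91, 2), (14, 5), (101, 4), (89, 3), (68, 2), (8, 1), (102, 3), (90, 2), (69, 1), (105, 4), (12, 3), (101, 3), (68, 2), (59, 1), (116, 3), (119, 4), (118, 5), (105, 4), (115, 6), (102, 5), (90, 4), (69, 3), (9, 2), (116, 2), (118, 3), (119, 4), (14, 5), (105, 4), (12, 3), (13, 3)]),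
    ([6, 2, 0], [(32, 0), (81, 4), (51, 3), (43, 2), (30, 1), (16, 0), (112, 4), (57, 3), (42, 2), (115, 6), (102, 5), (90, 4), (118, 7), (105, 6), (12, 5), (14, 6), (114, 6), (101, 5), (59, 4), (119, 6), (14, 7), (102, 6), (9, 5), (119, 5), (116, 6), (103, 5), (118, 7), (105, 6), (114, 8), (101, 7), (89, 6), (68, 5), (8, 4), (116, 7), (103, 6), (91, 5), (10, 4), (117, 6), (104, 5), (92, 4), (118, 7), (105, 6), (12, 5), (119, 6), (13, 5), (115, 5), (79, 4), (116, 6), (80, 5), (117, 7), (11, 6), (118, 6), (14, 7)], [(16, 1), (30, 0), (83, 5), (62, 4), (53, 3), (45, 2), (32, 1), (89, 5), (59, 4), (8, 3), (118, 4), (118, 5), (12, 4), (115, 4), (9, 3), (14, 3), (103, 4), (91, 3), (105, 5), (12, 4), (13, 4), (118, 4), (14, 5), (88, 4), (67, 3), (118, 5), (115, 6), (90, 5), (69, 4), (14, 7)])]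

/-- Part of the certificate. -/
def overlapsPart8 : List (List ℕ × List (ℕ × ℕ) × List (ℕ × ℕ)) := [
    ([6, 2, 1], [(32, 0), (82, 4), (52, 3), (44, 2), (31, 1), (17, 0), (112, 5), (57, 4), (49, 3), (42, 2), (114, 6), (101, 5), (89, 4), (118, 7), (105, 6), (12, 5), (115, 6), (102, 5), (118, 7), (105, 6), (14, 8), (116, 8), (103, 7), (91, 6), (117, 9), (104, 8), (92, 7), (118, 10), (105, 9), (12, 8), (114, 9), (101, 8), (78, 7), (68, 6), (59, 5), (8, 4), (116, 5), (117, 6), (119, 7), (14, 8), (103, 7), (80, 6), (10, 5), (104, 6), (11, 5), (102, 5), (9, 4), (119, 4), (116, 5), (103, 4), (117, 6), (104, 5), (119, 7), (13, 6), (14, 6)], [(17, 1), (31, 0), (83, 4), (72, 3), (62, 2), (32, 1), (91, 5), (12, 6), (117, 7), (104, 6), (119, 8), (13, 7), (118, 7), (14, 8), (88, 7), (77, 6), (67, 5), (58, 4), (50, 3), (115, 6), (90, 5), (118, 7), (12, 6), (14, 6), (117, 7),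 (118, 8), (114, 9), (89, 8), (78, 7), (68, 6), (59, 5), (8, 4), (116, 5), (117, 6), (118, 7), (14, 8), (90, 7), (79, 6), (69, 5), (9, 4), (116, 4), (117, 5), (118, 6), (14, 7)]),
    ([6, 6, 3], [(6, 0), (84, 0)], [(33, 1), (33, 0), (112, 5), (99, 4), (76, 3), (66, 2), (6, 1), (91, 1), (92, 2), (116, 5), (103, 4), (91, 3), (80, 2), (10, 1), (117, 4), (104, 3), (92, 2), (11, 1), (119, 3), (13, 2), (14, 2)]),
    ([6, 3, 3], [(3, 1)], [(33, 0), (109, 5), (96, 4), (73, 3), (63, 2), (33, 1), (3, 0), (112, 4), (99, 3), (87, 2), (76, 1), (66, 0), (116, 5), (103, 4), (91, 3), (80, 2), (10, 1), (117, 4), (104, 3), (92, 2), (11, 1), (119, 3), (13, 2), (14, 2), (91, 1), (12, 2), (119, 4), (14, 5)]),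
    ([6, 3, 0], [(33, 0), (106, 5), (93, 4), (70, 3), (60, 2), (30, 1), (18, 0), (112, 9), (87, 8), (76, 7), (66, 6), (57, 5), (49, 4), (42, 3), (6, 2), (88, 2), (12, 3), (114, 4), (101, 3), (118, 5), (105, 4), (115, 6), (102, 5), (90, 4), (118, 7), (105, 6), (12, 5), (14, 6), (103, 5), (104, 6), (105, 7), (114, 9), (101, 8), (89, 7), (78, 6), (68, 5), (59, 4), (8, 3), (116, 4), (117, 5), (118, 6), (119, 7), (14, 8), (102, 7), (90, 6), (79, 5), (69, 4), (9, 3), (116, 3), (117, 4), (118, 5), (119, 6), (116, 7), (103, 6), (91, 5), (80, 4), (10, 3), (118, 6), (105, 5), (12, 4), (116, 5), (103, 4), (80, 3), (117, 6), (104, 5), (11, 4), (119, 5), (13, 4), (119, 4), (14, 5)], [(18, 1), (30, 0), (84, 5), (63, 4), (54, 3), (46, 2), (33, 1), (114, 6), (101, 5), (78, 4), (68, 3), (118, 7), (105, 6), (115, 8), (102, 7), (90, 6), (79, 5), (69, 4), (118, 9), (105, 8), (12, 7),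 (14, 8), (103, 7), (80, 6), (10, 5), (105, 6), (105, 7), (12, 6), (99, 6), (76, 5), (57, 4), (49, 3), (6, 2), (89, 2), (12, 3), (117, 5), (92, 4), (119, 6), (113, 7), (100, 6), (88, 5), (77, 4), (58, 3), (50, 2), (115, 5), (90, 4), (118, 6), (12, 5), (14, 5), (114, 8), (101, 7), (89, 6), (78, 5), (59, 4), (8, 3), (117, 4), (118, 5), (119, 6), (14, 7), (102, 6), (90, 5), (79, 4), (9, 3), (117, 3), (118, 4), (119, 5), (116, 6), (103, 5), (91, 4), (80, 3), (117, 7), (104, 6), (92, 5), (11, 4), (118, 6), (105, 5), (12, 4), (14, 5)]),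
    ([6, 3, 1], [(33, 0), (107, 5), (94, 4), (71, 3), (61, 2), (31, 1), (19, 0), (57, 2), (116, 5), (91, 4), (117, 6), (92, 5), (118, 7), (12, 6), (116, 6), (80, 5), (10, 4), (118, 5), (117, 6), (92, 5), (11, 4), (119, 5), (14, 6)], [(19, 1), (31, 0), (84, 4), (73, 3), (63, 2), (33, 1), (116, 6), (103, 5), (80, 4), (10, 3), (118, 5), (105, 4), (117, 6), (104, 5), (92, 4), (11, 3), (118, 5), (105, 4), (12, 3), (14, 4), (105, 3), (102, 4), (90, 3)]),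
    ([6, 3, 2], [(33, 0), (108, 5), (95, 4), (72, 3), (62, 2), (32, 1), (20, 0), (112, 7), (99, 6), (87, 5), (76, 4), (66, 3), (57, 2), (116, 5), (91, 4), (117, 6), (92, 5), (118, 7), (12, 6), (119, 6), (14, 7), (101, 6), (78, 5), (68, 4), (59, 3), (116, 5), (117, 6), (119, 7), (115, 8), (102, 7), (79, 6), (69, 5), (9, 4), (116, 4), (117, 5), (119, 6), (14, 7), (105, 6), (103, 7), (91, 6), (80, 5), (10, 4), (105, 6), (12, 5), (13, 5), (117, 5), (11, 4), (119, 4), (119, 5), (13, 4), (14, 4)], [(20, 1), (32, 0), (84, 4), (54, 3), (46, 2), (33, 1), (114, 6), (101, 5), (78, 4), (68, 3), (118, 7), (105, 6), (115, 8), (102, 7), (90, 6), (79, 5), (69, 4), (118, 9), (105, 8), (12, 7), (14, 8), (105, 7), (102, 8), (90, 7), (79, 6), (69, 5), (9, 4), (116, 4), (117, 5), (118, 6), (119, 7), (116, 8), (103, 7), (91, 6), (80, 5), (10, 4), (117, 7), (104, 6), (92, 5), (11, 4),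 (118, 6), (105, 5), (12, 4), (119, 5), (13, 4), (14, 4)]),
    ([6, 6, 4], [(6, 0), (85, 0)], [(34, 1), (34, 0), (99, 3), (87, 2), (6, 1), (12, 1), (105, 1), (13, 2)]),
    ([6, 4, 4], [(4, 1)], [(34, 0), (97, 3), (85, 2), (34, 1), (4, 0), (105, 2), (12, 1), (13, 1)])]

/-- Part of the certificate. -/
def overlapsPart9 : List (List ℕ × List (ℕ × ℕ) × List (ℕ × ℕ)) := [
    ([6, 4, 0], [(34, 0), (93, 3), (81, 2), (30, 1), (21, 0), (76, 5), (57, 4), (49, 3), (42, 2), (114, 6), (101, 5), (89, 4), (118, 7), (105, 6), (12, 5), (115, 6), (102, 5), (118, 7), (105, 6), (14, 8), (104, 7), (92, 6), (101, 8), (89, 7), (78, 6), (59, 5), (8, 4), (117, 5), (118, 6), (119, 7), (115, 8), (102, 7), (90, 6), (79, 5), (9, 4), (117, 4), (118, 5), (119, 6), (14, 7), (103, 6), (91, 5), (80, 4), (105, 7), (12, 6), (105, 6), (119, 8), (13, 7)], [(21, 1), (30, 0), (85, 5), (64, 4), (55,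 3), (47, 2), (34, 1), (101, 4), (89, 3), (102, 5), (90, 4), (13, 6), (116, 6), (91, 5), (118, 7), (12, 6), (14, 6), (88, 6), (67, 5), (58, 4), (50, 3), (115, 6), (90, 5), (118, 7), (12, 6), (14, 6), (118, 7), (114, 8), (89, 7), (68, 6), (59, 5), (8, 4), (116, 5), (118, 6), (14, 7), (90, 6), (69, 5), (9, 4), (116, 4), (118, 5), (117, 6), (92, 5)]),
    ([6, 4, 1], [(34, 0), (94, 3), (82, 2), (31, 1), (22, 0), (87, 5), (66, 4), (57, 3), (6, 2), (90, 2), (12, 3), (116, 3), (118, 4), (116, 5), (91, 4), (10, 3), (117, 4), (92, 3), (118, 5), (12, 4), (118, 4), (119, 5)], [(22, 1), (31, 0), (85, 4), (74, 3), (64, 2), (34, 1), (103, 4), (91, 3), (105, 5), (12, 4), (117, 5), (104, 4), (118, 6), (105, 5), (112, 7), (99, 6), (87, 5), (76, 4), (66, 3), (6, 2), (91, 2), (92, 3), (12, 4), (115, 5), (102, 4), (79, 3), (69, 2), (116, 6), (103, 5), (80, 4), (10, 3), (118, 5), (105,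 4)]),
    ([6, 4, 2], [(34, 0), (95, 3), (83, 2), (32, 1), (23, 0), (112, 8), (99, 7), (87, 6), (66, 5), (57, 4), (42, 3), (6, 2), (88, 2), (12, 3), (115, 4), (102, 3), (118, 5), (105, 4), (14, 6), (103, 5), (91, 4), (105, 6), (12, 5), (13, 5), (114, 5), (68, 4), (59, 3), (116, 5), (14, 6), (69, 5), (9, 4), (116, 4), (118, 5), (118, 6), (12, 5), (14, 5)], [(23, 1), (32, 0), (85, 4), (55, 3), (47, 2), (34, 1), (101, 4), (89, 3), (102, 5), (90, 4), (13, 6), (118, 6), (12, 5), (112, 5), (57, 4), (49, 3), (6, 2), (89, 2), (12, 3), (14, 5), (88, 4), (58, 3), (50, 2), (115, 5), (90, 4), (118, 6), (12, 5), (14, 5), (90, 5), (9, 4), (118, 4), (116, 5), (91, 4), (118, 6), (12, 5), (119, 5), (14, 6)]),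
    ([6, 4, 3], [(34, 0), (96, 3), (84, 2), (33, 1), (24, 0), (112, 5), (99, 4), (87, 3), (49, 2), (12, 4), (116, 5), (103, 4), (117, 6), (104, 5), (119, 7), (13, 6), (14, 6)], [(24, 1), (33, 0), (110, 5), (97, 4), (74, 3), (64, 2), (34, 1), (103, 4), (91, 3), (105, 5), (12, 4), (117, 5), (104, 4), (119, 6), (13, 5), (14, 5), (78, 4), (68, 3)]),
    ([6, 6, 5], [(6, 0), (86, 0)], [(35, 1), (35, 0), (112, 4), (57, 3), (49, 2), (6, 1), (89, 1), (12, 2), (14, 4), (89, 3), (59, 2), (8, 1), (118, 2), (115, 3), (90, 2), (9, 1), (118, 1), (14, 2)]),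
    ([6, 5, 5], [(5, 1)], [(35, 0), (111, 4), (56, 3), (48, 2), (35, 1), (5, 0), (99, 3), (87, 2), (76, 1), (66, 0), (101, 4), (89, 3), (78, 2), (68, 1), (102, 5), (90, 4), (79, 3), (69, 2), (114, 7), (101, 6), (89, 5), (78, 4), (68, 3), (59, 2), (8, 1), (116, 2), (117, 3), (118, 4), (119, 5), (14, 6), (13, 5), (115, 5), (90, 4), (79, 3), (69, 2), (9, 1), (116, 1), (117, 2), (118, 3), (14, 4), (14, 5)]),
    ([6, 5, 0], [(35, 0), (106, 4), (51, 3), (43, 2), (30, 1), (25, 0), (99, 3), (49, 2), (101, 5), (89, 4), (8, 3), (102, 4), (90, 3), (103, 5), (91, 4), (105, 6), (12, 5), (101, 5), (68, 4), (59, 3), (116, 5), (119, 6), (116, 7), (103, 6), (10, 5), (117, 6), (104, 5), (118, 7), (105, 6), (119, 8), (13, 7), (115, 7), (90, 6), (79, 5), (9, 4), (117, 4), (118, 5), (14, 6), (91, 5), (80, 4), (92, 6), (11, 5)], [(25, 1), (30, 0), (86, 5), (65, 4), (56, 3), (48, 2),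 (35, 1), (114, 5), (59, 4), (8, 3), (14, 4), (115, 5), (102, 4), (9, 3), (119, 3), (14, 4), (13, 3), (116, 3), (119, 4), (14, 5), (105, 4), (114, 6), (101, 5), (89, 4), (68, 3), (119, 7), (13, 6)]),
    ([6, 5, 1], [(35, 0), (107, 4), (52, 3), (44, 2), (31, 1), (26, 0), (87, 5), (57, 4), (42, 3), (6, 2), (88, 2), (12, 3), (115, 4), (102, 3), (118, 5), (105, 4), (14, 6), (105, 5), (12, 4), (103, 4), (104, 5), (105, 6), (101, 7), (89, 6), (78, 5), (68, 4), (59, 3), (116, 5), (117, 6), (118, 7), (119, 8), (116, 9), (103, 8), (91, 7), (80, 6), (10, 5), (117, 8), (104, 7), (92, 6), (11, 5), (115, 7), (102, 6), (90, 5), (9, 4), (118, 4), (119, 5), (14, 6), (103, 5), (91, 4), (104, 6), (92, 5), (13, 7), (14, 7)], [(26, 1), (31, 0), (86, 4), (75, 3), (65, 2), (35, 1), (116, 5), (119, 6), (14, 7), (104, 6), (13, 7), (112, 8), (87, 7), (76, 6), (66, 5), (57, 4), (49, 3),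 (6, 2), (89, 2), (12, 3), (116, 5), (91, 4), (117, 6), (92, 5), (118, 7), (12, 6), (14, 6), (77, 5), (67, 4), (58, 3), (50, 2), (115, 5), (90, 4), (118, 6), (12, 5), (14, 5), (117, 6), (115, 7), (79, 6), (69, 5), (9, 4), (116, 4), (117, 5), (14, 6)])]

/-- Part of the certificate. -/
def overlapsPart10 : List (List ℕ × List (ℕ × ℕ) × List (ℕ × ℕ)) := [
    ([6, 5, 2], [(35, 0), (108, 4), (53, 3), (45, 2), (32, 1), (27, 0), (99, 6), (87, 5), (49, 4), (42, 3), (6, 2), (88, 2), (12, 3), (114, 4), (101, 3), (118, 5), (105, 4), (118, 6), (105, 5), (12, 4), (119, 5), (13, 4), (114, 4), (8, 3), (115, 3), (118, 4), (114, 5), (89, 4), (59, 3), (118, 5), (14, 6), (12, 5), (9, 4), (118, 4), (119, 5), (14, 6)], [(27, 1), (32, 0), (86, 4), (56, 3), (48, 2), (35, 1), (114, 5), (59, 4), (8, 3), (14, 4), (115, 5), (102, 4), (9, 3), (119, 3), (14, 4), (13, 3), (118, 3), (14, 4),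 (87, 3), (6, 2), (12, 2)]),
    ([6, 5, 3], [(35, 0), (109, 4), (54, 3), (46, 2), (33, 1), (28, 0), (112, 6), (99, 5), (87, 4), (76, 3), (66, 2), (116, 7), (103, 6), (91, 5), (80, 4), (10, 3), (117, 6), (104, 5), (92, 4), (11, 3), (119, 5), (13, 4), (14, 4), (89, 3), (12, 4), (14, 6)], [(28, 1), (33, 0), (111, 5), (98, 4), (75, 3), (65, 2), (35, 1), (116, 5), (119, 6), (14, 7), (104, 6), (13, 7), (116, 8), (103, 7), (80, 6), (10, 5), (117, 7), (104, 6), (11, 5), (118, 6), (105, 5), (119, 7), (13, 6), (14, 6)]),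
    ([6, 5, 4], [(35, 0), (110, 4), (55, 3), (47, 2), (34, 1), (29, 0), (99, 7), (76, 6), (66, 5), (57, 4), (42, 3), (6, 2), (88, 2), (12, 3), (115, 4), (102, 3), (118, 5), (105, 4), (14, 6), (103, 5), (91, 4), (104, 6), (92, 5), (13, 7), (12, 6), (101, 6), (78, 5), (68, 4), (59, 3), (116, 5), (117, 6), (119, 7), (115, 8), (102, 7), (79, 6), (69, 5), (9, 4), (116, 4), (117, 5), (119, 6), (14, 7), (13, 6), (14, 6)], [(29, 1), (34, 0), (98, 3), (86, 2), (35, 1), (118, 5), (14, 6), (99, 6), (87, 5), (57, 4), (49, 3), (6, 2), (89, 2), (12, 3), (118, 5), (12, 4), (119, 4), (113, 5), (100, 4), (58, 3), (50, 2), (115, 5), (90, 4), (118, 6), (12, 5), (14, 5), (115, 6), (102, 5), (9, 4), (119, 4), (14, 5), (103, 4), (104, 5), (13, 6)]),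
    ([7, 7, 7], [(7, 0), (113, 1), (100, 0)], [(7, 1)]),
    ([7, 7, 0], [(7, 0), (106, 1), (93, 0)], [(36, 1), (36, 0), (88, 3), (77, 2), (7, 1), (117, 2), (104, 1), (118, 3), (105, 2), (117, 4), (104, 3), (92, 2), (11, 1), (118, 3), (105, 2), (12, 1)]),
    ([7, 0, 0], [(0, 1), (38, 0), (110, 6), (97, 5), (85, 4), (55, 3), (47, 2), (40, 1), (118, 6), (105, 5), (119, 7), (13, 6), (14, 6), (86, 5), (56, 4), (48, 3), (41, 2), (101, 7), (89, 6), (59, 5), (8, 4), (118, 5), (119, 6), (119, 7), (13, 6), (14, 6), (90, 5), (9, 4), (118, 4), (119, 5), (14, 6), (105, 5), (12, 4), (113, 5), (100, 4), (7, 3), (119, 4), (13, 3), (14, 3)], [(36, 0), (81, 3), (70, 2), (36, 1), (0, 0), (113, 6), (100, 5), (77, 4), (7, 3), (117, 4), (104, 3), (119, 5), (13, 4), (14, 4), (11, 3), (92, 3), (105, 5), (12, 4)]),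
    ([7, 7, 1], [(7, 0), (107, 1), (94, 0)], [(37, 1), (37, 0), (100, 5), (88, 4), (58, 3), (50, 2), (7, 1), (114, 2), (101, 1), (118, 3), (105, 2), (14, 4), (102, 3), (90, 2), (105, 4), (12, 3), (118, 4), (105, 3), (119, 5), (13, 4), (114, 4), (89, 3), (59, 2), (8, 1), (118, 2), (14, 3), (90, 2), (9, 1), (118, 1), (118, 2), (12, 1), (119, 1)]),
    ([7, 1, 1], [(1, 1), (42, 0), (114, 4), (101, 3), (89, 2), (116, 5), (103, 4), (91, 3), (119, 6), (13, 5)], [(37, 0), (94, 5), (82, 4), (52, 3), (44, 2), (37, 1), (1, 0), (100, 3), (67, 2), (50, 1), (116, 4), (91, 3), (14, 5), (101, 5), (89, 4), (68, 3), (8, 2), (102, 4), (90, 3), (69, 2), (105, 5), (12, 4), (13, 4), (68, 3), (59, 2), (116, 4), (116, 5), (10, 4), (117, 4), (115, 5), (79, 4), (9, 3), (117, 3), (14, 4), (80, 3), (11, 4), (118, 5), (105, 4), (119, 6), (13, 5)])]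

/-- Part of the certificate. -/
def overlapsPart11 : List (List ℕ × List (ℕ × ℕ) × List (ℕ × ℕ)) := [
    ([7, 1, 0], [(37, 0), (93, 5), (81, 4), (51, 3), (43, 2), (36, 1), (15, 0), (88, 7), (67, 6), (50, 5), (116, 8), (91, 7), (14, 9), (12, 8), (89, 9), (78, 8), (68, 7), (8, 6), (91, 8), (80, 7), (10, 6), (92, 7), (11, 6), (12, 6), (102, 6), (103, 7), (104, 8), (105, 9), (119, 11), (13, 10)], [(15, 1), (36, 0), (82, 3), (71, 2), (37, 1), (104, 6), (92, 5), (105, 7), (12, 6), (95, 6), (72, 5), (53, 4), (45, 3), (38, 2), (114, 8), (101, 7), (89, 6), (59, 5), (8, 4), (118, 5), (119, 6), (14, 7), (105, 6), (12, 5), (102, 5), (9, 4), (119, 4), (118, 5), (105, 4), (119, 6), (13, 5), (117, 5), (92, 4), (119, 6), (119, 7), (13, 6), (110, 6), (85, 5), (74, 4), (40, 3), (111, 7), (86, 6), (75, 5), (41, 4), (104, 9), (92, 8), (13, 10), (12, 9), (14, 9), (78, 8), (59, 7),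 (8, 6), (117, 7), (116, 8), (80, 7), (118, 9)]),
    ([7, 7, 2], [(7, 0), (108, 1), (95, 0)], [(38, 1), (38, 0), (113, 6), (100, 5), (88, 4), (58, 3), (50, 2), (7, 1), (114, 2), (101, 1), (118, 3), (105, 2), (14, 4), (102, 3), (90, 2), (105, 4), (12, 3), (118, 4), (105, 3), (119, 5), (13, 4), (14, 4), (89, 3), (59, 2), (8, 1), (118, 2), (115, 3), (90, 2), (9, 1), (118, 1), (14, 2), (12, 1)]),
    ([7, 2, 2], [(2, 1), (42, 0), (113, 4), (100, 3), (88, 2), (7, 1), (118, 2), (105, 1), (119, 3), (13, 2), (14, 2), (89, 1), (91, 2)], [(38, 0), (108, 6), (95, 5), (83, 4), (53, 3), (45, 2), (38, 1), (2, 0), (113, 4), (67, 3), (50, 2), (7, 1), (114, 2), (101, 1), (118, 3), (105, 2), (14, 4), (103, 3), (91, 2), (14, 5), (101, 4), (89, 3), (68, 2), (8, 1), (102, 3), (90, 2), (69, 1), (105, 4), (12, 3), (13, 3), (114, 3), (68, 2), (59, 1), (116, 3), (14, 4), (90, 4), (69, 3),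 (9, 2), (116, 2), (118, 3), (118, 4), (12, 3), (119, 3), (118, 4), (105, 3), (14, 5), (13, 4)]),
    ([7, 2, 0], [(38, 0), (106, 6), (93, 5), (81, 4), (51, 3), (43, 2), (36, 1), (16, 0), (113, 4), (58, 3), (7, 2), (115, 3), (102, 2), (118, 4), (105, 3), (14, 5), (117, 5), (104, 4), (92, 3), (118, 6), (105, 5), (12, 4), (114, 5), (101, 4), (78, 3), (59, 2), (117, 4), (119, 5), (14, 6), (103, 5), (80, 4), (104, 6), (11, 5), (105, 5), (13, 6), (90, 5), (69, 4), (9, 3), (116, 3), (118, 4), (116, 5), (91, 4), (10, 3), (117, 4), (92, 3), (118, 5), (12, 4), (14, 4)], [(16, 1), (36, 0), (83, 3), (72, 2), (38, 1), (117, 7), (104, 6), (92, 5), (119, 8), (13, 7), (118, 7), (12, 6), (14, 6), (77, 5), (58, 4), (50, 3), (7, 2), (114, 3), (101, 2), (118, 4), (105, 3), (14, 5), (102, 4), (90, 3), (105, 5), (12, 4), (117, 5), (104, 4), (115, 6), (102, 5), (79, 4), (9, 3), (117,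 3), (119, 4), (14, 5)]),
    ([7, 7, 3], [(7, 0), (109, 1), (96, 0), (14, 2)], [(39, 1), (39, 0), (113, 4), (77, 3), (67, 2), (7, 1), (116, 2), (103, 1), (14, 3), (104, 2), (116, 4), (103, 3), (80, 2), (10, 1), (117, 3), (104, 2), (11, 1), (14, 2)]),
    ([7, 3, 3], [(3, 1)], [(39, 0), (109, 4), (73, 3), (63, 2), (39, 1), (3, 0), (113, 4), (100, 3), (88, 2), (77, 1), (67, 0), (117, 2), (118, 3), (119, 4), (14, 5), (103, 4), (91, 3), (80, 2), (10, 1), (104, 3), (92, 2), (11, 1), (116, 3), (103, 2), (91, 1), (118, 4), (105, 3), (12, 2), (117, 3), (104, 2), (118, 4), (105, 3), (14, 5)]),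
    ([8, 3, 1], [(46, 0), (82, 2), (44, 1), (19, 0), (59, 2), (116, 4), (117, 5), (118, 6)], [(19, 1), (44, 0), (73, 3), (63, 2), (46, 1), (91, 3), (12, 4), (115, 6), (90, 5), (79, 4), (69, 3)]),
    ([8, 4, 0], [(47, 0), (43, 1), (21, 0), (78, 5), (59, 4), (8, 3), (117, 4), (116, 5), (80, 4), (117, 6), (11, 5), (118, 5), (119, 6)], [(21, 1), (43, 0), (97, 5), (85, 4), (74, 3), (64, 2), (47, 1), (117, 5), (92, 4), (118, 6), (12, 5), (119, 5), (113, 6), (100, 5), (77, 4), (67, 3), (50, 2), (116, 5), (91, 4), (14, 6), (92, 5), (114, 8), (101, 7), (89, 6), (78, 5), (68, 4), (8, 3), (115, 7), (102, 6), (90, 5), (79, 4), (69, 3), (117, 8), (104, 7), (92, 6), (11, 5)])]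

/-- Part of the certificate. -/
def fusesPart0 : List Spor.SchurCert.Fuse := [
    ⟨0, [1, 0], [0, 1], [(21, 0), (71, 5), (52, 4), (44, 3), (37, 2), (22, 1), (88, 6), (67, 5), (58, 4), (116, 7), (91, 6), (14, 8), (12, 7), (68, 6), (59, 5), (116, 7), (115, 8), (69, 7), (9, 6), (116, 6), (14, 7), (101, 8), (89, 7), (68, 6), (8, 5), (103, 7), (91, 6), (10, 5), (104, 6), (92, 5), (102, 7), (90, 6), (79, 5), (103, 8), (91, 7), (80, 6), (104, 9), (92, 8), (11, 7), (13, 8), (117, 8), (92, 7), (111, 9), (86, 8), (75, 7), (65, 6), (56, 5), (41, 4), (35, 3), (113, 7), (58, 6), (50, 5), (115, 8), (90, 7), (118, 9), (12, 8), (14, 8), (114, 8), (59, 7), (8, 6), (14, 7), (9, 6), (118, 6), (119, 7), (115, 8), (102, 7), (90, 6), (119, 9), (13, 8), (14, 8), (91, 7), (117, 10), (104, 9), (92, 8), (119, 11), (13, 10), (118, 10), (12, 9), (14, 9), (115, 9), (79, 8), (69, 7), (9, 6),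 (116, 6), (117, 7), (14, 8)], [(55, 3), (29, 2), (102, 9), (79, 8), (69, 7), (9, 6), (116, 6), (117, 7), (119, 8), (119, 9), (13, 8), (14, 8)], [(93, 5), (81, 4), (51, 3), (25, 2), (15, 1), (0, 0), (107, 6), (94, 5), (71, 4), (37, 3), (26, 2), (22, 1), (17, 0), (110, 5), (55, 4), (47, 3), (40, 2), (14, 7), (99, 6), (57, 5), (49, 4), (42, 3), (114, 7), (101, 6), (89, 5), (118, 8), (105, 7), (12, 6), (115, 7), (102, 6), (118, 8), (105, 7), (14, 9), (13, 8), (90, 7), (9, 6), (118, 6), (116, 7), (91, 6), (118, 8), (12, 7), (111, 7), (65, 6), (48, 5), (41, 4), (35, 3), (113, 7), (58, 6), (50, 5), (115, 8), (90, 7), (118, 9), (12, 8), (14, 8), (114, 8), (59, 7), (8, 6), (14, 7), (9, 6), (118, 6), (119, 7), (114, 8), (101, 7), (89, 6), (119, 9), (13, 8), (14, 8), (91, 7), (14, 10), (99, 9), (87, 8), (66, 7), (49, 6), (42, 5), (6, 4), (88, 4), (12, 5), (114, 6), (101, 5),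 (118, 7), (105, 6), (116, 8), (103, 7), (91, 6), (118, 9), (105, 8), (12, 7), (119, 8), (13, 7), (113, 7), (67, 6), (50, 5), (7, 4), (114, 5), (101, 4), (118, 6), (105, 5), (14, 7), (103, 6), (91, 5), (14, 8), (102, 7), (90, 6), (69, 5), (105, 8), (12, 7), (100, 7), (67, 6), (58, 5), (50, 4), (115, 7), (90, 6), (118, 8), (12, 7), (14, 7), (119, 8), (114, 9), (101, 8), (68, 7), (59, 6), (8, 5), (116, 6), (119, 7), (14, 8), (102, 7), (69, 6), (9, 5), (116, 5), (119, 6), (118, 7), (105, 6), (119, 8), (13, 7), (117, 7), (92, 6), (119, 8), (14, 9), (95, 8), (83, 7), (72, 6), (62, 5), (38, 4), (27, 3), (23, 2), (2, 1), (110, 5), (64, 4), (47, 3), (40, 2), (34, 1), (100, 4), (88, 3), (101, 5), (89, 4), (103, 6), (91, 5), (105, 7), (12, 6), (14, 7), (99, 6), (66, 5), (49, 4), (42, 3), (6, 2), (88, 2), (12, 3), (114, 4), (101, 3), (118, 5), (105, 4), (116, 6), (103, 5),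 (91, 4), (119, 7), (13, 6), (113, 6), (88, 5), (67, 4), (50, 3), (7, 2), (114, 3), (101, 2), (118, 4), (105, 3), (14, 5), (103, 4), (91, 3), (118, 6), (105, 5), (12, 4), (14, 5), (102, 4), (69, 3), (103, 5), (10, 4), (105, 4), (13, 5), (111, 5), (86, 4), (56, 3), (48, 2), (115, 5), (102, 4), (119, 6), (13, 5), (14, 5), (14, 6), (87, 5), (57, 4), (49, 3), (90, 5), (12, 6), (118, 6), (113, 7), (88, 6), (58, 5), (50, 4), (115, 7), (90, 6), (118, 8), (12, 7), (14, 7), (114, 8), (89, 7), (59, 6), (8, 5), (118, 6), (14, 7), (12, 6), (100, 6), (58, 5), (7, 4), (115, 5), (102, 4), (118, 6), (105, 5), (14, 7), (13, 6), (89, 5), (59, 4), (118, 6), (115, 7), (90, 6), (9, 5), (118, 5), (14, 6), (12, 5), (116, 6), (103, 5), (118, 7), (105, 6), (119, 8), (13, 7), (14, 7), (92, 6), (105, 8), (12, 7), (119, 8), (13, 7), (110, 7), (74, 6), (64, 5), (47, 4), (34, 3), (29, 2), (4,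 1), (99, 7), (76, 6), (66, 5), (57, 4), (42, 3), (6, 2), (88, 2), (12, 3), (115, 4), (102, 3), (118, 5), (105, 4), (14, 6), (103, 5), (91, 4), (104, 6), (92, 5), (13, 7), (12, 6), (101, 6), (78, 5), (68, 4), (59, 3), (116, 5), (117, 6), (119, 7), (116, 8), (103, 7), (80, 6), (10, 5), (118, 7), (105, 6), (14, 8), (104, 7), (92, 6), (11, 5), (111, 7), (98, 6), (86, 5), (56, 4), (48, 3), (41, 2), (5, 1), (100, 4), (88, 3), (77, 2), (67, 1), (117, 3), (118, 4), (119, 5), (114, 6), (101, 5), (89, 4), (78, 3), (68, 2), (115, 7), (102, 6), (90, 5), (79, 4), (69, 3), (118, 8), (105, 7), (12, 6), (119, 7), (13, 6), (114, 6), (78, 5), (68, 4), (59, 3), (8, 2), (116, 3), (117, 4), (14, 5), (115, 6), (102, 5), (79, 4), (69, 3), (9, 2), (116, 2), (117, 3), (119, 4), (14, 5), (13, 4), (118, 4), (14, 5), (114, 6), (101, 5), (89, 4), (78, 3), (68, 2), (116, 7), (103, 6), (91, 5),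 (80, 4), (10, 3), (118, 6), (105, 5), (12, 4), (111, 5), (98, 4), (75, 3), (48, 2), (41, 1), (101, 6), (89, 5), (59, 4), (8, 3), (118, 4), (119, 5), (119, 6), (13, 5), (14, 5), (92, 4), (13, 6), (114, 6), (89, 5), (78, 4), (59, 3), (117, 5), (118, 6), (14, 7), (102, 7), (90, 6), (79, 5), (9, 4), (117, 4), (118, 5), (119, 6), (116, 7), (103, 6), (91, 5), (80, 4), (117, 8), (104, 7), (92, 6), (11, 5), (118, 7), (105, 6), (12, 5), (14, 6), (13, 5), (61, 4), (44, 3), (37, 2), (26, 1), (1, 0), (98, 3), (65, 2), (48, 1), (35, 0), (114, 4), (59, 3), (8, 2), (14, 3), (116, 4), (103, 3), (119, 5), (13, 4), (14, 4), (99, 4), (66, 3), (57, 2), (6, 1), (90, 1), (12, 2), (116, 2), (119, 3), (113, 4), (100, 3), (67, 2), (58, 1), (116, 4), (91, 3), (14, 5), (115, 6), (102, 5), (90, 4), (69, 3), (9, 2), (116, 2), (118, 3), (119, 4), (14, 5), (105, 4), (12, 3), (100, 3), (67, 2),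 (7, 1), (116, 2), (103, 1), (14, 3), (13, 2), (68, 1), (69, 2), (101, 5), (89, 4), (68, 3), (59, 2), (8, 1), (116, 2), (118, 3), (119, 4), (116, 5), (103, 4), (91, 3), (10, 2), (117, 4), (104, 3), (92, 2), (116, 5), (103, 4), (91, 3), (80, 2), (118, 6), (105, 5), (12, 4), (111, 5), (98, 4), (75, 3), (65, 2), (56, 1), (5, 0), (102, 3), (90, 2), (79, 1), (69, 0), (13, 4), (116, 4), (91, 3), (80, 2), (10, 1), (119, 3), (14, 4), (104, 3), (92, 2), (11, 1), (13, 2), (115, 3), (102, 2), (90, 1), (9, 0), (118, 0), (119, 1), (14, 2)], [(51, 3), (25, 2), (15, 1), (0, 0), (107, 6), (94, 5), (71, 4), (37, 3), (26, 2), (22, 1), (17, 0), (110, 5), (55, 4), (47, 3), (40, 2), (14, 7), (99, 6), (57, 5), (49, 4), (42, 3), (114, 7), (101, 6), (89, 5), (118, 8), (105, 7), (12, 6), (115, 7), (102, 6), (118, 8), (105, 7), (14, 9), (13, 8), (90, 7), (9, 6), (118, 6), (116, 7), (91, 6),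 (118, 8), (12, 7), (111, 7), (65, 6), (48, 5), (41, 4), (35, 3), (113, 7), (58, 6), (50, 5), (115, 8), (90, 7), (118, 9), (12, 8), (14, 8), (114, 8), (59, 7), (8, 6), (14, 7), (9, 6), (118, 6), (119, 7), (114, 8), (101, 7), (89, 6), (119, 9), (13, 8), (14, 8), (91, 7), (14, 10), (99, 9), (87, 8), (66, 7), (49, 6), (42, 5), (6, 4), (88, 4), (12, 5), (114, 6), (101, 5), (118, 7), (105, 6), (116, 8), (103, 7), (91, 6), (118, 9), (105, 8), (12, 7), (119, 8), (13, 7), (113, 7), (67, 6), (50, 5), (7, 4), (114, 5), (101, 4), (118, 6), (105, 5), (14, 7), (103, 6), (91, 5), (14, 8), (102, 7), (90, 6), (69, 5), (105, 8), (12, 7), (100, 7), (67, 6), (58, 5), (50, 4), (115, 7), (90, 6), (118, 8), (12, 7), (14, 7), (119, 8), (114, 9), (101, 8), (68, 7), (59, 6), (8, 5), (116, 6), (119, 7), (14, 8), (102, 7), (69, 6), (9, 5), (116, 5), (119, 6), (118, 7), (105, 6), (119, 8),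 (13, 7), (117, 7), (92, 6), (119, 8), (14, 9), (95, 8), (83, 7), (72, 6), (62, 5), (38, 4), (27, 3), (23, 2), (2, 1), (110, 5), (64, 4), (47, 3), (40, 2), (34, 1), (100, 4), (88, 3), (101, 5), (89, 4), (103, 6), (91, 5), (105, 7), (12, 6), (14, 7), (99, 6), (66, 5), (49, 4), (42, 3), (6, 2), (88, 2), (12, 3), (114, 4), (101, 3), (118, 5), (105, 4), (116, 6), (103, 5), (91, 4), (119, 7), (13, 6), (113, 6), (88, 5), (67, 4), (50, 3), (7, 2), (114, 3), (101, 2), (118, 4), (105, 3), (14, 5), (103, 4), (91, 3), (118, 6), (105, 5), (12, 4), (14, 5), (102, 4), (69, 3), (103, 5), (10, 4), (105, 4), (13, 5), (111, 5), (86, 4), (56, 3), (48, 2), (115, 5), (102, 4), (119, 6), (13, 5), (14, 5), (14, 6), (87, 5), (57, 4), (49, 3), (90, 5), (12, 6), (118, 6), (113, 7), (88, 6), (58, 5), (50, 4), (115, 7), (90, 6), (118, 8), (12, 7), (14, 7), (114, 8), (89, 7), (59, 6), (8, 5),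 (118, 6), (14, 7), (12, 6), (100, 6), (58, 5), (7, 4), (115, 5), (102, 4), (118, 6), (105, 5), (14, 7), (13, 6), (89, 5), (59, 4), (118, 6), (115, 7), (90, 6), (9, 5), (118, 5), (14, 6), (12, 5), (116, 6), (103, 5), (118, 7), (105, 6), (119, 8), (13, 7), (14, 7), (92, 6), (105, 8), (12, 7), (119, 8), (13, 7), (110, 7), (74, 6), (64, 5), (47, 4), (34, 3), (29, 2), (4, 1), (99, 7), (76, 6), (66, 5), (57, 4), (42, 3), (6, 2), (88, 2), (12, 3), (115, 4), (102, 3), (118, 5), (105, 4), (14, 6), (103, 5), (91, 4), (104, 6), (92, 5), (13, 7), (12, 6), (101, 6), (78, 5), (68, 4), (59, 3), (116, 5), (117, 6), (119, 7), (116, 8), (103, 7), (80, 6), (10, 5), (118, 7), (105, 6), (14, 8), (104, 7), (92, 6), (11, 5), (111, 7), (98, 6), (86, 5), (56, 4), (48, 3), (41, 2), (5, 1), (100, 4), (88, 3), (77, 2), (67, 1), (117, 3), (118, 4), (119, 5), (114, 6), (101, 5), (89, 4), (78,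 3), (68, 2), (115, 7), (102, 6), (90, 5), (79, 4), (69, 3), (118, 8), (105, 7), (12, 6), (119, 7), (13, 6), (114, 6), (78, 5), (68, 4), (59, 3), (8, 2), (116, 3), (117, 4), (14, 5), (115, 6), (102, 5), (79, 4), (69, 3), (9, 2), (116, 2), (117, 3), (119, 4), (14, 5), (13, 4), (118, 4), (14, 5), (114, 6), (101, 5), (89, 4), (78, 3), (68, 2), (116, 7), (103, 6), (91, 5), (80, 4), (10, 3), (118, 6), (105, 5), (12, 4), (111, 5), (98, 4), (75, 3), (48, 2), (41, 1), (101, 6), (89, 5), (59, 4), (8, 3), (118, 4), (119, 5), (119, 6), (13, 5), (14, 5), (92, 4), (13, 6), (114, 6), (89, 5), (78, 4), (59, 3), (117, 5), (118, 6), (14, 7), (102, 7), (90, 6), (79, 5), (9, 4), (117, 4), (118, 5), (119, 6), (116, 7), (103, 6), (91, 5), (80, 4), (117, 8), (104, 7), (92, 6), (11, 5), (107, 7), (94, 6), (82, 5), (61, 4), (44, 3), (37, 2), (26, 1), (1, 0), (98, 3), (65, 2), (48, 1), (35,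 0), (114, 4), (59, 3), (8, 2), (14, 3), (116, 4), (103, 3), (119, 5), (13, 4), (14, 4), (99, 4), (66, 3), (57, 2), (6, 1), (90, 1), (12, 2), (116, 2), (119, 3), (113, 4), (100, 3), (67, 2), (58, 1), (116, 4), (91, 3), (14, 5), (115, 6), (102, 5), (90, 4), (69, 3), (9, 2), (116, 2), (118, 3), (119, 4), (14, 5), (105, 4), (12, 3), (100, 3), (67, 2), (7, 1), (116, 2), (103, 1), (14, 3), (13, 2), (68, 1), (69, 2), (101, 5), (89, 4), (68, 3), (59, 2), (8, 1), (116, 2), (118, 3), (119, 4), (116, 5), (103, 4), (91, 3), (10, 2), (117, 4), (104, 3), (92, 2), (116, 5), (103, 4), (91, 3), (80, 2), (118, 6), (105, 5), (12, 4), (118, 5), (105, 4), (119, 6), (13, 5), (14, 5), (86, 4), (75, 3), (65, 2), (56, 1), (5, 0), (102, 3), (90, 2), (79, 1), (69, 0), (13, 4), (116, 4), (91, 3), (80, 2), (10, 1), (119, 3), (14, 4), (104, 3), (92, 2), (11, 1), (13, 2), (12, 1), (115, 1), (9,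 0), (14, 0)]⟩,
    ⟨0, [1, 1], [], [(4, 0)], [], [(93, 5), (81, 4), (51, 3), (25, 2), (15, 1), (0, 0), (107, 6), (94, 5), (71, 4), (37, 3), (26, 2), (22, 1), (17, 0), (110, 5), (55, 4), (47, 3), (40, 2), (14, 7), (99, 6), (57, 5), (49, 4), (42, 3), (114, 7), (101, 6), (89, 5), (118, 8), (105, 7), (12, 6), (115, 7), (102, 6), (118, 8), (105, 7), (14, 9), (13, 8), (90, 7), (9, 6), (118, 6), (116, 7), (91, 6), (118, 8), (12, 7), (111, 7), (65, 6), (48, 5), (41, 4), (35, 3), (113, 7), (58, 6), (50, 5), (115, 8), (90, 7), (118, 9), (12, 8), (14, 8), (114, 8), (59, 7), (8, 6), (14, 7), (9, 6), (118, 6), (119, 7), (114, 8), (101, 7), (89, 6), (119, 9), (13, 8), (14, 8), (91, 7), (14, 10), (99, 9), (87, 8), (66, 7), (49, 6), (42, 5), (6, 4), (88, 4), (12, 5), (114, 6), (101, 5), (118, 7), (105, 6), (116, 8), (103, 7), (91, 6), (118, 9), (105, 8), (12, 7), (119, 8), (13,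 7), (113, 7), (67, 6), (50, 5), (7, 4), (114, 5), (101, 4), (118, 6), (105, 5), (14, 7), (103, 6), (91, 5), (14, 8), (102, 7), (90, 6), (69, 5), (105, 8), (12, 7), (100, 7), (67, 6), (58, 5), (50, 4), (115, 7), (90, 6), (118, 8), (12, 7), (14, 7), (119, 8), (114, 9), (101, 8), (68, 7), (59, 6), (8, 5), (116, 6), (119, 7), (14, 8), (102, 7), (69, 6), (9, 5), (116, 5), (119, 6), (118, 7), (105, 6), (119, 8), (13, 7), (117, 7), (92, 6), (119, 8), (14, 9), (95, 8), (83, 7), (72, 6), (62, 5), (38, 4), (27, 3), (23, 2), (2, 1), (110, 5), (64, 4), (47, 3), (40, 2), (34, 1), (100, 4), (88, 3), (101, 5), (89, 4), (103, 6), (91, 5), (105, 7), (12, 6), (14, 7), (99, 6), (66, 5), (49, 4), (42, 3), (6, 2), (88, 2), (12, 3), (114, 4), (101, 3), (118, 5), (105, 4), (116, 6), (103, 5), (91, 4), (119, 7), (13, 6), (113, 6), (88, 5), (67, 4), (50, 3), (7, 2), (114, 3), (101, 2),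 (118, 4), (105, 3), (14, 5), (103, 4), (91, 3), (118, 6), (105, 5), (12, 4), (14, 5), (102, 4), (69, 3), (103, 5), (10, 4), (105, 4), (13, 5), (111, 5), (86, 4), (56, 3), (48, 2), (115, 5), (102, 4), (119, 6), (13, 5), (14, 5), (14, 6), (87, 5), (57, 4), (49, 3), (90, 5), (12, 6), (118, 6), (113, 7), (88, 6), (58, 5), (50, 4), (115, 7), (90, 6), (118, 8), (12, 7), (14, 7), (114, 8), (89, 7), (59, 6), (8, 5), (118, 6), (14, 7), (12, 6), (100, 6), (58, 5), (7, 4), (115, 5), (102, 4), (118, 6), (105, 5), (14, 7), (13, 6), (89, 5), (59, 4), (118, 6), (115, 7), (90, 6), (9, 5), (118, 5), (14, 6), (12, 5), (116, 6), (103, 5), (118, 7), (105, 6), (119, 8), (13, 7), (14, 7), (92, 6), (105, 8), (12, 7), (119, 8), (13, 7), (110, 7), (74, 6), (64, 5), (47, 4), (34, 3), (29, 2), (4, 1), (99, 7), (76, 6), (66, 5), (57, 4), (42, 3), (6, 2), (88, 2), (12, 3), (115, 4), (102, 3),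 (118, 5), (105, 4), (14, 6), (103, 5), (91, 4), (104, 6), (92, 5), (13, 7), (12, 6), (101, 6), (78, 5), (68, 4), (59, 3), (116, 5), (117, 6), (119, 7), (116, 8), (103, 7), (80, 6), (10, 5), (118, 7), (105, 6), (14, 8), (104, 7), (92, 6), (11, 5), (111, 7), (98, 6), (86, 5), (56, 4), (48, 3), (41, 2), (5, 1), (100, 4), (88, 3), (77, 2), (67, 1), (117, 3), (118, 4), (119, 5), (114, 6), (101, 5), (89, 4), (78, 3), (68, 2), (115, 7), (102, 6), (90, 5), (79, 4), (69, 3), (118, 8), (105, 7), (12, 6), (119, 7), (13, 6), (114, 6), (78, 5), (68, 4), (59, 3), (8, 2), (116, 3), (117, 4), (14, 5), (115, 6), (102, 5), (79, 4), (69, 3), (9, 2), (116, 2), (117, 3), (119, 4), (14, 5), (13, 4), (118, 4), (14, 5), (114, 6), (101, 5), (89, 4), (78, 3), (68, 2), (116, 7), (103, 6), (91, 5), (80, 4), (10, 3), (118, 6), (105, 5), (12, 4), (111, 5), (98, 4), (75, 3), (48, 2), (41, 1),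 (101, 6), (89, 5), (59, 4), (8, 3), (118, 4), (119, 5), (119, 6), (13, 5), (14, 5), (92, 4), (13, 6), (114, 6), (89, 5), (78, 4), (59, 3), (117, 5), (118, 6), (14, 7), (102, 7), (90, 6), (79, 5), (9, 4), (117, 4), (118, 5), (119, 6), (116, 7), (103, 6), (91, 5), (80, 4), (117, 8), (104, 7), (92, 6), (11, 5), (118, 7), (105, 6), (12, 5), (14, 6), (13, 5), (61, 4), (44, 3), (37, 2), (26, 1), (1, 0), (98, 3), (65, 2), (48, 1), (35, 0), (114, 4), (59, 3), (8, 2), (14, 3), (116, 4), (103, 3), (119, 5), (13, 4), (14, 4), (99, 4), (66, 3), (57, 2), (6, 1), (90, 1), (12, 2), (116, 2), (119, 3), (113, 4), (100, 3), (67, 2), (58, 1), (116, 4), (91, 3), (14, 5), (115, 6), (102, 5), (90, 4), (69, 3), (9, 2), (116, 2), (118, 3), (119, 4), (14, 5), (105, 4), (12, 3), (100, 3), (67, 2), (7, 1), (116, 2), (103, 1), (14, 3), (13, 2), (68, 1), (69, 2), (101, 5), (89, 4), (68, 3),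 (59, 2), (8, 1), (116, 2), (118, 3), (119, 4), (116, 5), (103, 4), (91, 3), (10, 2), (117, 4), (104, 3), (92, 2), (116, 5), (103, 4), (91, 3), (80, 2), (118, 6), (105, 5), (12, 4), (111, 5), (98, 4), (75, 3), (65, 2), (56, 1), (5, 0), (102, 3), (90, 2), (79, 1), (69, 0), (13, 4), (116, 4), (91, 3), (80, 2), (10, 1), (119, 3), (14, 4), (104, 3), (92, 2), (11, 1), (13, 2), (115, 3), (102, 2), (90, 1), (9, 0), (118, 0), (119, 1), (14, 2), (105, 1), (12, 0), (13, 0)], []⟩,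
    ⟨0, [3, 3], [], [(114, 1), (8, 0), (14, 0)], [], [(66, 4), (57, 3), (49, 2), (42, 1), (6, 0), (88, 0), (12, 1), (114, 2), (101, 1), (118, 3), (105, 2), (115, 4), (102, 3), (90, 2), (118, 5), (105, 4), (12, 3), (14, 4), (103, 3), (100, 4), (67, 3), (58, 2), (50, 1), (7, 0), (114, 1), (101, 0), (118, 2), (105, 1), (14, 3), (102, 2), (90, 1), (105, 3), (12, 2), (116, 3), (103, 2), (14, 4), (13, 3), (68, 2), (59, 1), (8, 0), (116, 1), (115, 2), (69, 1), (9, 0), (116, 0), (14, 1), (10, 0)], []⟩,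
    ⟨0, [4, 4], [], [(11, 0)], [], [(110, 2), (85, 1), (4, 0), (118, 1), (12, 0), (14, 0)], []⟩,
    ⟨0, [5, 5], [], [(118, 1), (12, 0), (14, 0)], [], [(93, 6), (81, 5), (70, 4), (51, 3), (25, 2), (15, 1), (0, 0), (107, 6), (94, 5), (71, 4), (37, 3), (26, 2), (22, 1), (17, 0), (110, 5), (55, 4), (47, 3), (40, 2), (14, 7), (99, 6), (57, 5), (49, 4), (42, 3), (114, 7), (101, 6), (89, 5), (118, 8), (105, 7), (12, 6), (115, 7), (102, 6), (118, 8), (105, 7), (14, 9), (13, 8), (90, 7), (9, 6), (118, 6), (116, 7), (91, 6), (118, 8), (12, 7), (111, 7), (65, 6), (48, 5), (41, 4), (35, 3), (113, 7), (58, 6), (50, 5), (115, 8), (90, 7), (118, 9), (12, 8), (14, 8), (114, 8), (59, 7), (8, 6), (14, 7), (9, 6), (118, 6), (119, 7), (114, 8), (101, 7), (89, 6), (119, 9), (13, 8), (14, 8), (91, 7), (14, 10), (99, 9), (87, 8), (66, 7), (49, 6), (42, 5), (6, 4), (88, 4), (12, 5), (114,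 6), (101, 5), (118, 7), (105, 6), (116, 8), (103, 7), (91, 6), (118, 9), (105, 8), (12, 7), (119, 8), (13, 7), (113, 7), (67, 6), (50, 5), (7, 4), (114, 5), (101, 4), (118, 6), (105, 5), (14, 7), (103, 6), (91, 5), (14, 8), (102, 7), (90, 6), (69, 5), (105, 8), (12, 7), (100, 7), (67, 6), (58, 5), (50, 4), (115, 7), (90, 6), (118, 8), (12, 7), (14, 7), (119, 8), (114, 9), (101, 8), (68, 7), (59, 6), (8, 5), (116, 6), (119, 7), (14, 8), (102, 7), (69, 6), (9, 5), (116, 5), (119, 6), (118, 7), (105, 6), (119, 8), (13, 7), (117, 7), (92, 6), (119, 8), (14, 9), (95, 8), (83, 7), (72, 6), (62, 5), (38, 4), (27, 3), (23, 2), (2, 1), (110, 5), (64, 4), (47, 3), (40, 2), (34, 1), (100, 4), (88, 3), (101, 5), (89, 4), (103, 6), (91, 5), (105, 7), (12, 6), (14, 7), (99, 6), (66, 5), (49, 4), (42, 3), (6, 2), (88, 2), (12, 3), (114, 4), (101, 3), (118, 5), (105, 4), (116,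 6), (103, 5), (91, 4), (119, 7), (13, 6), (113, 6), (88, 5), (67, 4), (50, 3), (7, 2), (114, 3), (101, 2), (118, 4), (105, 3), (14, 5), (103, 4), (91, 3), (118, 6), (105, 5), (12, 4), (14, 5), (102, 4), (69, 3), (103, 5), (10, 4), (105, 4), (13, 5), (111, 5), (86, 4), (56, 3), (48, 2), (115, 5), (102, 4), (119, 6), (13, 5), (14, 5), (14, 6), (87, 5), (57, 4), (49, 3), (90, 5), (12, 6), (118, 6), (113, 7), (88, 6), (58, 5), (50, 4), (115, 7), (90, 6), (118, 8), (12, 7), (14, 7), (114, 8), (89, 7), (59, 6), (8, 5), (118, 6), (14, 7), (12, 6), (100, 6), (58, 5), (7, 4), (115, 5), (102, 4), (118, 6), (105, 5), (14, 7), (13, 6), (89, 5), (59, 4), (118, 6), (115, 7), (90, 6), (9, 5), (118, 5), (14, 6), (12, 5), (116, 6), (103, 5), (118, 7), (105, 6), (119, 8), (13, 7), (14, 7), (92, 6), (105, 8), (12, 7), (119, 8), (13, 7), (110, 7), (74, 6), (64, 5), (47, 4), (34, 3),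 (29, 2), (4, 1), (99, 7), (76, 6), (66, 5), (57, 4), (42, 3), (6, 2), (88, 2), (12, 3), (115, 4), (102, 3), (118, 5), (105, 4), (14, 6), (103, 5), (91, 4), (104, 6), (92, 5), (13, 7), (12, 6), (101, 6), (78, 5), (68, 4), (59, 3), (116, 5), (117, 6), (119, 7), (116, 8), (103, 7), (80, 6), (10, 5), (118, 7), (105, 6), (14, 8), (104, 7), (92, 6), (11, 5), (111, 7), (98, 6), (86, 5), (56, 4), (48, 3), (41, 2), (5, 1), (100, 4), (88, 3), (77, 2), (67, 1), (117, 3), (118, 4), (119, 5), (114, 6), (101, 5), (89, 4), (78, 3), (68, 2), (115, 7), (102, 6), (90, 5), (79, 4), (69, 3), (118, 8), (105, 7), (12, 6), (119, 7), (13, 6), (114, 6), (78, 5), (68, 4), (59, 3), (8, 2), (116, 3), (117, 4), (14, 5), (115, 6), (102, 5), (79, 4), (69, 3), (9, 2), (116, 2), (117, 3), (119, 4), (14, 5), (13, 4), (118, 4), (14, 5), (114, 6), (101, 5), (89, 4), (78, 3), (68, 2), (116, 7), (103,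 6), (91, 5), (80, 4), (10, 3), (118, 6), (105, 5), (12, 4), (111, 5), (98, 4), (75, 3), (48, 2), (41, 1), (101, 6), (89, 5), (59, 4), (8, 3), (118, 4), (119, 5), (119, 6), (13, 5), (14, 5), (92, 4), (13, 6), (114, 6), (89, 5), (78, 4), (59, 3), (117, 5), (118, 6), (14, 7), (102, 7), (90, 6), (79, 5), (9, 4), (117, 4), (118, 5), (119, 6), (116, 7), (103, 6), (91, 5), (80, 4), (117, 8), (104, 7), (92, 6), (11, 5), (117, 7), (104, 6), (92, 5), (119, 8), (13, 7), (118, 7), (12, 6), (14, 6), (94, 6), (71, 5), (61, 4), (44, 3), (37, 2), (26, 1), (1, 0), (98, 3), (65, 2), (48, 1), (35, 0), (114, 4), (59, 3), (8, 2), (14, 3), (116, 4), (103, 3), (119, 5), (13, 4), (14, 4), (99, 4), (66, 3), (57, 2), (6, 1), (90, 1), (12, 2), (116, 2), (119, 3), (113, 4), (100, 3), (67, 2), (58, 1), (116, 4), (91, 3), (14, 5), (115, 6), (102, 5), (90, 4), (69, 3), (9, 2), (116, 2), (118,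 3), (119, 4), (14, 5), (105, 4), (12, 3), (100, 3), (67, 2), (7, 1), (116, 2), (103, 1), (14, 3), (13, 2), (68, 1), (69, 2), (101, 5), (89, 4), (68, 3), (59, 2), (8, 1), (116, 2), (118, 3), (119, 4), (116, 5), (103, 4), (91, 3), (10, 2), (117, 4), (104, 3), (92, 2), (116, 5), (103, 4), (91, 3), (80, 2), (118, 6), (105, 5), (12, 4), (117, 5), (104, 4), (11, 3), (119, 4), (13, 3), (111, 3), (65, 2), (56, 1), (5, 0), (102, 3), (90, 2), (79, 1), (69, 0), (13, 4), (116, 4), (91, 3), (80, 2), (10, 1), (119, 3), (14, 4), (115, 4), (102, 3), (90, 2), (79, 1), (9, 0), (117, 0), (118, 1), (119, 2), (14, 3), (104, 2), (92, 1), (11, 0), (105, 1), (12, 0), (13, 0)], []⟩,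
    ⟨1, [0, 0], [8], [(70, 3), (25, 2), (15, 1), (0, 0), (107, 6), (94, 5), (71, 4), (37, 3), (26, 2), (22, 1), (17, 0), (110, 5), (55, 4), (47, 3), (40, 2), (14, 7), (99, 6), (57, 5), (49, 4), (42, 3), (114, 7), (101, 6), (89, 5), (118, 8), (105, 7), (12, 6), (115, 7), (102, 6), (118, 8), (105, 7), (14, 9), (13, 8), (90, 7), (9, 6), (118, 6), (116, 7), (91, 6), (118, 8), (12, 7), (111, 7), (65, 6), (48, 5), (41, 4), (35, 3), (113, 7), (58, 6), (50, 5), (115, 8), (90, 7), (118, 9), (12, 8), (14, 8), (114, 8), (59, 7), (8, 6), (14, 7), (9, 6), (118, 6), (119, 7), (114, 8), (101, 7), (89, 6), (119, 9), (13, 8), (14, 8), (91, 7), (14, 10), (99, 9), (87, 8), (66, 7), (49, 6), (42, 5), (6, 4), (88, 4), (12, 5), (114, 6), (101, 5), (118, 7), (105, 6), (116, 8), (103, 7), (91, 6), (118, 9), (105, 8), (12, 7), (119, 8), (13, 7), (113, 7), (67, 6), (50, 5), (7, 4), (114,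 5), (101, 4), (118, 6), (105, 5), (14, 7), (103, 6), (91, 5), (14, 8), (102, 7), (90, 6), (69, 5), (105, 8), (12, 7), (100, 7), (67, 6), (58, 5), (50, 4), (115, 7), (90, 6), (118, 8), (12, 7), (14, 7), (119, 8), (114, 9), (101, 8), (68, 7), (59, 6), (8, 5), (116, 6), (119, 7), (14, 8), (102, 7), (69, 6), (9, 5), (116, 5), (119, 6), (118, 7), (105, 6), (119, 8), (13, 7), (117, 7), (92, 6), (119, 8), (14, 9), (95, 8), (83, 7), (72, 6), (62, 5), (38, 4), (27, 3), (23, 2), (2, 1), (110, 5), (64, 4), (47, 3), (40, 2), (34, 1), (100, 4), (88, 3), (101, 5), (89, 4), (103, 6), (91, 5), (105, 7), (12, 6), (14, 7), (99, 6), (66, 5), (49, 4), (42, 3), (6, 2), (88, 2), (12, 3), (114, 4), (101, 3), (118, 5), (105, 4), (116, 6), (103, 5), (91, 4), (119, 7), (13, 6), (113, 6), (88, 5), (67, 4), (50, 3), (7, 2), (114, 3), (101, 2), (118, 4), (105, 3), (14, 5), (103, 4), (91, 3),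 (118, 6), (105, 5), (12, 4), (14, 5), (102, 4), (69, 3), (103, 5), (10, 4), (105, 4), (13, 5), (111, 5), (86, 4), (56, 3), (48, 2), (115, 5), (102, 4), (119, 6), (13, 5), (14, 5), (14, 6), (87, 5), (57, 4), (49, 3), (90, 5), (12, 6), (118, 6), (113, 7), (88, 6), (58, 5), (50, 4), (115, 7), (90, 6), (118, 8), (12, 7), (14, 7), (114, 8), (89, 7), (59, 6), (8, 5), (118, 6), (14, 7), (12, 6), (100, 6), (58, 5), (7, 4), (115, 5), (102, 4), (118, 6), (105, 5), (14, 7), (13, 6), (89, 5), (59, 4), (118, 6), (115, 7), (90, 6), (9, 5), (118, 5), (14, 6), (12, 5), (116, 6), (103, 5), (118, 7), (105, 6), (119, 8), (13, 7), (14, 7), (92, 6), (105, 8), (12, 7), (119, 8), (13, 7), (110, 7), (74, 6), (64, 5), (47, 4), (34, 3), (29, 2), (4, 1), (99, 7), (76, 6), (66, 5), (57, 4), (42, 3), (6, 2), (88, 2), (12, 3), (115, 4), (102, 3), (118, 5), (105, 4), (14, 6), (103, 5), (91, 4),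 (104, 6), (92, 5), (13, 7), (12, 6), (101, 6), (78, 5), (68, 4), (59, 3), (116, 5), (117, 6), (119, 7), (116, 8), (103, 7), (80, 6), (10, 5), (118, 7), (105, 6), (14, 8), (104, 7), (92, 6), (11, 5), (111, 7), (98, 6), (86, 5), (56, 4), (48, 3), (41, 2), (5, 1), (100, 4), (88, 3), (77, 2), (67, 1), (117, 3), (118, 4), (119, 5), (114, 6), (101, 5), (89, 4), (78, 3), (68, 2), (115, 7), (102, 6), (90, 5), (79, 4), (69, 3), (118, 8), (105, 7), (12, 6), (119, 7), (13, 6), (114, 6), (78, 5), (68, 4), (59, 3), (8, 2), (116, 3), (117, 4), (14, 5), (115, 6), (102, 5), (79, 4), (69, 3), (9, 2), (116, 2), (117, 3), (119, 4), (14, 5), (13, 4), (118, 4), (14, 5), (114, 6), (101, 5), (89, 4), (78, 3), (68, 2), (116, 7), (103, 6), (91, 5), (80, 4), (10, 3), (118, 6), (105, 5), (12, 4), (111, 5), (98, 4), (75, 3), (48, 2), (41, 1), (101, 6), (89, 5), (59, 4), (8, 3), (118, 4), (119,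 5), (119, 6), (13, 5), (14, 5), (92, 4), (13, 6), (114, 6), (89, 5), (78, 4), (59, 3), (117, 5), (118, 6), (14, 7), (104, 7), (92, 6), (11, 5), (13, 6), (82, 5), (52, 4), (44, 3), (37, 2), (26, 1), (1, 0), (98, 3), (65, 2), (48, 1), (35, 0), (114, 4), (59, 3), (8, 2), (14, 3), (116, 4), (103, 3), (119, 5), (13, 4), (14, 4), (99, 4), (66, 3), (57, 2), (6, 1), (90, 1), (12, 2), (116, 2), (119, 3), (113, 4), (100, 3), (67, 2), (58, 1), (116, 4), (91, 3), (14, 5), (115, 6), (102, 5), (90, 4), (69, 3), (9, 2), (116, 2), (118, 3), (119, 4), (14, 5), (105, 4), (12, 3), (100, 3), (67, 2), (7, 1), (116, 2), (103, 1), (14, 3), (13, 2), (68, 1), (69, 2), (101, 5), (89, 4), (68, 3), (59, 2), (8, 1), (116, 2), (118, 3), (119, 4), (116, 5), (103, 4), (91, 3), (10, 2), (117, 4), (104, 3), (92, 2), (115, 5), (102, 4), (90, 3), (79, 2), (9, 1), (117, 1), (118, 2), (119, 3), (14,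 4), (103, 3), (91, 2), (80, 1), (104, 4), (92, 3), (11, 2), (13, 3), (118, 3), (12, 2), (111, 2), (65, 1), (5, 0), (103, 3), (91, 2), (80, 1), (10, 0), (13, 2), (14, 2), (92, 1), (11, 0)], [], [(106, 8), (93, 7), (81, 6), (51, 5), (36, 4), (25, 3), (18, 2), (15, 1), (0, 0), (107, 6), (94, 5), (71, 4), (37, 3), (26, 2), (22, 1), (17, 0), (110, 5), (55, 4), (47, 3), (40, 2), (14, 7), (99, 6), (57, 5), (49, 4), (42, 3), (114, 7), (101, 6), (89, 5), (118, 8), (105, 7), (12, 6), (115, 7), (102, 6), (118, 8), (105, 7), (14, 9), (13, 8), (90, 7), (9, 6), (118, 6), (116, 7), (91, 6), (118, 8), (12, 7), (111, 7), (65, 6), (48, 5), (41, 4), (35, 3), (113, 7), (58, 6), (50, 5), (115, 8), (90, 7), (118, 9), (12, 8), (14, 8), (114, 8), (59, 7), (8, 6), (14, 7), (9, 6), (118, 6), (119, 7), (114, 8), (101, 7), (89, 6), (119, 9), (13, 8), (14, 8), (91, 7), (14, 10), (99, 9), (87,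 8), (66, 7), (49, 6), (42, 5), (6, 4), (88, 4), (12, 5), (114, 6), (101, 5), (118, 7), (105, 6), (116, 8), (103, 7), (91, 6), (118, 9), (105, 8), (12, 7), (119, 8), (13, 7), (113, 7), (67, 6), (50, 5), (7, 4), (114, 5), (101, 4), (118, 6), (105, 5), (14, 7), (103, 6), (91, 5), (14, 8), (102, 7), (90, 6), (69, 5), (105, 8), (12, 7), (100, 7), (67, 6), (58, 5), (50, 4), (115, 7), (90, 6), (118, 8), (12, 7), (14, 7), (119, 8), (114, 9), (101, 8), (68, 7), (59, 6), (8, 5), (116, 6), (119, 7), (14, 8), (102, 7), (69, 6), (9, 5), (116, 5), (119, 6), (118, 7), (105, 6), (119, 8), (13, 7), (117, 7), (92, 6), (119, 8), (14, 9), (95, 8), (83, 7), (72, 6), (62, 5), (38, 4), (27, 3), (23, 2), (2, 1), (110, 5), (64, 4), (47, 3), (40, 2), (34, 1), (100, 4), (88, 3), (101, 5), (89, 4), (103, 6), (91, 5), (105, 7), (12, 6), (14, 7), (99, 6), (66, 5), (49, 4), (42, 3), (6, 2), (88,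 2), (12, 3), (114, 4), (101, 3), (118, 5), (105, 4), (116, 6), (103, 5), (91, 4), (119, 7), (13, 6), (113, 6), (88, 5), (67, 4), (50, 3), (7, 2), (114, 3), (101, 2), (118, 4), (105, 3), (14, 5), (103, 4), (91, 3), (118, 6), (105, 5), (12, 4), (14, 5), (102, 4), (69, 3), (103, 5), (10, 4), (105, 4), (13, 5), (111, 5), (86, 4), (56, 3), (48, 2), (115, 5), (102, 4), (119, 6), (13, 5), (14, 5), (14, 6), (87, 5), (57, 4), (49, 3), (90, 5), (12, 6), (118, 6), (113, 7), (88, 6), (58, 5), (50, 4), (115, 7), (90, 6), (118, 8), (12, 7), (14, 7), (114, 8), (89, 7), (59, 6), (8, 5), (118, 6), (14, 7), (12, 6), (100, 6), (58, 5), (7, 4), (115, 5), (102, 4), (118, 6), (105, 5), (14, 7), (13, 6), (89, 5), (59, 4), (118, 6), (115, 7), (90, 6), (9, 5), (118, 5), (14, 6), (12, 5), (116, 6), (103, 5), (118, 7), (105, 6), (119, 8), (13, 7), (14, 7), (92, 6), (105, 8), (12, 7), (119,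 8), (13, 7), (110, 7), (74, 6), (64, 5), (47, 4), (34, 3), (29, 2), (4, 1), (99, 7), (76, 6), (66, 5), (57, 4), (42, 3), (6, 2), (88, 2), (12, 3), (115, 4), (102, 3), (118, 5), (105, 4), (14, 6), (103, 5), (91, 4), (104, 6), (92, 5), (13, 7), (12, 6), (101, 6), (78, 5), (68, 4), (59, 3), (116, 5), (117, 6), (119, 7), (116, 8), (103, 7), (80, 6), (10, 5), (118, 7), (105, 6), (14, 8), (104, 7), (92, 6), (11, 5), (111, 7), (98, 6), (86, 5), (56, 4), (48, 3), (41, 2), (5, 1), (100, 4), (88, 3), (77, 2), (67, 1), (117, 3), (118, 4), (119, 5), (114, 6), (101, 5), (89, 4), (78, 3), (68, 2), (115, 7), (102, 6), (90, 5), (79, 4), (69, 3), (118, 8), (105, 7), (12, 6), (119, 7), (13, 6), (114, 6), (78, 5), (68, 4), (59, 3), (8, 2), (116, 3), (117, 4), (14, 5), (115, 6), (102, 5), (79, 4), (69, 3), (9, 2), (116, 2), (117, 3), (119, 4), (14, 5), (13, 4), (118, 4), (14, 5), (114,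 6), (101, 5), (89, 4), (78, 3), (68, 2), (116, 7), (103, 6), (91, 5), (80, 4), (10, 3), (118, 6), (105, 5), (12, 4), (109, 5), (96, 4), (73, 3), (46, 2), (39, 1), (114, 5), (78, 4), (68, 3), (118, 6), (117, 7), (92, 6), (11, 5), (118, 6), (12, 5), (14, 5), (14, 6), (99, 5), (66, 4), (49, 3), (42, 2), (114, 6), (101, 5), (89, 4), (118, 7), (105, 6), (12, 5), (116, 6), (103, 5), (119, 7), (13, 6), (113, 6), (67, 5), (50, 4), (7, 3), (114, 4), (101, 3), (118, 5), (105, 4), (14, 6), (103, 5), (91, 4), (14, 7), (101, 6), (89, 5), (68, 4), (8, 3), (102, 5), (90, 4), (69, 3), (103, 6), (91, 5), (10, 4), (104, 5), (92, 4), (105, 6), (12, 5), (111, 6), (98, 5), (75, 4), (56, 3), (35, 2), (115, 6), (9, 5), (14, 5), (117, 6), (104, 5), (119, 7), (13, 6), (119, 6), (14, 7), (101, 6), (78, 5), (8, 4), (13, 5), (77, 4), (11, 5), (90, 5), (91, 6), (92, 7), (12, 8), (119, 8), (14,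 9), (94, 8), (71, 7), (61, 6), (52, 5), (37, 4), (31, 3), (26, 2), (19, 1), (1, 0), (96, 3), (63, 2), (46, 1), (33, 0), (114, 5), (101, 4), (78, 3), (68, 2), (118, 6), (105, 5), (116, 7), (103, 6), (91, 5), (80, 4), (10, 3), (118, 6), (105, 5), (12, 4), (119, 5), (13, 4), (14, 4), (79, 3), (75, 4), (56, 3), (48, 2), (35, 1), (114, 5), (59, 4), (8, 3), (14, 4), (115, 5), (102, 4), (9, 3), (119, 3), (14, 4), (13, 3), (117, 3), (119, 4), (112, 5), (99, 4), (76, 3), (6, 2), (92, 2), (113, 5), (100, 4), (88, 3), (77, 2), (115, 6), (102, 5), (90, 4), (79, 3), (118, 7), (105, 6), (12, 5), (112, 6), (99, 5), (76, 4), (57, 3), (42, 2), (115, 6), (102, 5), (90, 4), (118, 7), (105, 6), (12, 5), (14, 6), (104, 5), (13, 6), (116, 6), (80, 5), (117, 7), (11, 6), (118, 6), (113, 7), (88, 6), (67, 5), (58, 4), (7, 3), (115, 4), (102, 3), (118, 5), (105, 4), (14, 6), (103, 5), (91,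 4), (118, 7), (105, 6), (12, 5), (14, 6), (101, 5), (68, 4), (59, 3), (116, 5), (119, 6), (115, 7), (102, 6), (69, 5), (9, 4), (116, 4), (119, 5), (14, 6), (105, 5), (13, 6), (90, 5), (69, 4), (91, 6), (10, 5), (92, 5), (116, 8), (103, 7), (91, 6), (80, 5), (118, 9), (105, 8), (12, 7), (117, 8), (104, 7), (11, 6), (119, 7), (13, 6), (109, 6), (63, 5), (54, 4), (46, 3), (33, 2), (28, 1), (3, 0), (111, 4), (98, 3), (86, 2), (75, 1), (65, 0), (117, 3), (104, 2), (119, 4), (13, 3), (118, 3), (14, 4), (116, 5), (103, 4), (91, 3), (80, 2), (10, 1), (117, 4), (104, 3), (92, 2), (11, 1), (118, 3), (105, 2), (12, 1), (119, 2), (13, 1), (14, 1), (114, 5), (101, 4), (78, 3), (68, 2), (118, 6), (105, 5), (115, 7), (102, 6), (90, 5), (79, 4), (69, 3), (118, 8), (105, 7), (12, 6), (14, 7), (103, 6), (80, 5), (10, 4), (105, 5), (111, 7), (98, 6), (86, 5), (75, 4), (56, 3), (48,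 2), (35, 1), (5, 0), (99, 3), (87, 2), (76, 1), (66, 0), (101, 4), (89, 3), (78, 2), (68, 1), (102, 5), (90, 4), (79, 3), (69, 2), (114, 7), (101, 6), (89, 5), (78, 4), (68, 3), (59, 2), (8, 1), (116, 2), (117, 3), (118, 4), (119, 5), (14, 6), (13, 5), (115, 5), (90, 4), (79, 3), (69, 2), (9, 1), (116, 1), (117, 2), (118, 3), (14, 4), (117, 5), (104, 4), (92, 3), (11, 2), (119, 4), (13, 3), (118, 3), (12, 2), (14, 2), (113, 3), (100, 2), (67, 1), (119, 3), (14, 4), (102, 3), (69, 2), (105, 4), (13, 5)], []⟩,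
    ⟨1, [1, 0], [0, 1, 4, 5, 6, 7], [(36, 1), (16, 0), (113, 4), (58, 3), (7, 2), (115, 3), (102, 2), (118, 4), (105, 3), (14, 5), (117, 5), (104, 4), (92, 3), (118, 6), (105, 5), (12, 4), (107, 5), (94, 4), (71, 3), (52, 2), (17, 1), (115, 6), (9, 5), (14, 5), (117, 8), (104, 7), (11, 6), (119, 7), (13, 6), (14, 6), (65, 5), (48, 4), (41, 3), (101, 8), (89, 7), (59, 6), (8, 5), (118, 6), (119, 7), (119, 8), (13, 7), (14, 7), (91, 6), (117, 9), (104, 8), (92, 7)], [(72, 3), (27, 2), (104, 8), (92, 7), (13, 9), (88, 8), (77, 7), (50, 6), (7, 5), (114, 6), (101, 5), (118, 7), (105, 6), (14, 8), (104, 7), (92, 6), (105, 8), (12, 7), (99, 7), (76, 6), (49, 5), (6, 4), (89, 4), (12, 5), (100, 6), (77, 5), (50, 4), (117, 7), (92, 6), (119, 8), (117, 9), (104, 8), (92, 7), (11, 6), (114, 8), (101, 7), (89, 6), (8, 5), (115, 7), (102, 6), (90, 5), (116, 8), (103, 7), (91,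 6), (117, 9), (104, 8), (92, 7)], [(106, 9), (81, 8), (70, 7), (51, 6), (36, 5), (30, 4), (25, 3), (21, 2), (15, 1), (0, 0), (107, 6), (94, 5), (71, 4), (37, 3), (26, 2), (22, 1), (17, 0), (110, 5), (55, 4), (47, 3), (40, 2), (14, 7), (99, 6), (57, 5), (49, 4), (42, 3), (114, 7), (101, 6), (89, 5), (118, 8), (105, 7), (12, 6), (115, 7), (102, 6), (118, 8), (105, 7), (14, 9), (13, 8), (90, 7), (9, 6), (118, 6), (116, 7), (91, 6), (118, 8), (12, 7), (111, 7), (65, 6), (48, 5), (41, 4), (35, 3), (113, 7), (58, 6), (50, 5), (115, 8), (90, 7), (118, 9), (12, 8), (14, 8), (114, 8), (59, 7), (8, 6), (14, 7), (9, 6), (118, 6), (119, 7), (114, 8), (101, 7), (89, 6), (119, 9), (13, 8), (14, 8), (91, 7), (14, 10), (99, 9), (87, 8), (66, 7), (49, 6), (42, 5), (6, 4), (88, 4), (12, 5), (114, 6), (101, 5), (118, 7), (105, 6), (116, 8), (103, 7), (91, 6), (118, 9), (105, 8), (12,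 7), (119, 8), (13, 7), (113, 7), (67, 6), (50, 5), (7, 4), (114, 5), (101, 4), (118, 6), (105, 5), (14, 7), (103, 6), (91, 5), (14, 8), (102, 7), (90, 6), (69, 5), (105, 8), (12, 7), (100, 7), (67, 6), (58, 5), (50, 4), (115, 7), (90, 6), (118, 8), (12, 7), (14, 7), (119, 8), (114, 9), (101, 8), (68, 7), (59, 6), (8, 5), (116, 6), (119, 7), (14, 8), (102, 7), (69, 6), (9, 5), (116, 5), (119, 6), (118, 7), (105, 6), (119, 8), (13, 7), (117, 7), (92, 6), (119, 8), (14, 9), (95, 8), (83, 7), (72, 6), (62, 5), (38, 4), (27, 3), (23, 2), (2, 1), (110, 5), (64, 4), (47, 3), (40, 2), (34, 1), (100, 4), (88, 3), (101, 5), (89, 4), (103, 6), (91, 5), (105, 7), (12, 6), (14, 7), (99, 6), (66, 5), (49, 4), (42, 3), (6, 2), (88, 2), (12, 3), (114, 4), (101, 3), (118, 5), (105, 4), (116, 6), (103, 5), (91, 4), (119, 7), (13, 6), (113, 6), (88, 5), (67, 4), (50, 3), (7, 2), (114,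 3), (101, 2), (118, 4), (105, 3), (14, 5), (103, 4), (91, 3), (118, 6), (105, 5), (12, 4), (14, 5), (102, 4), (69, 3), (103, 5), (10, 4), (105, 4), (13, 5), (111, 5), (86, 4), (56, 3), (48, 2), (115, 5), (102, 4), (119, 6), (13, 5), (14, 5), (14, 6), (87, 5), (57, 4), (49, 3), (90, 5), (12, 6), (118, 6), (113, 7), (88, 6), (58, 5), (50, 4), (115, 7), (90, 6), (118, 8), (12, 7), (14, 7), (114, 8), (89, 7), (59, 6), (8, 5), (118, 6), (14, 7), (12, 6), (100, 6), (58, 5), (7, 4), (115, 5), (102, 4), (118, 6), (105, 5), (14, 7), (13, 6), (89, 5), (59, 4), (118, 6), (115, 7), (90, 6), (9, 5), (118, 5), (14, 6), (12, 5), (116, 6), (103, 5), (118, 7), (105, 6), (119, 8), (13, 7), (14, 7), (92, 6), (105, 8), (12, 7), (119, 8), (13, 7), (110, 7), (74, 6), (64, 5), (47, 4), (34, 3), (29, 2), (4, 1), (99, 7), (76, 6), (66, 5), (57, 4), (42, 3), (6, 2), (88, 2), (12, 3), (115,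 4), (102, 3), (118, 5), (105, 4), (14, 6), (103, 5), (91, 4), (104, 6), (92, 5), (13, 7), (12, 6), (101, 6), (78, 5), (68, 4), (59, 3), (116, 5), (117, 6), (119, 7), (116, 8), (103, 7), (80, 6), (10, 5), (118, 7), (105, 6), (14, 8), (104, 7), (92, 6), (11, 5), (111, 7), (98, 6), (86, 5), (56, 4), (48, 3), (41, 2), (5, 1), (100, 4), (88, 3), (77, 2), (67, 1), (117, 3), (118, 4), (119, 5), (114, 6), (101, 5), (89, 4), (78, 3), (68, 2), (115, 7), (102, 6), (90, 5), (79, 4), (69, 3), (118, 8), (105, 7), (12, 6), (119, 7), (13, 6), (114, 6), (78, 5), (68, 4), (59, 3), (8, 2), (116, 3), (117, 4), (14, 5), (115, 6), (102, 5), (79, 4), (69, 3), (9, 2), (116, 2), (117, 3), (119, 4), (14, 5), (13, 4), (118, 4), (14, 5), (114, 6), (101, 5), (89, 4), (78, 3), (68, 2), (116, 7), (103, 6), (91, 5), (80, 4), (10, 3), (118, 6), (105, 5), (12, 4), (110, 5), (97, 4), (74, 3), (47,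 2), (40, 1), (113, 6), (100, 5), (77, 4), (50, 3), (7, 2), (114, 3), (101, 2), (118, 4), (105, 3), (14, 5), (104, 4), (92, 3), (13, 5), (114, 5), (89, 4), (78, 3), (8, 2), (115, 4), (90, 3), (79, 2), (117, 5), (92, 4), (11, 3), (111, 4), (86, 3), (56, 2), (118, 5), (105, 4), (14, 6), (114, 6), (101, 5), (89, 4), (59, 3), (118, 5), (119, 6), (14, 7), (13, 6), (87, 5), (57, 4), (49, 3), (90, 5), (12, 6), (118, 6), (114, 7), (89, 6), (59, 5), (8, 4), (118, 5), (14, 6), (90, 5), (9, 4), (118, 4), (116, 5), (91, 4), (118, 6), (12, 5), (113, 5), (67, 4), (14, 6), (90, 7), (79, 6), (69, 5), (91, 8), (80, 7), (10, 6), (92, 7), (11, 6), (92, 6), (105, 8), (12, 7), (14, 8), (94, 7), (71, 6), (52, 5), (37, 4), (31, 3), (26, 2), (22, 1), (1, 0), (97, 3), (64, 2), (47, 1), (34, 0), (101, 3), (89, 2), (103, 4), (91, 3), (105, 5), (12, 4), (119, 5), (13, 4), (112, 4), (66, 3),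 (49, 2), (6, 1), (89, 1), (12, 2), (115, 3), (69, 2), (116, 4), (10, 3), (118, 3), (111, 4), (86, 3), (56, 2), (48, 1), (115, 4), (102, 3), (119, 5), (13, 4), (14, 4), (14, 5), (87, 4), (57, 3), (49, 2), (90, 4), (12, 5), (118, 5), (113, 6), (88, 5), (58, 4), (50, 3), (115, 6), (90, 5), (118, 7), (12, 6), (14, 6), (115, 7), (90, 6), (9, 5), (118, 5), (14, 6), (12, 5), (49, 4), (42, 3), (6, 2), (88, 2), (12, 3), (114, 4), (101, 3), (118, 5), (105, 4), (116, 6), (103, 5), (91, 4), (117, 7), (104, 6), (92, 5), (118, 8), (105, 7), (12, 6), (113, 7), (100, 6), (77, 5), (67, 4), (50, 3), (7, 2), (114, 3), (101, 2), (118, 4), (105, 3), (14, 5), (103, 4), (91, 3), (117, 6), (104, 5), (92, 4), (119, 7), (13, 6), (14, 6), (89, 5), (78, 4), (68, 3), (8, 2), (90, 4), (79, 3), (69, 2), (12, 5), (102, 5), (79, 4), (69, 3), (9, 2), (116, 2), (117, 3), (119, 4), (116, 5), (103,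 4), (80, 3), (10, 2), (117, 4), (104, 3), (11, 2), (119, 3), (13, 2), (14, 2), (96, 3), (73, 2), (28, 1), (24, 0), (111, 5), (98, 4), (86, 3), (48, 2), (118, 5), (105, 4), (14, 6), (13, 5), (116, 5), (91, 4), (117, 6), (92, 5), (118, 7), (12, 6), (119, 6), (14, 7), (104, 6), (11, 5), (105, 5), (119, 7), (13, 6), (14, 6), (86, 5), (65, 4), (48, 3), (5, 2), (101, 5), (89, 4), (78, 3), (68, 2), (13, 6), (116, 6), (91, 5), (80, 4), (10, 3), (119, 5), (14, 6), (105, 5), (12, 4), (113, 5), (100, 4), (77, 3), (50, 2), (117, 5), (92, 4), (119, 6), (14, 7), (102, 6), (90, 5), (79, 4), (105, 7), (12, 6), (13, 6)], [(106, 8), (93, 7), (81, 6), (51, 5), (36, 4), (25, 3), (18, 2), (15, 1), (0, 0), (107, 6), (94, 5), (71, 4), (37, 3), (26, 2), (22, 1), (17, 0), (110, 5), (55, 4), (47, 3), (40, 2), (14, 7), (99, 6), (57, 5), (49, 4), (42, 3), (114, 7), (101, 6), (89, 5), (118,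 8), (105, 7), (12, 6), (115, 7), (102, 6), (118, 8), (105, 7), (14, 9), (13, 8), (90, 7), (9, 6), (118, 6), (116, 7), (91, 6), (118, 8), (12, 7), (111, 7), (65, 6), (48, 5), (41, 4), (35, 3), (113, 7), (58, 6), (50, 5), (115, 8), (90, 7), (118, 9), (12, 8), (14, 8), (114, 8), (59, 7), (8, 6), (14, 7), (9, 6), (118, 6), (119, 7), (114, 8), (101, 7), (89, 6), (119, 9), (13, 8), (14, 8), (91, 7), (14, 10), (99, 9), (87, 8), (66, 7), (49, 6), (42, 5), (6, 4), (88, 4), (12, 5), (114, 6), (101, 5), (118, 7), (105, 6), (116, 8), (103, 7), (91, 6), (118, 9), (105, 8), (12, 7), (119, 8), (13, 7), (113, 7), (67, 6), (50, 5), (7, 4), (114, 5), (101, 4), (118, 6), (105, 5), (14, 7), (103, 6), (91, 5), (14, 8), (102, 7), (90, 6), (69, 5), (105, 8), (12, 7), (100, 7), (67, 6), (58, 5), (50, 4), (115, 7), (90, 6), (118, 8), (12, 7), (14, 7), (119, 8), (114, 9), (101, 8), (68,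 7), (59, 6), (8, 5), (116, 6), (119, 7), (14, 8), (102, 7), (69, 6), (9, 5), (116, 5), (119, 6), (118, 7), (105, 6), (119, 8), (13, 7), (117, 7), (92, 6), (119, 8), (14, 9), (95, 8), (83, 7), (72, 6), (62, 5), (38, 4), (27, 3), (23, 2), (2, 1), (110, 5), (64, 4), (47, 3), (40, 2), (34, 1), (100, 4), (88, 3), (101, 5), (89, 4), (103, 6), (91, 5), (105, 7), (12, 6), (14, 7), (99, 6), (66, 5), (49, 4), (42, 3), (6, 2), (88, 2), (12, 3), (114, 4), (101, 3), (118, 5), (105, 4), (116, 6), (103, 5), (91, 4), (119, 7), (13, 6), (113, 6), (88, 5), (67, 4), (50, 3), (7, 2), (114, 3), (101, 2), (118, 4), (105, 3), (14, 5), (103, 4), (91, 3), (118, 6), (105, 5), (12, 4), (14, 5), (102, 4), (69, 3), (103, 5), (10, 4), (105, 4), (13, 5), (111, 5), (86, 4), (56, 3), (48, 2), (115, 5), (102, 4), (119, 6), (13, 5), (14, 5), (14, 6), (87, 5), (57, 4), (49, 3), (90, 5), (12, 6), (118,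 6), (113, 7), (88, 6), (58, 5), (50, 4), (115, 7), (90, 6), (118, 8), (12, 7), (14, 7), (114, 8), (89, 7), (59, 6), (8, 5), (118, 6), (14, 7), (12, 6), (100, 6), (58, 5), (7, 4), (115, 5), (102, 4), (118, 6), (105, 5), (14, 7), (13, 6), (89, 5), (59, 4), (118, 6), (115, 7), (90, 6), (9, 5), (118, 5), (14, 6), (12, 5), (116, 6), (103, 5), (118, 7), (105, 6), (119, 8), (13, 7), (14, 7), (92, 6), (105, 8), (12, 7), (119, 8), (13, 7), (110, 7), (74, 6), (64, 5), (47, 4), (34, 3), (29, 2), (4, 1), (99, 7), (76, 6), (66, 5), (57, 4), (42, 3), (6, 2), (88, 2), (12, 3), (115, 4), (102, 3), (118, 5), (105, 4), (14, 6), (103, 5), (91, 4), (104, 6), (92, 5), (13, 7), (12, 6), (101, 6), (78, 5), (68, 4), (59, 3), (116, 5), (117, 6), (119, 7), (116, 8), (103, 7), (80, 6), (10, 5), (118, 7), (105, 6), (14, 8), (104, 7), (92, 6), (11, 5), (111, 7), (98, 6), (86, 5), (56, 4), (48,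 3), (41, 2), (5, 1), (100, 4), (88, 3), (77, 2), (67, 1), (117, 3), (118, 4), (119, 5), (114, 6), (101, 5), (89, 4), (78, 3), (68, 2), (115, 7), (102, 6), (90, 5), (79, 4), (69, 3), (118, 8), (105, 7), (12, 6), (119, 7), (13, 6), (114, 6), (78, 5), (68, 4), (59, 3), (8, 2), (116, 3), (117, 4), (14, 5), (115, 6), (102, 5), (79, 4), (69, 3), (9, 2), (116, 2), (117, 3), (119, 4), (14, 5), (13, 4), (118, 4), (14, 5), (114, 6), (101, 5), (89, 4), (78, 3), (68, 2), (116, 7), (103, 6), (91, 5), (80, 4), (10, 3), (118, 6), (105, 5), (12, 4), (109, 5), (96, 4), (73, 3), (46, 2), (39, 1), (114, 5), (78, 4), (68, 3), (118, 6), (117, 7), (92, 6), (11, 5), (118, 6), (12, 5), (14, 5), (14, 6), (99, 5), (66, 4), (49, 3), (42, 2), (114, 6), (101, 5), (89, 4), (118, 7), (105, 6), (12, 5), (116, 6), (103, 5), (119, 7), (13, 6), (113, 6), (67, 5), (50, 4), (7, 3), (114, 4), (101,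 3), (118, 5), (105, 4), (14, 6), (103, 5), (91, 4), (14, 7), (101, 6), (89, 5), (68, 4), (8, 3), (102, 5), (90, 4), (69, 3), (103, 6), (91, 5), (10, 4), (104, 5), (92, 4), (105, 6), (12, 5), (111, 6), (98, 5), (75, 4), (56, 3), (35, 2), (115, 6), (9, 5), (14, 5), (117, 6), (104, 5), (119, 7), (13, 6), (119, 6), (14, 7), (101, 6), (78, 5), (8, 4), (13, 5), (77, 4), (11, 5), (90, 5), (91, 6), (92, 7), (12, 8), (119, 8), (14, 9), (94, 8), (71, 7), (61, 6), (52, 5), (37, 4), (31, 3), (26, 2), (19, 1), (1, 0), (96, 3), (63, 2), (46, 1), (33, 0), (114, 5), (101, 4), (78, 3), (68, 2), (118, 6), (105, 5), (116, 7), (103, 6), (91, 5), (80, 4), (10, 3), (118, 6), (105, 5), (12, 4), (119, 5), (13, 4), (14, 4), (79, 3), (75, 4), (56, 3), (48, 2), (35, 1), (114, 5), (59, 4), (8, 3), (14, 4), (115, 5), (102, 4), (9, 3), (119, 3), (14, 4), (13, 3), (117, 3), (119, 4), (112, 5),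 (99, 4), (76, 3), (6, 2), (92, 2), (113, 5), (100, 4), (88, 3), (77, 2), (115, 6), (102, 5), (90, 4), (79, 3), (118, 7), (105, 6), (12, 5), (112, 6), (99, 5), (76, 4), (57, 3), (42, 2), (115, 6), (102, 5), (90, 4), (118, 7), (105, 6), (12, 5), (14, 6), (104, 5), (13, 6), (116, 6), (80, 5), (117, 7), (11, 6), (118, 6), (113, 7), (88, 6), (67, 5), (58, 4), (7, 3), (115, 4), (102, 3), (118, 5), (105, 4), (14, 6), (103, 5), (91, 4), (118, 7), (105, 6), (12, 5), (14, 6), (101, 5), (68, 4), (59, 3), (116, 5), (119, 6), (115, 7), (102, 6), (69, 5), (9, 4), (116, 4), (119, 5), (14, 6), (105, 5), (13, 6), (90, 5), (69, 4), (91, 6), (10, 5), (92, 5), (116, 8), (103, 7), (91, 6), (80, 5), (118, 9), (105, 8), (12, 7), (117, 8), (104, 7), (11, 6), (119, 7), (13, 6), (110, 6), (64, 5), (55, 4), (47, 3), (34, 2), (29, 1), (99, 8), (76, 7), (66, 6), (57, 5), (42, 4), (6, 3), (88,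 3), (12, 4), (115, 5), (102, 4), (118, 6), (105, 5), (14, 7), (103, 6), (91, 5), (104, 7), (92, 6), (13, 8), (12, 7), (101, 7), (78, 6), (68, 5), (59, 4), (116, 6), (117, 7), (119, 8), (115, 9), (102, 8), (79, 7), (69, 6), (9, 5), (116, 5), (117, 6), (119, 7), (14, 8), (13, 7), (116, 7), (80, 6), (10, 5), (118, 6), (14, 7), (111, 7), (86, 6), (75, 5), (48, 4), (41, 3), (5, 2), (100, 5), (88, 4), (77, 3), (67, 2), (117, 4), (118, 5), (119, 6), (114, 7), (101, 6), (89, 5), (78, 4), (68, 3), (115, 8), (102, 7), (90, 6), (79, 5), (69, 4), (118, 9), (105, 8), (12, 7), (119, 8), (13, 7), (114, 7), (78, 6), (68, 5), (59, 4), (8, 3), (116, 4), (117, 5), (14, 6), (117, 7), (104, 6), (11, 5), (119, 6), (13, 5), (118, 5), (14, 6), (112, 6), (87, 5), (66, 4), (57, 3), (42, 2), (115, 6), (102, 5), (90, 4), (118, 7), (105, 6), (12, 5), (14, 6), (103, 5), (105, 6), (113, 8), (100,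 7), (88, 6), (67, 5), (58, 4), (7, 3), (115, 4), (102, 3), (118, 5), (105, 4), (14, 6), (103, 5), (91, 4), (118, 7), (105, 6), (12, 5), (119, 6), (13, 5), (14, 5), (69, 4), (9, 3), (116, 3), (117, 4), (118, 5), (14, 6), (83, 5), (72, 4), (62, 3), (32, 2), (23, 1), (20, 0), (110, 7), (97, 6), (85, 5), (74, 4), (64, 3), (55, 2), (116, 5), (103, 4), (118, 6), (105, 5), (14, 7), (104, 6), (92, 5), (105, 7), (12, 6), (13, 6), (112, 6), (76, 5), (66, 4), (57, 3), (116, 6), (91, 5), (117, 7), (92, 6), (14, 8), (88, 7), (77, 6), (67, 5), (58, 4), (116, 7), (91, 6), (14, 8), (92, 7), (12, 8), (79, 7), (69, 6), (9, 5), (116, 5), (117, 6), (116, 7), (80, 6), (10, 5), (118, 6), (119, 7), (14, 8), (99, 7), (87, 6), (76, 5), (42, 4), (6, 3), (88, 3), (12, 4), (117, 5), (104, 4), (118, 6), (105, 5), (119, 7), (13, 6), (114, 6), (89, 5), (78, 4), (115, 7), (90, 6), (79, 5), (118,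 8), (12, 7), (116, 7), (80, 6), (118, 8), (119, 9), (14, 10), (104, 9), (92, 8), (11, 7), (13, 8), (12, 7), (110, 7), (64, 6), (55, 5), (47, 4), (40, 3), (4, 2), (116, 6), (103, 5), (118, 7), (105, 6), (14, 8), (112, 8), (99, 7), (87, 6), (66, 5), (57, 4), (49, 3), (42, 2), (114, 6), (101, 5), (89, 4), (118, 7), (105, 6), (12, 5), (115, 6), (102, 5), (118, 7), (105, 6), (14, 8), (103, 7), (91, 6), (105, 8), (12, 7), (13, 7), (114, 7), (68, 6), (59, 5), (8, 4), (116, 5), (14, 6), (69, 5), (9, 4), (116, 4), (116, 5), (10, 4), (114, 4), (109, 5), (46, 4), (39, 3), (33, 2), (3, 1), (112, 5), (99, 4), (87, 3), (76, 2), (66, 1), (116, 6), (103, 5), (91, 4), (80, 3), (10, 2), (117, 5), (104, 4), (92, 3), (11, 2), (119, 4), (13, 3), (14, 3), (88, 2), (91, 3), (92, 4), (114, 6), (89, 5), (78, 4), (68, 3), (118, 7), (12, 6), (14, 6), (76, 5), (66, 4), (49, 3), (42, 2), (6,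 1), (88, 1), (12, 2), (114, 3), (101, 2), (118, 4), (105, 3), (116, 5), (103, 4), (91, 3), (117, 6), (104, 5), (92, 4), (115, 7), (102, 6), (90, 5), (79, 4), (69, 3), (14, 8), (95, 7), (83, 6), (72, 5), (62, 4), (53, 3), (45, 2), (38, 1), (2, 0), (113, 4), (67, 3), (50, 2), (7, 1), (114, 2), (101, 1), (118, 3), (105, 2), (14, 4), (103, 3), (91, 2), (14, 5), (101, 4), (89, 3), (68, 2), (8, 1), (102, 3), (90, 2), (69, 1), (105, 4), (12, 3), (13, 3), (114, 3), (68, 2), (59, 1), (116, 3), (14, 4), (90, 4), (69, 3), (9, 2), (116, 2), (118, 3), (118, 4), (12, 3), (119, 3), (116, 4), (103, 3), (10, 2), (118, 3), (105, 2), (119, 4), (13, 3), (14, 3), (92, 2), (105, 4), (12, 3), (119, 4), (13, 3), (109, 3), (73, 2), (46, 1), (33, 0), (114, 5), (101, 4), (78, 3), (68, 2), (118, 6), (105, 5), (117, 7), (104, 6), (92, 5), (11, 4), (118, 6), (105, 5), (12, 4), (14, 5), (110,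 5), (97, 4), (64, 3), (47, 2), (34, 1), (101, 4), (89, 3), (103, 5), (91, 4), (105, 6), (12, 5), (119, 6), (13, 5), (14, 5), (66, 4), (49, 3), (6, 2), (89, 2), (12, 3), (67, 3), (50, 2), (116, 5), (91, 4), (14, 6), (90, 5), (69, 4), (91, 6), (10, 5), (92, 5), (12, 6)]⟩,
    ⟨1, [2, 0], [0, 2, 4, 6, 7, 9, 10], [(70, 2), (36, 1), (18, 0), (113, 9), (88, 8), (77, 7), (67, 6), (58, 5), (50, 4), (7, 3), (114, 4), (101, 3), (118, 5), (105, 4), (14, 6), (102, 5), (90, 4), (105, 6), (12, 5), (116, 6), (103, 5), (14, 7), (104, 6), (105, 7), (117, 9), (104, 8), (92, 7), (11, 6), (118, 8), (105, 7), (12, 6), (117, 7), (104, 6), (119, 8), (13, 7), (107, 7), (71, 6), (61, 5), (52, 4), (44, 3), (31, 2), (19, 1), (57, 3), (116, 6), (91, 5), (117, 7), (92, 6), (118, 8), (12, 7), (114, 7), (78, 6), (68, 5), (59, 4), (116, 6), (117, 7), (14, 8), (80, 7), (10, 6), (11, 6), (9, 5),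 (116, 5), (117, 6), (119, 7), (14, 8), (103, 7), (80, 6), (10, 5), (105, 6), (104, 7), (92, 6), (11, 5), (111, 7), (98, 6), (86, 5), (48, 4), (35, 3), (114, 7), (59, 6), (8, 5), (14, 6), (118, 7), (105, 6), (14, 8), (13, 7), (117, 7), (92, 6)], [(73, 3), (28, 2), (117, 8), (104, 7), (92, 6), (11, 5), (118, 7), (105, 6), (12, 5), (14, 6), (100, 5), (67, 4), (119, 6), (117, 7), (104, 6), (112, 8), (99, 7), (76, 6), (66, 5), (42, 4), (116, 8), (103, 7), (91, 6), (117, 9), (104, 8), (92, 7), (119, 10), (13, 9), (14, 9), (88, 8), (77, 7), (67, 6), (7, 5), (116, 6), (103, 5), (14, 7), (104, 6), (105, 7), (104, 8), (92, 7), (11, 6), (102, 7), (90, 6), (69, 5), (103, 8), (91, 7), (10, 6), (104, 7), (92, 6), (13, 8)], [(106, 7), (70, 6), (60, 5), (36, 4), (30, 3), (21, 2), (18, 1), (16, 0), (109, 4), (54, 3), (39, 2), (115, 6), (79, 5), (69, 4), (118, 7), (14, 8), (112,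 8), (87, 7), (76, 6), (66, 5), (57, 4), (42, 3), (115, 7), (102, 6), (90, 5), (118, 8), (105, 7), (12, 6), (14, 7), (103, 6), (104, 7), (105, 8), (113, 10), (100, 9), (88, 8), (77, 7), (67, 6), (58, 5), (7, 4), (115, 5), (102, 4), (118, 6), (105, 5), (14, 7), (103, 6), (91, 5), (117, 8), (104, 7), (92, 6), (118, 9), (105, 8), (12, 7), (119, 8), (13, 7), (14, 7), (78, 6), (68, 5), (59, 4), (116, 6), (117, 7), (115, 8), (79, 7), (69, 6), (9, 5), (116, 5), (117, 6), (14, 7), (80, 6), (10, 5), (11, 5), (110, 6), (85, 5), (47, 4), (34, 3), (101, 6), (89, 5), (105, 7), (12, 6), (113, 7), (100, 6), (50, 5), (119, 8), (14, 9), (101, 8), (89, 7), (8, 6), (102, 7), (90, 6), (104, 8), (92, 7), (99, 9), (87, 8), (76, 7), (57, 6), (42, 5), (6, 4), (88, 4), (12, 5), (115, 6), (102, 5), (118, 7), (105, 6), (14, 8), (104, 7), (92, 6), (105, 8), (12, 7), (13, 7), (78, 6), (59, 5),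 (117, 7), (115, 8), (79, 7), (9, 6), (117, 6), (14, 7), (80, 6), (88, 8), (77, 7), (67, 6), (50, 5), (7, 4), (114, 5), (101, 4), (118, 6), (105, 5), (14, 7), (103, 6), (91, 5), (117, 8), (104, 7), (92, 6), (118, 9), (105, 8), (12, 7), (117, 8), (104, 7), (11, 6), (118, 7), (105, 6), (116, 8), (103, 7), (91, 6), (10, 5), (117, 7), (104, 6), (92, 5), (119, 8), (13, 7), (14, 7), (82, 6), (71, 5), (44, 4), (22, 3), (19, 2), (17, 1), (109, 6), (54, 5), (46, 4), (39, 3), (114, 7), (78, 6), (68, 5), (118, 8), (115, 9), (90, 8), (79, 7), (69, 6), (118, 10), (12, 9), (14, 9), (115, 9), (79, 8), (69, 7), (9, 6), (116, 6), (117, 7), (14, 8), (74, 7), (64, 6), (47, 5), (40, 4), (117, 9), (92, 8), (112, 10), (87, 9), (76, 8), (66, 7), (49, 6), (42, 5), (114, 9), (101, 8), (89, 7), (118, 10), (105, 9), (12, 8), (116, 9), (103, 8), (117, 10), (104, 9), (118, 11), (105, 10), (14,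 12), (102, 11), (90, 10), (79, 9), (69, 8), (103, 12), (91, 11), (80, 10), (10, 9), (105, 11), (12, 10), (101, 10), (78, 9), (59, 8), (8, 7), (117, 8), (119, 9), (116, 10), (103, 9), (80, 8), (117, 11), (104, 10), (11, 9), (117, 10), (104, 9), (118, 11), (105, 10), (109, 12), (96, 11), (84, 10), (73, 9), (63, 8), (54, 7), (39, 6), (33, 5), (24, 4), (3, 3), (110, 7), (97, 6), (85, 5), (74, 4), (64, 3), (117, 6), (92, 5), (118, 7), (12, 6), (119, 6), (14, 7), (101, 6), (78, 5), (68, 4), (105, 7), (13, 8), (112, 8), (87, 7), (76, 6), (66, 5), (49, 4), (91, 6), (92, 7), (12, 8), (116, 8), (80, 7), (10, 6), (117, 7), (11, 6), (119, 6), (14, 7), (100, 6), (50, 5), (119, 8), (116, 9), (103, 8), (91, 7), (117, 10), (104, 9), (92, 8), (14, 11), (102, 10), (90, 9), (79, 8), (69, 7), (105, 11), (12, 10), (116, 11), (103, 10), (80, 9), (10, 8), (118, 10), (105, 9), (117, 11),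 (104, 10), (92, 9), (11, 8), (118, 10), (105, 9), (12, 8), (14, 9), (105, 8), (13, 9), (14, 9), (86, 8), (56, 7), (48, 6), (41, 5), (35, 4), (113, 8), (58, 7), (50, 6), (115, 9), (90, 8), (118, 10), (12, 9), (14, 9), (114, 9), (59, 8), (8, 7), (14, 8), (9, 7), (118, 7), (119, 8), (114, 9), (101, 8), (89, 7), (119, 10), (13, 9), (14, 9), (90, 8), (118, 11), (105, 10), (12, 9), (14, 10), (100, 9), (58, 8), (50, 7), (7, 6), (114, 7), (101, 6), (118, 8), (105, 7), (14, 9), (102, 8), (90, 7), (105, 9), (12, 8), (119, 9), (13, 8), (115, 8), (9, 7), (14, 7)], [(108, 8), (95, 7), (83, 6), (53, 5), (38, 4), (27, 3), (20, 2), (111, 9), (98, 8), (86, 7), (75, 6), (65, 5), (56, 4), (116, 7), (103, 6), (119, 8), (13, 7), (14, 7), (105, 8), (119, 10), (13, 9), (14, 9), (87, 8), (76, 7), (66, 6), (57, 5), (116, 8), (91, 7), (117, 9), (92, 8), (118, 10), (12, 9), (113, 9), (77,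 8), (67, 7), (58, 6), (116, 9), (91, 8), (14, 10), (92, 9), (114, 11), (89, 10), (78, 9), (68, 8), (59, 7), (116, 9), (117, 10), (118, 11), (14, 12), (12, 11), (100, 11), (77, 10), (67, 9), (58, 8), (50, 7), (7, 6), (114, 7), (101, 6), (118, 8), (105, 7), (14, 9), (102, 8), (90, 7), (105, 9), (12, 8), (116, 9), (103, 8), (14, 10), (104, 9), (13, 10), (78, 9), (68, 8), (59, 7), (8, 6), (116, 7), (117, 8), (115, 9), (79, 8), (69, 7), (9, 6), (116, 6), (117, 7), (14, 8), (115, 10), (102, 9), (90, 8), (79, 7), (69, 6), (118, 11), (105, 10), (12, 9), (119, 10), (13, 9), (118, 9), (14, 10), (109, 11), (96, 10), (84, 9), (73, 8), (63, 7), (54, 6), (33, 5), (28, 4), (3, 3), (111, 7), (98, 6), (86, 5), (75, 4), (65, 3), (117, 6), (104, 5), (119, 7), (13, 6), (118, 6), (14, 7), (116, 8), (103, 7), (91, 6), (80, 5), (10, 4), (117, 7), (104, 6), (92, 5), (11, 4), (118, 6),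 (105, 5), (12, 4), (119, 5), (13, 4), (14, 4), (115, 8), (102, 7), (79, 6), (69, 5), (118, 9), (105, 8), (14, 10), (103, 9), (91, 8), (80, 7), (10, 6), (105, 8), (12, 7), (104, 7), (11, 6), (105, 6), (118, 8), (105, 7), (12, 6), (119, 7), (13, 6), (14, 6), (110, 6), (55, 5), (34, 4), (29, 3), (99, 10), (76, 9), (66, 8), (57, 7), (42, 6), (6, 5), (88, 5), (12, 6), (115, 7), (102, 6), (118, 8), (105, 7), (14, 9), (103, 8), (91, 7), (104, 9), (92, 8), (13, 10), (12, 9), (102, 9), (79, 8), (69, 7), (9, 6), (116, 6), (117, 7), (119, 8), (119, 9), (13, 8), (14, 8), (112, 8), (76, 7), (66, 6), (42, 5), (116, 9), (103, 8), (91, 7), (117, 10), (104, 9), (92, 8), (14, 11), (100, 10), (88, 9), (77, 8), (67, 7), (7, 6), (116, 7), (103, 6), (14, 8), (104, 7), (105, 8), (13, 9), (91, 8), (80, 7), (10, 6), (92, 7), (11, 6), (108, 7), (83, 6), (32, 5), (27, 4), (23, 3), (2, 2),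 (110, 6), (64, 5), (47, 4), (40, 3), (34, 2), (100, 5), (88, 4), (101, 6), (89, 5), (103, 7), (91, 6), (105, 8), (12, 7), (14, 8), (99, 7), (66, 6), (49, 5), (42, 4), (6, 3), (88, 3), (12, 4), (114, 5), (101, 4), (118, 6), (105, 5), (116, 7), (103, 6), (91, 5), (119, 8), (13, 7), (113, 7), (88, 6), (67, 5), (50, 4), (7, 3), (114, 4), (101, 3), (118, 5), (105, 4), (14, 6), (103, 5), (91, 4), (118, 7), (105, 6), (12, 5), (14, 6), (102, 5), (69, 4), (103, 6), (10, 5), (105, 5), (13, 6), (111, 6), (86, 5), (56, 4), (48, 3), (115, 6), (102, 5), (119, 7), (13, 6), (14, 6), (14, 7), (87, 6), (57, 5), (49, 4), (90, 6), (12, 7), (118, 7), (113, 8), (88, 7), (58, 6), (50, 5), (115, 8), (90, 7), (118, 9), (12, 8), (14, 8), (114, 9), (89, 8), (59, 7), (8, 6), (118, 7), (14, 8), (12, 7), (99, 7), (57, 6), (42, 5), (6, 4), (88, 4), (12, 5), (115, 6), (102, 5), (118, 7), (105,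 6), (14, 8), (13, 7), (89, 6), (59, 5), (118, 7), (115, 8), (90, 7), (9, 6), (118, 6), (14, 7), (12, 6), (14, 7), (85, 6), (47, 5), (40, 4), (29, 3), (4, 2), (100, 8), (77, 7), (67, 6), (58, 5), (7, 4), (115, 5), (102, 4), (118, 6), (105, 5), (14, 7), (103, 6), (91, 5), (117, 8), (104, 7), (92, 6), (119, 9), (13, 8), (114, 8), (89, 7), (78, 6), (68, 5), (59, 4), (116, 6), (117, 7), (118, 8), (14, 9), (12, 8), (76, 7), (66, 6), (57, 5), (49, 4), (6, 3), (89, 3), (12, 4), (116, 6), (91, 5), (117, 7), (92, 6), (114, 8), (89, 7), (78, 6), (68, 5), (59, 4), (8, 3), (116, 4), (117, 5), (118, 6), (14, 7), (90, 6), (79, 5), (69, 4), (9, 3), (116, 3), (117, 4), (118, 5), (116, 6), (91, 5), (80, 4), (10, 3), (109, 5), (84, 4), (73, 3), (28, 2), (117, 8), (104, 7), (92, 6), (11, 5), (118, 7), (105, 6), (12, 5), (14, 6), (105, 5), (112, 7), (99, 6), (87, 5), (66, 4), (115,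 8), (102, 7), (90, 6), (69, 5), (14, 9), (95, 8), (83, 7), (62, 6), (53, 5), (32, 4), (27, 3), (20, 2), (111, 9), (98, 8), (86, 7), (75, 6), (65, 5), (56, 4), (116, 7), (103, 6), (119, 8), (13, 7), (14, 7), (105, 8), (119, 10), (13, 9), (14, 9), (87, 8), (76, 7), (66, 6), (57, 5), (116, 8), (91, 7), (117, 9), (92, 8), (118, 10), (12, 9), (113, 9), (77, 8), (67, 7), (58, 6), (116, 9), (91, 8), (14, 10), (92, 9), (114, 11), (89, 10), (78, 9), (68, 8), (59, 7), (116, 9), (117, 10), (118, 11), (14, 12), (12, 11), (99, 11), (76, 10), (66, 9), (57, 8), (49, 7), (42, 6), (6, 5), (88, 5), (12, 6), (114, 7), (101, 6), (118, 8), (105, 7), (115, 9), (102, 8), (90, 7), (118, 10), (105, 9), (12, 8), (14, 9), (103, 8), (104, 9), (13, 10), (78, 9), (68, 8), (59, 7), (8, 6), (116, 7), (117, 8), (115, 9), (79, 8), (69, 7), (9, 6), (116, 6), (117, 7), (14, 8), (90, 8), (79, 7), (69,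 6), (12, 9), (103, 9), (80, 8), (10, 7), (105, 8), (13, 9), (118, 9), (12, 8), (14, 8), (96, 8), (73, 7), (54, 6), (39, 5), (28, 4), (3, 3), (111, 7), (98, 6), (86, 5), (75, 4), (65, 3), (117, 6), (104, 5), (119, 7), (13, 6), (118, 6), (14, 7), (116, 8), (103, 7), (91, 6), (80, 5), (10, 4), (117, 7), (104, 6), (92, 5), (11, 4), (118, 6), (105, 5), (12, 4), (119, 5), (13, 4), (14, 4), (115, 7), (79, 6), (69, 5), (118, 8), (14, 9), (92, 8), (11, 7), (12, 7), (119, 7), (14, 8), (97, 7), (64, 6), (55, 5), (40, 4), (29, 3), (100, 10), (77, 9), (67, 8), (58, 7), (7, 6), (115, 7), (102, 6), (118, 8), (105, 7), (14, 9), (103, 8), (91, 7), (117, 10), (104, 9), (92, 8), (119, 11), (13, 10), (115, 10), (90, 9), (79, 8), (69, 7), (9, 6), (116, 6), (117, 7), (118, 8), (14, 9), (116, 10), (103, 9), (91, 8), (80, 7), (10, 6), (118, 9), (105, 8), (12, 7), (14, 8), (13, 7), (76,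 6), (6, 5), (92, 5), (88, 6), (77, 5), (90, 7), (79, 6), (91, 8), (80, 7), (92, 9), (11, 8), (12, 8), (112, 8), (66, 7), (57, 6), (42, 5), (115, 9), (102, 8), (90, 7), (118, 10), (105, 9), (12, 8), (14, 9), (103, 8), (113, 10), (100, 9), (67, 8), (58, 7), (7, 6), (115, 7), (102, 6), (118, 8), (105, 7), (14, 9), (103, 8), (91, 7), (119, 10), (13, 9), (14, 9), (89, 8), (68, 7), (59, 6), (116, 8), (118, 9), (115, 10), (90, 9), (69, 8), (9, 7), (116, 7), (118, 8), (14, 9), (91, 8), (10, 7)]⟩]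

/-- Part of the certificate. -/
def fusesPart1 : List Spor.SchurCert.Fuse := [
    ⟨1, [3, 0], [0, 3, 9, 10], [(21, 0), (71, 5), (52, 4), (44, 3), (37, 2), (22, 1), (88, 6), (67, 5), (58, 4), (116, 7), (91, 6), (14, 8), (12, 7), (68, 6), (59, 5), (116, 7), (115, 8), (69, 7), (9, 6), (116, 6), (14, 7), (101, 8), (89, 7), (68, 6), (8, 5), (103, 7), (91, 6), (10, 5), (104, 6), (92, 5), (102, 7), (90, 6), (79, 5), (103, 8), (91, 7), (80, 6), (104, 9), (92, 8), (11, 7), (13, 8), (117, 8), (92, 7), (111, 9), (86, 8), (75, 7), (65, 6), (56, 5), (41, 4), (35, 3), (113, 7), (58, 6), (50, 5), (115, 8), (90, 7), (118, 9), (12, 8), (14, 8), (114, 8), (59, 7), (8, 6), (14, 7), (9, 6), (118, 6), (119, 7), (115, 8), (102, 7), (90, 6), (119, 9), (13, 8), (14, 8), (91, 7), (117, 10), (104, 9), (92, 8), (119, 11), (13, 10), (118, 10), (12, 9), (14, 9), (117, 9), (11, 8)], [(74,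 3), (29, 2), (104, 9), (11, 8), (13, 8)], [(81, 6), (51, 5), (43, 4), (25, 3), (21, 2), (15, 1), (0, 0), (107, 6), (94, 5), (71, 4), (37, 3), (26, 2), (22, 1), (17, 0), (110, 5), (55, 4), (47, 3), (40, 2), (14, 7), (99, 6), (57, 5), (49, 4), (42, 3), (114, 7), (101, 6), (89, 5), (118, 8), (105, 7), (12, 6), (115, 7), (102, 6), (118, 8), (105, 7), (14, 9), (13, 8), (90, 7), (9, 6), (118, 6), (116, 7), (91, 6), (118, 8), (12, 7), (111, 7), (65, 6), (48, 5), (41, 4), (35, 3), (113, 7), (58, 6), (50, 5), (115, 8), (90, 7), (118, 9), (12, 8), (14, 8), (114, 8), (59, 7), (8, 6), (14, 7), (9, 6), (118, 6), (119, 7), (114, 8), (101, 7), (89, 6), (119, 9), (13, 8), (14, 8), (91, 7), (14, 10), (99, 9), (87, 8), (66, 7), (49, 6), (42, 5), (6, 4), (88, 4), (12, 5), (114, 6), (101, 5), (118, 7), (105, 6), (116, 8), (103, 7), (91, 6), (118, 9), (105, 8), (12, 7), (119, 8), (13,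 7), (113, 7), (67, 6), (50, 5), (7, 4), (114, 5), (101, 4), (118, 6), (105, 5), (14, 7), (103, 6), (91, 5), (14, 8), (102, 7), (90, 6), (69, 5), (105, 8), (12, 7), (100, 7), (67, 6), (58, 5), (50, 4), (115, 7), (90, 6), (118, 8), (12, 7), (14, 7), (119, 8), (114, 9), (101, 8), (68, 7), (59, 6), (8, 5), (116, 6), (119, 7), (14, 8), (102, 7), (69, 6), (9, 5), (116, 5), (119, 6), (118, 7), (105, 6), (119, 8), (13, 7), (117, 7), (92, 6), (119, 8), (14, 9), (95, 8), (83, 7), (72, 6), (62, 5), (38, 4), (27, 3), (23, 2), (2, 1), (110, 5), (64, 4), (47, 3), (40, 2), (34, 1), (100, 4), (88, 3), (101, 5), (89, 4), (103, 6), (91, 5), (105, 7), (12, 6), (14, 7), (99, 6), (66, 5), (49, 4), (42, 3), (6, 2), (88, 2), (12, 3), (114, 4), (101, 3), (118, 5), (105, 4), (116, 6), (103, 5), (91, 4), (119, 7), (13, 6), (113, 6), (88, 5), (67, 4), (50, 3), (7, 2), (114, 3), (101, 2),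 (118, 4), (105, 3), (14, 5), (103, 4), (91, 3), (118, 6), (105, 5), (12, 4), (14, 5), (102, 4), (69, 3), (103, 5), (10, 4), (105, 4), (13, 5), (111, 5), (86, 4), (56, 3), (48, 2), (115, 5), (102, 4), (119, 6), (13, 5), (14, 5), (14, 6), (87, 5), (57, 4), (49, 3), (90, 5), (12, 6), (118, 6), (113, 7), (88, 6), (58, 5), (50, 4), (115, 7), (90, 6), (118, 8), (12, 7), (14, 7), (114, 8), (89, 7), (59, 6), (8, 5), (118, 6), (14, 7), (12, 6), (100, 6), (58, 5), (7, 4), (115, 5), (102, 4), (118, 6), (105, 5), (14, 7), (13, 6), (89, 5), (59, 4), (118, 6), (115, 7), (90, 6), (9, 5), (118, 5), (14, 6), (12, 5), (116, 6), (103, 5), (118, 7), (105, 6), (119, 8), (13, 7), (14, 7), (92, 6), (105, 8), (12, 7), (119, 8), (13, 7), (110, 7), (74, 6), (64, 5), (47, 4), (34, 3), (29, 2), (4, 1), (99, 7), (76, 6), (66, 5), (57, 4), (42, 3), (6, 2), (88, 2), (12, 3), (115, 4), (102, 3),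 (118, 5), (105, 4), (14, 6), (103, 5), (91, 4), (104, 6), (92, 5), (13, 7), (12, 6), (101, 6), (78, 5), (68, 4), (59, 3), (116, 5), (117, 6), (119, 7), (116, 8), (103, 7), (80, 6), (10, 5), (118, 7), (105, 6), (14, 8), (104, 7), (92, 6), (11, 5), (111, 7), (98, 6), (86, 5), (56, 4), (48, 3), (41, 2), (5, 1), (100, 4), (88, 3), (77, 2), (67, 1), (117, 3), (118, 4), (119, 5), (114, 6), (101, 5), (89, 4), (78, 3), (68, 2), (115, 7), (102, 6), (90, 5), (79, 4), (69, 3), (118, 8), (105, 7), (12, 6), (119, 7), (13, 6), (114, 6), (78, 5), (68, 4), (59, 3), (8, 2), (116, 3), (117, 4), (14, 5), (115, 6), (102, 5), (79, 4), (69, 3), (9, 2), (116, 2), (117, 3), (119, 4), (14, 5), (13, 4), (118, 4), (14, 5), (114, 6), (101, 5), (89, 4), (78, 3), (68, 2), (116, 7), (103, 6), (91, 5), (80, 4), (10, 3), (118, 6), (105, 5), (12, 4), (110, 5), (97, 4), (74, 3), (47, 2), (40, 1),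 (113, 6), (100, 5), (77, 4), (50, 3), (7, 2), (114, 3), (101, 2), (118, 4), (105, 3), (14, 5), (104, 4), (92, 3), (13, 5), (114, 5), (89, 4), (78, 3), (8, 2), (115, 4), (90, 3), (79, 2), (117, 5), (92, 4), (11, 3), (111, 4), (86, 3), (56, 2), (118, 5), (105, 4), (14, 6), (114, 6), (101, 5), (89, 4), (59, 3), (118, 5), (119, 6), (14, 7), (13, 6), (89, 5), (59, 4), (8, 3), (118, 4), (116, 5), (91, 4), (117, 6), (92, 5), (118, 7), (12, 6), (119, 6), (115, 7), (102, 6), (79, 5), (69, 4), (9, 3), (116, 3), (117, 4), (119, 5), (14, 6), (103, 5), (80, 4), (10, 3), (104, 4), (11, 3), (105, 3), (107, 5), (94, 4), (82, 3), (26, 2), (22, 1), (1, 0), (97, 3), (64, 2), (47, 1), (34, 0), (101, 3), (89, 2), (103, 4), (91, 3), (105, 5), (12, 4), (119, 5), (13, 4), (112, 4), (66, 3), (49, 2), (6, 1), (89, 1), (12, 2), (115, 3), (69, 2), (116, 4), (10, 3), (118, 3), (111, 4), (86,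 3), (56, 2), (48, 1), (115, 4), (102, 3), (119, 5), (13, 4), (14, 4), (14, 5), (87, 4), (57, 3), (49, 2), (90, 4), (12, 5), (118, 5), (113, 6), (88, 5), (58, 4), (50, 3), (115, 6), (90, 5), (118, 7), (12, 6), (14, 6), (115, 7), (90, 6), (9, 5), (118, 5), (14, 6), (12, 5), (109, 7), (96, 6), (84, 5), (46, 4), (39, 3), (33, 2), (28, 1), (24, 0), (111, 5), (98, 4), (86, 3), (48, 2), (118, 5), (105, 4), (14, 6), (13, 5), (116, 5), (91, 4), (117, 6), (92, 5), (118, 7), (12, 6), (119, 6), (14, 7), (99, 6), (76, 5), (66, 4), (49, 3), (91, 5), (92, 6), (103, 8), (91, 7), (80, 6), (10, 5), (104, 7), (92, 6), (11, 5), (13, 6), (113, 6), (88, 5), (50, 4), (118, 7), (12, 6), (14, 6), (114, 8), (78, 7), (68, 6), (8, 5), (118, 7), (118, 8), (12, 7), (119, 7), (14, 8), (111, 8), (98, 7), (75, 6), (65, 5), (41, 4), (35, 3), (5, 2), (99, 5), (87, 4), (76, 3), (66, 2), (101, 6),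 (89, 5), (78, 4), (68, 3), (102, 7), (90, 6), (79, 5), (69, 4), (113, 9), (100, 8), (88, 7), (77, 6), (67, 5), (58, 4), (50, 3), (115, 6), (90, 5), (118, 7), (12, 6), (14, 6), (117, 7), (118, 8), (119, 9), (14, 10), (101, 9), (89, 8), (78, 7), (68, 6), (59, 5), (8, 4), (116, 5), (117, 6), (118, 7), (119, 8), (115, 9), (102, 8), (90, 7), (79, 6), (69, 5), (9, 4), (116, 4), (117, 5), (118, 6), (119, 7), (14, 8), (105, 7), (12, 6), (13, 6), (80, 5), (10, 4), (117, 6), (104, 5), (11, 4), (119, 5), (13, 4), (119, 4), (14, 5), (100, 4), (7, 3), (119, 4), (13, 3), (115, 3), (118, 4), (119, 5), (14, 6)], [(106, 8), (93, 7), (81, 6), (51, 5), (36, 4), (25, 3), (18, 2), (15, 1), (0, 0), (107, 6), (94, 5), (71, 4), (37, 3), (26, 2), (22, 1), (17, 0), (110, 5), (55, 4), (47, 3), (40, 2), (14, 7), (99, 6), (57, 5), (49, 4), (42, 3), (114, 7), (101, 6), (89, 5), (118, 8), (105,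 7), (12, 6), (115, 7), (102, 6), (118, 8), (105, 7), (14, 9), (13, 8), (90, 7), (9, 6), (118, 6), (116, 7), (91, 6), (118, 8), (12, 7), (111, 7), (65, 6), (48, 5), (41, 4), (35, 3), (113, 7), (58, 6), (50, 5), (115, 8), (90, 7), (118, 9), (12, 8), (14, 8), (114, 8), (59, 7), (8, 6), (14, 7), (9, 6), (118, 6), (119, 7), (114, 8), (101, 7), (89, 6), (119, 9), (13, 8), (14, 8), (91, 7), (14, 10), (99, 9), (87, 8), (66, 7), (49, 6), (42, 5), (6, 4), (88, 4), (12, 5), (114, 6), (101, 5), (118, 7), (105, 6), (116, 8), (103, 7), (91, 6), (118, 9), (105, 8), (12, 7), (119, 8), (13, 7), (113, 7), (67, 6), (50, 5), (7, 4), (114, 5), (101, 4), (118, 6), (105, 5), (14, 7), (103, 6), (91, 5), (14, 8), (102, 7), (90, 6), (69, 5), (105, 8), (12, 7), (100, 7), (67, 6), (58, 5), (50, 4), (115, 7), (90, 6), (118, 8), (12, 7), (14, 7), (119, 8), (114, 9), (101, 8), (68, 7), (59, 6),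 (8, 5), (116, 6), (119, 7), (14, 8), (102, 7), (69, 6), (9, 5), (116, 5), (119, 6), (118, 7), (105, 6), (119, 8), (13, 7), (117, 7), (92, 6), (119, 8), (14, 9), (95, 8), (83, 7), (72, 6), (62, 5), (38, 4), (27, 3), (23, 2), (2, 1), (110, 5), (64, 4), (47, 3), (40, 2), (34, 1), (100, 4), (88, 3), (101, 5), (89, 4), (103, 6), (91, 5), (105, 7), (12, 6), (14, 7), (99, 6), (66, 5), (49, 4), (42, 3), (6, 2), (88, 2), (12, 3), (114, 4), (101, 3), (118, 5), (105, 4), (116, 6), (103, 5), (91, 4), (119, 7), (13, 6), (113, 6), (88, 5), (67, 4), (50, 3), (7, 2), (114, 3), (101, 2), (118, 4), (105, 3), (14, 5), (103, 4), (91, 3), (118, 6), (105, 5), (12, 4), (14, 5), (102, 4), (69, 3), (103, 5), (10, 4), (105, 4), (13, 5), (111, 5), (86, 4), (56, 3), (48, 2), (115, 5), (102, 4), (119, 6), (13, 5), (14, 5), (14, 6), (87, 5), (57, 4), (49, 3), (90, 5), (12, 6), (118, 6), (113,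 7), (88, 6), (58, 5), (50, 4), (115, 7), (90, 6), (118, 8), (12, 7), (14, 7), (114, 8), (89, 7), (59, 6), (8, 5), (118, 6), (14, 7), (12, 6), (100, 6), (58, 5), (7, 4), (115, 5), (102, 4), (118, 6), (105, 5), (14, 7), (13, 6), (89, 5), (59, 4), (118, 6), (115, 7), (90, 6), (9, 5), (118, 5), (14, 6), (12, 5), (116, 6), (103, 5), (118, 7), (105, 6), (119, 8), (13, 7), (14, 7), (92, 6), (105, 8), (12, 7), (119, 8), (13, 7), (110, 7), (74, 6), (64, 5), (47, 4), (34, 3), (29, 2), (4, 1), (99, 7), (76, 6), (66, 5), (57, 4), (42, 3), (6, 2), (88, 2), (12, 3), (115, 4), (102, 3), (118, 5), (105, 4), (14, 6), (103, 5), (91, 4), (104, 6), (92, 5), (13, 7), (12, 6), (101, 6), (78, 5), (68, 4), (59, 3), (116, 5), (117, 6), (119, 7), (116, 8), (103, 7), (80, 6), (10, 5), (118, 7), (105, 6), (14, 8), (104, 7), (92, 6), (11, 5), (111, 7), (98, 6), (86, 5), (56, 4), (48, 3), (41,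 2), (5, 1), (100, 4), (88, 3), (77, 2), (67, 1), (117, 3), (118, 4), (119, 5), (114, 6), (101, 5), (89, 4), (78, 3), (68, 2), (115, 7), (102, 6), (90, 5), (79, 4), (69, 3), (118, 8), (105, 7), (12, 6), (119, 7), (13, 6), (114, 6), (78, 5), (68, 4), (59, 3), (8, 2), (116, 3), (117, 4), (14, 5), (115, 6), (102, 5), (79, 4), (69, 3), (9, 2), (116, 2), (117, 3), (119, 4), (14, 5), (13, 4), (118, 4), (14, 5), (114, 6), (101, 5), (89, 4), (78, 3), (68, 2), (116, 7), (103, 6), (91, 5), (80, 4), (10, 3), (118, 6), (105, 5), (12, 4), (109, 5), (96, 4), (73, 3), (46, 2), (39, 1), (114, 5), (78, 4), (68, 3), (118, 6), (117, 7), (92, 6), (11, 5), (118, 6), (12, 5), (14, 5), (14, 6), (99, 5), (66, 4), (49, 3), (42, 2), (114, 6), (101, 5), (89, 4), (118, 7), (105, 6), (12, 5), (116, 6), (103, 5), (119, 7), (13, 6), (113, 6), (67, 5), (50, 4), (7, 3), (114, 4), (101, 3), (118,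 5), (105, 4), (14, 6), (103, 5), (91, 4), (14, 7), (101, 6), (89, 5), (68, 4), (8, 3), (102, 5), (90, 4), (69, 3), (103, 6), (91, 5), (10, 4), (104, 5), (92, 4), (105, 6), (12, 5), (111, 6), (98, 5), (75, 4), (56, 3), (35, 2), (115, 6), (9, 5), (14, 5), (117, 6), (104, 5), (119, 7), (13, 6), (119, 6), (14, 7), (101, 6), (78, 5), (8, 4), (13, 5), (77, 4), (11, 5), (90, 5), (91, 6), (92, 7), (12, 8), (119, 8), (14, 9), (94, 8), (71, 7), (61, 6), (52, 5), (37, 4), (31, 3), (26, 2), (19, 1), (1, 0), (96, 3), (63, 2), (46, 1), (33, 0), (114, 5), (101, 4), (78, 3), (68, 2), (118, 6), (105, 5), (116, 7), (103, 6), (91, 5), (80, 4), (10, 3), (118, 6), (105, 5), (12, 4), (119, 5), (13, 4), (14, 4), (79, 3), (75, 4), (56, 3), (48, 2), (35, 1), (114, 5), (59, 4), (8, 3), (14, 4), (115, 5), (102, 4), (9, 3), (119, 3), (14, 4), (13, 3), (117, 3), (119, 4), (112, 5), (99, 4),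 (76, 3), (6, 2), (92, 2), (113, 5), (100, 4), (88, 3), (77, 2), (115, 6), (102, 5), (90, 4), (79, 3), (118, 7), (105, 6), (12, 5), (112, 6), (99, 5), (76, 4), (57, 3), (42, 2), (115, 6), (102, 5), (90, 4), (118, 7), (105, 6), (12, 5), (14, 6), (104, 5), (13, 6), (116, 6), (80, 5), (117, 7), (11, 6), (118, 6), (113, 7), (88, 6), (67, 5), (58, 4), (7, 3), (115, 4), (102, 3), (118, 5), (105, 4), (14, 6), (103, 5), (91, 4), (118, 7), (105, 6), (12, 5), (14, 6), (101, 5), (68, 4), (59, 3), (116, 5), (119, 6), (115, 7), (102, 6), (69, 5), (9, 4), (116, 4), (119, 5), (14, 6), (105, 5), (13, 6), (90, 5), (69, 4), (91, 6), (10, 5), (92, 5), (116, 8), (103, 7), (91, 6), (80, 5), (118, 9), (105, 8), (12, 7), (117, 8), (104, 7), (11, 6), (119, 7), (13, 6), (110, 6), (64, 5), (55, 4), (47, 3), (34, 2), (29, 1), (99, 8), (76, 7), (66, 6), (57, 5), (42, 4), (6, 3), (88, 3), (12,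 4), (115, 5), (102, 4), (118, 6), (105, 5), (14, 7), (103, 6), (91, 5), (104, 7), (92, 6), (13, 8), (12, 7), (101, 7), (78, 6), (68, 5), (59, 4), (116, 6), (117, 7), (119, 8), (115, 9), (102, 8), (79, 7), (69, 6), (9, 5), (116, 5), (117, 6), (119, 7), (14, 8), (13, 7), (116, 7), (80, 6), (10, 5), (118, 6), (14, 7), (111, 7), (86, 6), (75, 5), (48, 4), (41, 3), (5, 2), (100, 5), (88, 4), (77, 3), (67, 2), (117, 4), (118, 5), (119, 6), (114, 7), (101, 6), (89, 5), (78, 4), (68, 3), (115, 8), (102, 7), (90, 6), (79, 5), (69, 4), (118, 9), (105, 8), (12, 7), (119, 8), (13, 7), (114, 7), (78, 6), (68, 5), (59, 4), (8, 3), (116, 4), (117, 5), (14, 6), (117, 7), (104, 6), (11, 5), (119, 6), (13, 5), (118, 5), (14, 6), (114, 6), (89, 5), (68, 4), (59, 3), (116, 5), (118, 6), (14, 7), (90, 6), (69, 5), (9, 4), (116, 4), (118, 5), (118, 6), (12, 5), (112, 5), (66, 4), (49,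 3), (42, 2), (114, 6), (101, 5), (89, 4), (118, 7), (105, 6), (12, 5), (116, 6), (103, 5), (14, 7), (100, 6), (67, 5), (50, 4), (7, 3), (114, 4), (101, 3), (118, 5), (105, 4), (14, 6), (103, 5), (91, 4), (119, 7), (13, 6), (114, 6), (89, 5), (68, 4), (8, 3), (115, 5), (90, 4), (69, 3), (116, 6), (91, 5), (10, 4), (119, 5), (14, 6)]⟩,
    ⟨1, [4, 0], [0, 4, 9, 10], [(70, 2), (36, 1), (30, 0), (88, 5), (67, 4), (58, 3), (50, 2), (115, 5), (90, 4), (118, 6), (12, 5), (14, 5), (118, 6), (117, 7), (92, 6), (118, 8), (12, 7), (117, 7), (11, 6), (119, 6), (107, 7), (94, 6), (61, 5), (52, 4), (44, 3), (37, 2), (31, 1), (88, 5), (77, 4), (67, 3), (117, 5), (118, 6), (114, 7), (89, 6), (78, 5), (68, 4), (115, 8), (90, 7), (79, 6), (69, 5), (118, 9), (12, 8), (119, 8), (114, 9), (101, 8), (78, 7), (68, 6), (59, 5), (8, 4), (116, 5), (117, 6), (119, 7), (14, 8), (103, 7), (80,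 6), (10, 5), (104, 6), (11, 5), (102, 5), (9, 4), (119, 4), (116, 5), (103, 4), (117, 6), (104, 5), (119, 7), (13, 6), (14, 6), (80, 5), (10, 4), (111, 7), (98, 6), (86, 5), (75, 4), (41, 3), (35, 2), (113, 6), (58, 5), (50, 4), (115, 7), (90, 6), (118, 8), (12, 7), (14, 7), (114, 7), (59, 6), (8, 5), (14, 6), (9, 5), (118, 5), (119, 6), (117, 7), (104, 6), (92, 5), (119, 8), (13, 7), (118, 7), (12, 6), (14, 6), (117, 7), (104, 6), (11, 5)], [(76, 3), (77, 4), (11, 5)], [(60, 5), (51, 4), (43, 3), (30, 2), (21, 1), (16, 0), (110, 4), (55, 3), (40, 2), (14, 6), (100, 5), (58, 4), (7, 3), (115, 4), (102, 3), (118, 5), (105, 4), (14, 6), (13, 5), (89, 4), (59, 3), (118, 5), (115, 6), (90, 5), (9, 4), (118, 4), (14, 5), (92, 4), (87, 5), (76, 4), (49, 3), (92, 5), (12, 6), (78, 5), (8, 4), (79, 4), (80, 5), (89, 7), (78, 6), (68, 5), (59, 4), (116, 6), (117, 7), (118,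 8), (116, 9), (91, 8), (80, 7), (10, 6), (117, 8), (92, 7), (11, 6), (118, 7), (12, 6), (119, 6), (115, 7), (102, 6), (9, 5), (119, 5), (14, 6), (103, 5), (104, 6), (103, 7), (80, 6), (10, 5), (94, 6), (71, 5), (44, 4), (31, 3), (22, 2), (17, 1), (110, 6), (55, 5), (47, 4), (40, 3), (14, 8), (99, 7), (57, 6), (49, 5), (42, 4), (114, 8), (101, 7), (89, 6), (118, 9), (105, 8), (12, 7), (115, 8), (102, 7), (118, 9), (105, 8), (14, 10), (13, 9), (90, 8), (9, 7), (118, 7), (116, 8), (91, 7), (118, 9), (12, 8), (112, 8), (66, 7), (49, 6), (42, 5), (6, 4), (88, 4), (12, 5), (114, 6), (101, 5), (118, 7), (105, 6), (116, 8), (103, 7), (91, 6), (14, 9), (103, 8), (91, 7), (10, 6), (104, 7), (92, 6), (105, 8), (12, 7), (101, 7), (78, 6), (8, 5), (103, 6), (80, 5), (104, 7), (11, 6), (104, 6), (13, 7), (73, 6), (63, 5), (39, 4), (24, 3), (113, 8), (100, 7), (88, 6), (50, 5),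 (118, 8), (12, 7), (119, 7), (14, 8), (103, 7), (104, 8), (116, 10), (103, 9), (80, 8), (10, 7), (118, 9), (105, 8), (117, 10), (104, 9), (92, 8), (11, 7), (118, 9), (105, 8), (12, 7), (14, 8), (98, 7), (48, 6), (41, 5), (101, 10), (89, 9), (59, 8), (8, 7), (118, 8), (119, 9), (119, 10), (13, 9), (14, 9), (100, 9), (88, 8), (58, 7), (7, 6), (115, 7), (102, 6), (118, 8), (105, 7), (14, 9), (105, 8), (12, 7), (13, 7), (9, 6), (118, 6), (119, 7), (14, 8)], [(108, 8), (95, 7), (83, 6), (53, 5), (38, 4), (27, 3), (20, 2), (111, 9), (98, 8), (86, 7), (75, 6), (65, 5), (56, 4), (116, 7), (103, 6), (119, 8), (13, 7), (14, 7), (105, 8), (119, 10), (13, 9), (14, 9), (87, 8), (76, 7), (66, 6), (57, 5), (116, 8), (91, 7), (117, 9), (92, 8), (118, 10), (12, 9), (113, 9), (77, 8), (67, 7), (58, 6), (116, 9), (91, 8), (14, 10), (92, 9), (114, 11), (89, 10), (78, 9), (68, 8), (59,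 7), (116, 9), (117, 10), (118, 11), (14, 12), (12, 11), (100, 11), (77, 10), (67, 9), (58, 8), (50, 7), (7, 6), (114, 7), (101, 6), (118, 8), (105, 7), (14, 9), (102, 8), (90, 7), (105, 9), (12, 8), (116, 9), (103, 8), (14, 10), (104, 9), (13, 10), (78, 9), (68, 8), (59, 7), (8, 6), (116, 7), (117, 8), (115, 9), (79, 8), (69, 7), (9, 6), (116, 6), (117, 7), (14, 8), (115, 10), (102, 9), (90, 8), (79, 7), (69, 6), (118, 11), (105, 10), (12, 9), (119, 10), (13, 9), (118, 9), (14, 10), (110, 11), (97, 10), (85, 9), (74, 8), (64, 7), (55, 6), (34, 5), (29, 4), (99, 11), (76, 10), (66, 9), (57, 8), (42, 7), (6, 6), (88, 6), (12, 7), (115, 8), (102, 7), (118, 9), (105, 8), (14, 10), (103, 9), (91, 8), (104, 10), (92, 9), (13, 11), (12, 10), (102, 10), (79, 9), (69, 8), (9, 7), (116, 7), (117, 8), (119, 9), (119, 10), (13, 9), (14, 9), (80, 8), (10, 7), (117, 9), (92,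 8), (11, 7), (118, 8), (12, 7), (119, 7), (14, 8), (99, 7), (42, 6), (119, 10), (13, 9), (114, 9), (89, 8), (115, 10), (90, 9), (116, 11), (91, 10), (112, 12), (87, 11), (66, 10), (57, 9), (49, 8), (42, 7), (6, 6), (88, 6), (12, 7), (114, 8), (101, 7), (118, 9), (105, 8), (115, 10), (102, 9), (90, 8), (118, 11), (105, 10), (12, 9), (14, 10), (103, 9), (105, 10), (113, 12), (100, 11), (88, 10), (67, 9), (58, 8), (50, 7), (7, 6), (114, 7), (101, 6), (118, 8), (105, 7), (14, 9), (102, 8), (90, 7), (105, 9), (12, 8), (116, 9), (103, 8), (14, 10), (105, 9), (13, 10), (114, 10), (89, 9), (68, 8), (59, 7), (8, 6), (116, 7), (118, 8), (14, 9), (90, 8), (69, 7), (9, 6), (116, 6), (118, 7), (116, 8), (91, 7), (10, 6), (119, 7), (14, 8)]⟩,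
    ⟨1, [5, 0], [0, 5, 10], [(43, 0), (94, 5), (82, 4), (71, 3), (61, 2), (44, 1), (80, 4), (10, 3), (92, 4), (11, 3), (12, 3), (98, 3), (48, 2), (119, 5), (13, 4), (117, 4)], [(78, 3)], [(43, 0), (94, 5), (82, 4), (71, 3), (61, 2), (44, 1), (80, 4), (10, 3), (92, 4), (11, 3), (12, 3), (96, 3), (46, 2), (111, 6), (98, 5), (86, 4), (48, 3), (118, 6), (105, 5), (14, 7), (13, 6), (113, 6), (88, 5), (50, 4), (118, 7), (12, 6), (14, 6)], [(114, 8), (101, 7), (89, 6), (59, 5), (118, 7), (119, 8), (14, 9)]⟩,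
    ⟨1, [6, 0], [0, 6, 8, 10], [(51, 0), (71, 3), (61, 2), (52, 1), (116, 6), (103, 5), (80, 4), (10, 3), (118, 5), (105, 4), (117, 6), (104, 5), (92, 4), (11, 3), (111, 5), (98, 4), (86, 3), (56, 2), (118, 5), (105, 4), (14, 6), (13, 5), (117, 5), (92, 4)], [(79, 3)], [(106, 3), (51, 2), (30, 1), (18, 0), (112, 9), (87, 8), (76, 7), (66, 6), (57, 5), (49, 4), (42, 3), (6, 2), (88, 2), (12, 3), (114, 4), (101, 3), (118, 5), (105, 4), (115, 6), (102, 5), (90, 4), (118, 7), (105, 6), (12, 5), (14, 6), (103, 5), (104, 6), (105, 7), (114, 9), (101, 8), (89, 7), (78, 6), (68, 5), (59, 4), (8, 3), (116, 4), (117, 5), (118, 6), (119, 7), (14, 8), (102, 7), (90, 6), (79, 5), (69, 4), (9, 3), (116, 3), (117, 4), (118, 5), (119, 6), (116, 7), (103, 6), (91, 5), (80, 4), (10, 3), (118, 6), (105, 5), (12, 4), (115, 5), (102, 4), (79, 3), (116, 6), (103, 5), (80, 4), (117, 7),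 (104, 6), (11, 5), (14, 6), (94, 5), (61, 4), (52, 3), (37, 2), (19, 1), (58, 3), (114, 6), (89, 5), (59, 4), (118, 6), (14, 7), (90, 6), (9, 5), (118, 5), (118, 6), (12, 5), (119, 5), (115, 6), (102, 5), (116, 7), (103, 6), (117, 8), (104, 7), (119, 9), (13, 8), (14, 8), (80, 7), (10, 6), (96, 8), (84, 7), (73, 6), (54, 5), (46, 4), (39, 3), (3, 2), (113, 6), (100, 5), (88, 4), (77, 3), (67, 2), (117, 4), (118, 5), (119, 6), (14, 7), (103, 6), (91, 5), (80, 4), (10, 3), (104, 5), (92, 4), (11, 3), (114, 5), (101, 4), (89, 3), (118, 6), (105, 5), (12, 4), (115, 5), (102, 4), (118, 6), (105, 5), (14, 7), (104, 6), (92, 5), (105, 7), (12, 6), (118, 7), (105, 6), (119, 8), (13, 7), (14, 7), (86, 6), (75, 5), (56, 4), (48, 3), (41, 2), (101, 7), (89, 6), (59, 5), (8, 4), (118, 5), (119, 6), (119, 7), (13, 6), (14, 6), (90, 5), (9, 4), (118, 4), (119, 5), (14, 6), (104,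 5), (92, 4), (13, 6), (12, 5), (113, 5), (77, 4), (7, 3), (117, 4), (104, 3), (14, 5), (102, 4), (79, 3), (105, 5), (13, 6)], [(109, 8), (96, 7), (84, 6), (54, 5), (39, 4), (28, 3), (3, 2), (111, 6), (98, 5), (86, 4), (75, 3), (65, 2), (117, 5), (104, 4), (119, 6), (13, 5), (118, 5), (14, 6), (116, 7), (103, 6), (91, 5), (80, 4), (10, 3), (117, 6), (104, 5), (92, 4), (11, 3), (118, 5), (105, 4), (12, 3), (119, 4), (13, 3), (14, 3), (115, 6), (79, 5), (69, 4), (118, 7), (14, 8), (12, 7), (14, 8), (99, 7), (76, 6), (66, 5), (57, 4), (42, 3), (115, 7), (102, 6), (90, 5), (118, 8), (105, 7), (12, 6), (14, 7), (103, 6), (104, 7), (13, 8), (79, 7), (69, 6), (9, 5), (116, 5), (117, 6), (14, 7), (76, 6), (66, 5), (42, 4), (6, 3), (88, 3), (12, 4), (116, 5), (103, 4), (117, 6), (104, 5), (113, 7), (100, 6), (77, 5), (67, 4), (7, 3), (116, 4), (103, 3), (14, 5), (104, 4),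 (13, 5), (115, 5), (79, 4), (69, 3), (116, 6), (80, 5), (10, 4), (118, 5), (14, 6)]⟩,
    ⟨1, [1, 1], [4, 6, 7, 8, 10], [(38, 1), (2, 0), (113, 4), (67, 3), (50, 2), (7, 1), (114, 2), (101, 1), (118, 3), (105, 2), (14, 4), (103, 3), (91, 2), (14, 5), (101, 4), (89, 3), (68, 2), (8, 1), (102, 3), (90, 2), (69, 1), (105, 4), (12, 3), (13, 3), (113, 3), (67, 2), (58, 1), (116, 4), (91, 3), (14, 5)], [(79, 2), (80, 3), (11, 4)], [(106, 9), (81, 8), (70, 7), (51, 6), (36, 5), (30, 4), (25, 3), (21, 2), (15, 1), (0, 0), (107, 6), (94, 5), (71, 4), (37, 3), (26, 2), (22, 1), (17, 0), (110, 5), (55, 4), (47, 3), (40, 2), (14, 7), (99, 6), (57, 5), (49, 4), (42, 3), (114, 7), (101, 6), (89, 5), (118, 8), (105, 7), (12, 6), (115, 7), (102, 6), (118, 8), (105, 7), (14, 9), (13, 8), (90, 7), (9, 6), (118, 6), (116, 7), (91, 6), (118, 8), (12, 7), (111, 7), (65, 6), (48, 5),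 (41, 4), (35, 3), (113, 7), (58, 6), (50, 5), (115, 8), (90, 7), (118, 9), (12, 8), (14, 8), (114, 8), (59, 7), (8, 6), (14, 7), (9, 6), (118, 6), (119, 7), (114, 8), (101, 7), (89, 6), (119, 9), (13, 8), (14, 8), (91, 7), (14, 10), (99, 9), (87, 8), (66, 7), (49, 6), (42, 5), (6, 4), (88, 4), (12, 5), (114, 6), (101, 5), (118, 7), (105, 6), (116, 8), (103, 7), (91, 6), (118, 9), (105, 8), (12, 7), (119, 8), (13, 7), (113, 7), (67, 6), (50, 5), (7, 4), (114, 5), (101, 4), (118, 6), (105, 5), (14, 7), (103, 6), (91, 5), (14, 8), (102, 7), (90, 6), (69, 5), (105, 8), (12, 7), (100, 7), (67, 6), (58, 5), (50, 4), (115, 7), (90, 6), (118, 8), (12, 7), (14, 7), (119, 8), (114, 9), (101, 8), (68, 7), (59, 6), (8, 5), (116, 6), (119, 7), (14, 8), (102, 7), (69, 6), (9, 5), (116, 5), (119, 6), (118, 7), (105, 6), (119, 8), (13, 7), (117, 7), (92, 6), (119, 8), (14, 9),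 (95, 8), (83, 7), (72, 6), (62, 5), (38, 4), (27, 3), (23, 2), (2, 1), (110, 5), (64, 4), (47, 3), (40, 2), (34, 1), (100, 4), (88, 3), (101, 5), (89, 4), (103, 6), (91, 5), (105, 7), (12, 6), (14, 7), (99, 6), (66, 5), (49, 4), (42, 3), (6, 2), (88, 2), (12, 3), (114, 4), (101, 3), (118, 5), (105, 4), (116, 6), (103, 5), (91, 4), (119, 7), (13, 6), (113, 6), (88, 5), (67, 4), (50, 3), (7, 2), (114, 3), (101, 2), (118, 4), (105, 3), (14, 5), (103, 4), (91, 3), (118, 6), (105, 5), (12, 4), (14, 5), (102, 4), (69, 3), (103, 5), (10, 4), (105, 4), (13, 5), (111, 5), (86, 4), (56, 3), (48, 2), (115, 5), (102, 4), (119, 6), (13, 5), (14, 5), (14, 6), (87, 5), (57, 4), (49, 3), (90, 5), (12, 6), (118, 6), (113, 7), (88, 6), (58, 5), (50, 4), (115, 7), (90, 6), (118, 8), (12, 7), (14, 7), (114, 8), (89, 7), (59, 6), (8, 5), (118, 6), (14, 7), (12, 6), (100, 6), (58, 5),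 (7, 4), (115, 5), (102, 4), (118, 6), (105, 5), (14, 7), (13, 6), (89, 5), (59, 4), (118, 6), (115, 7), (90, 6), (9, 5), (118, 5), (14, 6), (12, 5), (116, 6), (103, 5), (118, 7), (105, 6), (119, 8), (13, 7), (14, 7), (92, 6), (105, 8), (12, 7), (119, 8), (13, 7), (110, 7), (74, 6), (64, 5), (47, 4), (34, 3), (29, 2), (4, 1), (99, 7), (76, 6), (66, 5), (57, 4), (42, 3), (6, 2), (88, 2), (12, 3), (115, 4), (102, 3), (118, 5), (105, 4), (14, 6), (103, 5), (91, 4), (104, 6), (92, 5), (13, 7), (12, 6), (101, 6), (78, 5), (68, 4), (59, 3), (116, 5), (117, 6), (119, 7), (116, 8), (103, 7), (80, 6), (10, 5), (118, 7), (105, 6), (14, 8), (104, 7), (92, 6), (11, 5), (111, 7), (98, 6), (86, 5), (56, 4), (48, 3), (41, 2), (5, 1), (100, 4), (88, 3), (77, 2), (67, 1), (117, 3), (118, 4), (119, 5), (114, 6), (101, 5), (89, 4), (78, 3), (68, 2), (115, 7), (102, 6), (90, 5), (79,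 4), (69, 3), (118, 8), (105, 7), (12, 6), (119, 7), (13, 6), (114, 6), (78, 5), (68, 4), (59, 3), (8, 2), (116, 3), (117, 4), (14, 5), (115, 6), (102, 5), (79, 4), (69, 3), (9, 2), (116, 2), (117, 3), (119, 4), (14, 5), (13, 4), (118, 4), (14, 5), (114, 6), (101, 5), (89, 4), (78, 3), (68, 2), (116, 7), (103, 6), (91, 5), (80, 4), (10, 3), (118, 6), (105, 5), (12, 4), (110, 5), (97, 4), (74, 3), (47, 2), (40, 1), (113, 6), (100, 5), (77, 4), (50, 3), (7, 2), (114, 3), (101, 2), (118, 4), (105, 3), (14, 5), (104, 4), (92, 3), (13, 5), (114, 5), (89, 4), (78, 3), (8, 2), (115, 4), (90, 3), (79, 2), (117, 5), (92, 4), (11, 3), (111, 4), (86, 3), (56, 2), (118, 5), (105, 4), (14, 6), (114, 6), (101, 5), (89, 4), (59, 3), (118, 5), (119, 6), (14, 7), (13, 6), (87, 5), (57, 4), (49, 3), (90, 5), (12, 6), (118, 6), (114, 7), (89, 6), (59, 5), (8, 4), (118, 5), (14, 6),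 (90, 5), (9, 4), (118, 4), (116, 5), (91, 4), (118, 6), (12, 5), (113, 5), (67, 4), (14, 6), (90, 7), (79, 6), (69, 5), (91, 8), (80, 7), (10, 6), (92, 7), (11, 6), (92, 6), (105, 8), (12, 7), (14, 8), (94, 7), (71, 6), (52, 5), (37, 4), (31, 3), (26, 2), (22, 1), (1, 0), (97, 3), (64, 2), (47, 1), (34, 0), (101, 3), (89, 2), (103, 4), (91, 3), (105, 5), (12, 4), (119, 5), (13, 4), (112, 4), (66, 3), (49, 2), (6, 1), (89, 1), (12, 2), (115, 3), (69, 2), (116, 4), (10, 3), (118, 3), (111, 4), (86, 3), (56, 2), (48, 1), (115, 4), (102, 3), (119, 5), (13, 4), (14, 4), (14, 5), (87, 4), (57, 3), (49, 2), (90, 4), (12, 5), (118, 5), (113, 6), (88, 5), (58, 4), (50, 3), (115, 6), (90, 5), (118, 7), (12, 6), (14, 6), (115, 7), (90, 6), (9, 5), (118, 5), (14, 6), (12, 5), (49, 4), (42, 3), (6, 2), (88, 2), (12, 3), (114, 4), (101, 3), (118, 5), (105, 4), (116, 6), (103,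 5), (91, 4), (117, 7), (104, 6), (92, 5), (118, 8), (105, 7), (12, 6), (113, 7), (100, 6), (77, 5), (67, 4), (50, 3), (7, 2), (114, 3), (101, 2), (118, 4), (105, 3), (14, 5), (103, 4), (91, 3), (117, 6), (104, 5), (92, 4), (119, 7), (13, 6), (14, 6), (89, 5), (78, 4), (68, 3), (8, 2), (90, 4), (79, 3), (69, 2), (12, 5), (102, 5), (79, 4), (69, 3), (9, 2), (116, 2), (117, 3), (119, 4), (116, 5), (103, 4), (80, 3), (10, 2), (117, 4), (104, 3), (11, 2), (119, 3), (13, 2), (14, 2), (97, 3), (74, 2), (29, 1), (4, 0), (104, 6), (11, 5), (13, 5), (65, 4), (56, 3), (41, 2), (35, 1), (5, 0), (99, 3), (87, 2), (76, 1), (66, 0), (101, 4), (89, 3), (78, 2), (68, 1), (102, 5), (90, 4), (79, 3), (69, 2), (113, 7), (100, 6), (88, 5), (77, 4), (67, 3), (58, 2), (50, 1), (115, 4), (90, 3), (118, 5), (12, 4), (14, 4), (117, 5), (118, 6), (119, 7), (14, 8), (101, 7), (89, 6), (78,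 5), (68, 4), (59, 3), (8, 2), (116, 3), (117, 4), (118, 5), (119, 6), (115, 7), (102, 6), (90, 5), (79, 4), (69, 3), (9, 2), (116, 2), (117, 3), (118, 4), (119, 5), (14, 6), (105, 5), (12, 4), (13, 4), (79, 3), (69, 2), (116, 6), (103, 5), (80, 4), (10, 3), (119, 5), (13, 4), (14, 4), (76, 3), (57, 2), (42, 1), (6, 0), (88, 0), (12, 1), (115, 2), (102, 1), (118, 3), (105, 2), (14, 4), (104, 3), (92, 2), (100, 4), (88, 3), (77, 2), (58, 1), (7, 0), (115, 1), (102, 0), (118, 2), (105, 1), (14, 3), (104, 2), (92, 1), (105, 3), (12, 2), (13, 2), (79, 1), (9, 0), (117, 0), (117, 1), (11, 0), (118, 0), (14, 1)], [(63, 5), (54, 4), (46, 3), (33, 2), (24, 1), (112, 6), (99, 5), (87, 4), (49, 3), (12, 5), (116, 6), (103, 5), (117, 7), (104, 6), (119, 8), (13, 7), (14, 7), (78, 6), (68, 5), (8, 4), (90, 6), (79, 5), (69, 4), (12, 7), (116, 7), (80, 6), (10, 5), (118, 6),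 (112, 7), (87, 6), (76, 5), (57, 4), (6, 3), (90, 3), (12, 4), (117, 4), (118, 5), (14, 6), (90, 5), (79, 4), (9, 3), (117, 3), (118, 4), (14, 5), (83, 4), (72, 3), (23, 2), (20, 1), (2, 0), (109, 4), (63, 3), (46, 2), (39, 1), (33, 0), (113, 5), (100, 4), (77, 3), (67, 2), (117, 4), (119, 5), (14, 6), (103, 5), (80, 4), (10, 3), (104, 4), (11, 3), (114, 4), (101, 3), (118, 5), (105, 4), (116, 6), (103, 5), (91, 4), (118, 7), (105, 6), (12, 5), (14, 6), (102, 5), (69, 4), (103, 6), (10, 5), (104, 5), (105, 6), (13, 7), (110, 7), (85, 6), (74, 5), (55, 4), (47, 3), (40, 2), (34, 1), (100, 4), (88, 3), (101, 5), (89, 4), (102, 6), (90, 5), (13, 7), (117, 7), (92, 6), (118, 8), (12, 7), (14, 7), (76, 6), (57, 5), (49, 4), (42, 3), (6, 2), (88, 2), (12, 3), (114, 4), (101, 3), (118, 5), (105, 4), (115, 6), (102, 5), (90, 4), (118, 7), (105, 6), (12, 5), (14, 6), (104,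 5), (100, 6), (77, 5), (58, 4), (50, 3), (7, 2), (114, 3), (101, 2), (118, 4), (105, 3), (14, 5), (102, 4), (90, 3), (105, 5), (12, 4), (117, 5), (104, 4), (119, 6), (13, 5), (115, 5), (79, 4), (9, 3), (117, 3), (14, 4), (80, 3), (117, 7), (104, 6), (92, 5), (11, 4), (119, 6), (13, 5), (118, 5), (12, 4), (14, 4), (63, 3), (46, 2), (24, 1), (3, 0), (110, 4), (97, 3), (85, 2), (74, 1), (64, 0), (117, 3), (92, 2), (118, 4), (12, 3), (119, 3), (14, 4), (101, 3), (78, 2), (68, 1), (105, 4), (13, 5), (114, 5), (89, 4), (78, 3), (68, 2), (8, 1), (118, 4), (12, 3), (116, 3), (80, 2), (10, 1), (118, 2), (110, 3), (85, 2), (74, 1), (4, 0), (112, 2), (87, 1), (76, 0), (113, 3), (88, 2), (77, 1), (115, 4), (90, 3), (79, 2), (116, 5), (91, 4), (80, 3), (117, 6), (92, 5), (11, 4), (118, 5), (12, 4), (14, 4), (66, 3), (57, 2), (42, 1), (6, 0), (88, 0), (12, 1), (115, 2), (102,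 1), (118, 3), (105, 2), (14, 4), (103, 3), (91, 2), (100, 4), (88, 3), (67, 2), (58, 1), (7, 0), (115, 1), (102, 0), (118, 2), (105, 1), (14, 3), (103, 2), (91, 1), (118, 4), (105, 3), (12, 2), (119, 3), (13, 2), (115, 2), (69, 1), (9, 0), (116, 0), (14, 1), (10, 0), (14, 1)]⟩,
    ⟨1, [2, 1], [1, 2, 5, 9], [(72, 2), (38, 1), (20, 0), (113, 7), (100, 6), (88, 5), (77, 4), (67, 3), (58, 2), (116, 5), (91, 4), (14, 6), (92, 5), (12, 6), (114, 7), (101, 6), (78, 5), (68, 4), (59, 3), (116, 5), (117, 6), (119, 7), (14, 8), (102, 7), (79, 6), (69, 5), (9, 4), (116, 4), (117, 5), (119, 6), (118, 7), (105, 6), (119, 8), (13, 7), (14, 7), (92, 6), (11, 5), (100, 6), (88, 5), (67, 4), (50, 3), (7, 2), (114, 3), (101, 2), (118, 4), (105, 3), (14, 5), (103, 4), (91, 3), (118, 6), (105, 5), (12, 4), (119, 5), (13, 4)], [(39, 1), (113, 5), (77, 4), (67, 3), (7, 2), (116, 3),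 (103, 2), (14, 4), (104, 3), (117, 5), (104, 4), (11, 3), (114, 4), (101, 3), (68, 2), (119, 5), (13, 4)], [(106, 7), (70, 6), (60, 5), (36, 4), (30, 3), (21, 2), (18, 1), (16, 0), (109, 4), (54, 3), (39, 2), (115, 6), (79, 5), (69, 4), (118, 7), (14, 8), (112, 8), (87, 7), (76, 6), (66, 5), (57, 4), (42, 3), (115, 7), (102, 6), (90, 5), (118, 8), (105, 7), (12, 6), (14, 7), (103, 6), (104, 7), (105, 8), (113, 10), (100, 9), (88, 8), (77, 7), (67, 6), (58, 5), (7, 4), (115, 5), (102, 4), (118, 6), (105, 5), (14, 7), (103, 6), (91, 5), (117, 8), (104, 7), (92, 6), (118, 9), (105, 8), (12, 7), (119, 8), (13, 7), (14, 7), (78, 6), (68, 5), (59, 4), (116, 6), (117, 7), (115, 8), (79, 7), (69, 6), (9, 5), (116, 5), (117, 6), (14, 7), (80, 6), (10, 5), (11, 5), (110, 6), (85, 5), (47, 4), (34, 3), (101, 6), (89, 5), (105, 7), (12, 6), (113, 7), (100, 6), (50, 5), (119,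 8), (14, 9), (101, 8), (89, 7), (8, 6), (102, 7), (90, 6), (104, 8), (92, 7), (99, 9), (87, 8), (76, 7), (57, 6), (42, 5), (6, 4), (88, 4), (12, 5), (115, 6), (102, 5), (118, 7), (105, 6), (14, 8), (104, 7), (92, 6), (105, 8), (12, 7), (13, 7), (78, 6), (59, 5), (117, 7), (115, 8), (79, 7), (9, 6), (117, 6), (14, 7), (80, 6), (88, 8), (77, 7), (67, 6), (50, 5), (7, 4), (114, 5), (101, 4), (118, 6), (105, 5), (14, 7), (103, 6), (91, 5), (117, 8), (104, 7), (92, 6), (118, 9), (105, 8), (12, 7), (117, 8), (104, 7), (11, 6), (118, 7), (105, 6), (116, 8), (103, 7), (91, 6), (10, 5), (117, 7), (104, 6), (92, 5), (119, 8), (13, 7), (14, 7), (82, 6), (71, 5), (44, 4), (22, 3), (19, 2), (17, 1), (109, 6), (54, 5), (46, 4), (39, 3), (114, 7), (78, 6), (68, 5), (118, 8), (115, 9), (90, 8), (79, 7), (69, 6), (118, 10), (12, 9), (14, 9), (115, 9), (79, 8), (69, 7), (9, 6), (116,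 6), (117, 7), (14, 8), (74, 7), (64, 6), (47, 5), (40, 4), (117, 9), (92, 8), (112, 10), (87, 9), (76, 8), (66, 7), (49, 6), (42, 5), (114, 9), (101, 8), (89, 7), (118, 10), (105, 9), (12, 8), (116, 9), (103, 8), (117, 10), (104, 9), (118, 11), (105, 10), (14, 12), (102, 11), (90, 10), (79, 9), (69, 8), (103, 12), (91, 11), (80, 10), (10, 9), (105, 11), (12, 10), (101, 10), (78, 9), (59, 8), (8, 7), (117, 8), (119, 9), (116, 10), (103, 9), (80, 8), (117, 11), (104, 10), (11, 9), (117, 10), (104, 9), (118, 11), (105, 10), (110, 12), (97, 11), (85, 10), (74, 9), (64, 8), (55, 7), (40, 6), (34, 5), (4, 4), (100, 6), (88, 5), (102, 7), (90, 6), (13, 8), (116, 8), (91, 7), (118, 9), (12, 8), (14, 8), (111, 11), (98, 10), (86, 9), (75, 8), (65, 7), (56, 6), (41, 5), (35, 4), (113, 8), (58, 7), (50, 6), (115, 9), (90, 8), (118, 10), (12, 9), (14, 9), (114, 9), (59, 8),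 (8, 7), (14, 8), (9, 7), (118, 7), (119, 8), (115, 9), (102, 8), (90, 7), (119, 10), (13, 9), (14, 9), (91, 8), (117, 11), (104, 10), (92, 9), (119, 12), (13, 11), (118, 11), (12, 10), (14, 10), (112, 11), (99, 10), (76, 9), (66, 8), (57, 7), (42, 6), (6, 5), (88, 5), (12, 6), (115, 7), (102, 6), (118, 8), (105, 7), (14, 9), (103, 8), (91, 7), (104, 9), (92, 8), (13, 10), (113, 10), (88, 9), (77, 8), (67, 7), (58, 6), (7, 5), (115, 6), (102, 5), (118, 7), (105, 6), (14, 8), (103, 7), (91, 6), (117, 9), (104, 8), (92, 7), (118, 10), (105, 9), (12, 8), (14, 9), (102, 8), (79, 7), (69, 6), (9, 5), (116, 5), (117, 6), (119, 7), (117, 8), (104, 7), (11, 6), (118, 7), (105, 6), (14, 8)], [(108, 9), (83, 8), (72, 7), (53, 6), (38, 5), (32, 4), (27, 3), (23, 2), (111, 10), (98, 9), (86, 8), (65, 7), (56, 6), (41, 5), (35, 4), (113, 8), (58, 7), (50, 6), (115, 9), (90, 8),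 (118, 10), (12, 9), (14, 9), (114, 9), (59, 8), (8, 7), (14, 8), (9, 7), (118, 7), (119, 8), (115, 9), (102, 8), (90, 7), (119, 10), (13, 9), (14, 9), (91, 8), (118, 11), (105, 10), (12, 9), (14, 10), (13, 9), (112, 9), (66, 8), (57, 7), (42, 6), (6, 5), (88, 5), (12, 6), (115, 7), (102, 6), (118, 8), (105, 7), (14, 9), (103, 8), (91, 7), (113, 10), (100, 9), (88, 8), (67, 7), (58, 6), (7, 5), (115, 6), (102, 5), (118, 7), (105, 6), (14, 8), (103, 7), (91, 6), (118, 9), (105, 8), (12, 7), (119, 8), (13, 7), (14, 7), (68, 6), (59, 5), (116, 7), (118, 8), (119, 9), (112, 10), (99, 9), (87, 8), (66, 7), (57, 6), (49, 5), (90, 7), (12, 8), (116, 8), (118, 9), (119, 10), (14, 11), (101, 10), (89, 9), (68, 8), (59, 7), (8, 6), (116, 7), (118, 8), (119, 9), (115, 10), (102, 9), (90, 8), (69, 7), (9, 6), (116, 6), (118, 7), (119, 8), (14, 9), (105, 8), (12, 7), (100, 7),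 (67, 6), (119, 8), (114, 9), (101, 8), (68, 7), (115, 10), (102, 9), (69, 8), (118, 11), (105, 10), (119, 12), (13, 11), (14, 11), (90, 10), (69, 9), (9, 8), (116, 8), (118, 9), (118, 10), (12, 9), (119, 9), (117, 10), (104, 9), (119, 11), (13, 10), (118, 10), (14, 11), (109, 11), (84, 10), (73, 9), (63, 8), (46, 7), (39, 6), (33, 5), (28, 4), (24, 3), (111, 8), (98, 7), (86, 6), (48, 5), (118, 8), (105, 7), (14, 9), (13, 8), (116, 8), (91, 7), (117, 9), (92, 8), (118, 10), (12, 9), (119, 9), (14, 10), (99, 9), (76, 8), (66, 7), (49, 6), (91, 8), (92, 9), (103, 11), (91, 10), (80, 9), (10, 8), (104, 10), (92, 9), (11, 8), (13, 9), (113, 9), (88, 8), (50, 7), (118, 10), (12, 9), (14, 9), (114, 11), (78, 10), (68, 9), (8, 8), (118, 10), (116, 11), (91, 10), (80, 9), (10, 8), (118, 10), (12, 9), (117, 9), (11, 8), (118, 8), (14, 9), (12, 8), (110, 8), (40, 7), (34,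 6), (29, 5), (4, 4), (99, 10), (76, 9), (66, 8), (57, 7), (42, 6), (6, 5), (88, 5), (12, 6), (115, 7), (102, 6), (118, 8), (105, 7), (14, 9), (103, 8), (91, 7), (104, 9), (92, 8), (13, 10), (12, 9), (100, 9), (77, 8), (67, 7), (58, 6), (7, 5), (115, 6), (102, 5), (118, 7), (105, 6), (14, 8), (103, 7), (91, 6), (117, 9), (104, 8), (92, 7), (119, 10), (13, 9), (14, 9), (87, 8), (76, 7), (66, 6), (57, 5), (116, 8), (91, 7), (117, 9), (92, 8), (118, 10), (12, 9), (113, 9), (77, 8), (67, 7), (58, 6), (116, 9), (91, 8), (14, 10), (92, 9), (116, 11), (91, 10), (80, 9), (10, 8), (117, 10), (92, 9), (11, 8), (14, 9), (89, 8), (59, 7), (118, 9), (112, 10), (87, 9), (57, 8), (49, 7), (42, 6), (6, 5), (88, 5), (12, 6), (114, 7), (101, 6), (118, 8), (105, 7), (115, 9), (102, 8), (90, 7), (118, 10), (105, 9), (12, 8), (14, 9), (105, 8), (113, 10), (100, 9), (88, 8), (58, 7),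 (50, 6), (7, 5), (114, 6), (101, 5), (118, 7), (105, 6), (14, 8), (102, 7), (90, 6), (105, 8), (12, 7), (118, 8), (105, 7), (119, 9), (13, 8), (14, 8), (89, 7), (59, 6), (8, 5), (118, 6), (115, 7), (90, 6), (9, 5), (118, 5), (14, 6), (91, 5)]⟩,
    ⟨1, [3, 1], [1, 3, 4, 6, 7, 8], [(23, 0), (113, 8), (100, 7), (88, 6), (67, 5), (58, 4), (7, 3), (115, 4), (102, 3), (118, 5), (105, 4), (14, 6), (103, 5), (91, 4), (118, 7), (105, 6), (12, 5), (119, 6), (13, 5), (14, 5)], [(40, 1), (42, 2), (113, 6), (100, 5), (88, 4), (7, 3), (118, 4), (105, 3), (119, 5), (13, 4), (14, 4), (92, 3), (90, 4), (79, 3), (91, 5), (80, 4), (92, 6), (11, 5), (12, 5)], [(81, 6), (51, 5), (43, 4), (25, 3), (21, 2), (15, 1), (0, 0), (107, 6), (94, 5), (71, 4), (37, 3), (26, 2), (22, 1), (17, 0), (110, 5), (55, 4), (47, 3), (40, 2), (14, 7), (99, 6), (57, 5), (49, 4), (42, 3), (114, 7), (101,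 6), (89, 5), (118, 8), (105, 7), (12, 6), (115, 7), (102, 6), (118, 8), (105, 7), (14, 9), (13, 8), (90, 7), (9, 6), (118, 6), (116, 7), (91, 6), (118, 8), (12, 7), (111, 7), (65, 6), (48, 5), (41, 4), (35, 3), (113, 7), (58, 6), (50, 5), (115, 8), (90, 7), (118, 9), (12, 8), (14, 8), (114, 8), (59, 7), (8, 6), (14, 7), (9, 6), (118, 6), (119, 7), (114, 8), (101, 7), (89, 6), (119, 9), (13, 8), (14, 8), (91, 7), (14, 10), (99, 9), (87, 8), (66, 7), (49, 6), (42, 5), (6, 4), (88, 4), (12, 5), (114, 6), (101, 5), (118, 7), (105, 6), (116, 8), (103, 7), (91, 6), (118, 9), (105, 8), (12, 7), (119, 8), (13, 7), (113, 7), (67, 6), (50, 5), (7, 4), (114, 5), (101, 4), (118, 6), (105, 5), (14, 7), (103, 6), (91, 5), (14, 8), (102, 7), (90, 6), (69, 5), (105, 8), (12, 7), (100, 7), (67, 6), (58, 5), (50, 4), (115, 7), (90, 6), (118, 8), (12, 7), (14, 7), (119, 8), (114,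 9), (101, 8), (68, 7), (59, 6), (8, 5), (116, 6), (119, 7), (14, 8), (102, 7), (69, 6), (9, 5), (116, 5), (119, 6), (118, 7), (105, 6), (119, 8), (13, 7), (117, 7), (92, 6), (119, 8), (14, 9), (95, 8), (83, 7), (72, 6), (62, 5), (38, 4), (27, 3), (23, 2), (2, 1), (110, 5), (64, 4), (47, 3), (40, 2), (34, 1), (100, 4), (88, 3), (101, 5), (89, 4), (103, 6), (91, 5), (105, 7), (12, 6), (14, 7), (99, 6), (66, 5), (49, 4), (42, 3), (6, 2), (88, 2), (12, 3), (114, 4), (101, 3), (118, 5), (105, 4), (116, 6), (103, 5), (91, 4), (119, 7), (13, 6), (113, 6), (88, 5), (67, 4), (50, 3), (7, 2), (114, 3), (101, 2), (118, 4), (105, 3), (14, 5), (103, 4), (91, 3), (118, 6), (105, 5), (12, 4), (14, 5), (102, 4), (69, 3), (103, 5), (10, 4), (105, 4), (13, 5), (111, 5), (86, 4), (56, 3), (48, 2), (115, 5), (102, 4), (119, 6), (13, 5), (14, 5), (14, 6), (87, 5), (57, 4), (49, 3),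 (90, 5), (12, 6), (118, 6), (113, 7), (88, 6), (58, 5), (50, 4), (115, 7), (90, 6), (118, 8), (12, 7), (14, 7), (114, 8), (89, 7), (59, 6), (8, 5), (118, 6), (14, 7), (12, 6), (100, 6), (58, 5), (7, 4), (115, 5), (102, 4), (118, 6), (105, 5), (14, 7), (13, 6), (89, 5), (59, 4), (118, 6), (115, 7), (90, 6), (9, 5), (118, 5), (14, 6), (12, 5), (116, 6), (103, 5), (118, 7), (105, 6), (119, 8), (13, 7), (14, 7), (92, 6), (105, 8), (12, 7), (119, 8), (13, 7), (110, 7), (74, 6), (64, 5), (47, 4), (34, 3), (29, 2), (4, 1), (99, 7), (76, 6), (66, 5), (57, 4), (42, 3), (6, 2), (88, 2), (12, 3), (115, 4), (102, 3), (118, 5), (105, 4), (14, 6), (103, 5), (91, 4), (104, 6), (92, 5), (13, 7), (12, 6), (101, 6), (78, 5), (68, 4), (59, 3), (116, 5), (117, 6), (119, 7), (116, 8), (103, 7), (80, 6), (10, 5), (118, 7), (105, 6), (14, 8), (104, 7), (92, 6), (11, 5), (111, 7), (98,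 6), (86, 5), (56, 4), (48, 3), (41, 2), (5, 1), (100, 4), (88, 3), (77, 2), (67, 1), (117, 3), (118, 4), (119, 5), (114, 6), (101, 5), (89, 4), (78, 3), (68, 2), (115, 7), (102, 6), (90, 5), (79, 4), (69, 3), (118, 8), (105, 7), (12, 6), (119, 7), (13, 6), (114, 6), (78, 5), (68, 4), (59, 3), (8, 2), (116, 3), (117, 4), (14, 5), (115, 6), (102, 5), (79, 4), (69, 3), (9, 2), (116, 2), (117, 3), (119, 4), (14, 5), (13, 4), (118, 4), (14, 5), (114, 6), (101, 5), (89, 4), (78, 3), (68, 2), (116, 7), (103, 6), (91, 5), (80, 4), (10, 3), (118, 6), (105, 5), (12, 4), (110, 5), (97, 4), (74, 3), (47, 2), (40, 1), (113, 6), (100, 5), (77, 4), (50, 3), (7, 2), (114, 3), (101, 2), (118, 4), (105, 3), (14, 5), (104, 4), (92, 3), (13, 5), (114, 5), (89, 4), (78, 3), (8, 2), (115, 4), (90, 3), (79, 2), (117, 5), (92, 4), (11, 3), (111, 4), (86, 3), (56, 2), (118, 5), (105, 4),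 (14, 6), (114, 6), (101, 5), (89, 4), (59, 3), (118, 5), (119, 6), (14, 7), (13, 6), (89, 5), (59, 4), (8, 3), (118, 4), (116, 5), (91, 4), (117, 6), (92, 5), (118, 7), (12, 6), (119, 6), (115, 7), (102, 6), (79, 5), (69, 4), (9, 3), (116, 3), (117, 4), (119, 5), (14, 6), (103, 5), (80, 4), (10, 3), (104, 4), (11, 3), (105, 3), (107, 5), (94, 4), (82, 3), (26, 2), (22, 1), (1, 0), (97, 3), (64, 2), (47, 1), (34, 0), (101, 3), (89, 2), (103, 4), (91, 3), (105, 5), (12, 4), (119, 5), (13, 4), (112, 4), (66, 3), (49, 2), (6, 1), (89, 1), (12, 2), (115, 3), (69, 2), (116, 4), (10, 3), (118, 3), (111, 4), (86, 3), (56, 2), (48, 1), (115, 4), (102, 3), (119, 5), (13, 4), (14, 4), (14, 5), (87, 4), (57, 3), (49, 2), (90, 4), (12, 5), (118, 5), (113, 6), (88, 5), (58, 4), (50, 3), (115, 6), (90, 5), (118, 7), (12, 6), (14, 6), (115, 7), (90, 6), (9, 5), (118, 5), (14, 6),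 (12, 5), (110, 7), (97, 6), (85, 5), (47, 4), (40, 3), (34, 2), (29, 1), (4, 0), (99, 6), (76, 5), (66, 4), (57, 3), (42, 2), (6, 1), (88, 1), (12, 2), (115, 3), (102, 2), (118, 4), (105, 3), (14, 5), (103, 4), (91, 3), (104, 5), (92, 4), (13, 6), (12, 5), (100, 5), (77, 4), (67, 3), (58, 2), (7, 1), (115, 2), (102, 1), (118, 3), (105, 2), (14, 4), (103, 3), (91, 2), (117, 5), (104, 4), (92, 3), (119, 6), (13, 5), (114, 5), (89, 4), (78, 3), (68, 2), (59, 1), (116, 3), (117, 4), (118, 5), (14, 6), (12, 5), (111, 6), (98, 5), (75, 4), (65, 3), (56, 2), (48, 1), (5, 0), (101, 3), (89, 2), (78, 1), (68, 0), (13, 4), (115, 4), (90, 3), (79, 2), (69, 1), (119, 5), (14, 6), (103, 5), (91, 4), (80, 3), (10, 2), (13, 4), (117, 4), (92, 3), (11, 2), (119, 3), (119, 4), (13, 3), (14, 3), (87, 2), (57, 1), (49, 0), (90, 2), (12, 3), (118, 3), (113, 4), (88, 3), (58, 2), (50,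 1), (115, 4), (90, 3), (118, 5), (12, 4), (14, 4), (115, 5), (90, 4), (9, 3), (118, 3), (14, 4), (92, 3), (12, 4)], [(106, 9), (81, 8), (70, 7), (51, 6), (36, 5), (30, 4), (25, 3), (21, 2), (15, 1), (0, 0), (107, 6), (94, 5), (71, 4), (37, 3), (26, 2), (22, 1), (17, 0), (110, 5), (55, 4), (47, 3), (40, 2), (14, 7), (99, 6), (57, 5), (49, 4), (42, 3), (114, 7), (101, 6), (89, 5), (118, 8), (105, 7), (12, 6), (115, 7), (102, 6), (118, 8), (105, 7), (14, 9), (13, 8), (90, 7), (9, 6), (118, 6), (116, 7), (91, 6), (118, 8), (12, 7), (111, 7), (65, 6), (48, 5), (41, 4), (35, 3), (113, 7), (58, 6), (50, 5), (115, 8), (90, 7), (118, 9), (12, 8), (14, 8), (114, 8), (59, 7), (8, 6), (14, 7), (9, 6), (118, 6), (119, 7), (114, 8), (101, 7), (89, 6), (119, 9), (13, 8), (14, 8), (91, 7), (14, 10), (99, 9), (87, 8), (66, 7), (49, 6), (42, 5), (6, 4), (88, 4), (12, 5), (114, 6),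 (101, 5), (118, 7), (105, 6), (116, 8), (103, 7), (91, 6), (118, 9), (105, 8), (12, 7), (119, 8), (13, 7), (113, 7), (67, 6), (50, 5), (7, 4), (114, 5), (101, 4), (118, 6), (105, 5), (14, 7), (103, 6), (91, 5), (14, 8), (102, 7), (90, 6), (69, 5), (105, 8), (12, 7), (100, 7), (67, 6), (58, 5), (50, 4), (115, 7), (90, 6), (118, 8), (12, 7), (14, 7), (119, 8), (114, 9), (101, 8), (68, 7), (59, 6), (8, 5), (116, 6), (119, 7), (14, 8), (102, 7), (69, 6), (9, 5), (116, 5), (119, 6), (118, 7), (105, 6), (119, 8), (13, 7), (117, 7), (92, 6), (119, 8), (14, 9), (95, 8), (83, 7), (72, 6), (62, 5), (38, 4), (27, 3), (23, 2), (2, 1), (110, 5), (64, 4), (47, 3), (40, 2), (34, 1), (100, 4), (88, 3), (101, 5), (89, 4), (103, 6), (91, 5), (105, 7), (12, 6), (14, 7), (99, 6), (66, 5), (49, 4), (42, 3), (6, 2), (88, 2), (12, 3), (114, 4), (101, 3), (118, 5), (105, 4), (116, 6),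 (103, 5), (91, 4), (119, 7), (13, 6), (113, 6), (88, 5), (67, 4), (50, 3), (7, 2), (114, 3), (101, 2), (118, 4), (105, 3), (14, 5), (103, 4), (91, 3), (118, 6), (105, 5), (12, 4), (14, 5), (102, 4), (69, 3), (103, 5), (10, 4), (105, 4), (13, 5), (111, 5), (86, 4), (56, 3), (48, 2), (115, 5), (102, 4), (119, 6), (13, 5), (14, 5), (14, 6), (87, 5), (57, 4), (49, 3), (90, 5), (12, 6), (118, 6), (113, 7), (88, 6), (58, 5), (50, 4), (115, 7), (90, 6), (118, 8), (12, 7), (14, 7), (114, 8), (89, 7), (59, 6), (8, 5), (118, 6), (14, 7), (12, 6), (100, 6), (58, 5), (7, 4), (115, 5), (102, 4), (118, 6), (105, 5), (14, 7), (13, 6), (89, 5), (59, 4), (118, 6), (115, 7), (90, 6), (9, 5), (118, 5), (14, 6), (12, 5), (116, 6), (103, 5), (118, 7), (105, 6), (119, 8), (13, 7), (14, 7), (92, 6), (105, 8), (12, 7), (119, 8), (13, 7), (110, 7), (74, 6), (64, 5), (47, 4), (34, 3), (29,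 2), (4, 1), (99, 7), (76, 6), (66, 5), (57, 4), (42, 3), (6, 2), (88, 2), (12, 3), (115, 4), (102, 3), (118, 5), (105, 4), (14, 6), (103, 5), (91, 4), (104, 6), (92, 5), (13, 7), (12, 6), (101, 6), (78, 5), (68, 4), (59, 3), (116, 5), (117, 6), (119, 7), (116, 8), (103, 7), (80, 6), (10, 5), (118, 7), (105, 6), (14, 8), (104, 7), (92, 6), (11, 5), (111, 7), (98, 6), (86, 5), (56, 4), (48, 3), (41, 2), (5, 1), (100, 4), (88, 3), (77, 2), (67, 1), (117, 3), (118, 4), (119, 5), (114, 6), (101, 5), (89, 4), (78, 3), (68, 2), (115, 7), (102, 6), (90, 5), (79, 4), (69, 3), (118, 8), (105, 7), (12, 6), (119, 7), (13, 6), (114, 6), (78, 5), (68, 4), (59, 3), (8, 2), (116, 3), (117, 4), (14, 5), (115, 6), (102, 5), (79, 4), (69, 3), (9, 2), (116, 2), (117, 3), (119, 4), (14, 5), (13, 4), (118, 4), (14, 5), (114, 6), (101, 5), (89, 4), (78, 3), (68, 2), (116, 7), (103, 6),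 (91, 5), (80, 4), (10, 3), (118, 6), (105, 5), (12, 4), (110, 5), (97, 4), (74, 3), (47, 2), (40, 1), (113, 6), (100, 5), (77, 4), (50, 3), (7, 2), (114, 3), (101, 2), (118, 4), (105, 3), (14, 5), (104, 4), (92, 3), (13, 5), (114, 5), (89, 4), (78, 3), (8, 2), (115, 4), (90, 3), (79, 2), (117, 5), (92, 4), (11, 3), (111, 4), (86, 3), (56, 2), (118, 5), (105, 4), (14, 6), (114, 6), (101, 5), (89, 4), (59, 3), (118, 5), (119, 6), (14, 7), (13, 6), (87, 5), (57, 4), (49, 3), (90, 5), (12, 6), (118, 6), (114, 7), (89, 6), (59, 5), (8, 4), (118, 5), (14, 6), (90, 5), (9, 4), (118, 4), (116, 5), (91, 4), (118, 6), (12, 5), (113, 5), (67, 4), (14, 6), (90, 7), (79, 6), (69, 5), (91, 8), (80, 7), (10, 6), (92, 7), (11, 6), (92, 6), (105, 8), (12, 7), (14, 8), (94, 7), (71, 6), (52, 5), (37, 4), (31, 3), (26, 2), (22, 1), (1, 0), (97, 3), (64, 2), (47, 1), (34, 0), (101,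 3), (89, 2), (103, 4), (91, 3), (105, 5), (12, 4), (119, 5), (13, 4), (112, 4), (66, 3), (49, 2), (6, 1), (89, 1), (12, 2), (115, 3), (69, 2), (116, 4), (10, 3), (118, 3), (111, 4), (86, 3), (56, 2), (48, 1), (115, 4), (102, 3), (119, 5), (13, 4), (14, 4), (14, 5), (87, 4), (57, 3), (49, 2), (90, 4), (12, 5), (118, 5), (113, 6), (88, 5), (58, 4), (50, 3), (115, 6), (90, 5), (118, 7), (12, 6), (14, 6), (115, 7), (90, 6), (9, 5), (118, 5), (14, 6), (12, 5), (49, 4), (42, 3), (6, 2), (88, 2), (12, 3), (114, 4), (101, 3), (118, 5), (105, 4), (116, 6), (103, 5), (91, 4), (117, 7), (104, 6), (92, 5), (118, 8), (105, 7), (12, 6), (113, 7), (100, 6), (77, 5), (67, 4), (50, 3), (7, 2), (114, 3), (101, 2), (118, 4), (105, 3), (14, 5), (103, 4), (91, 3), (117, 6), (104, 5), (92, 4), (119, 7), (13, 6), (14, 6), (89, 5), (78, 4), (68, 3), (8, 2), (90, 4), (79, 3), (69, 2), (12,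 5), (102, 5), (79, 4), (69, 3), (9, 2), (116, 2), (117, 3), (119, 4), (116, 5), (103, 4), (80, 3), (10, 2), (117, 4), (104, 3), (11, 2), (119, 3), (13, 2), (14, 2), (97, 3), (74, 2), (29, 1), (4, 0), (104, 6), (11, 5), (13, 5), (65, 4), (56, 3), (41, 2), (35, 1), (5, 0), (99, 3), (87, 2), (76, 1), (66, 0), (101, 4), (89, 3), (78, 2), (68, 1), (102, 5), (90, 4), (79, 3), (69, 2), (113, 7), (100, 6), (88, 5), (77, 4), (67, 3), (58, 2), (50, 1), (115, 4), (90, 3), (118, 5), (12, 4), (14, 4), (117, 5), (118, 6), (119, 7), (14, 8), (101, 7), (89, 6), (78, 5), (68, 4), (59, 3), (8, 2), (116, 3), (117, 4), (118, 5), (119, 6), (115, 7), (102, 6), (90, 5), (79, 4), (69, 3), (9, 2), (116, 2), (117, 3), (118, 4), (119, 5), (14, 6), (105, 5), (12, 4), (13, 4), (79, 3), (69, 2), (116, 6), (103, 5), (80, 4), (10, 3), (119, 5), (13, 4), (14, 4), (78, 3), (59, 2), (117, 4), (115,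 5), (79, 4), (9, 3), (117, 3), (14, 4), (83, 4), (72, 3), (45, 2), (38, 1), (32, 0), (88, 4), (58, 3), (50, 2), (115, 5), (90, 4), (118, 6), (12, 5), (14, 5), (89, 5), (59, 4), (8, 3), (118, 4), (115, 5), (90, 4), (9, 3), (118, 3), (14, 4), (12, 3), (114, 4), (101, 3), (118, 5), (105, 4), (117, 6), (104, 5), (92, 4), (119, 7), (13, 6), (118, 6), (12, 5), (14, 5), (74, 4), (47, 3), (40, 2), (34, 1), (100, 4), (88, 3), (101, 5), (89, 4), (104, 6), (92, 5), (99, 7), (87, 6), (76, 5), (49, 4), (42, 3), (6, 2), (88, 2), (12, 3), (114, 4), (101, 3), (118, 5), (105, 4), (117, 6), (104, 5), (92, 4), (118, 7), (105, 6), (12, 5), (119, 6), (13, 5), (114, 5), (78, 4), (8, 3), (115, 4), (79, 3), (116, 5), (80, 4), (109, 6), (73, 5), (63, 4), (54, 3), (39, 2), (24, 1), (113, 6), (100, 5), (88, 4), (50, 3), (118, 6), (12, 5), (119, 5), (14, 6), (103, 5), (104, 6), (115, 8), (102,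 7), (79, 6), (69, 5), (118, 9), (105, 8), (14, 10), (103, 9), (91, 8), (80, 7), (10, 6), (105, 8), (12, 7), (104, 7), (11, 6), (105, 6), (14, 8), (99, 7), (87, 6), (57, 5), (49, 4), (42, 3), (114, 7), (101, 6), (89, 5), (118, 8), (105, 7), (12, 6), (115, 7), (102, 6), (118, 8), (105, 7), (14, 9), (105, 8), (12, 7), (13, 7), (9, 6), (14, 6), (45, 5), (38, 4), (32, 3), (23, 2), (20, 1), (2, 0), (109, 4), (63, 3), (46, 2), (39, 1), (33, 0), (113, 5), (100, 4), (77, 3), (67, 2), (117, 4), (119, 5), (14, 6), (103, 5), (80, 4), (10, 3), (104, 4), (11, 3), (114, 4), (101, 3), (118, 5), (105, 4), (116, 6), (103, 5), (91, 4), (118, 7), (105, 6), (12, 5), (14, 6), (102, 5), (69, 4), (103, 6), (10, 5), (104, 5), (105, 6), (13, 7), (110, 7), (85, 6), (74, 5), (55, 4), (47, 3), (40, 2), (34, 1), (100, 4), (88, 3), (101, 5), (89, 4), (102, 6), (90, 5), (13, 7), (117, 7), (92,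 6), (118, 8), (12, 7), (14, 7), (76, 6), (57, 5), (49, 4), (42, 3), (6, 2), (88, 2), (12, 3), (114, 4), (101, 3), (118, 5), (105, 4), (115, 6), (102, 5), (90, 4), (118, 7), (105, 6), (12, 5), (14, 6), (104, 5), (100, 6), (77, 5), (58, 4), (50, 3), (7, 2), (114, 3), (101, 2), (118, 4), (105, 3), (14, 5), (102, 4), (90, 3), (105, 5), (12, 4), (117, 5), (104, 4), (119, 6), (13, 5), (115, 5), (79, 4), (9, 3), (117, 3), (14, 4), (80, 3), (112, 7), (99, 6), (87, 5), (76, 4), (66, 3), (49, 2), (91, 4), (92, 5), (12, 6), (114, 7), (101, 6), (78, 5), (68, 4), (8, 3), (115, 6), (102, 5), (79, 4), (69, 3), (118, 7), (105, 6), (113, 8), (100, 7), (88, 6), (77, 5), (67, 4), (58, 3), (116, 6), (91, 5), (14, 7), (92, 6), (12, 7), (114, 8), (101, 7), (78, 6), (68, 5), (59, 4), (116, 6), (117, 7), (119, 8), (14, 9), (102, 8), (79, 7), (69, 6), (9, 5), (116, 5), (117, 6), (119, 7),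 (118, 8), (105, 7), (119, 9), (13, 8), (14, 8), (89, 7), (78, 6), (68, 5), (8, 4), (12, 6), (73, 5), (63, 4), (39, 3), (33, 2), (24, 1), (3, 0), (110, 4), (97, 3), (85, 2), (74, 1), (64, 0), (117, 3), (92, 2), (118, 4), (12, 3), (119, 3), (14, 4), (101, 3), (78, 2), (68, 1), (105, 4), (13, 5), (112, 5), (87, 4), (76, 3), (66, 2), (49, 1), (91, 3), (92, 4), (12, 5), (116, 5), (80, 4), (10, 3), (117, 4), (11, 3), (119, 3), (14, 4), (100, 3), (50, 2), (119, 5), (116, 6), (103, 5), (91, 4), (117, 7), (104, 6), (92, 5), (14, 8), (103, 7), (91, 6), (80, 5), (10, 4), (105, 6), (12, 5), (104, 5), (11, 4), (105, 4), (110, 6), (97, 5), (85, 4), (47, 3), (40, 2), (34, 1), (4, 0), (100, 2), (88, 1), (101, 3), (89, 2), (105, 4), (12, 3), (13, 3), (112, 3), (49, 2), (42, 1), (6, 0), (88, 0), (12, 1), (114, 2), (101, 1), (118, 3), (105, 2), (14, 4), (100, 3), (88, 2), (50, 1),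 (7, 0), (114, 1), (101, 0), (118, 2), (105, 1), (14, 3), (105, 2), (12, 1), (13, 1), (112, 5), (87, 4), (76, 3), (66, 2), (57, 1), (49, 0), (90, 2), (12, 3), (116, 3), (117, 4), (118, 5), (14, 6), (88, 5), (77, 4), (67, 3), (58, 2), (50, 1), (115, 4), (90, 3), (118, 5), (12, 4), (14, 4), (117, 5), (118, 6), (115, 7), (90, 6), (79, 5), (69, 4), (9, 3), (116, 3), (117, 4), (118, 5), (14, 6), (91, 5), (80, 4), (10, 3), (12, 4)]⟩,
    ⟨2, [0, 0], [5, 6, 7, 8, 12], [(15, 1), (0, 0), (107, 6), (94, 5), (71, 4), (37, 3), (26, 2), (22, 1), (17, 0), (110, 5), (55, 4), (47, 3), (40, 2), (14, 7), (99, 6), (57, 5), (49, 4), (42, 3), (114, 7), (101, 6), (89, 5), (118, 8), (105, 7), (12, 6), (115, 7), (102, 6), (118, 8), (105, 7), (14, 9), (13, 8), (90, 7), (9, 6), (118, 6), (116, 7), (91, 6), (118, 8), (12, 7), (111, 7), (65, 6), (48, 5), (41, 4), (35, 3), (113, 7), (58, 6),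 (50, 5), (115, 8), (90, 7), (118, 9), (12, 8), (14, 8), (114, 8), (59, 7), (8, 6), (14, 7), (9, 6), (118, 6), (119, 7), (114, 8), (101, 7), (89, 6), (119, 9), (13, 8), (14, 8), (91, 7), (14, 10), (99, 9), (87, 8), (66, 7), (49, 6), (42, 5), (6, 4), (88, 4), (12, 5), (114, 6), (101, 5), (118, 7), (105, 6), (116, 8), (103, 7), (91, 6), (118, 9), (105, 8), (12, 7), (119, 8), (13, 7), (113, 7), (67, 6), (50, 5), (7, 4), (114, 5), (101, 4), (118, 6), (105, 5), (14, 7), (103, 6), (91, 5), (14, 8), (102, 7), (90, 6), (69, 5), (105, 8), (12, 7), (100, 7), (67, 6), (58, 5), (50, 4), (115, 7), (90, 6), (118, 8), (12, 7), (14, 7), (119, 8), (114, 9), (101, 8), (68, 7), (59, 6), (8, 5), (116, 6), (119, 7), (14, 8), (102, 7), (69, 6), (9, 5), (116, 5), (119, 6), (118, 7), (105, 6), (119, 8), (13, 7), (117, 7), (92, 6), (119, 8), (14, 9), (95, 8), (83, 7), (72, 6), (62, 5), (38,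 4), (27, 3), (23, 2), (2, 1), (110, 5), (64, 4), (47, 3), (40, 2), (34, 1), (100, 4), (88, 3), (101, 5), (89, 4), (103, 6), (91, 5), (105, 7), (12, 6), (14, 7), (99, 6), (66, 5), (49, 4), (42, 3), (6, 2), (88, 2), (12, 3), (114, 4), (101, 3), (118, 5), (105, 4), (116, 6), (103, 5), (91, 4), (119, 7), (13, 6), (113, 6), (88, 5), (67, 4), (50, 3), (7, 2), (114, 3), (101, 2), (118, 4), (105, 3), (14, 5), (103, 4), (91, 3), (118, 6), (105, 5), (12, 4), (14, 5), (102, 4), (69, 3), (103, 5), (10, 4), (105, 4), (13, 5), (111, 5), (86, 4), (56, 3), (48, 2), (115, 5), (102, 4), (119, 6), (13, 5), (14, 5), (14, 6), (87, 5), (57, 4), (49, 3), (90, 5), (12, 6), (118, 6), (113, 7), (88, 6), (58, 5), (50, 4), (115, 7), (90, 6), (118, 8), (12, 7), (14, 7), (114, 8), (89, 7), (59, 6), (8, 5), (118, 6), (14, 7), (12, 6), (100, 6), (58, 5), (7, 4), (115, 5), (102, 4), (118, 6), (105,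 5), (14, 7), (13, 6), (89, 5), (59, 4), (118, 6), (115, 7), (90, 6), (9, 5), (118, 5), (14, 6), (12, 5), (116, 6), (103, 5), (118, 7), (105, 6), (119, 8), (13, 7), (14, 7), (92, 6), (105, 8), (12, 7), (119, 8), (13, 7), (110, 7), (74, 6), (64, 5), (47, 4), (34, 3), (29, 2), (4, 1), (99, 7), (76, 6), (66, 5), (57, 4), (42, 3), (6, 2), (88, 2), (12, 3), (115, 4), (102, 3), (118, 5), (105, 4), (14, 6), (103, 5), (91, 4), (104, 6), (92, 5), (13, 7), (12, 6), (101, 6), (78, 5), (68, 4), (59, 3), (116, 5), (117, 6), (119, 7), (116, 8), (103, 7), (80, 6), (10, 5), (118, 7), (105, 6), (14, 8), (104, 7), (92, 6), (11, 5), (111, 7), (98, 6), (86, 5), (56, 4), (48, 3), (41, 2), (5, 1), (100, 4), (88, 3), (77, 2), (67, 1), (117, 3), (118, 4), (119, 5), (114, 6), (101, 5), (89, 4), (78, 3), (68, 2), (115, 7), (102, 6), (90, 5), (79, 4), (69, 3), (118, 8), (105, 7), (12, 6),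 (119, 7), (13, 6), (114, 6), (78, 5), (68, 4), (59, 3), (8, 2), (116, 3), (117, 4), (14, 5), (115, 6), (102, 5), (79, 4), (69, 3), (9, 2), (116, 2), (117, 3), (119, 4), (14, 5), (13, 4), (118, 4), (14, 5), (114, 6), (101, 5), (89, 4), (78, 3), (68, 2), (116, 7), (103, 6), (91, 5), (80, 4), (10, 3), (118, 6), (105, 5), (12, 4), (107, 5), (94, 4), (71, 3), (44, 2), (37, 1), (1, 0), (100, 3), (67, 2), (50, 1), (116, 4), (91, 3), (14, 5), (101, 5), (89, 4), (68, 3), (8, 2), (102, 4), (90, 3), (69, 2), (105, 5), (12, 4), (13, 4), (68, 3), (59, 2), (116, 4), (116, 5), (10, 4), (117, 4), (117, 5), (11, 4), (119, 4), (14, 5)], [], [(110, 7), (97, 6), (74, 5), (64, 4), (55, 3), (47, 2), (29, 1), (4, 0), (101, 6), (78, 5), (68, 4), (59, 3), (116, 5), (117, 6), (119, 7), (115, 8), (102, 7), (79, 6), (69, 5), (9, 4), (116, 4), (117, 5), (119, 6), (14, 7), (13, 6), (116, 6),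 (80, 5), (10, 4), (118, 5), (14, 6), (92, 5), (11, 4), (111, 6), (98, 5), (86, 4), (48, 3), (41, 2), (35, 1), (5, 0), (99, 3), (87, 2), (76, 1), (66, 0), (101, 4), (89, 3), (78, 2), (68, 1), (102, 5), (90, 4), (79, 3), (69, 2), (113, 7), (100, 6), (88, 5), (77, 4), (67, 3), (58, 2), (50, 1), (115, 4), (90, 3), (118, 5), (12, 4), (14, 4), (117, 5), (118, 6), (119, 7), (14, 8), (101, 7), (89, 6), (78, 5), (68, 4), (59, 3), (8, 2), (116, 3), (117, 4), (118, 5), (119, 6), (115, 7), (102, 6), (90, 5), (79, 4), (69, 3), (9, 2), (116, 2), (117, 3), (118, 4), (119, 5), (14, 6), (105, 5), (12, 4), (13, 4), (78, 3), (68, 2), (118, 6), (105, 5), (14, 7), (13, 6), (114, 6), (89, 5), (78, 4), (68, 3), (8, 2), (115, 5), (90, 4), (79, 3), (69, 2), (116, 6), (91, 5), (80, 4), (10, 3), (117, 5), (92, 4), (11, 3), (119, 4), (14, 5)], [(97, 6), (85, 5), (64, 4), (55, 3), (47, 2),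 (40, 1), (4, 0), (116, 4), (103, 3), (118, 5), (105, 4), (14, 6), (105, 5), (12, 4), (13, 4), (67, 3), (58, 2), (50, 1), (7, 0), (114, 1), (101, 0), (118, 2), (105, 1), (14, 3), (102, 2), (90, 1), (105, 3), (12, 2), (116, 3), (103, 2), (14, 4), (105, 3), (114, 5), (101, 4), (89, 3), (68, 2), (59, 1), (8, 0), (116, 1), (118, 2), (119, 3), (14, 4), (99, 3), (87, 2), (66, 1), (57, 0), (116, 3), (91, 2), (118, 4), (12, 3), (119, 3), (113, 4), (100, 3), (67, 2), (58, 1), (116, 4), (91, 3), (14, 5), (116, 6), (103, 5), (91, 4), (10, 3), (119, 5), (13, 4), (14, 4)]⟩]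

/-- Part of the certificate. -/
def fusesPart2 : List Spor.SchurCert.Fuse := [
    ⟨2, [1, 0], [0, 1, 8, 9, 10, 11, 12], [(16, 0), (107, 4), (52, 3), (37, 2), (17, 1), (113, 6), (58, 5), (50, 4), (7, 3), (114, 4), (101, 3), (118, 5), (105, 4), (14, 6), (102, 5), (90, 4), (105, 6), (12, 5), (14, 6), (101, 5), (59, 4), (8, 3), (119, 4), (115, 5), (102, 4), (9, 3), (119, 3), (14, 4), (105, 3), (13, 4), (90, 3), (91, 4), (92, 5), (14, 8)], [], [(97, 4), (85, 3), (47, 2), (4, 1), (98, 3), (86, 2), (48, 1), (118, 4), (105, 3), (14, 5), (13, 4), (89, 3), (8, 2), (90, 2), (91, 3), (92, 4)], [(108, 7), (95, 6), (72, 5), (62, 4), (53, 3), (45, 2), (27, 1), (23, 0), (111, 8), (98, 7), (86, 6), (65, 5), (56, 4), (41, 3), (35, 2), (113, 6), (58, 5), (50, 4), (115, 7), (90, 6), (118, 8), (12, 7), (14, 7), (114, 7), (59, 6), (8, 5), (14, 6), (9, 5), (118, 5), (119, 6), (115,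 7), (102, 6), (90, 5), (119, 8), (13, 7), (14, 7), (91, 6), (118, 9), (105, 8), (12, 7), (14, 8), (13, 7), (112, 7), (66, 6), (57, 5), (42, 4), (6, 3), (88, 3), (12, 4), (115, 5), (102, 4), (118, 6), (105, 5), (14, 7), (103, 6), (91, 5), (113, 8), (100, 7), (88, 6), (67, 5), (58, 4), (7, 3), (115, 4), (102, 3), (118, 5), (105, 4), (14, 6), (103, 5), (91, 4), (118, 7), (105, 6), (12, 5), (119, 6), (13, 5), (14, 5), (68, 4), (59, 3), (116, 5), (118, 6), (119, 7), (114, 8), (101, 7), (89, 6), (68, 5), (59, 4), (8, 3), (116, 4), (118, 5), (119, 6), (14, 7), (105, 6), (12, 5), (102, 5), (69, 4), (9, 3), (116, 3), (119, 4), (118, 5), (105, 4), (119, 6), (13, 5), (116, 5), (91, 4), (10, 3), (118, 4), (12, 3), (119, 3), (14, 4), (104, 3), (13, 4), (110, 5), (97, 4), (74, 3), (29, 2), (4, 1), (104, 7), (11, 6), (13, 6), (114, 6), (68, 5), (59, 4), (116, 6), (14, 7), (99,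 8), (87, 7), (66, 6), (57, 5), (49, 4), (42, 3), (6, 2), (88, 2), (12, 3), (114, 4), (101, 3), (118, 5), (105, 4), (115, 6), (102, 5), (90, 4), (118, 7), (105, 6), (12, 5), (14, 6), (103, 5), (105, 6), (13, 7), (88, 6), (67, 5), (58, 4), (50, 3), (7, 2), (114, 3), (101, 2), (118, 4), (105, 3), (14, 5), (102, 4), (90, 3), (105, 5), (12, 4), (116, 5), (103, 4), (14, 6), (105, 5), (103, 6), (91, 5), (10, 4), (13, 5), (114, 5), (89, 4), (59, 3), (8, 2), (118, 3), (14, 4), (91, 3), (12, 4), (117, 4), (118, 5), (119, 6)]⟩,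
    ⟨2, [2, 0], [0, 2, 5, 6, 8, 13], [(18, 0), (107, 9), (82, 8), (71, 7), (61, 6), (52, 5), (44, 4), (37, 3), (31, 2), (19, 1), (57, 3), (116, 6), (91, 5), (117, 7), (92, 6), (118, 8), (12, 7), (113, 7), (77, 6), (67, 5), (58, 4), (116, 7), (91, 6), (14, 8), (92, 7), (114, 9), (89, 8), (78, 7), (68, 6), (59, 5), (116, 7), (117, 8), (118, 9), (14, 10), (90, 9), (79, 8), (69, 7), (9, 6), (116, 6), (117, 7), (118, 8), (118, 9), (12, 8), (119, 8), (114, 9), (101, 8), (78, 7), (68, 6), (8, 5), (116, 8), (103, 7), (80, 6), (10, 5), (117, 7), (104, 6), (11, 5), (115, 6), (102, 5), (116, 7), (103, 6), (117, 8), (104, 7), (119, 9), (13, 8), (14, 8), (80, 7), (10, 6), (92, 7), (11, 6), (12, 6)], [], [(110, 6), (64, 5), (55, 4), (40, 3), (34, 2), (4, 1), (100, 3), (88, 2), (102, 4), (90, 3), (13, 5), (116, 5), (91, 4), (118, 6), (12, 5), (14, 5), (111, 5), (65, 4), (56, 3),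 (41, 2), (35, 1), (113, 5), (58, 4), (50, 3), (115, 6), (90, 5), (118, 7), (12, 6), (14, 6), (114, 6), (59, 5), (8, 4), (14, 5), (9, 4), (118, 4), (119, 5), (115, 6), (102, 5), (90, 4), (119, 7), (13, 6), (14, 6), (91, 5), (14, 8), (101, 7), (89, 6), (68, 5), (59, 4), (116, 6), (118, 7), (119, 8), (115, 9), (102, 8), (90, 7), (69, 6), (9, 5), (116, 5), (118, 6), (119, 7), (14, 8), (103, 7), (91, 6), (10, 5), (104, 6), (92, 5), (13, 7)], [(109, 7), (96, 6), (73, 5), (63, 4), (54, 3), (46, 2), (28, 1), (24, 0), (111, 5), (98, 4), (86, 3), (48, 2), (118, 5), (105, 4), (14, 6), (13, 5), (116, 5), (91, 4), (117, 6), (92, 5), (118, 7), (12, 6), (119, 6), (14, 7), (101, 6), (78, 5), (68, 4), (8, 3), (105, 5), (102, 6), (90, 5), (79, 4), (69, 3), (105, 7), (12, 6), (116, 7), (103, 6), (80, 5), (10, 4), (118, 6), (105, 5), (117, 7), (104, 6), (92, 5), (11, 4), (118, 6),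 (105, 5), (12, 4), (14, 5), (13, 4), (14, 4), (55, 3), (29, 2), (4, 1), (102, 7), (79, 6), (69, 5), (9, 4), (116, 4), (117, 5), (119, 6), (119, 7), (13, 6), (14, 6), (76, 5), (66, 4), (42, 3), (6, 2), (88, 2), (12, 3), (116, 4), (103, 3), (117, 5), (104, 4), (113, 6), (100, 5), (77, 4), (67, 3), (7, 2), (116, 3), (103, 2), (14, 4), (104, 3), (13, 4), (115, 4), (79, 3), (69, 2), (116, 5), (80, 4), (10, 3), (14, 4), (74, 3), (55, 2), (29, 1), (102, 8), (79, 7), (69, 6), (9, 5), (116, 5), (117, 6), (119, 7), (119, 8), (13, 7), (14, 7), (11, 6), (67, 5), (7, 4), (116, 5), (103, 4), (14, 6), (101, 5), (68, 4), (102, 6), (69, 5), (103, 7), (10, 6), (105, 6), (13, 7), (85, 6), (55, 5), (47, 4), (34, 3), (29, 2), (4, 1), (99, 7), (76, 6), (66, 5), (57, 4), (42, 3), (6, 2), (88, 2), (12, 3), (115, 4), (102, 3), (118, 5), (105, 4), (14, 6), (103, 5), (91, 4), (104, 6), (92,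 5), (13, 7), (12, 6), (101, 6), (78, 5), (68, 4), (59, 3), (116, 5), (117, 6), (119, 7), (115, 8), (102, 7), (79, 6), (69, 5), (9, 4), (116, 4), (117, 5), (119, 6), (14, 7), (13, 6), (118, 6), (113, 7), (88, 6), (77, 5), (67, 4), (50, 3), (7, 2), (114, 3), (101, 2), (118, 4), (105, 3), (14, 5), (103, 4), (91, 3), (117, 6), (104, 5), (92, 4), (118, 7), (105, 6), (12, 5), (14, 6), (105, 5), (112, 7), (99, 6), (87, 5), (76, 4), (66, 3), (49, 2), (91, 4), (92, 5), (12, 6), (113, 7), (100, 6), (77, 5), (67, 4), (50, 3), (116, 6), (91, 5), (14, 7), (92, 6), (116, 9), (103, 8), (91, 7), (80, 6), (10, 5), (119, 8), (13, 7), (14, 7)]⟩,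
    ⟨2, [3, 0], [0, 3, 5, 6, 8, 9, 10, 11, 13], [(21, 0), (71, 5), (52, 4), (44, 3), (37, 2), (22, 1), (88, 6), (67, 5), (58, 4), (116, 7), (91, 6), (14, 8), (12, 7), (68, 6), (59, 5), (116, 7), (115, 8), (69, 7), (9, 6), (116, 6), (14, 7), (101, 8), (89, 7), (68, 6), (8, 5), (103, 7), (91, 6), (10, 5), (104, 6), (92, 5), (102, 7), (90, 6), (79, 5), (103, 8), (91, 7), (80, 6), (104, 9), (92, 8), (11, 7), (13, 8), (117, 8), (92, 7)], [], [(4, 0)], [(110, 7), (97, 6), (74, 5), (64, 4), (55, 3), (47, 2), (29, 1), (4, 0), (101, 6), (78, 5), (68, 4), (59, 3), (116, 5), (117, 6), (119, 7), (115, 8), (102, 7), (79, 6), (69, 5), (9, 4), (116, 4), (117, 5), (119, 6), (14, 7), (13, 6), (116, 6), (80, 5), (10, 4), (118, 5), (14, 6), (92, 5), (11, 4), (110, 6), (97, 5), (85, 4), (47, 3), (40, 2), (34, 1), (29, 0), (99, 7), (76, 6), (66, 5), (57, 4), (42, 3), (6, 2), (88, 2),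 (12, 3), (115, 4), (102, 3), (118, 5), (105, 4), (14, 6), (103, 5), (91, 4), (104, 6), (92, 5), (13, 7), (12, 6), (100, 6), (77, 5), (67, 4), (58, 3), (7, 2), (115, 3), (102, 2), (118, 4), (105, 3), (14, 5), (103, 4), (91, 3), (117, 6), (104, 5), (92, 4), (119, 7), (13, 6), (114, 6), (89, 5), (78, 4), (68, 3), (59, 2), (116, 4), (117, 5), (118, 6), (14, 7), (12, 6), (113, 7), (100, 6), (77, 5), (67, 4), (58, 3), (50, 2), (115, 5), (90, 4), (118, 6), (12, 5), (14, 5), (117, 6), (119, 7), (14, 8), (101, 7), (78, 6), (68, 5), (59, 4), (8, 3), (116, 4), (117, 5), (119, 6), (115, 7), (102, 6), (79, 5), (69, 4), (9, 3), (116, 3), (117, 4), (119, 5), (14, 6), (103, 5), (80, 4), (10, 3), (105, 4), (13, 5), (85, 4), (74, 3), (40, 2), (29, 1), (4, 0), (100, 6), (77, 5), (67, 4), (58, 3), (7, 2), (115, 3), (102, 2), (118, 4), (105, 3), (14, 5), (103, 4), (91, 3), (117, 6),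 (104, 5), (92, 4), (119, 7), (13, 6), (117, 6), (92, 5), (11, 4), (118, 5), (12, 4), (113, 4), (67, 3), (58, 2), (116, 5), (91, 4), (14, 6), (118, 6), (12, 5), (14, 5), (66, 4), (57, 3), (42, 2), (6, 1), (88, 1), (12, 2), (115, 3), (102, 2), (118, 4), (105, 3), (14, 5), (103, 4), (91, 3), (100, 5), (88, 4), (67, 3), (58, 2), (7, 1), (115, 2), (102, 1), (118, 3), (105, 2), (14, 4), (103, 3), (91, 2), (118, 5), (105, 4), (12, 3), (119, 4), (13, 3), (116, 3), (10, 2), (119, 2), (14, 3), (101, 2), (59, 1), (119, 3), (116, 4), (103, 3), (118, 5), (105, 4), (14, 6), (104, 5), (92, 4), (105, 6), (12, 5)]⟩,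
    ⟨2, [4, 0], [0, 4, 5, 6, 7, 8, 9, 10, 11, 12, 13], [(25, 0), (94, 3), (44, 2), (26, 1), (89, 6), (59, 5), (118, 7), (116, 8), (91, 7), (117, 9), (92, 8), (119, 10)], [], [(64, 4), (55, 3), (4, 2), (116, 4), (103, 3), (118, 5), (105, 4), (14, 6), (98, 5), (86, 4), (65, 3), (56, 2), (116, 5), (103, 4), (119, 6), (13, 5), (14, 5), (119, 6), (114, 7), (101, 6), (89, 5), (68, 4), (59, 3), (116, 5), (118, 6), (119, 7), (14, 8), (102, 7), (90, 6), (69, 5), (9, 4), (116, 4), (118, 5), (119, 6), (116, 7), (103, 6), (91, 5), (10, 4), (117, 6), (104, 5), (92, 4), (119, 7), (13, 6), (14, 6)], [(106, 7), (93, 6), (70, 5), (60, 4), (51, 3), (43, 2), (25, 1), (21, 0), (75, 5), (56, 4), (48, 3), (41, 2), (101, 7), (89, 6), (59, 5), (8, 4), (118, 5), (119, 6), (119, 7), (13, 6), (14, 6), (90, 5), (9, 4), (118, 4), (119, 5), (14, 6), (104, 5), (92, 4), (13, 6), (89, 5), (78,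 4), (101, 7), (89, 6), (78, 5), (8, 4), (103, 6), (91, 5), (80, 4), (104, 7), (92, 6), (11, 5), (105, 6), (12, 5), (13, 5), (69, 4), (10, 5), (80, 5), (11, 6), (13, 6), (107, 6), (61, 5), (52, 4), (37, 3), (26, 2), (22, 1), (86, 6), (65, 5), (56, 4), (35, 3), (115, 7), (9, 6), (14, 6), (116, 7), (103, 6), (119, 8), (13, 7), (14, 7), (112, 8), (87, 7), (66, 6), (49, 5), (6, 4), (89, 4), (12, 5), (113, 7), (88, 6), (67, 5), (50, 4), (116, 7), (91, 6), (14, 8), (12, 7), (115, 7), (69, 6), (118, 8), (113, 9), (88, 8), (67, 7), (58, 6), (50, 5), (7, 4), (114, 5), (101, 4), (118, 6), (105, 5), (14, 7), (102, 6), (90, 5), (105, 7), (12, 6), (116, 7), (103, 6), (14, 8), (105, 7), (114, 9), (101, 8), (89, 7), (68, 6), (59, 5), (8, 4), (116, 5), (118, 6), (119, 7), (14, 8), (102, 7), (90, 6), (69, 5), (9, 4), (116, 4), (118, 5), (119, 6), (118, 7), (105, 6), (12, 5), (119,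 6), (13, 5), (115, 5), (69, 4), (116, 6), (10, 5), (117, 5), (119, 6), (14, 7), (103, 6), (80, 5), (105, 7), (110, 9), (97, 8), (85, 7), (74, 6), (64, 5), (55, 4), (29, 3), (4, 2), (102, 8), (79, 7), (69, 6), (9, 5), (116, 5), (117, 6), (119, 7), (119, 8), (13, 7), (14, 7), (80, 6), (10, 5), (117, 7), (92, 6), (11, 5), (118, 6), (12, 5), (119, 5), (14, 6), (102, 5), (103, 6), (97, 7), (64, 6), (55, 5), (40, 4), (34, 3), (29, 2), (99, 9), (76, 8), (66, 7), (57, 6), (42, 5), (6, 4), (88, 4), (12, 5), (115, 6), (102, 5), (118, 7), (105, 6), (14, 8), (103, 7), (91, 6), (104, 8), (92, 7), (13, 9), (12, 8), (100, 8), (77, 7), (67, 6), (58, 5), (7, 4), (115, 5), (102, 4), (118, 6), (105, 5), (14, 7), (103, 6), (91, 5), (117, 8), (104, 7), (92, 6), (119, 9), (13, 8), (115, 8), (90, 7), (79, 6), (69, 5), (9, 4), (116, 4), (117, 5), (118, 6), (14, 7), (116, 8), (103, 7),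 (91, 6), (80, 5), (10, 4), (118, 7), (105, 6), (12, 5), (14, 6), (13, 5), (77, 4), (78, 5), (79, 6), (80, 7), (97, 10), (85, 9), (74, 8), (64, 7), (55, 6), (47, 5), (40, 4), (29, 3), (4, 2), (100, 8), (77, 7), (67, 6), (58, 5), (7, 4), (115, 5), (102, 4), (118, 6), (105, 5), (14, 7), (103, 6), (91, 5), (117, 8), (104, 7), (92, 6), (119, 9), (13, 8), (114, 8), (89, 7), (78, 6), (68, 5), (59, 4), (116, 6), (117, 7), (118, 8), (14, 9), (90, 8), (79, 7), (69, 6), (9, 5), (116, 5), (117, 6), (118, 7), (119, 8), (14, 9), (103, 8), (91, 7), (80, 6), (10, 5), (105, 7), (12, 6), (117, 7), (104, 6), (11, 5), (118, 6), (105, 5), (119, 7), (13, 6), (113, 6), (88, 5), (50, 4), (118, 7), (12, 6), (14, 6), (114, 7), (89, 6), (8, 5), (112, 6), (87, 5), (42, 4), (6, 3), (88, 3), (12, 4), (118, 5), (105, 4), (14, 6), (100, 5), (88, 4), (7, 3), (118, 4), (105, 3), (119, 5), (13, 4),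 (116, 4), (91, 3), (119, 5), (14, 6), (101, 5), (89, 4), (68, 3), (103, 6), (91, 5), (10, 4), (105, 5), (12, 4), (117, 5), (104, 4), (118, 6), (105, 5), (119, 7), (13, 6), (14, 6)]⟩,
    ⟨2, [5, 0], [0, 5, 7, 8, 10, 11, 12, 13], [(30, 0), (82, 5), (61, 4), (52, 3), (44, 2), (31, 1), (89, 5), (78, 4), (68, 3), (91, 6), (80, 5), (10, 4), (92, 5), (11, 4), (90, 4), (91, 5), (92, 6), (116, 9), (103, 8), (91, 7), (80, 6), (10, 5), (118, 8), (105, 7), (12, 6), (118, 7), (105, 6)], [], [(97, 6), (85, 5), (64, 4), (55, 3), (47, 2), (40, 1), (4, 0), (116, 4), (103, 3), (118, 5), (105, 4), (14, 6), (105, 5), (12, 4), (13, 4), (65, 3), (56, 2), (48, 1), (41, 0), (101, 5), (89, 4), (59, 3), (8, 2), (118, 3), (119, 4), (119, 5), (13, 4), (14, 4), (90, 3), (9, 2), (118, 2), (119, 3), (14, 4), (103, 3), (91, 2), (13, 4), (114, 4), (89, 3), (68, 2), (115, 5), (90, 4), (69, 3),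 (116, 6), (91, 5), (10, 4), (117, 5), (92, 4), (119, 6), (14, 7)], [(110, 7), (97, 6), (74, 5), (64, 4), (55, 3), (47, 2), (29, 1), (4, 0), (101, 6), (78, 5), (68, 4), (59, 3), (116, 5), (117, 6), (119, 7), (115, 8), (102, 7), (79, 6), (69, 5), (9, 4), (116, 4), (117, 5), (119, 6), (14, 7), (13, 6), (116, 6), (80, 5), (10, 4), (118, 5), (14, 6), (92, 5), (11, 4), (113, 6), (100, 5), (88, 4), (50, 3), (7, 2), (114, 3), (101, 2), (118, 4), (105, 3), (14, 5), (105, 4), (12, 3), (13, 3), (114, 3), (8, 2), (115, 2), (116, 3), (118, 4), (119, 5), (114, 6), (101, 5), (89, 4), (68, 3), (59, 2), (116, 4), (118, 5), (119, 6), (14, 7), (99, 6), (87, 5), (66, 4), (57, 3), (49, 2), (6, 1), (89, 1), (12, 2), (116, 4), (91, 3), (118, 5), (12, 4), (119, 4), (113, 5), (100, 4), (67, 3), (58, 2), (50, 1), (115, 4), (90, 3), (118, 5), (12, 4), (14, 4), (119, 5), (14, 6), (103, 5),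 (10, 4), (13, 4), (117, 4), (118, 5), (119, 6), (14, 7)]⟩,
    ⟨2, [6, 0], [0, 6, 7, 8, 10, 12], [(36, 0), (82, 3), (71, 2), (37, 1), (104, 6), (92, 5), (105, 7), (12, 6)], [], [(110, 3), (85, 2), (40, 1), (4, 0), (111, 2), (86, 1), (41, 0), (105, 5), (12, 4), (14, 5), (101, 4), (59, 3), (8, 2), (119, 3), (115, 4), (102, 3), (9, 2), (119, 2), (14, 3), (103, 2), (104, 3), (13, 4)], [(110, 7), (97, 6), (74, 5), (64, 4), (55, 3), (47, 2), (29, 1), (4, 0), (101, 6), (78, 5), (68, 4), (59, 3), (116, 5), (117, 6), (119, 7), (115, 8), (102, 7), (79, 6), (69, 5), (9, 4), (116, 4), (117, 5), (119, 6), (14, 7), (13, 6), (116, 6), (80, 5), (10, 4), (118, 5), (14, 6), (92, 5), (11, 4), (113, 6), (100, 5), (88, 4), (50, 3), (7, 2), (114, 3), (101, 2), (118, 4), (105, 3), (14, 5), (105, 4), (12, 3), (13, 3), (118, 3), (14, 4), (89, 3), (8, 2), (87, 2), (6, 1), (12, 1), (117,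 4), (104, 3), (119, 5), (13, 4)]⟩,
    ⟨2, [7, 0], [0, 7, 12], [(43, 0), (94, 5), (82, 4), (71, 3), (61, 2), (44, 1), (80, 4), (10, 3), (92, 4), (11, 3), (12, 3)], [], [(47, 0), (48, 1), (114, 4), (101, 3), (8, 2), (115, 3), (102, 2), (116, 4), (103, 3), (117, 5), (104, 4), (119, 6), (13, 5), (14, 5)], [(114, 7), (101, 6), (78, 5), (68, 4), (59, 3), (8, 2), (116, 3), (117, 4), (119, 5), (14, 6), (13, 5)]⟩,
    ⟨2, [9, 0], [0, 9, 11], [(60, 0), (61, 1)], [], [(110, 3), (85, 2), (64, 1), (47, 0), (118, 4), (12, 3), (14, 3), (65, 2), (48, 1), (116, 4), (103, 3), (119, 5), (13, 4), (14, 4), (68, 3), (8, 2), (69, 2), (10, 3)], [(114, 7), (101, 6), (78, 5), (68, 4), (59, 3), (8, 2), (116, 3), (117, 4), (119, 5), (14, 6), (103, 5), (80, 4), (10, 3), (105, 4), (118, 6), (105, 5), (12, 4)]⟩]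

/-- Part of the certificate. -/
def fusesPart3 : List Spor.SchurCert.Fuse := [
    ⟨2, [1, 1], [5, 6, 7, 9, 13], [(2, 0)], [], [(95, 4), (83, 3), (45, 2), (23, 1), (2, 0), (110, 4), (64, 3), (47, 2), (40, 1), (34, 0), (100, 3), (88, 2), (101, 4), (89, 3), (103, 5), (91, 4), (105, 6), (12, 5), (14, 6), (99, 5), (66, 4), (49, 3), (42, 2), (6, 1), (88, 1), (12, 2), (114, 3), (101, 2), (118, 4), (105, 3), (116, 5), (103, 4), (91, 3), (119, 6), (13, 5), (113, 5), (88, 4), (67, 3), (50, 2), (7, 1), (114, 2), (101, 1), (118, 3), (105, 2), (14, 4), (103, 3), (91, 2), (118, 5), (105, 4), (12, 3), (14, 4), (102, 3), (69, 2), (103, 4), (10, 3), (105, 3), (13, 4), (114, 4), (89, 3), (59, 2), (8, 1), (118, 2), (14, 3), (12, 2), (119, 3), (110, 4), (97, 3), (85, 2), (55, 1), (4, 0), (118, 2), (105, 1), (119, 3), (13, 2), (14, 2), (89, 1), (59, 0), (118, 2), (118, 3), (12, 2),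 (119, 2)], [(97, 6), (85, 5), (64, 4), (55, 3), (47, 2), (40, 1), (4, 0), (116, 4), (103, 3), (118, 5), (105, 4), (14, 6), (105, 5), (12, 4), (13, 4), (67, 3), (58, 2), (50, 1), (7, 0), (114, 1), (101, 0), (118, 2), (105, 1), (14, 3), (102, 2), (90, 1), (105, 3), (12, 2), (116, 3), (103, 2), (14, 4), (105, 3), (114, 5), (101, 4), (89, 3), (68, 2), (59, 1), (8, 0), (116, 1), (118, 2), (119, 3), (14, 4), (101, 3), (89, 2), (68, 1), (59, 0), (116, 2), (118, 3), (119, 4), (116, 5), (103, 4), (91, 3), (10, 2), (118, 4), (105, 3), (12, 2), (14, 3)]⟩,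
    ⟨2, [2, 1], [1, 2, 8, 9, 10, 11, 12, 13], [(20, 0)], [], [(108, 6), (62, 5), (53, 4), (38, 3), (32, 2), (23, 1), (20, 0), (110, 7), (97, 6), (85, 5), (74, 4), (64, 3), (55, 2), (116, 5), (103, 4), (118, 6), (105, 5), (14, 7), (104, 6), (92, 5), (105, 7), (12, 6), (13, 6), (112, 6), (76, 5), (66, 4), (57, 3), (116, 6), (91, 5), (117, 7), (92, 6), (14, 8), (88, 7), (77, 6), (67, 5), (58, 4), (116, 7), (91, 6), (14, 8), (92, 7), (12, 8), (79, 7), (69, 6), (9, 5), (116, 5), (117, 6), (116, 7), (80, 6), (10, 5), (118, 6), (119, 7), (14, 8), (99, 7), (87, 6), (76, 5), (42, 4), (6, 3), (88, 3), (12, 4), (117, 5), (104, 4), (118, 6), (105, 5), (119, 7), (13, 6), (114, 6), (89, 5), (78, 4), (115, 7), (90, 6), (79, 5), (118, 8), (12, 7), (113, 7), (77, 6), (58, 5), (50, 4), (7, 3), (114, 4), (101, 3), (118, 5), (105, 4), (14, 6), (102, 5), (90, 4), (105, 6), (12, 5),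 (117, 6), (104, 5), (14, 7), (101, 6), (78, 5), (59, 4), (8, 3), (117, 4), (119, 5), (115, 6), (102, 5), (79, 4), (9, 3), (117, 3), (119, 4), (14, 5), (105, 4), (13, 5), (115, 5), (90, 4), (79, 3), (118, 6), (12, 5), (119, 5), (116, 6), (103, 5), (80, 4), (118, 7), (105, 6), (119, 8), (13, 7), (14, 7), (110, 7), (85, 6), (74, 5), (64, 4), (55, 3), (4, 2), (116, 4), (103, 3), (118, 5), (105, 4), (14, 6), (104, 5), (92, 4), (105, 6), (12, 5), (114, 6), (101, 5), (78, 4), (68, 3), (59, 2), (116, 4), (117, 5), (119, 6), (14, 7), (105, 6), (13, 7)], [(96, 4), (84, 3), (46, 2), (24, 1), (114, 6), (101, 5), (89, 4), (8, 3), (118, 5), (105, 4), (12, 3), (118, 4), (105, 3), (119, 5), (13, 4), (14, 4), (85, 3), (4, 2), (87, 2), (88, 3), (90, 4), (91, 5), (112, 7), (87, 6), (66, 5), (57, 4), (42, 3), (6, 2), (88, 2), (12, 3), (115, 4), (102, 3), (118, 5), (105, 4), (14, 6),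 (103, 5), (91, 4), (105, 6), (12, 5), (113, 6), (100, 5), (67, 4), (58, 3), (7, 2), (115, 3), (102, 2), (118, 4), (105, 3), (14, 5), (103, 4), (91, 3), (119, 6), (13, 5), (14, 5), (91, 4), (10, 3), (114, 5), (101, 4), (89, 3), (59, 2), (118, 4), (119, 5), (14, 6), (103, 5), (91, 4), (105, 6), (12, 5), (117, 6), (104, 5), (118, 7), (105, 6), (119, 8), (13, 7), (14, 7)]⟩,
    ⟨2, [4, 4], [9, 10, 11, 12], [(5, 0)], [], [(60, 4), (51, 3), (21, 2), (15, 1), (0, 0), (107, 6), (94, 5), (71, 4), (37, 3), (26, 2), (22, 1), (17, 0), (110, 5), (55, 4), (47, 3), (40, 2), (14, 7), (99, 6), (57, 5), (49, 4), (42, 3), (114, 7), (101, 6), (89, 5), (118, 8), (105, 7), (12, 6), (115, 7), (102, 6), (118, 8), (105, 7), (14, 9), (13, 8), (90, 7), (9, 6), (118, 6), (116, 7), (91, 6), (118, 8), (12, 7), (111, 7), (65, 6), (48, 5), (41, 4), (35, 3), (113, 7), (58, 6), (50, 5), (115, 8),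 (90, 7), (118, 9), (12, 8), (14, 8), (114, 8), (59, 7), (8, 6), (14, 7), (9, 6), (118, 6), (119, 7), (114, 8), (101, 7), (89, 6), (119, 9), (13, 8), (14, 8), (91, 7), (14, 10), (99, 9), (87, 8), (66, 7), (49, 6), (42, 5), (6, 4), (88, 4), (12, 5), (114, 6), (101, 5), (118, 7), (105, 6), (116, 8), (103, 7), (91, 6), (118, 9), (105, 8), (12, 7), (119, 8), (13, 7), (113, 7), (67, 6), (50, 5), (7, 4), (114, 5), (101, 4), (118, 6), (105, 5), (14, 7), (103, 6), (91, 5), (14, 8), (102, 7), (90, 6), (69, 5), (105, 8), (12, 7), (100, 7), (67, 6), (58, 5), (50, 4), (115, 7), (90, 6), (118, 8), (12, 7), (14, 7), (119, 8), (114, 9), (101, 8), (68, 7), (59, 6), (8, 5), (116, 6), (119, 7), (14, 8), (102, 7), (69, 6), (9, 5), (116, 5), (119, 6), (118, 7), (105, 6), (119, 8), (13, 7), (117, 7), (92, 6), (119, 8), (14, 9), (95, 8), (83, 7), (72, 6), (62, 5), (38, 4), (27, 3), (23,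 2), (2, 1), (110, 5), (64, 4), (47, 3), (40, 2), (34, 1), (100, 4), (88, 3), (101, 5), (89, 4), (103, 6), (91, 5), (105, 7), (12, 6), (14, 7), (99, 6), (66, 5), (49, 4), (42, 3), (6, 2), (88, 2), (12, 3), (114, 4), (101, 3), (118, 5), (105, 4), (116, 6), (103, 5), (91, 4), (119, 7), (13, 6), (113, 6), (88, 5), (67, 4), (50, 3), (7, 2), (114, 3), (101, 2), (118, 4), (105, 3), (14, 5), (103, 4), (91, 3), (118, 6), (105, 5), (12, 4), (14, 5), (102, 4), (69, 3), (103, 5), (10, 4), (105, 4), (13, 5), (111, 5), (86, 4), (56, 3), (48, 2), (115, 5), (102, 4), (119, 6), (13, 5), (14, 5), (14, 6), (87, 5), (57, 4), (49, 3), (90, 5), (12, 6), (118, 6), (113, 7), (88, 6), (58, 5), (50, 4), (115, 7), (90, 6), (118, 8), (12, 7), (14, 7), (114, 8), (89, 7), (59, 6), (8, 5), (118, 6), (14, 7), (12, 6), (100, 6), (58, 5), (7, 4), (115, 5), (102, 4), (118, 6), (105, 5), (14, 7),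 (13, 6), (89, 5), (59, 4), (118, 6), (115, 7), (90, 6), (9, 5), (118, 5), (14, 6), (12, 5), (116, 6), (103, 5), (118, 7), (105, 6), (119, 8), (13, 7), (14, 7), (92, 6), (105, 8), (12, 7), (119, 8), (13, 7), (110, 7), (74, 6), (64, 5), (47, 4), (34, 3), (29, 2), (4, 1), (99, 7), (76, 6), (66, 5), (57, 4), (42, 3), (6, 2), (88, 2), (12, 3), (115, 4), (102, 3), (118, 5), (105, 4), (14, 6), (103, 5), (91, 4), (104, 6), (92, 5), (13, 7), (12, 6), (101, 6), (78, 5), (68, 4), (59, 3), (116, 5), (117, 6), (119, 7), (116, 8), (103, 7), (80, 6), (10, 5), (118, 7), (105, 6), (14, 8), (104, 7), (92, 6), (11, 5), (111, 7), (98, 6), (86, 5), (56, 4), (48, 3), (41, 2), (5, 1), (100, 4), (88, 3), (77, 2), (67, 1), (117, 3), (118, 4), (119, 5), (114, 6), (101, 5), (89, 4), (78, 3), (68, 2), (115, 7), (102, 6), (90, 5), (79, 4), (69, 3), (118, 8), (105, 7), (12, 6), (119, 7), (13,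 6), (114, 6), (78, 5), (68, 4), (59, 3), (8, 2), (116, 3), (117, 4), (14, 5), (115, 6), (102, 5), (79, 4), (69, 3), (9, 2), (116, 2), (117, 3), (119, 4), (14, 5), (13, 4), (118, 4), (14, 5), (114, 6), (101, 5), (89, 4), (78, 3), (68, 2), (116, 7), (103, 6), (91, 5), (80, 4), (10, 3), (118, 6), (105, 5), (12, 4), (110, 5), (97, 4), (74, 3), (47, 2), (40, 1), (113, 6), (100, 5), (77, 4), (50, 3), (7, 2), (114, 3), (101, 2), (118, 4), (105, 3), (14, 5), (104, 4), (92, 3), (13, 5), (114, 5), (89, 4), (78, 3), (8, 2), (115, 4), (90, 3), (79, 2), (117, 5), (92, 4), (11, 3), (115, 4), (90, 3), (9, 2), (118, 2), (14, 3), (91, 2), (92, 3), (91, 4), (80, 3), (10, 2), (82, 3), (71, 2), (22, 1), (1, 0), (97, 3), (64, 2), (47, 1), (34, 0), (101, 3), (89, 2), (103, 4), (91, 3), (105, 5), (12, 4), (119, 5), (13, 4), (112, 4), (66, 3), (49, 2), (6, 1), (89, 1), (12, 2), (115, 3),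 (69, 2), (116, 4), (10, 3), (118, 3), (117, 4), (92, 3), (118, 5), (12, 4), (110, 4), (74, 3), (55, 2), (47, 1), (4, 0), (117, 3), (104, 2), (14, 4), (102, 3), (79, 2), (9, 1), (117, 1), (119, 2), (116, 3), (103, 2), (80, 1)], [(117, 3), (92, 2), (118, 4), (12, 3), (119, 3)]⟩,
    ⟨2, [5, 5], [11], [(6, 0)], [], [(97, 6), (85, 5), (64, 4), (55, 3), (47, 2), (40, 1), (4, 0), (116, 4), (103, 3), (118, 5), (105, 4), (14, 6), (105, 5), (12, 4), (13, 4), (67, 3), (58, 2), (50, 1), (7, 0), (114, 1), (101, 0), (118, 2), (105, 1), (14, 3), (102, 2), (90, 1), (105, 3), (12, 2), (116, 3), (103, 2), (14, 4), (101, 3), (68, 2), (59, 1), (8, 0), (116, 1), (119, 2), (115, 3), (102, 2), (69, 1), (9, 0), (116, 0), (119, 1), (14, 2), (103, 1), (10, 0), (105, 0), (13, 1)], []⟩,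
    ⟨3, [0, 0], [], [(37, 2), (22, 1), (1, 0), (97, 3), (64, 2), (47, 1), (34, 0), (101, 3), (89, 2), (103, 4), (91, 3), (105, 5), (12, 4), (119, 5), (13, 4), (112, 4), (66, 3), (49, 2), (6, 1), (89, 1), (12, 2), (115, 3), (69, 2), (116, 4), (10, 3), (118, 3), (113, 4), (88, 3), (58, 2), (50, 1), (115, 4), (90, 3), (118, 5), (12, 4), (14, 4), (114, 5), (89, 4), (59, 3), (8, 2), (118, 3), (14, 4), (90, 3), (9, 2), (118, 2), (118, 3), (12, 2), (119, 2), (110, 3), (97, 2), (40, 1), (4, 0), (113, 2), (100, 1), (7, 0), (119, 1), (13, 0), (14, 0)], [], [(108, 8), (95, 7), (72, 6), (62, 5), (45, 4), (38, 3), (27, 2), (23, 1), (2, 0), (110, 4), (64, 3), (47, 2), (40, 1), (34, 0), (100, 3), (88, 2), (101, 4), (89, 3), (103, 5), (91, 4), (105, 6), (12, 5), (14, 6), (99, 5), (66, 4), (49, 3), (42, 2), (6, 1), (88, 1), (12, 2), (114, 3), (101, 2), (118, 4), (105, 3), (116,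 5), (103, 4), (91, 3), (119, 6), (13, 5), (113, 5), (88, 4), (67, 3), (50, 2), (7, 1), (114, 2), (101, 1), (118, 3), (105, 2), (14, 4), (103, 3), (91, 2), (118, 5), (105, 4), (12, 3), (14, 4), (102, 3), (69, 2), (103, 4), (10, 3), (105, 3), (13, 4), (111, 4), (86, 3), (56, 2), (48, 1), (115, 4), (102, 3), (119, 5), (13, 4), (14, 4), (14, 5), (87, 4), (57, 3), (49, 2), (90, 4), (12, 5), (118, 5), (113, 6), (88, 5), (58, 4), (50, 3), (115, 6), (90, 5), (118, 7), (12, 6), (14, 6), (114, 7), (89, 6), (59, 5), (8, 4), (118, 5), (14, 6), (12, 5), (100, 5), (58, 4), (7, 3), (115, 4), (102, 3), (118, 5), (105, 4), (14, 6), (13, 5), (89, 4), (59, 3), (118, 5), (115, 6), (90, 5), (9, 4), (118, 4), (14, 5), (12, 4), (114, 5), (101, 4), (8, 3), (118, 4), (105, 3), (116, 5), (103, 4), (91, 3), (118, 6), (105, 5), (12, 4), (119, 5), (13, 4), (14, 4), (13, 5), (110, 5), (74, 4),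 (64, 3), (34, 2), (29, 1), (4, 0), (99, 6), (76, 5), (66, 4), (57, 3), (42, 2), (6, 1), (88, 1), (12, 2), (115, 3), (102, 2), (118, 4), (105, 3), (14, 5), (103, 4), (91, 3), (104, 5), (92, 4), (13, 6), (12, 5), (103, 5), (80, 4), (10, 3), (105, 4), (117, 6), (104, 5), (92, 4), (11, 3), (14, 5), (98, 4), (86, 3), (56, 2), (41, 1), (5, 0), (100, 3), (88, 2), (77, 1), (67, 0), (117, 2), (118, 3), (119, 4), (114, 5), (101, 4), (89, 3), (78, 2), (68, 1), (115, 6), (102, 5), (90, 4), (79, 3), (69, 2), (118, 7), (105, 6), (12, 5), (119, 6), (13, 5), (115, 5), (79, 4), (69, 3), (9, 2), (116, 2), (117, 3), (14, 4), (118, 5), (105, 4), (14, 6), (13, 5), (88, 4), (77, 3), (67, 2), (50, 1), (7, 0), (114, 1), (101, 0), (118, 2), (105, 1), (14, 3), (103, 2), (91, 1), (117, 4), (104, 3), (92, 2), (118, 5), (105, 4), (12, 3), (114, 4), (101, 3), (78, 2), (68, 1), (8, 0), (116,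 3), (103, 2), (80, 1), (10, 0), (117, 2), (104, 1), (11, 0), (119, 1), (13, 0), (14, 0)], []⟩,
    ⟨3, [2, 0], [0, 2], [(52, 1), (31, 0), (90, 4), (79, 3), (69, 2), (91, 5), (80, 4), (10, 3), (92, 4), (11, 3), (110, 5), (97, 4), (85, 3), (55, 2), (34, 1), (102, 4), (90, 3), (13, 5), (118, 5), (12, 4), (119, 4), (14, 5), (100, 4), (58, 3), (119, 6)], [(42, 2), (115, 6), (102, 5), (90, 4)], [(95, 4), (83, 3), (62, 2), (53, 1), (45, 0), (90, 2), (12, 3), (103, 3), (105, 4), (13, 5), (118, 5), (12, 4), (14, 4), (97, 4), (64, 3), (55, 2), (47, 1), (116, 5), (103, 4), (118, 6), (105, 5), (14, 7), (13, 6), (86, 5), (65, 4), (56, 3), (48, 2), (115, 5), (102, 4), (119, 6), (13, 5), (14, 5), (118, 7), (105, 6), (14, 8), (100, 7), (88, 6), (67, 5), (58, 4), (50, 3), (115, 6), (90, 5), (118, 7), (12, 6), (14, 6), (118, 7), (119, 8), (114, 9), (101, 8), (89, 7), (68, 6), (59,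 5), (8, 4), (116, 5), (118, 6), (119, 7), (14, 8), (103, 7), (91, 6), (10, 5), (104, 6), (92, 5), (13, 7)], [(114, 8), (101, 7), (78, 6), (68, 5), (8, 4), (115, 7), (102, 6), (79, 5), (69, 4), (116, 8), (103, 7), (80, 6), (10, 5), (118, 7), (105, 6), (119, 8), (13, 7)]⟩,
    ⟨3, [4, 0], [0, 4], [(61, 0), (85, 2), (64, 1), (118, 4), (12, 3), (113, 3), (67, 2), (14, 4)], [], [(108, 6), (62, 5), (53, 4), (38, 3), (32, 2), (23, 1), (112, 9), (99, 8), (87, 7), (66, 6), (57, 5), (42, 4), (6, 3), (88, 3), (12, 4), (115, 5), (102, 4), (118, 6), (105, 5), (14, 7), (103, 6), (91, 5), (105, 7), (12, 6), (13, 6), (114, 6), (68, 5), (59, 4), (116, 6), (14, 7), (69, 6), (9, 5), (116, 5), (118, 6), (113, 7), (88, 6), (67, 5), (50, 4), (7, 3), (114, 4), (101, 3), (118, 5), (105, 4), (14, 6), (103, 5), (91, 4), (118, 7), (105, 6), (12, 5), (14, 6), (101, 5), (68, 4), (8, 3), (102,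 4), (69, 3), (105, 5), (13, 6), (115, 6), (90, 5), (69, 4), (9, 3), (116, 3), (118, 4), (14, 5), (12, 4), (103, 4), (10, 3), (105, 3), (13, 4), (14, 4), (85, 3), (4, 2), (86, 2), (113, 4), (88, 3), (114, 5), (89, 4), (116, 6), (91, 5), (117, 7), (92, 6), (119, 8), (14, 9)], [(107, 8), (94, 7), (71, 6), (61, 5), (44, 4), (37, 3), (26, 2), (22, 1), (17, 0), (110, 5), (55, 4), (47, 3), (40, 2), (14, 7), (99, 6), (57, 5), (49, 4), (42, 3), (114, 7), (101, 6), (89, 5), (118, 8), (105, 7), (12, 6), (115, 7), (102, 6), (118, 8), (105, 7), (14, 9), (13, 8), (90, 7), (9, 6), (118, 6), (116, 7), (91, 6), (118, 8), (12, 7), (111, 7), (65, 6), (48, 5), (41, 4), (35, 3), (113, 7), (58, 6), (50, 5), (115, 8), (90, 7), (118, 9), (12, 8), (14, 8), (114, 8), (59, 7), (8, 6), (14, 7), (9, 6), (118, 6), (119, 7), (114, 8), (101, 7), (89, 6), (119, 9), (13, 8), (14, 8), (91, 7), (14,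 10), (99, 9), (87, 8), (66, 7), (49, 6), (42, 5), (6, 4), (88, 4), (12, 5), (114, 6), (101, 5), (118, 7), (105, 6), (116, 8), (103, 7), (91, 6), (118, 9), (105, 8), (12, 7), (119, 8), (13, 7), (113, 7), (67, 6), (50, 5), (7, 4), (114, 5), (101, 4), (118, 6), (105, 5), (14, 7), (103, 6), (91, 5), (14, 8), (102, 7), (90, 6), (69, 5), (105, 8), (12, 7), (100, 7), (67, 6), (58, 5), (50, 4), (115, 7), (90, 6), (118, 8), (12, 7), (14, 7), (119, 8), (114, 9), (101, 8), (68, 7), (59, 6), (8, 5), (116, 6), (119, 7), (14, 8), (102, 7), (69, 6), (9, 5), (116, 5), (119, 6), (118, 7), (105, 6), (119, 8), (13, 7), (114, 7), (89, 6), (68, 5), (116, 8), (91, 7), (10, 6), (117, 7), (92, 6), (116, 8), (91, 7), (80, 6), (118, 9), (12, 8), (117, 8), (11, 7), (119, 7), (14, 8), (97, 7), (64, 6), (47, 5), (40, 4), (29, 3), (4, 2), (100, 8), (77, 7), (67, 6), (58, 5), (7, 4), (115, 5),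 (102, 4), (118, 6), (105, 5), (14, 7), (103, 6), (91, 5), (117, 8), (104, 7), (92, 6), (119, 9), (13, 8), (114, 8), (89, 7), (78, 6), (68, 5), (59, 4), (116, 6), (117, 7), (118, 8), (14, 9), (91, 8), (80, 7), (10, 6), (12, 7), (119, 7), (112, 8), (99, 7), (76, 6), (57, 5), (49, 4), (6, 3), (89, 3), (12, 4), (117, 6), (92, 5), (119, 7), (14, 8), (100, 7), (88, 6), (77, 5), (58, 4), (50, 3), (115, 6), (90, 5), (118, 7), (12, 6), (14, 6), (102, 8), (90, 7), (79, 6), (9, 5), (117, 5), (118, 6), (119, 7), (116, 8), (103, 7), (91, 6), (80, 5), (14, 9)]⟩,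
    ⟨3, [2, 2], [], [(57, 1), (6, 0), (90, 0), (12, 1), (115, 1), (9, 0), (14, 0)], [], [(101, 4), (89, 3), (68, 2), (59, 1), (8, 0), (116, 1), (118, 2), (119, 3), (115, 4), (102, 3), (90, 2), (69, 1), (9, 0), (116, 0), (118, 1), (119, 2), (14, 3), (103, 2), (91, 1), (10, 0), (105, 1), (12, 0), (13, 0)], []⟩]

/-- Part of the certificate. -/
def fusesPart4 : List Spor.SchurCert.Fuse := [
    ⟨3, [3, 3], [], [(59, 1), (8, 0), (115, 1), (9, 0), (14, 0)], [], [(95, 8), (83, 7), (72, 6), (62, 5), (38, 4), (32, 3), (27, 2), (23, 1), (2, 0), (110, 4), (64, 3), (47, 2), (40, 1), (34, 0), (100, 3), (88, 2), (101, 4), (89, 3), (103, 5), (91, 4), (105, 6), (12, 5), (14, 6), (99, 5), (66, 4), (49, 3), (42, 2), (6, 1), (88, 1), (12, 2), (114, 3), (101, 2), (118, 4), (105, 3), (116, 5), (103, 4), (91, 3), (119, 6), (13, 5), (113, 5), (88, 4), (67, 3), (50, 2), (7, 1), (114,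 2), (101, 1), (118, 3), (105, 2), (14, 4), (103, 3), (91, 2), (118, 5), (105, 4), (12, 3), (14, 4), (102, 3), (69, 2), (103, 4), (10, 3), (105, 3), (13, 4), (111, 4), (86, 3), (56, 2), (48, 1), (115, 4), (102, 3), (119, 5), (13, 4), (14, 4), (14, 5), (87, 4), (57, 3), (49, 2), (90, 4), (12, 5), (118, 5), (113, 6), (88, 5), (58, 4), (50, 3), (115, 6), (90, 5), (118, 7), (12, 6), (14, 6), (114, 7), (89, 6), (59, 5), (8, 4), (118, 5), (14, 6), (12, 5), (99, 5), (57, 4), (42, 3), (6, 2), (88, 2), (12, 3), (115, 4), (102, 3), (118, 5), (105, 4), (14, 6), (13, 5), (89, 4), (59, 3), (118, 5), (115, 6), (90, 5), (9, 4), (118, 4), (14, 5), (12, 4), (50, 3), (7, 2), (114, 3), (101, 2), (118, 4), (105, 3), (14, 5), (101, 4), (89, 3), (8, 2), (102, 3), (90, 2), (105, 4), (12, 3), (13, 3), (116, 3), (118, 4), (119, 5), (14, 6), (104, 5), (92, 4), (13, 6), (12, 5), (119, 5),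 (110, 6), (97, 5), (74, 4), (64, 3), (55, 2), (29, 1), (4, 0), (102, 6), (79, 5), (69, 4), (9, 3), (116, 3), (117, 4), (119, 5), (119, 6), (13, 5), (14, 5), (80, 4), (10, 3), (117, 5), (92, 4), (11, 3), (119, 4), (14, 5), (98, 4), (86, 3), (41, 2), (35, 1), (5, 0), (99, 3), (87, 2), (76, 1), (66, 0), (101, 4), (89, 3), (78, 2), (68, 1), (102, 5), (90, 4), (79, 3), (69, 2), (113, 7), (100, 6), (88, 5), (77, 4), (67, 3), (58, 2), (50, 1), (115, 4), (90, 3), (118, 5), (12, 4), (14, 4), (117, 5), (118, 6), (119, 7), (14, 8), (101, 7), (89, 6), (78, 5), (68, 4), (59, 3), (8, 2), (116, 3), (117, 4), (118, 5), (119, 6), (115, 7), (102, 6), (90, 5), (79, 4), (69, 3), (9, 2), (116, 2), (117, 3), (118, 4), (119, 5), (14, 6), (105, 5), (12, 4), (13, 4), (119, 5), (112, 6), (99, 5), (87, 4), (76, 3), (66, 2), (42, 1), (6, 0), (88, 0), (12, 1), (116, 2), (103, 1), (117, 3),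 (104, 2), (118, 4), (105, 3), (119, 5), (13, 4), (14, 4), (88, 3), (77, 2), (67, 1), (7, 0), (116, 1), (103, 0), (14, 2), (104, 1), (105, 2), (103, 3), (91, 2), (80, 1), (10, 0), (104, 2), (92, 1), (11, 0), (105, 1), (12, 0), (13, 0)], []⟩,
    ⟨3, [4, 4], [], [(10, 0)], [], [(107, 6), (61, 5), (52, 4), (37, 3), (31, 2), (22, 1), (1, 0), (97, 3), (64, 2), (47, 1), (34, 0), (101, 3), (89, 2), (103, 4), (91, 3), (105, 5), (12, 4), (119, 5), (13, 4), (112, 4), (66, 3), (49, 2), (6, 1), (89, 1), (12, 2), (115, 3), (69, 2), (116, 4), (10, 3), (118, 3), (112, 4), (87, 3), (57, 2), (49, 1), (90, 3), (12, 4), (118, 4), (14, 5), (91, 4), (92, 5), (12, 6), (77, 5), (67, 4), (58, 3), (50, 2), (115, 5), (90, 4), (118, 6), (12, 5), (14, 5), (117, 6), (114, 7), (78, 6), (68, 5), (59, 4), (8, 3), (116, 4), (117, 5), (14, 6), (79, 5), (69, 4), (9, 3), (116, 3), (117, 4), (118,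 5), (119, 6), (115, 7), (102, 6), (90, 5), (79, 4), (69, 3), (116, 8), (103, 7), (91, 6), (80, 5), (10, 4), (117, 7), (104, 6), (92, 5), (11, 4), (119, 6), (13, 5), (14, 5), (91, 4), (12, 5), (110, 5), (64, 4), (55, 3), (40, 2), (34, 1), (4, 0), (100, 2), (88, 1), (102, 3), (90, 2), (13, 4), (116, 4), (91, 3), (118, 5), (12, 4), (14, 4), (112, 4), (66, 3), (57, 2), (42, 1), (6, 0), (88, 0), (12, 1), (115, 2), (102, 1), (118, 3), (105, 2), (14, 4), (103, 3), (91, 2), (113, 5), (100, 4), (88, 3), (67, 2), (58, 1), (7, 0), (115, 1), (102, 0), (118, 2), (105, 1), (14, 3), (103, 2), (91, 1), (118, 4), (105, 3), (12, 2), (119, 3), (13, 2), (14, 2), (69, 1), (9, 0), (116, 0), (116, 1), (10, 0), (14, 0)], []⟩,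
    ⟨3, [5, 5], [], [(11, 0)], [], [(107, 8), (94, 7), (52, 6), (44, 5), (37, 4), (31, 3), (26, 2), (17, 1), (1, 0), (95, 3), (62, 2), (45, 1), (32, 0), (89, 4), (59, 3), (8, 2), (118, 3), (118, 4), (12, 3), (116, 3), (118, 4), (119, 5), (14, 6), (13, 5), (88, 4), (67, 3), (58, 2), (116, 5), (91, 4), (14, 6), (12, 5), (68, 4), (59, 3), (116, 5), (115, 6), (69, 5), (9, 4), (116, 4), (14, 5), (111, 5), (65, 4), (48, 3), (41, 2), (35, 1), (113, 5), (58, 4), (50, 3), (115, 6), (90, 5), (118, 7), (12, 6), (14, 6), (114, 6), (59, 5), (8, 4), (14, 5), (9, 4), (118, 4), (119, 5), (114, 6), (101, 5), (89, 4), (119, 7), (13, 6), (14, 6), (91, 5), (14, 8), (99, 7), (87, 6), (66, 5), (49, 4), (42, 3), (6, 2), (88, 2), (12, 3), (114, 4), (101, 3), (118, 5), (105, 4), (116, 6), (103, 5), (91, 4), (118, 7), (105, 6), (12, 5), (119, 6), (13, 5), (113, 5), (67, 4), (50, 3), (7,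 2), (114, 3), (101, 2), (118, 4), (105, 3), (14, 5), (103, 4), (91, 3), (14, 6), (102, 5), (90, 4), (69, 3), (105, 6), (12, 5), (99, 5), (66, 4), (57, 3), (49, 2), (90, 4), (12, 5), (116, 5), (119, 6), (116, 7), (103, 6), (10, 5), (117, 6), (104, 5), (118, 7), (105, 6), (113, 8), (100, 7), (88, 6), (77, 5), (58, 4), (50, 3), (115, 6), (90, 5), (118, 7), (12, 6), (14, 6), (114, 9), (101, 8), (89, 7), (78, 6), (59, 5), (8, 4), (117, 5), (118, 6), (119, 7), (14, 8), (102, 7), (90, 6), (79, 5), (9, 4), (117, 4), (118, 5), (119, 6), (118, 7), (105, 6), (12, 5), (119, 6), (13, 5), (114, 5), (78, 4), (116, 6), (80, 5), (117, 7), (11, 6), (115, 6), (69, 5), (116, 7), (10, 6), (117, 6), (119, 7), (14, 8), (13, 7), (108, 7), (72, 6), (53, 5), (45, 4), (38, 3), (32, 2), (27, 1), (2, 0), (111, 4), (65, 3), (48, 2), (41, 1), (35, 0), (113, 4), (58, 3), (50, 2), (115, 5), (90,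 4), (118, 6), (12, 5), (14, 5), (114, 5), (59, 4), (8, 3), (14, 4), (9, 3), (118, 3), (119, 4), (114, 5), (101, 4), (89, 3), (119, 6), (13, 5), (14, 5), (91, 4), (14, 7), (99, 6), (87, 5), (66, 4), (49, 3), (42, 2), (6, 1), (88, 1), (12, 2), (114, 3), (101, 2), (118, 4), (105, 3), (116, 5), (103, 4), (91, 3), (118, 6), (105, 5), (12, 4), (119, 5), (13, 4), (113, 4), (67, 3), (50, 2), (7, 1), (114, 2), (101, 1), (118, 3), (105, 2), (14, 4), (103, 3), (91, 2), (14, 5), (101, 4), (89, 3), (68, 2), (8, 1), (105, 3), (12, 2), (13, 2), (66, 1), (68, 2), (69, 3), (88, 5), (67, 4), (58, 3), (50, 2), (115, 5), (90, 4), (118, 6), (12, 5), (14, 5), (118, 6), (114, 7), (89, 6), (68, 5), (59, 4), (8, 3), (116, 4), (118, 5), (14, 6), (90, 5), (69, 4), (9, 3), (116, 3), (118, 4), (118, 5), (12, 4), (119, 4), (14, 5), (101, 4), (68, 3), (105, 5), (102, 6), (90, 5), (69, 4), (105,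 7), (12, 6), (13, 6), (111, 8), (98, 7), (75, 6), (65, 5), (56, 4), (48, 3), (41, 2), (35, 1), (5, 0), (99, 3), (87, 2), (76, 1), (66, 0), (101, 4), (89, 3), (78, 2), (68, 1), (102, 5), (90, 4), (79, 3), (69, 2), (113, 7), (100, 6), (88, 5), (77, 4), (67, 3), (58, 2), (50, 1), (115, 4), (90, 3), (118, 5), (12, 4), (14, 4), (117, 5), (118, 6), (119, 7), (14, 8), (101, 7), (89, 6), (78, 5), (68, 4), (59, 3), (8, 2), (116, 3), (117, 4), (118, 5), (119, 6), (115, 7), (102, 6), (90, 5), (79, 4), (69, 3), (9, 2), (116, 2), (117, 3), (118, 4), (119, 5), (14, 6), (105, 5), (12, 4), (13, 4), (78, 3), (68, 2), (115, 6), (102, 5), (79, 4), (69, 3), (119, 7), (13, 6), (14, 6), (80, 5), (10, 4), (117, 6), (104, 5), (11, 4), (119, 5), (13, 4), (119, 4), (14, 5), (99, 4), (57, 3), (49, 2), (42, 1), (6, 0), (88, 0), (12, 1), (114, 2), (101, 1), (118, 3), (105, 2), (115, 4), (102,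 3), (90, 2), (118, 5), (105, 4), (12, 3), (14, 4), (13, 3), (58, 2), (50, 1), (7, 0), (114, 1), (101, 0), (118, 2), (105, 1), (14, 3), (102, 2), (90, 1), (105, 3), (12, 2), (114, 3), (101, 2), (59, 1), (8, 0), (119, 1), (14, 2), (102, 1), (9, 0), (119, 0), (119, 1), (13, 0), (14, 0)], []⟩,
    ⟨3, [7, 7], [], [(13, 0)], [], [(107, 8), (94, 7), (71, 6), (61, 5), (44, 4), (37, 3), (31, 2), (22, 1), (1, 0), (97, 3), (64, 2), (47, 1), (34, 0), (101, 3), (89, 2), (103, 4), (91, 3), (105, 5), (12, 4), (119, 5), (13, 4), (112, 4), (66, 3), (49, 2), (6, 1), (89, 1), (12, 2), (115, 3), (69, 2), (116, 4), (10, 3), (118, 3), (112, 4), (87, 3), (57, 2), (49, 1), (90, 3), (12, 4), (118, 4), (14, 5), (91, 4), (92, 5), (12, 6), (77, 5), (67, 4), (58, 3), (50, 2), (115, 5), (90, 4), (118, 6), (12, 5), (14, 5), (117, 6), (114, 7), (78, 6), (68, 5), (59, 4), (8, 3), (116, 4), (117,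 5), (14, 6), (79, 5), (69, 4), (9, 3), (116, 3), (117, 4), (118, 5), (119, 6), (114, 7), (101, 6), (89, 5), (78, 4), (68, 3), (116, 8), (103, 7), (91, 6), (80, 5), (10, 4), (117, 7), (104, 6), (92, 5), (11, 4), (116, 6), (103, 5), (91, 4), (118, 7), (105, 6), (12, 5), (117, 6), (104, 5), (119, 7), (13, 6), (14, 6), (74, 5), (64, 4), (47, 3), (40, 2), (34, 1), (4, 0), (100, 2), (88, 1), (101, 3), (89, 2), (103, 4), (91, 3), (105, 5), (12, 4), (117, 5), (104, 4), (112, 6), (99, 5), (76, 4), (66, 3), (49, 2), (42, 1), (6, 0), (88, 0), (12, 1), (114, 2), (101, 1), (118, 3), (105, 2), (116, 4), (103, 3), (91, 2), (117, 5), (104, 4), (92, 3), (119, 6), (13, 5), (14, 5), (88, 4), (77, 3), (67, 2), (50, 1), (7, 0), (114, 1), (101, 0), (118, 2), (105, 1), (14, 3), (103, 2), (91, 1), (117, 4), (104, 3), (92, 2), (118, 5), (105, 4), (12, 3), (114, 4), (101, 3), (78, 2), (68,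 1), (8, 0), (116, 3), (103, 2), (80, 1), (10, 0), (117, 2), (104, 1), (11, 0), (119, 1), (13, 0), (14, 0)], []⟩,
    ⟨3, [8, 8], [], [(14, 0)], [], [(94, 8), (71, 7), (52, 6), (44, 5), (37, 4), (31, 3), (26, 2), (17, 1), (1, 0), (95, 3), (62, 2), (45, 1), (32, 0), (89, 4), (59, 3), (8, 2), (118, 3), (118, 4), (12, 3), (116, 3), (118, 4), (119, 5), (14, 6), (13, 5), (88, 4), (67, 3), (58, 2), (116, 5), (91, 4), (14, 6), (12, 5), (68, 4), (59, 3), (116, 5), (115, 6), (69, 5), (9, 4), (116, 4), (14, 5), (111, 5), (65, 4), (48, 3), (41, 2), (35, 1), (113, 5), (58, 4), (50, 3), (115, 6), (90, 5), (118, 7), (12, 6), (14, 6), (114, 6), (59, 5), (8, 4), (14, 5), (9, 4), (118, 4), (119, 5), (114, 6), (101, 5), (89, 4), (119, 7), (13, 6), (14, 6), (91, 5), (14, 8), (99, 7), (87, 6), (66, 5), (49, 4), (42, 3), (6, 2), (88, 2), (12, 3), (114, 4), (101, 3), (118, 5), (105, 4),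 (116, 6), (103, 5), (91, 4), (118, 7), (105, 6), (12, 5), (119, 6), (13, 5), (113, 5), (67, 4), (50, 3), (7, 2), (114, 3), (101, 2), (118, 4), (105, 3), (14, 5), (103, 4), (91, 3), (14, 6), (102, 5), (90, 4), (69, 3), (105, 6), (12, 5), (99, 5), (66, 4), (57, 3), (49, 2), (90, 4), (12, 5), (116, 5), (119, 6), (116, 7), (103, 6), (10, 5), (117, 6), (104, 5), (118, 7), (105, 6), (113, 8), (100, 7), (88, 6), (77, 5), (58, 4), (50, 3), (115, 6), (90, 5), (118, 7), (12, 6), (14, 6), (114, 9), (101, 8), (89, 7), (78, 6), (59, 5), (8, 4), (117, 5), (118, 6), (119, 7), (14, 8), (102, 7), (90, 6), (79, 5), (9, 4), (117, 4), (118, 5), (119, 6), (118, 7), (105, 6), (12, 5), (119, 6), (13, 5), (114, 5), (78, 4), (116, 6), (80, 5), (117, 7), (11, 6), (115, 6), (69, 5), (116, 7), (10, 6), (117, 6), (119, 7), (14, 8), (104, 7), (11, 6), (13, 6), (53, 5), (45, 4), (38, 3), (32,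 2), (27, 1), (2, 0), (111, 4), (65, 3), (48, 2), (41, 1), (35, 0), (113, 4), (58, 3), (50, 2), (115, 5), (90, 4), (118, 6), (12, 5), (14, 5), (114, 5), (59, 4), (8, 3), (14, 4), (9, 3), (118, 3), (119, 4), (114, 5), (101, 4), (89, 3), (119, 6), (13, 5), (14, 5), (91, 4), (14, 7), (99, 6), (87, 5), (66, 4), (49, 3), (42, 2), (6, 1), (88, 1), (12, 2), (114, 3), (101, 2), (118, 4), (105, 3), (116, 5), (103, 4), (91, 3), (118, 6), (105, 5), (12, 4), (119, 5), (13, 4), (113, 4), (67, 3), (50, 2), (7, 1), (114, 2), (101, 1), (118, 3), (105, 2), (14, 4), (103, 3), (91, 2), (14, 5), (101, 4), (89, 3), (68, 2), (8, 1), (105, 3), (12, 2), (13, 2), (66, 1), (68, 2), (69, 3), (88, 5), (67, 4), (58, 3), (50, 2), (115, 5), (90, 4), (118, 6), (12, 5), (14, 5), (118, 6), (114, 7), (89, 6), (68, 5), (59, 4), (8, 3), (116, 4), (118, 5), (14, 6), (90, 5), (69, 4), (9, 3), (116, 3),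 (118, 4), (118, 5), (12, 4), (119, 4), (14, 5), (101, 4), (68, 3), (105, 5), (102, 6), (90, 5), (69, 4), (105, 7), (12, 6), (13, 6), (65, 5), (56, 4), (48, 3), (41, 2), (35, 1), (5, 0), (99, 3), (87, 2), (76, 1), (66, 0), (101, 4), (89, 3), (78, 2), (68, 1), (102, 5), (90, 4), (79, 3), (69, 2), (113, 7), (100, 6), (88, 5), (77, 4), (67, 3), (58, 2), (50, 1), (115, 4), (90, 3), (118, 5), (12, 4), (14, 4), (117, 5), (118, 6), (119, 7), (14, 8), (101, 7), (89, 6), (78, 5), (68, 4), (59, 3), (8, 2), (116, 3), (117, 4), (118, 5), (119, 6), (115, 7), (102, 6), (90, 5), (79, 4), (69, 3), (9, 2), (116, 2), (117, 3), (118, 4), (119, 5), (14, 6), (105, 5), (12, 4), (13, 4), (78, 3), (68, 2), (115, 6), (102, 5), (79, 4), (69, 3), (119, 7), (13, 6), (14, 6), (80, 5), (10, 4), (112, 6), (99, 5), (76, 4), (57, 3), (49, 2), (42, 1), (6, 0), (88, 0), (12, 1), (114, 2), (101, 1),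 (118, 3), (105, 2), (115, 4), (102, 3), (90, 2), (118, 5), (105, 4), (12, 3), (14, 4), (104, 3), (13, 4), (113, 4), (77, 3), (58, 2), (50, 1), (7, 0), (114, 1), (101, 0), (118, 2), (105, 1), (14, 3), (102, 2), (90, 1), (105, 3), (12, 2), (117, 3), (104, 2), (14, 4), (101, 3), (78, 2), (59, 1), (8, 0), (117, 1), (119, 2), (115, 3), (102, 2), (79, 1), (9, 0), (117, 0), (119, 1), (14, 2), (104, 1), (11, 0), (13, 0)], []⟩,
    ⟨4, [0, 0], [], [(94, 7), (82, 6), (44, 5), (37, 4), (31, 3), (26, 2), (22, 1), (1, 0), (97, 3), (64, 2), (47, 1), (34, 0), (101, 3), (89, 2), (103, 4), (91, 3), (105, 5), (12, 4), (119, 5), (13, 4), (112, 4), (66, 3), (49, 2), (6, 1), (89, 1), (12, 2), (115, 3), (69, 2), (116, 4), (10, 3), (118, 3), (111, 4), (86, 3), (56, 2), (48, 1), (115, 4), (102, 3), (119, 5), (13, 4), (14, 4), (14, 5), (87, 4), (57, 3), (49, 2), (90, 4), (12, 5), (118,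 5), (113, 6), (88, 5), (58, 4), (50, 3), (115, 6), (90, 5), (118, 7), (12, 6), (14, 6), (115, 7), (90, 6), (9, 5), (118, 5), (14, 6), (12, 5), (49, 4), (42, 3), (6, 2), (88, 2), (12, 3), (114, 4), (101, 3), (118, 5), (105, 4), (116, 6), (103, 5), (91, 4), (117, 7), (104, 6), (92, 5), (118, 8), (105, 7), (12, 6), (113, 7), (100, 6), (77, 5), (67, 4), (50, 3), (7, 2), (114, 3), (101, 2), (118, 4), (105, 3), (14, 5), (103, 4), (91, 3), (117, 6), (104, 5), (92, 4), (119, 7), (13, 6), (14, 6), (89, 5), (78, 4), (68, 3), (8, 2), (90, 4), (79, 3), (69, 2), (12, 5), (101, 5), (78, 4), (68, 3), (59, 2), (116, 4), (117, 5), (119, 6), (116, 7), (103, 6), (80, 5), (10, 4), (117, 6), (104, 5), (11, 4), (118, 5), (105, 4), (119, 6), (13, 5), (110, 5), (85, 4), (55, 3), (47, 2), (29, 1), (4, 0), (101, 6), (78, 5), (68, 4), (59, 3), (116, 5), (117, 6), (119, 7), (115, 8), (102,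 7), (79, 6), (69, 5), (9, 4), (116, 4), (117, 5), (119, 6), (14, 7), (13, 6), (118, 6), (14, 7), (86, 6), (75, 5), (65, 4), (48, 3), (41, 2), (35, 1), (5, 0), (99, 3), (87, 2), (76, 1), (66, 0), (101, 4), (89, 3), (78, 2), (68, 1), (102, 5), (90, 4), (79, 3), (69, 2), (113, 7), (100, 6), (88, 5), (77, 4), (67, 3), (58, 2), (50, 1), (115, 4), (90, 3), (118, 5), (12, 4), (14, 4), (117, 5), (118, 6), (119, 7), (14, 8), (101, 7), (89, 6), (78, 5), (68, 4), (59, 3), (8, 2), (116, 3), (117, 4), (118, 5), (119, 6), (115, 7), (102, 6), (90, 5), (79, 4), (69, 3), (9, 2), (116, 2), (117, 3), (118, 4), (119, 5), (14, 6), (105, 5), (12, 4), (13, 4), (78, 3), (68, 2), (116, 6), (103, 5), (80, 4), (10, 3), (119, 5), (13, 4), (14, 4), (11, 3), (105, 3), (112, 5), (99, 4), (87, 3), (49, 2), (42, 1), (6, 0), (88, 0), (12, 1), (114, 2), (101, 1), (118, 3), (105, 2), (118, 4), (105,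 3), (12, 2), (119, 3), (13, 2), (14, 2), (50, 1), (7, 0), (114, 1), (101, 0), (118, 2), (105, 1), (14, 3), (101, 2), (89, 1), (8, 0), (105, 1), (12, 0), (13, 0)], [], [(94, 8), (82, 7), (52, 6), (44, 5), (37, 4), (26, 3), (22, 2), (19, 1), (1, 0), (96, 3), (63, 2), (46, 1), (33, 0), (114, 5), (101, 4), (78, 3), (68, 2), (118, 6), (105, 5), (116, 7), (103, 6), (91, 5), (80, 4), (10, 3), (118, 6), (105, 5), (12, 4), (119, 5), (13, 4), (14, 4), (79, 3), (74, 4), (55, 3), (47, 2), (34, 1), (101, 4), (89, 3), (102, 5), (90, 4), (13, 6), (117, 6), (92, 5), (112, 7), (87, 6), (76, 5), (57, 4), (49, 3), (6, 2), (89, 2), (12, 3), (117, 5), (92, 4), (118, 6), (12, 5), (14, 5), (79, 4), (9, 3), (117, 3), (116, 4), (80, 3), (118, 5), (111, 6), (86, 5), (75, 4), (65, 3), (48, 2), (116, 5), (103, 4), (119, 6), (13, 5), (14, 5), (105, 6), (14, 8), (99, 7), (87, 6), (76, 5), (66,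 4), (49, 3), (91, 5), (92, 6), (12, 7), (100, 7), (77, 6), (67, 5), (50, 4), (116, 7), (91, 6), (14, 8), (92, 7), (102, 9), (90, 8), (79, 7), (69, 6), (105, 10), (12, 9), (100, 9), (77, 8), (67, 7), (58, 6), (50, 5), (7, 4), (114, 5), (101, 4), (118, 6), (105, 5), (14, 7), (102, 6), (90, 5), (105, 7), (12, 6), (116, 7), (103, 6), (14, 8), (104, 7), (13, 8), (78, 7), (68, 6), (59, 5), (8, 4), (116, 5), (117, 6), (115, 7), (79, 6), (69, 5), (9, 4), (116, 4), (117, 5), (14, 6), (101, 7), (89, 6), (78, 5), (68, 4), (103, 8), (91, 7), (80, 6), (10, 5), (104, 7), (92, 6), (11, 5), (102, 6), (90, 5), (103, 7), (91, 6), (104, 8), (92, 7), (13, 9), (118, 9), (12, 8), (119, 8), (109, 9), (96, 8), (73, 7), (63, 6), (54, 5), (46, 4), (33, 3), (28, 2), (24, 1), (3, 0), (110, 4), (97, 3), (85, 2), (74, 1), (64, 0), (117, 3), (92, 2), (118, 4), (12, 3), (119, 3), (14, 4), (101,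 3), (78, 2), (68, 1), (105, 4), (13, 5), (111, 5), (86, 4), (75, 3), (65, 2), (48, 1), (116, 4), (103, 3), (119, 5), (13, 4), (14, 4), (105, 5), (14, 7), (103, 6), (91, 5), (80, 4), (10, 3), (104, 5), (92, 4), (11, 3), (105, 4), (12, 3), (13, 3), (112, 3), (49, 2), (116, 5), (91, 4), (117, 6), (92, 5), (119, 7), (14, 8), (101, 7), (89, 6), (78, 5), (68, 4), (8, 3), (105, 6), (12, 5), (102, 5), (79, 4), (69, 3), (105, 6), (116, 8), (103, 7), (91, 6), (80, 5), (10, 4), (118, 7), (105, 6), (12, 5), (117, 6), (104, 5), (11, 4), (118, 5), (105, 4), (14, 6), (13, 5), (14, 5), (85, 4), (55, 3), (34, 2), (29, 1), (4, 0), (99, 6), (76, 5), (66, 4), (57, 3), (42, 2), (6, 1), (88, 1), (12, 2), (115, 3), (102, 2), (118, 4), (105, 3), (14, 5), (103, 4), (91, 3), (104, 5), (92, 4), (13, 6), (12, 5), (102, 5), (79, 4), (69, 3), (9, 2), (116, 2), (117, 3), (119, 4), (119, 5), (13,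 4), (14, 4), (86, 4), (75, 3), (65, 2), (41, 1), (5, 0), (100, 3), (88, 2), (77, 1), (67, 0), (117, 2), (118, 3), (119, 4), (114, 5), (101, 4), (89, 3), (78, 2), (68, 1), (115, 6), (102, 5), (90, 4), (79, 3), (69, 2), (118, 7), (105, 6), (12, 5), (119, 6), (13, 5), (116, 5), (80, 4), (10, 3), (119, 4), (14, 5), (104, 4), (11, 3), (13, 3), (113, 4), (88, 3), (58, 2), (50, 1), (7, 0), (114, 1), (101, 0), (118, 2), (105, 1), (14, 3), (102, 2), (90, 1), (105, 3), (12, 2), (118, 3), (105, 2), (14, 4), (101, 3), (89, 2), (59, 1), (8, 0), (118, 1), (119, 2), (115, 3), (102, 2), (90, 1), (9, 0), (118, 0), (119, 1), (14, 2), (105, 1), (12, 0), (13, 0)], []⟩,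
    ⟨4, [1, 0], [0, 1], [(107, 5), (94, 4), (52, 3), (37, 2), (22, 1), (17, 0), (110, 5), (55, 4), (47, 3), (40, 2), (14, 7), (99, 6), (57, 5), (49, 4), (42, 3), (114, 7), (101, 6), (89, 5), (118, 8), (105, 7), (12, 6), (115, 7), (102, 6), (118, 8), (105, 7), (14, 9), (13, 8), (90, 7), (9, 6), (118, 6), (116, 7), (91, 6), (118, 8), (12, 7), (113, 7), (67, 6), (50, 5), (7, 4), (114, 5), (101, 4), (118, 6), (105, 5), (14, 7), (103, 6), (91, 5), (14, 8), (101, 7), (89, 6), (68, 5), (8, 4), (102, 6), (90, 5), (69, 4), (105, 7), (12, 6), (13, 6), (69, 5), (9, 4), (116, 4), (116, 5), (10, 4), (117, 4), (119, 5), (14, 6), (13, 5), (110, 5), (74, 4), (34, 3), (4, 2), (104, 4), (92, 3), (111, 6), (98, 5), (86, 4), (75, 3), (35, 2), (117, 6), (119, 7), (118, 8), (105, 7), (14, 9), (13, 8), (112, 8), (87, 7), (76, 6), (57, 5), (49, 4), (6, 3), (89, 3), (12, 4), (117, 6), (92,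 5), (118, 7), (12, 6), (14, 6), (77, 5), (58, 4), (50, 3), (115, 6), (90, 5), (118, 7), (12, 6), (14, 6), (78, 6), (59, 5), (8, 4), (117, 5), (118, 6), (119, 7)], [(95, 7), (83, 6), (45, 5), (38, 4), (32, 3), (27, 2), (23, 1), (111, 9), (98, 8), (86, 7), (65, 6), (56, 5), (41, 4), (35, 3), (113, 7), (58, 6), (50, 5), (115, 8), (90, 7), (118, 9), (12, 8), (14, 8), (114, 8), (59, 7), (8, 6), (14, 7), (9, 6), (118, 6), (119, 7), (115, 8), (102, 7), (90, 6), (119, 9), (13, 8), (14, 8), (91, 7), (118, 10), (105, 9), (12, 8), (14, 9), (13, 8), (112, 8), (66, 7), (57, 6), (42, 5), (6, 4), (88, 4), (12, 5), (115, 6), (102, 5), (118, 7), (105, 6), (14, 8), (103, 7), (91, 6), (113, 9), (100, 8), (88, 7), (67, 6), (58, 5), (7, 4), (115, 5), (102, 4), (118, 6), (105, 5), (14, 7), (103, 6), (91, 5), (118, 8), (105, 7), (12, 6), (119, 7), (13, 6), (14, 6), (68, 5), (59, 4), (116,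 6), (118, 7), (119, 8), (112, 9), (99, 8), (87, 7), (66, 6), (57, 5), (49, 4), (90, 6), (12, 7), (116, 7), (118, 8), (119, 9), (14, 10), (101, 9), (89, 8), (68, 7), (59, 6), (8, 5), (116, 6), (118, 7), (119, 8), (115, 9), (102, 8), (90, 7), (69, 6), (9, 5), (116, 5), (118, 6), (119, 7), (14, 8), (105, 7), (12, 6), (100, 6), (67, 5), (119, 7), (114, 8), (101, 7), (68, 6), (115, 9), (102, 8), (69, 7), (118, 10), (105, 9), (119, 11), (13, 10), (14, 10), (89, 9), (68, 8), (59, 7), (8, 6), (116, 7), (118, 8), (118, 9), (12, 8), (118, 8), (14, 9), (97, 9), (85, 8), (64, 7), (55, 6), (40, 5), (34, 4), (29, 3), (4, 2), (99, 8), (76, 7), (66, 6), (57, 5), (42, 4), (6, 3), (88, 3), (12, 4), (115, 5), (102, 4), (118, 6), (105, 5), (14, 7), (103, 6), (91, 5), (104, 7), (92, 6), (13, 8), (12, 7), (100, 7), (77, 6), (67, 5), (58, 4), (7, 3), (115, 4), (102, 3), (118, 5), (105,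 4), (14, 6), (103, 5), (91, 4), (117, 7), (104, 6), (92, 5), (119, 8), (13, 7), (115, 7), (90, 6), (79, 5), (69, 4), (9, 3), (116, 3), (117, 4), (118, 5), (14, 6), (116, 7), (103, 6), (91, 5), (80, 4), (10, 3), (118, 6), (105, 5), (12, 4), (14, 5), (105, 4), (13, 5), (88, 4), (77, 3), (90, 5), (79, 4)], [(107, 6), (82, 5), (37, 4), (31, 3), (22, 2), (19, 1), (17, 0), (109, 5), (54, 4), (46, 3), (39, 2), (114, 6), (78, 5), (68, 4), (118, 7), (115, 8), (90, 7), (79, 6), (69, 5), (118, 9), (12, 8), (14, 8), (115, 8), (79, 7), (69, 6), (9, 5), (116, 5), (117, 6), (14, 7), (74, 6), (64, 5), (47, 4), (40, 3), (117, 8), (92, 7), (112, 9), (87, 8), (76, 7), (66, 6), (49, 5), (42, 4), (114, 8), (101, 7), (89, 6), (118, 9), (105, 8), (12, 7), (116, 8), (103, 7), (117, 9), (104, 8), (118, 10), (105, 9), (14, 11), (102, 10), (90, 9), (79, 8), (69, 7), (103, 11), (91, 10), (80,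 9), (10, 8), (105, 10), (12, 9), (99, 9), (76, 8), (57, 7), (49, 6), (42, 5), (6, 4), (88, 4), (12, 5), (114, 6), (101, 5), (118, 7), (105, 6), (115, 8), (102, 7), (90, 6), (118, 9), (105, 8), (12, 7), (14, 8), (104, 7), (13, 8), (80, 7), (11, 8), (88, 8), (67, 7), (58, 6), (50, 5), (7, 4), (114, 5), (101, 4), (118, 6), (105, 5), (14, 7), (102, 6), (90, 5), (105, 7), (12, 6), (116, 7), (103, 6), (14, 8), (105, 7), (101, 8), (89, 7), (68, 6), (59, 5), (8, 4), (116, 5), (118, 6), (119, 7), (115, 8), (102, 7), (90, 6), (69, 5), (9, 4), (116, 4), (118, 5), (119, 6), (14, 7), (105, 6), (12, 5), (13, 5), (109, 6), (84, 5), (63, 4), (24, 3), (3, 2), (110, 6), (97, 5), (85, 4), (74, 3), (64, 2), (117, 5), (92, 4), (118, 6), (12, 5), (119, 5), (14, 6), (101, 5), (78, 4), (68, 3), (105, 6), (13, 7), (116, 7), (91, 6), (80, 5), (10, 4), (118, 6), (12, 5), (118, 5), (14, 6),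 (85, 5), (74, 4), (47, 3), (4, 2), (86, 4), (75, 3), (48, 2), (117, 5), (104, 4), (119, 6), (13, 5), (118, 5), (14, 6), (88, 5), (77, 4), (50, 3), (117, 6), (92, 5), (118, 7), (12, 6), (114, 6), (78, 5), (8, 4), (115, 5), (79, 4), (118, 6), (119, 7)], [(95, 8), (83, 7), (53, 6), (45, 5), (38, 4), (27, 3), (23, 2), (20, 1), (110, 8), (97, 7), (85, 6), (74, 5), (64, 4), (55, 3), (116, 6), (103, 5), (118, 7), (105, 6), (14, 8), (104, 7), (92, 6), (105, 8), (12, 7), (13, 7), (112, 7), (76, 6), (66, 5), (57, 4), (116, 7), (91, 6), (117, 8), (92, 7), (14, 9), (88, 8), (77, 7), (67, 6), (58, 5), (116, 8), (91, 7), (14, 9), (92, 8), (12, 9), (79, 8), (69, 7), (9, 6), (116, 6), (117, 7), (116, 8), (80, 7), (10, 6), (118, 7), (119, 8), (14, 9), (98, 8), (86, 7), (75, 6), (41, 5), (35, 4), (113, 8), (58, 7), (50, 6), (115, 9), (90, 8), (118, 10), (12, 9), (14, 9), (114, 9),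 (59, 8), (8, 7), (14, 8), (9, 7), (118, 7), (119, 8), (117, 9), (104, 8), (92, 7), (119, 10), (13, 9), (118, 9), (12, 8), (14, 8), (99, 8), (76, 7), (42, 6), (6, 5), (88, 5), (12, 6), (117, 7), (104, 6), (119, 8), (13, 7), (113, 7), (77, 6), (7, 5), (117, 6), (104, 5), (14, 7), (101, 6), (78, 5), (105, 7), (13, 8), (88, 7), (77, 6), (50, 5), (117, 8), (92, 7), (118, 9), (12, 8), (114, 8), (78, 7), (8, 6), (115, 7), (79, 6), (118, 8), (119, 9), (14, 10), (101, 9), (89, 8), (78, 7), (59, 6), (117, 8), (118, 9), (119, 10), (118, 11), (105, 10), (12, 9), (115, 10), (102, 9), (79, 8), (9, 7), (117, 7), (119, 8), (14, 9), (105, 8), (13, 9), (12, 8), (119, 8), (109, 9), (96, 8), (73, 7), (46, 6), (39, 5), (28, 4), (24, 3), (3, 2), (110, 6), (97, 5), (85, 4), (74, 3), (64, 2), (117, 5), (92, 4), (118, 6), (12, 5), (119, 5), (14, 6), (101, 5), (78, 4), (68, 3), (105, 6),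 (13, 7), (111, 7), (86, 6), (75, 5), (65, 4), (48, 3), (116, 6), (103, 5), (119, 7), (13, 6), (14, 6), (105, 7), (14, 9), (103, 8), (91, 7), (80, 6), (10, 5), (104, 7), (92, 6), (11, 5), (105, 6), (12, 5), (13, 5), (113, 5), (50, 4), (14, 7), (91, 6), (92, 7), (114, 9), (89, 8), (78, 7), (68, 6), (8, 5), (118, 8), (12, 7), (117, 7), (11, 6), (118, 6), (14, 7), (14, 8), (97, 7), (85, 6), (64, 5), (40, 4), (29, 3), (4, 2), (100, 8), (77, 7), (67, 6), (58, 5), (7, 4), (115, 5), (102, 4), (118, 6), (105, 5), (14, 7), (103, 6), (91, 5), (117, 8), (104, 7), (92, 6), (119, 9), (13, 8), (116, 8), (91, 7), (80, 6), (10, 5), (118, 7), (12, 6), (14, 6), (99, 7), (87, 6), (76, 5), (57, 4), (6, 3), (90, 3), (12, 4), (117, 4), (118, 5), (119, 6), (113, 7), (100, 6), (88, 5), (77, 4), (58, 3), (117, 6), (92, 5), (118, 7), (12, 6), (119, 6), (14, 7), (105, 6)]⟩,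
    ⟨4, [1, 1], [], [(108, 5), (95, 4), (53, 3), (38, 2), (23, 1), (2, 0), (110, 4), (64, 3), (47, 2), (40, 1), (34, 0), (100, 3), (88, 2), (101, 4), (89, 3), (103, 5), (91, 4), (105, 6), (12, 5), (14, 6), (99, 5), (66, 4), (49, 3), (42, 2), (6, 1), (88, 1), (12, 2), (114, 3), (101, 2), (118, 4), (105, 3), (116, 5), (103, 4), (91, 3), (119, 6), (13, 5), (113, 5), (88, 4), (67, 3), (50, 2), (7, 1), (114, 2), (101, 1), (118, 3), (105, 2), (14, 4), (103, 3), (91, 2), (118, 5), (105, 4), (12, 3), (14, 4), (102, 3), (69, 2), (103, 4), (10, 3), (105, 3), (13, 4), (113, 4), (88, 3), (58, 2), (50, 1), (115, 4), (90, 3), (118, 5), (12, 4), (14, 4), (114, 5), (89, 4), (59, 3), (8, 2), (118, 3), (14, 4), (90, 3), (9, 2), (118, 2), (118, 3), (12, 2), (119, 2), (14, 3), (102, 2), (105, 3), (13, 4), (110, 5), (97, 4), (85, 3), (55, 2), (40, 1), (4, 0), (118, 3), (105, 2), (119,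 4), (13, 3), (14, 3), (88, 2), (58, 1), (7, 0), (115, 1), (102, 0), (118, 2), (105, 1), (14, 3), (105, 2), (12, 1), (102, 1), (9, 0), (119, 0), (119, 1), (13, 0), (14, 0)], [], [(108, 6), (83, 5), (38, 4), (32, 3), (23, 2), (20, 1), (2, 0), (109, 4), (63, 3), (46, 2), (39, 1), (33, 0), (113, 5), (100, 4), (77, 3), (67, 2), (117, 4), (119, 5), (14, 6), (103, 5), (80, 4), (10, 3), (104, 4), (11, 3), (114, 4), (101, 3), (118, 5), (105, 4), (116, 6), (103, 5), (91, 4), (118, 7), (105, 6), (12, 5), (14, 6), (102, 5), (69, 4), (103, 6), (10, 5), (104, 5), (105, 6), (13, 7), (110, 7), (85, 6), (74, 5), (55, 4), (47, 3), (40, 2), (34, 1), (100, 4), (88, 3), (101, 5), (89, 4), (102, 6), (90, 5), (13, 7), (117, 7), (92, 6), (118, 8), (12, 7), (14, 7), (76, 6), (57, 5), (49, 4), (42, 3), (6, 2), (88, 2), (12, 3), (114, 4), (101, 3), (118, 5), (105, 4), (115, 6), (102, 5),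 (90, 4), (118, 7), (105, 6), (12, 5), (14, 6), (104, 5), (100, 6), (77, 5), (58, 4), (50, 3), (7, 2), (114, 3), (101, 2), (118, 4), (105, 3), (14, 5), (102, 4), (90, 3), (105, 5), (12, 4), (117, 5), (104, 4), (119, 6), (13, 5), (115, 5), (79, 4), (9, 3), (117, 3), (14, 4), (80, 3), (112, 7), (99, 6), (87, 5), (76, 4), (66, 3), (49, 2), (91, 4), (92, 5), (12, 6), (114, 7), (101, 6), (78, 5), (68, 4), (8, 3), (115, 6), (102, 5), (79, 4), (69, 3), (118, 7), (105, 6), (113, 8), (100, 7), (88, 6), (77, 5), (67, 4), (58, 3), (116, 6), (91, 5), (14, 7), (92, 6), (12, 7), (114, 8), (101, 7), (78, 6), (68, 5), (59, 4), (116, 6), (117, 7), (119, 8), (14, 9), (102, 8), (79, 7), (69, 6), (9, 5), (116, 5), (117, 6), (119, 7), (118, 8), (105, 7), (119, 9), (13, 8), (14, 8), (12, 7), (14, 7), (73, 6), (63, 5), (46, 4), (39, 3), (33, 2), (24, 1), (3, 0), (110, 4), (97, 3), (85,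 2), (74, 1), (64, 0), (117, 3), (92, 2), (118, 4), (12, 3), (119, 3), (14, 4), (101, 3), (78, 2), (68, 1), (105, 4), (13, 5), (112, 5), (87, 4), (76, 3), (66, 2), (49, 1), (91, 3), (92, 4), (12, 5), (116, 5), (80, 4), (10, 3), (117, 4), (11, 3), (119, 3), (14, 4), (100, 3), (50, 2), (119, 5), (116, 6), (103, 5), (91, 4), (117, 7), (104, 6), (92, 5), (14, 8), (101, 7), (89, 6), (78, 5), (68, 4), (8, 3), (105, 6), (12, 5), (103, 5), (80, 4), (10, 3), (105, 4), (104, 5), (92, 4), (11, 3), (105, 4), (12, 3), (110, 4), (97, 3), (40, 2), (34, 1), (4, 0), (100, 2), (88, 1), (13, 3), (112, 3), (87, 2), (42, 1), (6, 0), (88, 0), (12, 1), (118, 2), (105, 1), (14, 3), (100, 2), (88, 1), (7, 0), (118, 1), (105, 0), (119, 2), (13, 1), (118, 1), (12, 0), (14, 0)], []⟩]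

/-- Part of the certificate. -/
def fusesPart5 : List Spor.SchurCert.Fuse := [
    ⟨5, [0, 0], [4, 5], [(71, 3), (26, 2), (22, 1), (1, 0), (97, 3), (64, 2), (47, 1), (34, 0), (101, 3), (89, 2), (103, 4), (91, 3), (105, 5), (12, 4), (119, 5), (13, 4), (112, 4), (66, 3), (49, 2), (6, 1), (89, 1), (12, 2), (115, 3), (69, 2), (116, 4), (10, 3), (118, 3), (111, 4), (86, 3), (56, 2), (48, 1), (115, 4), (102, 3), (119, 5), (13, 4), (14, 4), (14, 5), (87, 4), (57, 3), (49, 2), (90, 4), (12, 5), (118, 5), (113, 6), (88, 5), (58, 4), (50, 3), (115, 6), (90, 5), (118, 7), (12, 6), (14, 6), (115, 7), (90, 6), (9, 5), (118, 5), (14, 6), (12, 5), (74, 5), (47, 4), (40, 3), (34, 2), (29, 1), (4, 0), (99, 6), (76, 5), (66, 4), (57, 3), (42, 2), (6, 1), (88, 1), (12, 2), (115, 3), (102, 2), (118, 4), (105, 3), (14, 5), (103, 4), (91, 3), (104, 5), (92, 4), (13, 6), (12, 5), (100,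 5), (77, 4), (67, 3), (58, 2), (7, 1), (115, 2), (102, 1), (118, 3), (105, 2), (14, 4), (103, 3), (91, 2), (117, 5), (104, 4), (92, 3), (119, 6), (13, 5), (114, 5), (89, 4), (78, 3), (68, 2), (59, 1), (116, 3), (117, 4), (118, 5), (14, 6), (92, 5), (11, 4), (86, 4), (65, 3), (56, 2), (48, 1), (5, 0), (101, 3), (89, 2), (78, 1), (68, 0), (13, 4), (115, 4), (90, 3), (79, 2), (69, 1), (119, 5), (14, 6), (103, 5), (91, 4), (80, 3), (10, 2), (13, 4), (118, 4), (12, 3), (14, 3), (11, 2)], [], [(107, 9), (94, 8), (71, 7), (61, 6), (52, 5), (44, 4), (31, 3), (26, 2), (17, 1), (1, 0), (95, 3), (62, 2), (45, 1), (32, 0), (89, 4), (59, 3), (8, 2), (118, 3), (118, 4), (12, 3), (116, 3), (118, 4), (119, 5), (14, 6), (13, 5), (88, 4), (67, 3), (58, 2), (116, 5), (91, 4), (14, 6), (12, 5), (68, 4), (59, 3), (116, 5), (115, 6), (69, 5), (9, 4), (116, 4), (14, 5), (111, 5), (65,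 4), (48, 3), (41, 2), (35, 1), (113, 5), (58, 4), (50, 3), (115, 6), (90, 5), (118, 7), (12, 6), (14, 6), (114, 6), (59, 5), (8, 4), (14, 5), (9, 4), (118, 4), (119, 5), (114, 6), (101, 5), (89, 4), (119, 7), (13, 6), (14, 6), (91, 5), (14, 8), (99, 7), (87, 6), (66, 5), (49, 4), (42, 3), (6, 2), (88, 2), (12, 3), (114, 4), (101, 3), (118, 5), (105, 4), (116, 6), (103, 5), (91, 4), (118, 7), (105, 6), (12, 5), (119, 6), (13, 5), (113, 5), (67, 4), (50, 3), (7, 2), (114, 3), (101, 2), (118, 4), (105, 3), (14, 5), (103, 4), (91, 3), (14, 6), (102, 5), (90, 4), (69, 3), (105, 6), (12, 5), (99, 5), (66, 4), (57, 3), (49, 2), (90, 4), (12, 5), (116, 5), (119, 6), (116, 7), (103, 6), (10, 5), (117, 6), (104, 5), (118, 7), (105, 6), (114, 8), (101, 7), (89, 6), (78, 5), (59, 4), (8, 3), (117, 4), (118, 5), (119, 6), (14, 7), (103, 6), (91, 5), (80, 4), (104, 7), (92, 6),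 (11, 5), (102, 6), (90, 5), (69, 4), (9, 3), (116, 3), (118, 4), (119, 5), (116, 6), (103, 5), (91, 4), (10, 3), (117, 5), (104, 4), (92, 3), (119, 6), (13, 5), (14, 5), (91, 4), (80, 3), (12, 5), (11, 4), (108, 5), (95, 4), (62, 3), (32, 2), (27, 1), (2, 0), (111, 4), (65, 3), (48, 2), (41, 1), (35, 0), (113, 4), (58, 3), (50, 2), (115, 5), (90, 4), (118, 6), (12, 5), (14, 5), (114, 5), (59, 4), (8, 3), (14, 4), (9, 3), (118, 3), (119, 4), (114, 5), (101, 4), (89, 3), (119, 6), (13, 5), (14, 5), (91, 4), (14, 7), (99, 6), (87, 5), (66, 4), (49, 3), (42, 2), (6, 1), (88, 1), (12, 2), (114, 3), (101, 2), (118, 4), (105, 3), (116, 5), (103, 4), (91, 3), (118, 6), (105, 5), (12, 4), (119, 5), (13, 4), (113, 4), (67, 3), (50, 2), (7, 1), (114, 2), (101, 1), (118, 3), (105, 2), (14, 4), (103, 3), (91, 2), (14, 5), (101, 4), (89, 3), (68, 2), (8, 1), (105, 3), (12, 2),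 (13, 2), (66, 1), (68, 2), (69, 3), (91, 5), (10, 4), (12, 4), (119, 5), (13, 4), (14, 4), (56, 3), (48, 2), (35, 1), (5, 0), (99, 3), (87, 2), (76, 1), (66, 0), (101, 4), (89, 3), (78, 2), (68, 1), (102, 5), (90, 4), (79, 3), (69, 2), (114, 7), (101, 6), (89, 5), (78, 4), (68, 3), (59, 2), (8, 1), (116, 2), (117, 3), (118, 4), (119, 5), (14, 6), (13, 5), (115, 5), (90, 4), (79, 3), (69, 2), (9, 1), (116, 1), (117, 2), (118, 3), (14, 4), (112, 5), (99, 4), (87, 3), (76, 2), (66, 1), (6, 0), (91, 0), (92, 1), (12, 2), (114, 3), (101, 2), (78, 1), (68, 0), (115, 4), (102, 3), (79, 2), (69, 1), (116, 5), (103, 4), (80, 3), (10, 2), (117, 4), (104, 3), (11, 2), (119, 3), (13, 2), (14, 2)], [(46, 2), (33, 1), (3, 0), (112, 4), (99, 3), (87, 2), (76, 1), (66, 0), (116, 5), (103, 4), (91, 3), (80, 2), (10, 1), (117, 4), (104, 3), (92, 2), (11, 1), (119, 3), (13, 2), (14,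 2), (89, 1), (12, 2), (49, 1), (6, 0), (89, 0), (12, 1)]⟩,
    ⟨5, [1, 0], [0, 1, 6, 7, 8, 9], [(37, 2), (22, 1), (17, 0), (110, 5), (55, 4), (47, 3), (40, 2), (14, 7), (99, 6), (57, 5), (49, 4), (42, 3), (114, 7), (101, 6), (89, 5), (118, 8), (105, 7), (12, 6), (115, 7), (102, 6), (118, 8), (105, 7), (14, 9), (13, 8), (90, 7), (9, 6), (118, 6), (116, 7), (91, 6), (118, 8), (12, 7), (113, 7), (67, 6), (50, 5), (7, 4), (114, 5), (101, 4), (118, 6), (105, 5), (14, 7), (103, 6), (91, 5), (14, 8), (101, 7), (89, 6), (68, 5), (8, 4), (102, 6), (90, 5), (69, 4), (105, 7), (12, 6), (13, 6), (64, 5), (55, 4), (34, 3), (4, 2), (102, 4), (90, 3), (13, 5), (116, 5), (91, 4), (118, 6), (12, 5), (14, 5), (65, 4), (56, 3), (35, 2), (115, 6), (9, 5), (14, 5), (116, 6), (103, 5), (119, 7), (13, 6), (14, 6)], [(72, 3), (27, 2), (23, 1), (111, 9), (98, 8), (86, 7), (65, 6), (56,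 5), (41, 4), (35, 3), (113, 7), (58, 6), (50, 5), (115, 8), (90, 7), (118, 9), (12, 8), (14, 8), (114, 8), (59, 7), (8, 6), (14, 7), (9, 6), (118, 6), (119, 7), (115, 8), (102, 7), (90, 6), (119, 9), (13, 8), (14, 8), (91, 7), (118, 10), (105, 9), (12, 8), (14, 9), (13, 8), (112, 8), (66, 7), (57, 6), (42, 5), (6, 4), (88, 4), (12, 5), (115, 6), (102, 5), (118, 7), (105, 6), (14, 8), (103, 7), (91, 6), (113, 9), (100, 8), (88, 7), (67, 6), (58, 5), (7, 4), (115, 5), (102, 4), (118, 6), (105, 5), (14, 7), (103, 6), (91, 5), (118, 8), (105, 7), (12, 6), (119, 7), (13, 6), (14, 6), (68, 5), (59, 4), (116, 6), (118, 7), (119, 8), (117, 9), (104, 8), (92, 7), (119, 10), (13, 9), (110, 9), (85, 8), (74, 7), (64, 6), (55, 5), (47, 4), (29, 3), (4, 2), (101, 8), (78, 7), (68, 6), (59, 5), (116, 7), (117, 8), (119, 9), (115, 10), (102, 9), (79, 8), (69, 7), (9, 6), (116,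 6), (117, 7), (119, 8), (14, 9), (13, 8), (116, 8), (80, 7), (10, 6), (118, 7), (14, 8), (92, 7), (11, 6), (12, 6), (113, 6), (50, 5), (7, 4), (114, 5), (101, 4), (118, 6), (105, 5), (14, 7), (116, 7), (103, 6), (91, 5), (117, 8), (104, 7), (92, 6), (118, 9), (105, 8), (12, 7), (119, 8), (13, 7), (14, 7)], [(82, 5), (71, 4), (61, 3), (44, 2), (31, 1), (19, 0), (57, 2), (116, 5), (91, 4), (117, 6), (92, 5), (118, 7), (12, 6), (114, 6), (78, 5), (68, 4), (59, 3), (116, 5), (117, 6), (14, 7), (80, 6), (10, 5), (11, 5), (92, 6), (12, 7), (72, 6), (62, 5), (53, 4), (45, 3), (32, 2), (20, 1), (112, 8), (99, 7), (87, 6), (76, 5), (66, 4), (57, 3), (116, 6), (91, 5), (117, 7), (92, 6), (118, 8), (12, 7), (119, 7), (14, 8), (101, 7), (78, 6), (68, 5), (59, 4), (116, 6), (117, 7), (119, 8), (115, 9), (102, 8), (79, 7), (69, 6), (9, 5), (116, 5), (117, 6), (119, 7), (14, 8),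 (105, 7), (101, 8), (89, 7), (78, 6), (68, 5), (8, 4), (105, 7), (12, 6), (102, 6), (79, 5), (69, 4), (105, 7), (13, 8), (91, 7), (80, 6), (10, 5), (12, 6), (117, 7), (104, 6), (11, 5), (119, 6), (13, 5), (111, 5), (56, 4), (35, 3), (115, 7), (9, 6), (14, 6), (14, 7), (99, 6), (49, 5), (6, 4), (89, 4), (12, 5), (101, 5), (8, 4), (102, 4), (103, 5), (104, 6), (13, 7)], [(109, 9), (96, 8), (73, 7), (63, 6), (54, 5), (46, 4), (33, 3), (28, 2), (112, 8), (99, 7), (87, 6), (76, 5), (66, 4), (116, 9), (103, 8), (91, 7), (80, 6), (10, 5), (117, 8), (104, 7), (92, 6), (11, 5), (119, 7), (13, 6), (14, 6), (89, 5), (12, 6), (116, 8), (91, 7), (118, 9), (12, 8), (117, 8), (118, 9), (14, 10), (14, 11), (99, 10), (87, 9), (76, 8), (66, 7), (57, 6), (49, 5), (6, 4), (89, 4), (12, 5), (116, 7), (91, 6), (117, 8), (92, 7), (118, 9), (12, 8), (119, 8), (114, 9), (101, 8), (78, 7),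 (68, 6), (59, 5), (8, 4), (116, 5), (117, 6), (119, 7), (14, 8), (103, 7), (80, 6), (10, 5), (104, 6), (11, 5), (105, 5), (95, 6), (83, 5), (53, 4), (27, 3), (20, 2), (2, 1), (109, 5), (63, 4), (46, 3), (39, 2), (33, 1), (113, 6), (100, 5), (77, 4), (67, 3), (117, 5), (119, 6), (14, 7), (103, 6), (80, 5), (10, 4), (104, 5), (11, 4), (114, 5), (101, 4), (118, 6), (105, 5), (116, 7), (103, 6), (91, 5), (118, 8), (105, 7), (12, 6), (14, 7), (102, 6), (69, 5), (103, 7), (10, 6), (104, 6), (105, 7), (13, 8), (111, 8), (86, 7), (75, 6), (56, 5), (48, 4), (41, 3), (35, 2), (113, 6), (58, 5), (50, 4), (115, 7), (90, 6), (118, 8), (12, 7), (14, 7), (114, 7), (59, 6), (8, 5), (14, 6), (9, 5), (118, 5), (119, 6), (114, 7), (101, 6), (89, 5), (119, 8), (13, 7), (14, 7), (90, 6), (117, 9), (104, 8), (92, 7), (119, 10), (13, 9), (118, 9), (12, 8), (14, 8), (112, 8), (76, 7),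 (57, 6), (49, 5), (42, 4), (6, 3), (88, 3), (12, 4), (114, 5), (101, 4), (118, 6), (105, 5), (115, 7), (102, 6), (90, 5), (118, 8), (105, 7), (12, 6), (14, 7), (104, 6), (113, 8), (100, 7), (77, 6), (58, 5), (50, 4), (7, 3), (114, 4), (101, 3), (118, 5), (105, 4), (14, 6), (102, 5), (90, 4), (105, 6), (12, 5), (117, 6), (104, 5), (119, 7), (13, 6), (14, 6), (78, 5), (59, 4), (8, 3), (117, 4), (118, 5), (119, 6), (115, 7), (102, 6), (90, 5), (79, 4), (9, 3), (117, 3), (118, 4), (119, 5), (14, 6), (105, 5), (12, 4), (13, 4), (119, 5), (109, 6), (96, 5), (84, 4), (73, 3), (28, 2), (3, 1), (111, 5), (98, 4), (86, 3), (75, 2), (65, 1), (117, 4), (104, 3), (119, 5), (13, 4), (118, 4), (14, 5), (116, 6), (103, 5), (91, 4), (80, 3), (10, 2), (117, 5), (104, 4), (92, 3), (11, 2), (118, 4), (105, 3), (12, 2), (119, 3), (13, 2), (14, 2), (118, 4), (12, 3), (119, 3), (14, 4),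 (110, 4), (97, 3), (74, 2), (29, 1), (104, 8), (11, 7), (13, 7), (112, 7), (66, 6), (57, 5), (42, 4), (6, 3), (88, 3), (12, 4), (115, 5), (102, 4), (118, 6), (105, 5), (14, 7), (103, 6), (91, 5), (113, 8), (100, 7), (88, 6), (67, 5), (58, 4), (7, 3), (115, 4), (102, 3), (118, 5), (105, 4), (14, 6), (103, 5), (91, 4), (118, 7), (105, 6), (12, 5), (119, 6), (13, 5), (14, 5), (109, 6), (96, 5), (63, 4), (54, 3), (28, 2), (24, 1), (111, 6), (98, 5), (86, 4), (48, 3), (118, 6), (105, 5), (14, 7), (13, 6), (116, 6), (91, 5), (117, 7), (92, 6), (118, 8), (12, 7), (119, 7), (14, 8), (102, 7), (79, 6), (69, 5), (105, 8), (116, 10), (103, 9), (91, 8), (80, 7), (10, 6), (118, 9), (105, 8), (12, 7), (119, 8), (13, 7), (14, 7), (112, 7), (76, 6), (57, 5), (49, 4), (90, 6), (12, 7), (117, 7), (14, 8), (80, 7), (11, 8), (95, 8), (62, 7), (53, 6), (45, 5), (32, 4), (27, 3), (23,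 2), (20, 1), (110, 8), (97, 7), (85, 6), (74, 5), (64, 4), (55, 3), (116, 6), (103, 5), (118, 7), (105, 6), (14, 8), (104, 7), (92, 6), (105, 8), (12, 7), (13, 7), (112, 7), (76, 6), (66, 5), (57, 4), (116, 7), (91, 6), (117, 8), (92, 7), (14, 9), (88, 8), (77, 7), (67, 6), (58, 5), (116, 8), (91, 7), (14, 9), (92, 8), (12, 9), (79, 8), (69, 7), (9, 6), (116, 6), (117, 7), (116, 8), (80, 7), (10, 6), (118, 7), (119, 8), (14, 9), (98, 8), (86, 7), (75, 6), (41, 5), (35, 4), (113, 8), (58, 7), (50, 6), (115, 9), (90, 8), (118, 10), (12, 9), (14, 9), (114, 9), (59, 8), (8, 7), (14, 8), (9, 7), (118, 7), (119, 8), (117, 9), (104, 8), (92, 7), (119, 10), (13, 9), (118, 9), (12, 8), (14, 8), (99, 8), (76, 7), (42, 6), (6, 5), (88, 5), (12, 6), (117, 7), (104, 6), (119, 8), (13, 7), (113, 7), (77, 6), (7, 5), (117, 6), (104, 5), (14, 7), (101, 6), (78, 5), (105, 7), (13,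 8), (87, 7), (76, 6), (49, 5), (92, 7), (12, 8), (78, 7), (8, 6), (79, 6), (89, 8), (78, 7), (59, 6), (117, 8), (118, 9), (118, 10), (12, 9), (115, 9), (79, 8), (9, 7), (117, 7), (14, 8), (103, 9), (91, 8), (80, 7), (105, 10), (12, 9), (13, 9), (119, 9), (110, 10), (97, 9), (74, 8), (64, 7), (47, 6), (34, 5), (29, 4), (4, 3), (99, 9), (76, 8), (66, 7), (57, 6), (42, 5), (6, 4), (88, 4), (12, 5), (115, 6), (102, 5), (118, 7), (105, 6), (14, 8), (103, 7), (91, 6), (104, 8), (92, 7), (13, 9), (12, 8), (101, 8), (78, 7), (68, 6), (59, 5), (116, 7), (117, 8), (119, 9), (116, 10), (103, 9), (80, 8), (10, 7), (118, 9), (105, 8), (14, 10), (104, 9), (92, 8), (11, 7), (13, 8), (113, 8), (88, 7), (58, 6), (50, 5), (7, 4), (114, 5), (101, 4), (118, 6), (105, 5), (14, 7), (102, 6), (90, 5), (105, 7), (12, 6), (118, 7), (105, 6), (14, 8), (101, 7), (89, 6), (59, 5), (8, 4),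 (118, 5), (119, 6), (116, 7), (103, 6), (91, 5), (117, 8), (104, 7), (92, 6), (118, 9), (105, 8), (12, 7), (119, 8), (13, 7), (14, 7)]⟩,
    ⟨5, [2, 0], [0, 2, 4, 5, 6, 7, 8], [(71, 2), (37, 1), (19, 0), (58, 2), (114, 5), (89, 4), (59, 3), (118, 5), (14, 6), (90, 5), (9, 4), (118, 4), (118, 5), (12, 4), (119, 4), (117, 5), (104, 4), (110, 6), (97, 5), (74, 4), (47, 3), (40, 2), (111, 7), (98, 6), (75, 5), (48, 4), (41, 3), (101, 8), (89, 7), (59, 6), (8, 5), (118, 6), (119, 7), (119, 8), (13, 7), (14, 7), (92, 6), (13, 8), (117, 8), (92, 7), (11, 6)], [(73, 3), (28, 2), (24, 1), (111, 6), (98, 5), (86, 4), (48, 3), (118, 6), (105, 5), (14, 7), (13, 6), (116, 6), (91, 5), (117, 7), (92, 6), (118, 8), (12, 7), (119, 7), (14, 8), (104, 7), (11, 6), (105, 6), (113, 8), (100, 7), (88, 6), (67, 5), (50, 4), (116, 7), (91, 6), (14, 8), (12, 7), (117, 8), (104, 7), (114,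 9), (101, 8), (78, 7), (68, 6), (8, 5), (115, 8), (102, 7), (79, 6), (69, 5), (116, 9), (103, 8), (80, 7), (10, 6), (117, 8), (104, 7), (11, 6), (118, 7), (105, 6), (119, 8), (13, 7)], [(107, 6), (82, 5), (71, 4), (52, 3), (44, 2), (37, 1), (31, 0), (88, 4), (77, 3), (67, 2), (117, 4), (118, 5), (114, 6), (89, 5), (78, 4), (68, 3), (115, 7), (90, 6), (79, 5), (69, 4), (118, 8), (12, 7), (119, 7), (114, 8), (101, 7), (78, 6), (68, 5), (59, 4), (8, 3), (116, 4), (117, 5), (119, 6), (14, 7), (103, 6), (80, 5), (10, 4), (104, 5), (11, 4), (102, 4), (9, 3), (119, 3), (116, 4), (103, 3), (117, 5), (104, 4), (119, 6), (13, 5), (14, 5), (11, 4), (108, 5), (83, 4), (62, 3), (38, 2), (32, 1), (88, 5), (58, 4), (50, 3), (115, 6), (90, 5), (118, 7), (12, 6), (14, 6), (89, 6), (59, 5), (8, 4), (118, 5), (115, 6), (90, 5), (9, 4), (118, 4), (14, 5), (12, 4), (116, 5), (103, 4),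 (118, 6), (105, 5), (119, 7), (13, 6), (14, 6), (12, 5), (14, 5), (65, 4), (41, 3), (35, 2), (113, 6), (58, 5), (50, 4), (115, 7), (90, 6), (118, 8), (12, 7), (14, 7), (114, 7), (59, 6), (8, 5), (14, 6), (9, 5), (118, 5), (119, 6), (116, 7), (103, 6), (91, 5), (119, 8), (13, 7), (14, 7), (87, 6), (66, 5), (42, 4), (6, 3), (88, 3), (12, 4), (116, 5), (103, 4), (118, 6), (105, 5), (114, 7), (101, 6), (89, 5), (68, 4), (115, 8), (102, 7), (90, 6), (69, 5), (116, 9), (103, 8), (91, 7), (10, 6), (117, 8), (104, 7), (92, 6), (119, 9), (13, 8), (14, 8)], [(112, 9), (99, 8), (76, 7), (66, 6), (57, 5), (49, 4), (6, 3), (89, 3), (12, 4), (116, 6), (91, 5), (117, 7), (92, 6), (119, 8), (14, 9), (100, 8), (88, 7), (77, 6), (67, 5), (58, 4), (50, 3), (115, 6), (90, 5), (118, 7), (12, 6), (14, 6), (117, 7), (118, 8), (119, 9), (114, 10), (101, 9), (89, 8), (78, 7), (68, 6), (59,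 5), (8, 4), (116, 5), (117, 6), (118, 7), (119, 8), (14, 9), (102, 8), (90, 7), (79, 6), (69, 5), (9, 4), (116, 4), (117, 5), (118, 6), (119, 7), (117, 8), (104, 7), (92, 6), (11, 5), (118, 7), (105, 6), (12, 5), (14, 6), (96, 5), (63, 4), (39, 3), (28, 2), (113, 8), (100, 7), (88, 6), (77, 5), (67, 4), (117, 6), (118, 7), (119, 8), (14, 9), (103, 8), (91, 7), (80, 6), (10, 5), (104, 7), (92, 6), (11, 5), (116, 7), (103, 6), (91, 5), (118, 8), (105, 7), (12, 6), (119, 7), (13, 6), (14, 6), (66, 5), (42, 4), (116, 8), (103, 7), (91, 6), (114, 9), (101, 8), (89, 7), (68, 6), (109, 10), (96, 9), (84, 8), (63, 7), (46, 6), (39, 5), (33, 4), (28, 3), (3, 2), (111, 6), (98, 5), (86, 4), (75, 3), (65, 2), (117, 5), (104, 4), (119, 6), (13, 5), (118, 5), (14, 6), (116, 7), (103, 6), (91, 5), (80, 4), (10, 3), (117, 6), (104, 5), (92, 4), (11, 3), (118, 5), (105, 4), (12,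 3), (119, 4), (13, 3), (14, 3), (113, 7), (100, 6), (77, 5), (67, 4), (117, 6), (119, 7), (14, 8), (103, 7), (80, 6), (10, 5), (104, 6), (11, 5), (114, 6), (101, 5), (118, 7), (105, 6), (116, 8), (103, 7), (91, 6), (118, 9), (105, 8), (12, 7), (118, 8), (105, 7), (119, 9), (13, 8), (14, 8), (112, 8), (87, 7), (66, 6), (49, 5), (42, 4), (6, 3), (88, 3), (12, 4), (114, 5), (101, 4), (118, 6), (105, 5), (116, 7), (103, 6), (91, 5), (118, 8), (105, 7), (12, 6), (14, 7), (102, 6), (69, 5), (95, 7), (62, 6), (53, 5), (45, 4), (38, 3), (27, 2), (2, 1), (111, 5), (65, 4), (48, 3), (41, 2), (35, 1), (113, 5), (58, 4), (50, 3), (115, 6), (90, 5), (118, 7), (12, 6), (14, 6), (114, 6), (59, 5), (8, 4), (14, 5), (9, 4), (118, 4), (119, 5), (114, 6), (101, 5), (89, 4), (119, 7), (13, 6), (14, 6), (91, 5), (14, 8), (99, 7), (87, 6), (66, 5), (49, 4), (42, 3), (6, 2), (88, 2),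 (12, 3), (114, 4), (101, 3), (118, 5), (105, 4), (116, 6), (103, 5), (91, 4), (118, 7), (105, 6), (12, 5), (119, 6), (13, 5), (113, 5), (67, 4), (50, 3), (7, 2), (114, 3), (101, 2), (118, 4), (105, 3), (14, 5), (103, 4), (91, 3), (14, 6), (101, 5), (89, 4), (68, 3), (8, 2), (105, 4), (12, 3), (13, 3), (67, 2), (114, 4), (68, 3), (115, 5), (69, 4), (118, 6), (119, 7), (14, 8), (101, 7), (89, 6), (68, 5), (59, 4), (8, 3), (116, 4), (118, 5), (119, 6), (118, 7), (105, 6), (12, 5), (115, 6), (102, 5), (69, 4), (9, 3), (116, 3), (119, 4), (14, 5), (105, 4), (13, 5), (91, 4), (10, 3), (12, 3), (119, 4), (13, 3), (109, 3), (39, 2), (28, 1), (113, 7), (100, 6), (88, 5), (77, 4), (67, 3), (117, 5), (118, 6), (119, 7), (14, 8), (103, 7), (91, 6), (80, 5), (10, 4), (104, 6), (92, 5), (11, 4), (14, 6), (97, 5), (85, 4), (40, 3), (29, 2), (100, 9), (77, 8), (67, 7), (58, 6),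 (7, 5), (115, 6), (102, 5), (118, 7), (105, 6), (14, 8), (103, 7), (91, 6), (117, 9), (104, 8), (92, 7), (119, 10), (13, 9), (118, 9), (12, 8), (119, 8), (112, 9), (99, 8), (76, 7), (66, 6), (57, 5), (6, 4), (90, 4), (12, 5), (116, 5), (117, 6), (119, 7), (14, 8), (100, 7), (77, 6), (67, 5), (58, 4), (116, 7), (91, 6), (14, 8), (92, 7), (13, 9), (109, 9), (84, 8), (73, 7), (63, 6), (54, 5), (39, 4), (28, 3), (24, 2), (3, 1), (110, 5), (97, 4), (85, 3), (74, 2), (64, 1), (117, 4), (92, 3), (118, 5), (12, 4), (119, 4), (14, 5), (101, 4), (78, 3), (68, 2), (105, 5), (13, 6), (111, 6), (86, 5), (75, 4), (65, 3), (48, 2), (116, 5), (103, 4), (119, 6), (13, 5), (14, 5), (105, 6), (14, 8), (103, 7), (91, 6), (80, 5), (10, 4), (104, 6), (92, 5), (11, 4), (105, 5), (12, 4), (13, 4), (113, 4), (50, 3), (14, 6), (91, 5), (92, 6), (115, 8), (90, 7), (79, 6), (69, 5), (118,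 9), (12, 8), (14, 8), (80, 7), (10, 6), (92, 7), (11, 6), (12, 6), (118, 6), (14, 7), (87, 6), (57, 5), (49, 4), (42, 3), (114, 7), (101, 6), (89, 5), (118, 8), (105, 7), (12, 6), (115, 7), (102, 6), (118, 8), (105, 7), (14, 9), (105, 8), (12, 7), (103, 7), (104, 8), (13, 9), (72, 8), (62, 7), (53, 6), (45, 5), (38, 4), (32, 3), (27, 2), (23, 1), (111, 9), (98, 8), (86, 7), (65, 6), (56, 5), (41, 4), (35, 3), (113, 7), (58, 6), (50, 5), (115, 8), (90, 7), (118, 9), (12, 8), (14, 8), (114, 8), (59, 7), (8, 6), (14, 7), (9, 6), (118, 6), (119, 7), (115, 8), (102, 7), (90, 6), (119, 9), (13, 8), (14, 8), (91, 7), (118, 10), (105, 9), (12, 8), (14, 9), (13, 8), (112, 8), (66, 7), (57, 6), (42, 5), (6, 4), (88, 4), (12, 5), (115, 6), (102, 5), (118, 7), (105, 6), (14, 8), (103, 7), (91, 6), (113, 9), (100, 8), (88, 7), (67, 6), (58, 5), (7, 4), (115, 5), (102, 4), (118,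 6), (105, 5), (14, 7), (103, 6), (91, 5), (118, 8), (105, 7), (12, 6), (119, 7), (13, 6), (14, 6), (68, 5), (59, 4), (116, 6), (118, 7), (119, 8), (112, 9), (99, 8), (87, 7), (66, 6), (57, 5), (49, 4), (90, 6), (12, 7), (116, 7), (118, 8), (119, 9), (14, 10), (101, 9), (89, 8), (68, 7), (59, 6), (8, 5), (116, 6), (118, 7), (119, 8), (115, 9), (102, 8), (90, 7), (69, 6), (9, 5), (116, 5), (118, 6), (119, 7), (14, 8), (105, 7), (12, 6), (100, 6), (67, 5), (119, 7), (114, 8), (101, 7), (68, 6), (115, 9), (102, 8), (69, 7), (118, 10), (105, 9), (119, 11), (13, 10), (14, 10), (89, 9), (68, 8), (59, 7), (8, 6), (116, 7), (118, 8), (118, 9), (12, 8), (115, 8), (69, 7), (9, 6), (116, 6), (14, 7), (103, 8), (91, 7), (10, 6), (105, 7), (12, 6), (13, 6), (117, 6), (119, 7), (110, 8), (97, 7), (74, 6), (40, 5), (34, 4), (29, 3), (4, 2), (99, 8), (76, 7), (66, 6), (57, 5), (42,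 4), (6, 3), (88, 3), (12, 4), (115, 5), (102, 4), (118, 6), (105, 5), (14, 7), (103, 6), (91, 5), (104, 7), (92, 6), (13, 8), (12, 7), (100, 7), (77, 6), (67, 5), (58, 4), (7, 3), (115, 4), (102, 3), (118, 5), (105, 4), (14, 6), (103, 5), (91, 4), (117, 7), (104, 6), (92, 5), (119, 8), (13, 7), (117, 7), (92, 6), (11, 5), (119, 6), (14, 7), (100, 6), (88, 5), (67, 4), (58, 3), (116, 6), (91, 5), (14, 7), (12, 6), (101, 6), (68, 5), (59, 4), (116, 6), (119, 7), (116, 8), (103, 7), (10, 6), (117, 7), (104, 6), (118, 8), (105, 7), (119, 9), (13, 8), (14, 8)]⟩,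
    ⟨5, [3, 0], [0, 3, 4, 5, 6, 7, 8, 9], [(71, 2), (37, 1), (31, 0), (88, 4), (77, 3), (67, 2), (117, 4), (118, 5), (114, 6), (89, 5), (78, 4), (68, 3), (115, 7), (90, 6), (79, 5), (69, 4), (118, 8), (12, 7), (119, 7), (117, 8), (104, 7), (11, 6), (110, 7), (97, 6), (64, 5), (55, 4), (47, 3), (40, 2), (34, 1), (100, 4), (88, 3), (101, 5), (89, 4), (102, 6), (90, 5), (13, 7), (116, 7), (91, 6), (118, 8), (12, 7), (14, 7), (111, 8), (98, 7), (65, 6), (56, 5), (48, 4), (41, 3), (35, 2), (113, 6), (58, 5), (50, 4), (115, 7), (90, 6), (118, 8), (12, 7), (14, 7), (114, 7), (59, 6), (8, 5), (14, 6), (9, 5), (118, 5), (119, 6), (114, 7), (101, 6), (89, 5), (119, 8), (13, 7), (14, 7), (90, 6), (116, 9), (103, 8), (91, 7), (119, 10), (13, 9), (14, 9), (117, 10), (104, 9), (92, 8)], [(76, 3), (77, 4), (11, 5)], [(94, 6), (82, 5), (61, 4), (52, 3), (44, 2), (37, 1), (31, 0),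 (88, 4), (77, 3), (67, 2), (117, 4), (118, 5), (114, 6), (89, 5), (78, 4), (68, 3), (115, 7), (90, 6), (79, 5), (69, 4), (118, 8), (12, 7), (119, 7), (114, 8), (101, 7), (78, 6), (68, 5), (59, 4), (8, 3), (116, 4), (117, 5), (119, 6), (14, 7), (103, 6), (80, 5), (10, 4), (104, 5), (11, 4), (102, 4), (9, 3), (119, 3), (116, 4), (103, 3), (117, 5), (104, 4), (119, 6), (13, 5), (14, 5), (80, 4), (10, 3), (12, 4), (95, 4), (72, 3), (38, 2), (32, 1), (88, 5), (58, 4), (50, 3), (115, 6), (90, 5), (118, 7), (12, 6), (14, 6), (89, 6), (59, 5), (8, 4), (118, 5), (115, 6), (90, 5), (9, 4), (118, 4), (14, 5), (12, 4), (117, 5), (104, 4), (119, 6), (13, 5), (119, 5), (111, 6), (98, 5), (75, 4), (41, 3), (35, 2), (113, 6), (58, 5), (50, 4), (115, 7), (90, 6), (118, 8), (12, 7), (14, 7), (114, 7), (59, 6), (8, 5), (14, 6), (9, 5), (118, 5), (119, 6), (117, 7), (104, 6), (92,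 5), (119, 8), (13, 7), (119, 7), (14, 8), (99, 7), (87, 6), (76, 5), (42, 4), (6, 3), (88, 3), (12, 4), (117, 5), (104, 4), (118, 6), (105, 5), (119, 7), (13, 6), (114, 6), (89, 5), (78, 4), (115, 7), (90, 6), (79, 5), (116, 8), (91, 7), (80, 6), (117, 9), (92, 8), (11, 7), (119, 8), (14, 9)], [(112, 9), (99, 8), (76, 7), (66, 6), (57, 5), (49, 4), (6, 3), (89, 3), (12, 4), (116, 6), (91, 5), (117, 7), (92, 6), (119, 8), (14, 9), (100, 8), (88, 7), (77, 6), (67, 5), (58, 4), (50, 3), (115, 6), (90, 5), (118, 7), (12, 6), (14, 6), (117, 7), (118, 8), (119, 9), (114, 10), (101, 9), (89, 8), (78, 7), (68, 6), (59, 5), (8, 4), (116, 5), (117, 6), (118, 7), (119, 8), (14, 9), (102, 8), (90, 7), (79, 6), (69, 5), (9, 4), (116, 4), (117, 5), (118, 6), (119, 7), (116, 8), (103, 7), (91, 6), (80, 5), (10, 4), (118, 7), (105, 6), (12, 5), (119, 6), (13, 5), (109, 5), (73,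 4), (39, 3), (28, 2), (113, 8), (100, 7), (88, 6), (77, 5), (67, 4), (117, 6), (118, 7), (119, 8), (14, 9), (103, 8), (91, 7), (80, 6), (10, 5), (104, 7), (92, 6), (11, 5), (117, 7), (104, 6), (92, 5), (118, 8), (105, 7), (12, 6), (14, 7), (112, 7), (99, 6), (76, 5), (42, 4), (117, 8), (104, 7), (92, 6), (119, 9), (13, 8), (14, 8), (89, 7), (78, 6), (84, 8), (73, 7), (46, 6), (39, 5), (33, 4), (28, 3), (3, 2), (111, 6), (98, 5), (86, 4), (75, 3), (65, 2), (117, 5), (104, 4), (119, 6), (13, 5), (118, 5), (14, 6), (116, 7), (103, 6), (91, 5), (80, 4), (10, 3), (117, 6), (104, 5), (92, 4), (11, 3), (118, 5), (105, 4), (12, 3), (119, 4), (13, 3), (14, 3), (113, 7), (100, 6), (77, 5), (67, 4), (117, 6), (119, 7), (14, 8), (103, 7), (80, 6), (10, 5), (104, 6), (11, 5), (114, 6), (101, 5), (118, 7), (105, 6), (117, 8), (104, 7), (92, 6), (118, 9), (105, 8), (12, 7), (14,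 8), (105, 7), (99, 8), (87, 7), (76, 6), (49, 5), (42, 4), (6, 3), (88, 3), (12, 4), (114, 5), (101, 4), (118, 6), (105, 5), (117, 7), (104, 6), (92, 5), (118, 8), (105, 7), (12, 6), (119, 7), (13, 6), (115, 6), (79, 5), (108, 7), (72, 6), (53, 5), (45, 4), (38, 3), (27, 2), (2, 1), (111, 5), (65, 4), (48, 3), (41, 2), (35, 1), (113, 5), (58, 4), (50, 3), (115, 6), (90, 5), (118, 7), (12, 6), (14, 6), (114, 6), (59, 5), (8, 4), (14, 5), (9, 4), (118, 4), (119, 5), (114, 6), (101, 5), (89, 4), (119, 7), (13, 6), (14, 6), (91, 5), (14, 8), (99, 7), (87, 6), (66, 5), (49, 4), (42, 3), (6, 2), (88, 2), (12, 3), (114, 4), (101, 3), (118, 5), (105, 4), (116, 6), (103, 5), (91, 4), (118, 7), (105, 6), (12, 5), (119, 6), (13, 5), (113, 5), (67, 4), (50, 3), (7, 2), (114, 3), (101, 2), (118, 4), (105, 3), (14, 5), (103, 4), (91, 3), (14, 6), (101, 5), (89, 4), (68, 3), (8,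 2), (105, 4), (12, 3), (13, 3), (67, 2), (114, 4), (68, 3), (115, 5), (69, 4), (118, 6), (119, 7), (14, 8), (101, 7), (89, 6), (68, 5), (59, 4), (8, 3), (116, 4), (118, 5), (119, 6), (118, 7), (105, 6), (12, 5), (115, 6), (102, 5), (69, 4), (9, 3), (116, 3), (119, 4), (14, 5), (105, 4), (13, 5), (92, 4), (109, 7), (96, 6), (84, 5), (73, 4), (63, 3), (39, 2), (28, 1), (113, 7), (100, 6), (88, 5), (77, 4), (67, 3), (117, 5), (118, 6), (119, 7), (14, 8), (103, 7), (91, 6), (80, 5), (10, 4), (104, 6), (92, 5), (11, 4), (116, 6), (103, 5), (91, 4), (118, 7), (105, 6), (12, 5), (117, 6), (104, 5), (118, 7), (105, 6), (14, 8), (105, 7), (12, 6), (13, 6), (14, 6), (74, 5), (64, 4), (40, 3), (29, 2), (100, 9), (77, 8), (67, 7), (58, 6), (7, 5), (115, 6), (102, 5), (118, 7), (105, 6), (14, 8), (103, 7), (91, 6), (117, 9), (104, 8), (92, 7), (119, 10), (13, 9), (116, 9), (91,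 8), (80, 7), (10, 6), (118, 8), (12, 7), (14, 7), (11, 6), (57, 5), (6, 4), (90, 4), (12, 5), (113, 5), (58, 4), (14, 7), (109, 8), (96, 7), (84, 6), (54, 5), (39, 4), (28, 3), (24, 2), (3, 1), (110, 5), (97, 4), (85, 3), (74, 2), (64, 1), (117, 4), (92, 3), (118, 5), (12, 4), (119, 4), (14, 5), (101, 4), (78, 3), (68, 2), (105, 5), (13, 6), (111, 6), (86, 5), (75, 4), (65, 3), (48, 2), (116, 5), (103, 4), (119, 6), (13, 5), (14, 5), (105, 6), (14, 8), (103, 7), (91, 6), (80, 5), (10, 4), (104, 6), (92, 5), (11, 4), (105, 5), (12, 4), (13, 4), (113, 4), (50, 3), (14, 6), (91, 5), (92, 6), (115, 8), (90, 7), (79, 6), (69, 5), (118, 9), (12, 8), (14, 8), (14, 10), (99, 9), (87, 8), (76, 7), (66, 6), (57, 5), (49, 4), (42, 3), (114, 7), (101, 6), (89, 5), (118, 8), (105, 7), (12, 6), (115, 7), (102, 6), (118, 8), (105, 7), (14, 9), (103, 8), (91, 7), (104, 9), (92,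 8), (105, 10), (12, 9), (13, 9), (80, 8), (10, 7), (11, 7), (95, 7), (53, 6), (45, 5), (38, 4), (32, 3), (27, 2), (23, 1), (111, 9), (98, 8), (86, 7), (65, 6), (56, 5), (41, 4), (35, 3), (113, 7), (58, 6), (50, 5), (115, 8), (90, 7), (118, 9), (12, 8), (14, 8), (114, 8), (59, 7), (8, 6), (14, 7), (9, 6), (118, 6), (119, 7), (115, 8), (102, 7), (90, 6), (119, 9), (13, 8), (14, 8), (91, 7), (118, 10), (105, 9), (12, 8), (14, 9), (13, 8), (112, 8), (66, 7), (57, 6), (42, 5), (6, 4), (88, 4), (12, 5), (115, 6), (102, 5), (118, 7), (105, 6), (14, 8), (103, 7), (91, 6), (113, 9), (100, 8), (88, 7), (67, 6), (58, 5), (7, 4), (115, 5), (102, 4), (118, 6), (105, 5), (14, 7), (103, 6), (91, 5), (118, 8), (105, 7), (12, 6), (119, 7), (13, 6), (14, 6), (68, 5), (59, 4), (116, 6), (118, 7), (119, 8), (112, 9), (99, 8), (87, 7), (66, 6), (57, 5), (49, 4), (90, 6), (12, 7), (116,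 7), (118, 8), (119, 9), (14, 10), (101, 9), (89, 8), (68, 7), (59, 6), (8, 5), (116, 6), (118, 7), (119, 8), (115, 9), (102, 8), (90, 7), (69, 6), (9, 5), (116, 5), (118, 6), (119, 7), (14, 8), (105, 7), (12, 6), (100, 6), (67, 5), (119, 7), (114, 8), (101, 7), (68, 6), (115, 9), (102, 8), (69, 7), (118, 10), (105, 9), (119, 11), (13, 10), (14, 10), (89, 9), (68, 8), (59, 7), (8, 6), (116, 7), (118, 8), (118, 9), (12, 8), (115, 8), (69, 7), (9, 6), (116, 6), (14, 7), (13, 8), (85, 7), (64, 6), (40, 5), (34, 4), (29, 3), (4, 2), (99, 8), (76, 7), (66, 6), (57, 5), (42, 4), (6, 3), (88, 3), (12, 4), (115, 5), (102, 4), (118, 6), (105, 5), (14, 7), (103, 6), (91, 5), (104, 7), (92, 6), (13, 8), (12, 7), (100, 7), (77, 6), (67, 5), (58, 4), (7, 3), (115, 4), (102, 3), (118, 5), (105, 4), (14, 6), (103, 5), (91, 4), (117, 7), (104, 6), (92, 5), (119, 8), (13, 7), (116,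 7), (91, 6), (80, 5), (10, 4), (118, 6), (12, 5), (14, 5), (88, 5), (77, 4), (58, 3), (117, 6), (92, 5), (118, 7), (12, 6), (114, 6), (78, 5), (59, 4), (117, 6), (14, 7), (80, 6), (11, 7), (14, 9)]⟩,
    ⟨5, [4, 0], [0, 4, 6, 7, 8], [(44, 0), (74, 3), (64, 2), (47, 1), (117, 5), (92, 4), (111, 6), (86, 5), (75, 4), (65, 3), (48, 2), (116, 5), (103, 4), (119, 6), (13, 5), (14, 5), (105, 6), (14, 8), (104, 7), (92, 6), (11, 5)], [(78, 3), (80, 4), (11, 5)], [(44, 2), (31, 1), (19, 0), (57, 2), (116, 5), (91, 4), (117, 6), (92, 5), (118, 7), (12, 6), (114, 6), (78, 5), (68, 4), (59, 3), (116, 5), (117, 6), (14, 7), (80, 6), (10, 5), (11, 5), (53, 4), (45, 3), (32, 2), (20, 1), (112, 8), (99, 7), (87, 6), (76, 5), (66, 4), (57, 3), (116, 6), (91, 5), (117, 7), (92, 6), (118, 8), (12, 7), (119, 7), (14, 8), (101, 7), (78, 6), (68, 5), (59, 4), (116, 6), (117, 7), (119,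 8), (115, 9), (102, 8), (79, 7), (69, 6), (9, 5), (116, 5), (117, 6), (119, 7), (14, 8), (105, 7), (101, 8), (89, 7), (78, 6), (68, 5), (8, 4), (105, 7), (12, 6), (102, 6), (79, 5), (69, 4), (105, 7), (13, 8), (86, 7), (75, 6), (65, 5), (56, 4), (35, 3), (115, 7), (9, 6), (14, 6), (116, 7), (103, 6), (119, 8), (13, 7), (14, 7), (105, 8), (112, 10), (99, 9), (87, 8), (76, 7), (66, 6), (49, 5), (6, 4), (89, 4), (12, 5), (114, 9), (101, 8), (89, 7), (78, 6), (68, 5), (8, 4), (115, 8), (102, 7), (90, 6), (79, 5), (69, 4), (116, 9), (103, 8), (91, 7), (80, 6), (10, 5), (117, 8), (104, 7), (92, 6), (11, 5), (119, 7), (13, 6), (14, 6)], [(109, 9), (96, 8), (73, 7), (63, 6), (54, 5), (46, 4), (33, 3), (28, 2), (112, 8), (99, 7), (87, 6), (76, 5), (66, 4), (116, 9), (103, 8), (91, 7), (80, 6), (10, 5), (117, 8), (104, 7), (92, 6), (11, 5), (119, 7), (13, 6), (14, 6), (89,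 5), (12, 6), (116, 8), (91, 7), (118, 9), (12, 8), (117, 8), (118, 9), (14, 10), (14, 11), (99, 10), (87, 9), (76, 8), (66, 7), (57, 6), (49, 5), (6, 4), (89, 4), (12, 5), (116, 7), (91, 6), (117, 8), (92, 7), (118, 9), (12, 8), (119, 8), (114, 9), (101, 8), (78, 7), (68, 6), (59, 5), (8, 4), (116, 5), (117, 6), (119, 7), (14, 8), (95, 7), (72, 6), (62, 5), (53, 4), (27, 3), (20, 2), (2, 1), (109, 5), (63, 4), (46, 3), (39, 2), (33, 1), (113, 6), (100, 5), (77, 4), (67, 3), (117, 5), (119, 6), (14, 7), (103, 6), (80, 5), (10, 4), (104, 5), (11, 4), (114, 5), (101, 4), (118, 6), (105, 5), (116, 7), (103, 6), (91, 5), (118, 8), (105, 7), (12, 6), (14, 7), (102, 6), (69, 5), (103, 7), (10, 6), (104, 6), (105, 7), (13, 8), (111, 8), (86, 7), (75, 6), (56, 5), (48, 4), (41, 3), (35, 2), (113, 6), (58, 5), (50, 4), (115, 7), (90, 6), (118, 8), (12, 7), (14, 7), (114,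 7), (59, 6), (8, 5), (14, 6), (9, 5), (118, 5), (119, 6), (114, 7), (101, 6), (89, 5), (119, 8), (13, 7), (14, 7), (90, 6), (117, 9), (104, 8), (92, 7), (119, 10), (13, 9), (118, 9), (12, 8), (14, 8), (112, 8), (76, 7), (57, 6), (49, 5), (42, 4), (6, 3), (88, 3), (12, 4), (114, 5), (101, 4), (118, 6), (105, 5), (115, 7), (102, 6), (90, 5), (118, 8), (105, 7), (12, 6), (14, 7), (104, 6), (113, 8), (100, 7), (77, 6), (58, 5), (50, 4), (7, 3), (114, 4), (101, 3), (118, 5), (105, 4), (14, 6), (102, 5), (90, 4), (105, 6), (12, 5), (117, 6), (104, 5), (119, 7), (13, 6), (14, 6), (78, 5), (59, 4), (8, 3), (117, 4), (118, 5), (119, 6), (115, 7), (102, 6), (90, 5), (79, 4), (9, 3), (117, 3), (118, 4), (119, 5), (14, 6), (105, 5), (12, 4), (13, 4), (80, 3), (117, 7), (104, 6), (92, 5), (11, 4), (119, 6), (13, 5), (119, 5), (109, 6), (96, 5), (84, 4), (63, 3), (28, 2), (3,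 1), (111, 5), (98, 4), (86, 3), (75, 2), (65, 1), (117, 4), (104, 3), (119, 5), (13, 4), (118, 4), (14, 5), (116, 6), (103, 5), (91, 4), (80, 3), (10, 2), (117, 5), (104, 4), (92, 3), (11, 2), (118, 4), (105, 3), (12, 2), (119, 3), (13, 2), (14, 2), (12, 3), (14, 4), (97, 3), (64, 2), (29, 1), (103, 8), (80, 7), (10, 6), (105, 7), (119, 9), (13, 8), (112, 8), (87, 7), (76, 6), (57, 5), (42, 4), (6, 3), (88, 3), (12, 4), (115, 5), (102, 4), (118, 6), (105, 5), (14, 7), (104, 6), (92, 5), (105, 7), (12, 6), (113, 7), (100, 6), (77, 5), (58, 4), (7, 3), (115, 4), (102, 3), (118, 5), (105, 4), (14, 6), (104, 5), (92, 4), (13, 6), (119, 6), (14, 7), (96, 6), (84, 5), (73, 4), (54, 3), (28, 2), (24, 1), (111, 6), (98, 5), (86, 4), (48, 3), (118, 6), (105, 5), (14, 7), (13, 6), (116, 6), (91, 5), (117, 7), (92, 6), (118, 8), (12, 7), (119, 7), (14, 8), (102, 7), (79, 6),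 (69, 5), (105, 8), (117, 10), (104, 9), (92, 8), (11, 7), (118, 9), (105, 8), (12, 7), (14, 8), (105, 7), (13, 8), (112, 8), (87, 7), (66, 6), (57, 5), (49, 4), (90, 6), (12, 7), (116, 7), (118, 8), (14, 9), (91, 8), (10, 7), (92, 7), (95, 9), (83, 8), (72, 7), (53, 6), (45, 5), (32, 4), (27, 3), (23, 2), (20, 1), (110, 8), (97, 7), (85, 6), (74, 5), (64, 4), (55, 3), (116, 6), (103, 5), (118, 7), (105, 6), (14, 8), (104, 7), (92, 6), (105, 8), (12, 7), (13, 7), (112, 7), (76, 6), (66, 5), (57, 4), (116, 7), (91, 6), (117, 8), (92, 7), (14, 9), (88, 8), (77, 7), (67, 6), (58, 5), (116, 8), (91, 7), (14, 9), (92, 8), (12, 9), (79, 8), (69, 7), (9, 6), (116, 6), (117, 7), (116, 8), (80, 7), (10, 6), (118, 7), (119, 8), (14, 9), (98, 8), (86, 7), (75, 6), (41, 5), (35, 4), (113, 8), (58, 7), (50, 6), (115, 9), (90, 8), (118, 10), (12, 9), (14, 9), (114, 9), (59, 8),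 (8, 7), (14, 8), (9, 7), (118, 7), (119, 8), (117, 9), (104, 8), (92, 7), (119, 10), (13, 9), (118, 9), (12, 8), (14, 8), (99, 8), (76, 7), (42, 6), (6, 5), (88, 5), (12, 6), (117, 7), (104, 6), (119, 8), (13, 7), (113, 7), (77, 6), (7, 5), (117, 6), (104, 5), (14, 7), (101, 6), (78, 5), (105, 7), (13, 8), (87, 7), (76, 6), (49, 5), (92, 7), (12, 8), (78, 7), (8, 6), (79, 6), (89, 8), (78, 7), (59, 6), (117, 8), (118, 9), (118, 10), (12, 9), (115, 9), (79, 8), (9, 7), (117, 7), (14, 8), (104, 9), (92, 8), (11, 7), (13, 8), (12, 7), (119, 7), (110, 8), (97, 7), (47, 6), (34, 5), (29, 4), (4, 3), (99, 9), (76, 8), (66, 7), (57, 6), (42, 5), (6, 4), (88, 4), (12, 5), (115, 6), (102, 5), (118, 7), (105, 6), (14, 8), (103, 7), (91, 6), (104, 8), (92, 7), (13, 9), (12, 8), (101, 8), (78, 7), (68, 6), (59, 5), (116, 7), (117, 8), (119, 9), (119, 10), (13, 9), (14, 9),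 (77, 8), (67, 7), (58, 6), (50, 5), (7, 4), (114, 5), (101, 4), (118, 6), (105, 5), (14, 7), (102, 6), (90, 5), (105, 7), (12, 6), (116, 7), (103, 6), (14, 8), (104, 7), (101, 8), (78, 7), (68, 6), (59, 5), (8, 4), (116, 5), (117, 6), (119, 7), (116, 8), (103, 7), (80, 6), (10, 5), (117, 7), (104, 6), (11, 5), (118, 6), (105, 5), (119, 7), (13, 6), (14, 6)]⟩,
    ⟨5, [1, 1], [9], [(38, 2), (23, 1), (2, 0), (110, 4), (64, 3), (47, 2), (40, 1), (34, 0), (100, 3), (88, 2), (101, 4), (89, 3), (103, 5), (91, 4), (105, 6), (12, 5), (14, 6), (99, 5), (66, 4), (49, 3), (42, 2), (6, 1), (88, 1), (12, 2), (114, 3), (101, 2), (118, 4), (105, 3), (116, 5), (103, 4), (91, 3), (119, 6), (13, 5), (113, 5), (88, 4), (67, 3), (50, 2), (7, 1), (114, 2), (101, 1), (118, 3), (105, 2), (14, 4), (103, 3), (91, 2), (118, 5), (105, 4), (12, 3), (14, 4), (102, 3), (69, 2), (103, 4), (10,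 3), (105, 3), (13, 4), (113, 4), (88, 3), (58, 2), (50, 1), (115, 4), (90, 3), (118, 5), (12, 4), (14, 4), (114, 5), (89, 4), (59, 3), (8, 2), (118, 3), (14, 4), (90, 3), (9, 2), (118, 2), (118, 3), (12, 2), (119, 2), (14, 3), (97, 2), (40, 1), (4, 0), (100, 1), (7, 0), (119, 1), (13, 0)], [], [(84, 5), (73, 4), (63, 3), (46, 2), (33, 1), (3, 0), (112, 4), (99, 3), (87, 2), (76, 1), (66, 0), (116, 5), (103, 4), (91, 3), (80, 2), (10, 1), (117, 4), (104, 3), (92, 2), (11, 1), (119, 3), (13, 2), (14, 2), (89, 1), (12, 2), (92, 3), (12, 4), (118, 4), (112, 5), (87, 4), (76, 3), (66, 2), (49, 1), (6, 0), (89, 0), (12, 1), (114, 4), (89, 3), (78, 2), (68, 1), (8, 0), (116, 3), (91, 2), (80, 1), (10, 0), (117, 2), (92, 1), (11, 0), (118, 1), (12, 0)], []⟩,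
    ⟨5, [2, 2], [9], [(73, 2), (39, 1), (3, 0), (113, 4), (100, 3), (88, 2), (77, 1), (67, 0), (117, 2), (118, 3), (119, 4), (14, 5), (103, 4), (91, 3), (80, 2), (10, 1), (104, 3), (92, 2), (11, 1), (117, 3), (104, 2), (92, 1), (118, 4), (105, 3), (12, 2), (14, 3), (100, 2), (77, 1), (7, 0), (117, 1), (104, 0), (119, 2), (13, 1), (117, 1), (11, 0)], [], [(112, 6), (87, 5), (76, 4), (57, 3), (49, 2), (42, 1), (6, 0), (88, 0), (12, 1), (114, 2), (101, 1), (118, 3), (105, 2), (115, 4), (102, 3), (90, 2), (118, 5), (105, 4), (12, 3), (14, 4), (104, 3), (105, 4), (113, 6), (100, 5), (88, 4), (77, 3), (58, 2), (50, 1), (7, 0), (114, 1), (101, 0), (118, 2), (105, 1), (14, 3), (102, 2), (90, 1), (105, 3), (12, 2), (117, 3), (104, 2), (118, 4), (105, 3), (119, 5), (13, 4), (14, 4), (89, 3), (78, 2), (59, 1), (8, 0), (117, 1), (118, 2), (115, 3), (90, 2), (79, 1), (9, 0),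 (117, 0), (118, 1), (14, 2), (92, 1), (11, 0), (12, 0)], []⟩,
    ⟨5, [3, 3], [], [(76, 2), (42, 1), (6, 0), (88, 0), (12, 1), (117, 2), (104, 1), (113, 3), (100, 2), (77, 1), (7, 0), (117, 1), (104, 0), (119, 2), (13, 1), (14, 1), (11, 0)], [], [(99, 6), (87, 5), (66, 4), (57, 3), (49, 2), (42, 1), (6, 0), (88, 0), (12, 1), (114, 2), (101, 1), (118, 3), (105, 2), (115, 4), (102, 3), (90, 2), (118, 5), (105, 4), (12, 3), (14, 4), (103, 3), (105, 4), (13, 5), (88, 4), (67, 3), (58, 2), (50, 1), (7, 0), (114, 1), (101, 0), (118, 2), (105, 1), (14, 3), (102, 2), (90, 1), (105, 3), (12, 2), (116, 3), (103, 2), (14, 4), (105, 3), (101, 4), (89, 3), (68, 2), (59, 1), (8, 0), (116, 1), (118, 2), (119, 3), (115, 4), (102, 3), (90, 2), (69, 1), (9, 0), (116, 0), (118, 1), (119, 2), (14, 3), (103, 2), (91, 1), (10, 0), (105, 1), (12, 0), (13, 0)], []⟩]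

/-- Part of the certificate. -/
def fusesPart6 : List Spor.SchurCert.Fuse := [
    ⟨5, [4, 4], [], [(8, 0)], [], [(46, 2), (33, 1), (3, 0), (112, 4), (99, 3), (87, 2), (76, 1), (66, 0), (116, 5), (103, 4), (91, 3), (80, 2), (10, 1), (117, 4), (104, 3), (92, 2), (11, 1), (119, 3), (13, 2), (14, 2), (89, 1), (12, 2), (49, 1), (6, 0), (89, 0), (12, 1), (8, 0)], []⟩,
    ⟨5, [6, 6], [], [(80, 1), (10, 0), (11, 0)], [], [(108, 6), (95, 5), (38, 4), (32, 3), (23, 2), (20, 1), (2, 0), (109, 4), (63, 3), (46, 2), (39, 1), (33, 0), (113, 5), (100, 4), (77, 3), (67, 2), (117, 4), (119, 5), (14, 6), (103, 5), (80, 4), (10, 3), (104, 4), (11, 3), (114, 4), (101, 3), (118, 5), (105, 4), (116, 6), (103, 5), (91, 4), (118, 7), (105, 6), (12, 5), (14, 6), (102, 5), (69, 4), (103, 6), (10, 5), (104, 5), (105, 6), (13, 7), (110, 7), (85, 6), (74, 5), (55, 4), (47, 3), (40, 2), (34,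 1), (100, 4), (88, 3), (101, 5), (89, 4), (102, 6), (90, 5), (13, 7), (117, 7), (92, 6), (118, 8), (12, 7), (14, 7), (76, 6), (57, 5), (49, 4), (42, 3), (6, 2), (88, 2), (12, 3), (114, 4), (101, 3), (118, 5), (105, 4), (115, 6), (102, 5), (90, 4), (118, 7), (105, 6), (12, 5), (14, 6), (104, 5), (100, 6), (77, 5), (58, 4), (50, 3), (7, 2), (114, 3), (101, 2), (118, 4), (105, 3), (14, 5), (102, 4), (90, 3), (105, 5), (12, 4), (117, 5), (104, 4), (119, 6), (13, 5), (115, 5), (79, 4), (9, 3), (117, 3), (14, 4), (80, 3), (112, 7), (99, 6), (87, 5), (76, 4), (66, 3), (49, 2), (91, 4), (92, 5), (12, 6), (114, 7), (101, 6), (78, 5), (68, 4), (8, 3), (115, 6), (102, 5), (79, 4), (69, 3), (118, 7), (105, 6), (113, 8), (100, 7), (88, 6), (77, 5), (67, 4), (58, 3), (116, 6), (91, 5), (14, 7), (92, 6), (12, 7), (114, 8), (101, 7), (78, 6), (68, 5), (59, 4), (116, 6), (117, 7),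 (119, 8), (14, 9), (102, 8), (79, 7), (69, 6), (9, 5), (116, 5), (117, 6), (119, 7), (118, 8), (105, 7), (119, 9), (13, 8), (14, 8), (109, 9), (96, 8), (84, 7), (73, 6), (63, 5), (46, 4), (39, 3), (33, 2), (24, 1), (3, 0), (110, 4), (97, 3), (85, 2), (74, 1), (64, 0), (117, 3), (92, 2), (118, 4), (12, 3), (119, 3), (14, 4), (101, 3), (78, 2), (68, 1), (105, 4), (13, 5), (112, 5), (87, 4), (76, 3), (66, 2), (49, 1), (91, 3), (92, 4), (12, 5), (116, 5), (80, 4), (10, 3), (117, 4), (11, 3), (119, 3), (14, 4), (100, 3), (50, 2), (119, 5), (116, 6), (103, 5), (91, 4), (117, 7), (104, 6), (92, 5), (14, 8), (101, 7), (89, 6), (78, 5), (68, 4), (8, 3), (105, 6), (12, 5), (103, 5), (80, 4), (10, 3), (105, 4), (104, 5), (92, 4), (11, 3), (105, 4), (12, 3), (118, 4), (105, 3), (119, 5), (13, 4), (14, 4), (110, 4), (85, 3), (40, 2), (34, 1), (4, 0), (100, 2), (88, 1), (105,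 3), (12, 2), (112, 3), (99, 2), (42, 1), (6, 0), (88, 0), (12, 1), (119, 2), (13, 1), (14, 1), (7, 0), (119, 1), (13, 0), (14, 0)], []⟩,
    ⟨5, [7, 7], [], [(12, 0)], [], [(96, 4), (73, 3), (63, 2), (33, 1), (3, 0), (112, 4), (99, 3), (87, 2), (76, 1), (66, 0), (116, 5), (103, 4), (91, 3), (80, 2), (10, 1), (117, 4), (104, 3), (92, 2), (11, 1), (119, 3), (13, 2), (14, 2), (91, 1), (12, 2), (119, 4), (14, 5), (99, 4), (87, 3), (76, 2), (66, 1), (6, 0), (91, 0), (92, 1), (12, 2), (103, 2), (80, 1), (10, 0), (104, 1), (11, 0), (13, 0)], []⟩,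
    ⟨6, [0, 0], [], [(71, 7), (61, 6), (44, 5), (37, 4), (31, 3), (26, 2), (22, 1), (1, 0), (97, 3), (64, 2), (47, 1), (34, 0), (101, 3), (89, 2), (103, 4), (91, 3), (105, 5), (12, 4), (119, 5), (13, 4), (112, 4), (66, 3), (49, 2), (6, 1), (89, 1), (12, 2), (115, 3), (69, 2), (116, 4), (10, 3), (118, 3), (111, 4), (86, 3), (56, 2), (48, 1), (115, 4), (102, 3), (119, 5), (13, 4), (14, 4), (14, 5), (87, 4), (57, 3), (49, 2), (90, 4), (12, 5), (118, 5), (113, 6), (88, 5), (58, 4), (50, 3), (115, 6), (90, 5), (118, 7), (12, 6), (14, 6), (115, 7), (90, 6), (9, 5), (118, 5), (14, 6), (12, 5), (49, 4), (42, 3), (6, 2), (88, 2), (12, 3), (114, 4), (101, 3), (118, 5), (105, 4), (116, 6), (103, 5), (91, 4), (117, 7), (104, 6), (92, 5), (118, 8), (105, 7), (12, 6), (113, 7), (100, 6), (77, 5), (67, 4), (50, 3), (7, 2), (114, 3), (101, 2), (118, 4), (105, 3), (14, 5), (103,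 4), (91, 3), (117, 6), (104, 5), (92, 4), (119, 7), (13, 6), (14, 6), (89, 5), (78, 4), (68, 3), (8, 2), (90, 4), (79, 3), (69, 2), (12, 5), (101, 5), (78, 4), (68, 3), (59, 2), (116, 4), (117, 5), (119, 6), (116, 7), (103, 6), (80, 5), (10, 4), (117, 6), (104, 5), (11, 4), (116, 5), (103, 4), (118, 6), (105, 5), (117, 7), (104, 6), (92, 5), (110, 8), (97, 7), (85, 6), (74, 5), (64, 4), (55, 3), (47, 2), (29, 1), (4, 0), (101, 6), (78, 5), (68, 4), (59, 3), (116, 5), (117, 6), (119, 7), (115, 8), (102, 7), (79, 6), (69, 5), (9, 4), (116, 4), (117, 5), (119, 6), (14, 7), (13, 6), (116, 6), (80, 5), (10, 4), (118, 5), (14, 6), (92, 5), (11, 4), (12, 4), (111, 5), (98, 4), (48, 3), (41, 2), (35, 1), (5, 0), (99, 3), (87, 2), (76, 1), (66, 0), (101, 4), (89, 3), (78, 2), (68, 1), (102, 5), (90, 4), (79, 3), (69, 2), (113, 7), (100, 6), (88, 5), (77, 4), (67, 3), (58,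 2), (50, 1), (115, 4), (90, 3), (118, 5), (12, 4), (14, 4), (117, 5), (118, 6), (119, 7), (14, 8), (101, 7), (89, 6), (78, 5), (68, 4), (59, 3), (8, 2), (116, 3), (117, 4), (118, 5), (119, 6), (115, 7), (102, 6), (90, 5), (79, 4), (69, 3), (9, 2), (116, 2), (117, 3), (118, 4), (119, 5), (14, 6), (105, 5), (12, 4), (13, 4), (78, 3), (68, 2), (119, 6), (13, 5), (14, 5), (76, 4), (66, 3), (49, 2), (42, 1), (6, 0), (88, 0), (12, 1), (114, 2), (101, 1), (118, 3), (105, 2), (116, 4), (103, 3), (91, 2), (117, 5), (104, 4), (92, 3), (113, 6), (100, 5), (88, 4), (77, 3), (67, 2), (50, 1), (7, 0), (114, 1), (101, 0), (118, 2), (105, 1), (14, 3), (103, 2), (91, 1), (117, 4), (104, 3), (92, 2), (118, 5), (105, 4), (12, 3), (119, 4), (13, 3), (14, 3), (78, 2), (68, 1), (8, 0), (80, 1), (10, 0), (11, 0)], [], [(71, 6), (61, 5), (37, 4), (26, 3), (22, 2), (19, 1), (1, 0), (96,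 3), (63, 2), (46, 1), (33, 0), (114, 5), (101, 4), (78, 3), (68, 2), (118, 6), (105, 5), (116, 7), (103, 6), (91, 5), (80, 4), (10, 3), (118, 6), (105, 5), (12, 4), (119, 5), (13, 4), (14, 4), (79, 3), (74, 4), (55, 3), (47, 2), (34, 1), (101, 4), (89, 3), (102, 5), (90, 4), (13, 6), (117, 6), (92, 5), (112, 7), (87, 6), (76, 5), (57, 4), (49, 3), (6, 2), (89, 2), (12, 3), (117, 5), (92, 4), (118, 6), (12, 5), (14, 5), (79, 4), (9, 3), (117, 3), (116, 4), (80, 3), (118, 5), (111, 6), (86, 5), (75, 4), (65, 3), (48, 2), (116, 5), (103, 4), (119, 6), (13, 5), (14, 5), (105, 6), (14, 8), (99, 7), (87, 6), (76, 5), (66, 4), (49, 3), (91, 5), (92, 6), (12, 7), (100, 7), (77, 6), (67, 5), (50, 4), (116, 7), (91, 6), (14, 8), (92, 7), (102, 9), (90, 8), (79, 7), (69, 6), (105, 10), (12, 9), (100, 9), (77, 8), (67, 7), (58, 6), (50, 5), (7, 4), (114, 5), (101, 4), (118,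 6), (105, 5), (14, 7), (102, 6), (90, 5), (105, 7), (12, 6), (116, 7), (103, 6), (14, 8), (104, 7), (13, 8), (78, 7), (68, 6), (59, 5), (8, 4), (116, 5), (117, 6), (115, 7), (79, 6), (69, 5), (9, 4), (116, 4), (117, 5), (14, 6), (103, 7), (91, 6), (80, 5), (10, 4), (105, 6), (12, 5), (104, 5), (11, 4), (96, 4), (33, 3), (28, 2), (24, 1), (3, 0), (110, 4), (97, 3), (85, 2), (74, 1), (64, 0), (117, 3), (92, 2), (118, 4), (12, 3), (119, 3), (14, 4), (101, 3), (78, 2), (68, 1), (105, 4), (13, 5), (111, 5), (86, 4), (75, 3), (65, 2), (48, 1), (116, 4), (103, 3), (119, 5), (13, 4), (14, 4), (105, 5), (14, 7), (103, 6), (91, 5), (80, 4), (10, 3), (104, 5), (92, 4), (11, 3), (105, 4), (12, 3), (13, 3), (112, 3), (49, 2), (116, 5), (91, 4), (117, 6), (92, 5), (119, 7), (14, 8), (13, 7), (110, 7), (85, 6), (74, 5), (64, 4), (47, 3), (34, 2), (29, 1), (4, 0), (99, 6), (76,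 5), (66, 4), (57, 3), (42, 2), (6, 1), (88, 1), (12, 2), (115, 3), (102, 2), (118, 4), (105, 3), (14, 5), (103, 4), (91, 3), (104, 5), (92, 4), (13, 6), (12, 5), (101, 5), (78, 4), (68, 3), (59, 2), (116, 4), (117, 5), (119, 6), (116, 7), (103, 6), (80, 5), (10, 4), (118, 6), (105, 5), (14, 7), (104, 6), (92, 5), (11, 4), (105, 5), (12, 4), (111, 5), (98, 4), (56, 3), (48, 2), (41, 1), (5, 0), (100, 3), (88, 2), (77, 1), (67, 0), (117, 2), (118, 3), (119, 4), (114, 5), (101, 4), (89, 3), (78, 2), (68, 1), (115, 6), (102, 5), (90, 4), (79, 3), (69, 2), (118, 7), (105, 6), (12, 5), (119, 6), (13, 5), (114, 5), (78, 4), (68, 3), (59, 2), (8, 1), (116, 2), (117, 3), (14, 4), (115, 5), (102, 4), (79, 3), (69, 2), (9, 1), (116, 1), (117, 2), (119, 3), (14, 4), (13, 3), (119, 3), (14, 4), (100, 3), (77, 2), (67, 1), (7, 0), (116, 1), (103, 0), (14, 2), (104, 1), (13, 2),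 (80, 1), (10, 0), (11, 0)], []⟩,
    ⟨6, [1, 1], [], [(108, 7), (83, 6), (72, 5), (62, 4), (45, 3), (38, 2), (23, 1), (2, 0), (110, 4), (64, 3), (47, 2), (40, 1), (34, 0), (100, 3), (88, 2), (101, 4), (89, 3), (103, 5), (91, 4), (105, 6), (12, 5), (14, 6), (99, 5), (66, 4), (49, 3), (42, 2), (6, 1), (88, 1), (12, 2), (114, 3), (101, 2), (118, 4), (105, 3), (116, 5), (103, 4), (91, 3), (119, 6), (13, 5), (113, 5), (88, 4), (67, 3), (50, 2), (7, 1), (114, 2), (101, 1), (118, 3), (105, 2), (14, 4), (103, 3), (91, 2), (118, 5), (105, 4), (12, 3), (14, 4), (102, 3), (69, 2), (103, 4), (10, 3), (105, 3), (13, 4), (113, 4), (88, 3), (58, 2), (50, 1), (115, 4), (90, 3), (118, 5), (12, 4), (14, 4), (114, 5), (89, 4), (59, 3), (8, 2), (118, 3), (14, 4), (90, 3), (9, 2), (118, 2), (118, 3), (12, 2), (119, 2), (14, 3), (101, 2), (105, 3), (103, 4), (91, 3), (105, 5), (12, 4),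 (13, 4), (117, 4), (119, 5), (118, 6), (105, 5), (14, 7), (110, 7), (97, 6), (85, 5), (74, 4), (64, 3), (47, 2), (40, 1), (4, 0), (117, 4), (92, 3), (118, 5), (12, 4), (119, 4), (14, 5), (100, 4), (77, 3), (67, 2), (50, 1), (7, 0), (114, 1), (101, 0), (118, 2), (105, 1), (14, 3), (103, 2), (91, 1), (117, 4), (104, 3), (92, 2), (119, 5), (13, 4), (114, 4), (89, 3), (78, 2), (68, 1), (8, 0), (116, 3), (91, 2), (80, 1), (10, 0), (117, 2), (92, 1), (11, 0), (118, 1), (12, 0), (14, 0)], [], [(108, 8), (95, 7), (72, 6), (62, 5), (38, 4), (32, 3), (23, 2), (20, 1), (2, 0), (109, 4), (63, 3), (46, 2), (39, 1), (33, 0), (113, 5), (100, 4), (77, 3), (67, 2), (117, 4), (119, 5), (14, 6), (103, 5), (80, 4), (10, 3), (104, 4), (11, 3), (114, 4), (101, 3), (118, 5), (105, 4), (116, 6), (103, 5), (91, 4), (118, 7), (105, 6), (12, 5), (14, 6), (102, 5), (69, 4), (103, 6), (10,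 5), (104, 5), (105, 6), (13, 7), (110, 7), (85, 6), (74, 5), (55, 4), (47, 3), (40, 2), (34, 1), (100, 4), (88, 3), (101, 5), (89, 4), (102, 6), (90, 5), (13, 7), (117, 7), (92, 6), (118, 8), (12, 7), (14, 7), (76, 6), (57, 5), (49, 4), (42, 3), (6, 2), (88, 2), (12, 3), (114, 4), (101, 3), (118, 5), (105, 4), (115, 6), (102, 5), (90, 4), (118, 7), (105, 6), (12, 5), (14, 6), (104, 5), (100, 6), (77, 5), (58, 4), (50, 3), (7, 2), (114, 3), (101, 2), (118, 4), (105, 3), (14, 5), (102, 4), (90, 3), (105, 5), (12, 4), (117, 5), (104, 4), (119, 6), (13, 5), (115, 5), (79, 4), (9, 3), (117, 3), (14, 4), (80, 3), (112, 7), (99, 6), (87, 5), (76, 4), (66, 3), (49, 2), (91, 4), (92, 5), (12, 6), (114, 7), (101, 6), (78, 5), (68, 4), (8, 3), (115, 6), (102, 5), (79, 4), (69, 3), (118, 7), (105, 6), (113, 8), (100, 7), (88, 6), (77, 5), (67, 4), (58, 3), (116, 6), (91, 5),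 (14, 7), (92, 6), (12, 7), (114, 8), (101, 7), (78, 6), (68, 5), (59, 4), (116, 6), (117, 7), (119, 8), (14, 9), (102, 8), (79, 7), (69, 6), (9, 5), (116, 5), (117, 6), (119, 7), (118, 8), (105, 7), (119, 9), (13, 8), (14, 8), (91, 7), (80, 6), (10, 5), (12, 6), (117, 7), (104, 6), (11, 5), (119, 6), (13, 5), (119, 5), (14, 6), (96, 5), (46, 4), (39, 3), (33, 2), (24, 1), (3, 0), (110, 4), (97, 3), (85, 2), (74, 1), (64, 0), (117, 3), (92, 2), (118, 4), (12, 3), (119, 3), (14, 4), (101, 3), (78, 2), (68, 1), (105, 4), (13, 5), (112, 5), (87, 4), (76, 3), (66, 2), (49, 1), (91, 3), (92, 4), (12, 5), (116, 5), (80, 4), (10, 3), (117, 4), (11, 3), (119, 3), (14, 4), (100, 3), (50, 2), (119, 5), (116, 6), (103, 5), (91, 4), (117, 7), (104, 6), (92, 5), (14, 8), (101, 7), (89, 6), (78, 5), (68, 4), (8, 3), (105, 6), (12, 5), (13, 5), (110, 5), (74, 4), (64, 3), (40,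 2), (34, 1), (4, 0), (100, 2), (88, 1), (103, 3), (91, 2), (105, 4), (12, 3), (117, 4), (104, 3), (14, 5), (99, 4), (76, 3), (66, 2), (42, 1), (6, 0), (88, 0), (12, 1), (116, 2), (103, 1), (117, 3), (104, 2), (119, 4), (13, 3), (113, 3), (77, 2), (67, 1), (7, 0), (116, 1), (103, 0), (14, 2), (104, 1), (116, 3), (103, 2), (80, 1), (10, 0), (117, 2), (104, 1), (11, 0), (119, 1), (13, 0), (14, 0)], []⟩,
    ⟨7, [0, 0], [2, 3, 4, 6, 7, 9], [(25, 1), (0, 0), (111, 6), (98, 5), (75, 4), (41, 3), (5, 2), (100, 5), (88, 4), (77, 3), (67, 2), (117, 4), (118, 5), (119, 6), (114, 7), (101, 6), (89, 5), (78, 4), (68, 3), (115, 8), (102, 7), (90, 6), (79, 5), (69, 4), (118, 9), (105, 8), (12, 7), (119, 8), (13, 7), (117, 7), (11, 6), (119, 6), (119, 7), (13, 6), (14, 6), (68, 5), (59, 4), (8, 3), (116, 4), (119, 5), (111, 6), (98, 5), (65, 4), (56, 3), (41, 2), (102, 7), (90,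 6), (9, 5), (118, 5), (119, 6), (119, 7), (13, 6), (14, 6), (91, 5), (119, 8), (13, 7), (14, 7)], [(29, 1), (99, 8), (76, 7), (66, 6), (57, 5), (42, 4), (6, 3), (88, 3), (12, 4), (115, 5), (102, 4), (118, 6), (105, 5), (14, 7), (103, 6), (91, 5), (104, 7), (92, 6), (13, 8), (89, 7), (78, 6), (68, 5), (59, 4), (116, 6), (117, 7), (118, 8), (115, 9), (90, 8), (79, 7), (69, 6), (9, 5), (116, 5), (117, 6), (118, 7), (14, 8), (92, 7), (11, 6)], [(70, 5), (60, 4), (43, 3), (30, 2), (25, 1), (0, 0), (111, 6), (98, 5), (75, 4), (41, 3), (5, 2), (100, 5), (88, 4), (77, 3), (67, 2), (117, 4), (118, 5), (119, 6), (114, 7), (101, 6), (89, 5), (78, 4), (68, 3), (115, 8), (102, 7), (90, 6), (79, 5), (69, 4), (118, 9), (105, 8), (12, 7), (119, 8), (13, 7), (117, 7), (11, 6), (119, 6), (119, 7), (13, 6), (14, 6), (68, 5), (59, 4), (8, 3), (116, 4), (119, 5), (112, 6), (99, 5),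 (66, 4), (57, 3), (42, 2), (115, 6), (102, 5), (90, 4), (118, 7), (105, 6), (12, 5), (14, 6), (103, 5), (13, 6), (114, 6), (68, 5), (59, 4), (116, 6), (14, 7), (69, 6), (9, 5), (116, 5), (116, 6), (10, 5), (118, 5), (114, 6), (89, 5), (8, 4), (116, 5), (91, 4), (117, 6), (92, 5), (118, 7), (12, 6), (119, 6), (116, 7), (103, 6), (80, 5), (10, 4), (117, 6), (104, 5), (11, 4), (119, 5), (13, 4), (111, 4), (41, 3), (35, 2), (113, 6), (58, 5), (50, 4), (115, 7), (90, 6), (118, 8), (12, 7), (14, 7), (114, 7), (59, 6), (8, 5), (14, 6), (9, 5), (118, 5), (119, 6), (14, 7), (99, 6), (87, 5), (42, 4), (6, 3), (88, 3), (12, 4), (118, 5), (105, 4), (119, 6), (13, 5), (114, 5), (89, 4), (116, 6), (91, 5), (117, 7), (92, 6)], [(106, 6), (93, 5), (81, 4), (30, 3), (25, 2), (15, 1), (0, 0), (107, 6), (94, 5), (71, 4), (37, 3), (26, 2), (22, 1), (17, 0), (110, 5), (55, 4), (47,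 3), (40, 2), (14, 7), (99, 6), (57, 5), (49, 4), (42, 3), (114, 7), (101, 6), (89, 5), (118, 8), (105, 7), (12, 6), (115, 7), (102, 6), (118, 8), (105, 7), (14, 9), (13, 8), (90, 7), (9, 6), (118, 6), (116, 7), (91, 6), (118, 8), (12, 7), (111, 7), (65, 6), (48, 5), (41, 4), (35, 3), (113, 7), (58, 6), (50, 5), (115, 8), (90, 7), (118, 9), (12, 8), (14, 8), (114, 8), (59, 7), (8, 6), (14, 7), (9, 6), (118, 6), (119, 7), (114, 8), (101, 7), (89, 6), (119, 9), (13, 8), (14, 8), (91, 7), (14, 10), (99, 9), (87, 8), (66, 7), (49, 6), (42, 5), (6, 4), (88, 4), (12, 5), (114, 6), (101, 5), (118, 7), (105, 6), (116, 8), (103, 7), (91, 6), (118, 9), (105, 8), (12, 7), (119, 8), (13, 7), (113, 7), (67, 6), (50, 5), (7, 4), (114, 5), (101, 4), (118, 6), (105, 5), (14, 7), (103, 6), (91, 5), (14, 8), (102, 7), (90, 6), (69, 5), (105, 8), (12, 7), (100, 7), (67, 6), (58, 5),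 (50, 4), (115, 7), (90, 6), (118, 8), (12, 7), (14, 7), (119, 8), (114, 9), (101, 8), (68, 7), (59, 6), (8, 5), (116, 6), (119, 7), (14, 8), (102, 7), (69, 6), (9, 5), (116, 5), (119, 6), (118, 7), (105, 6), (119, 8), (13, 7), (117, 7), (92, 6), (119, 8), (14, 9), (95, 8), (83, 7), (72, 6), (62, 5), (38, 4), (27, 3), (23, 2), (2, 1), (110, 5), (64, 4), (47, 3), (40, 2), (34, 1), (100, 4), (88, 3), (101, 5), (89, 4), (103, 6), (91, 5), (105, 7), (12, 6), (14, 7), (99, 6), (66, 5), (49, 4), (42, 3), (6, 2), (88, 2), (12, 3), (114, 4), (101, 3), (118, 5), (105, 4), (116, 6), (103, 5), (91, 4), (119, 7), (13, 6), (113, 6), (88, 5), (67, 4), (50, 3), (7, 2), (114, 3), (101, 2), (118, 4), (105, 3), (14, 5), (103, 4), (91, 3), (118, 6), (105, 5), (12, 4), (14, 5), (102, 4), (69, 3), (103, 5), (10, 4), (105, 4), (13, 5), (111, 5), (86, 4), (56, 3), (48, 2), (115, 5), (102,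 4), (119, 6), (13, 5), (14, 5), (14, 6), (87, 5), (57, 4), (49, 3), (90, 5), (12, 6), (118, 6), (113, 7), (88, 6), (58, 5), (50, 4), (115, 7), (90, 6), (118, 8), (12, 7), (14, 7), (114, 8), (89, 7), (59, 6), (8, 5), (118, 6), (14, 7), (12, 6), (100, 6), (58, 5), (7, 4), (115, 5), (102, 4), (118, 6), (105, 5), (14, 7), (13, 6), (89, 5), (59, 4), (118, 6), (115, 7), (90, 6), (9, 5), (118, 5), (14, 6), (12, 5), (116, 6), (103, 5), (118, 7), (105, 6), (119, 8), (13, 7), (14, 7), (92, 6), (105, 8), (12, 7), (119, 8), (13, 7), (110, 7), (74, 6), (64, 5), (47, 4), (34, 3), (29, 2), (4, 1), (99, 7), (76, 6), (66, 5), (57, 4), (42, 3), (6, 2), (88, 2), (12, 3), (115, 4), (102, 3), (118, 5), (105, 4), (14, 6), (103, 5), (91, 4), (104, 6), (92, 5), (13, 7), (12, 6), (101, 6), (78, 5), (68, 4), (59, 3), (116, 5), (117, 6), (119, 7), (116, 8), (103, 7), (80, 6), (10, 5), (118,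 7), (105, 6), (14, 8), (104, 7), (92, 6), (11, 5), (111, 7), (98, 6), (86, 5), (56, 4), (48, 3), (41, 2), (5, 1), (100, 4), (88, 3), (77, 2), (67, 1), (117, 3), (118, 4), (119, 5), (114, 6), (101, 5), (89, 4), (78, 3), (68, 2), (115, 7), (102, 6), (90, 5), (79, 4), (69, 3), (118, 8), (105, 7), (12, 6), (119, 7), (13, 6), (114, 6), (78, 5), (68, 4), (59, 3), (8, 2), (116, 3), (117, 4), (14, 5), (115, 6), (102, 5), (79, 4), (69, 3), (9, 2), (116, 2), (117, 3), (119, 4), (14, 5), (13, 4), (118, 4), (14, 5), (114, 6), (101, 5), (89, 4), (78, 3), (68, 2), (116, 7), (103, 6), (91, 5), (80, 4), (10, 3), (118, 6), (105, 5), (12, 4), (111, 5), (98, 4), (75, 3), (48, 2), (41, 1), (101, 6), (89, 5), (59, 4), (8, 3), (118, 4), (119, 5), (119, 6), (13, 5), (14, 5), (92, 4), (13, 6), (114, 6), (89, 5), (78, 4), (59, 3), (117, 5), (118, 6), (14, 7), (99, 7), (87, 6), (76, 5),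 (57, 4), (49, 3), (42, 2), (114, 6), (101, 5), (89, 4), (118, 7), (105, 6), (12, 5), (115, 6), (102, 5), (118, 7), (105, 6), (14, 8), (104, 7), (92, 6), (105, 8), (12, 7), (13, 7), (78, 6), (59, 5), (8, 4), (117, 5), (115, 6), (79, 5), (9, 4), (117, 4), (14, 5), (80, 4), (12, 6), (119, 6), (14, 7), (94, 6), (71, 5), (61, 4), (37, 3), (31, 2), (26, 1), (1, 0), (98, 3), (65, 2), (48, 1), (35, 0), (114, 4), (59, 3), (8, 2), (14, 3), (116, 4), (103, 3), (119, 5), (13, 4), (14, 4), (99, 4), (66, 3), (57, 2), (6, 1), (90, 1), (12, 2), (116, 2), (119, 3), (113, 4), (100, 3), (67, 2), (58, 1), (116, 4), (91, 3), (14, 5), (115, 6), (102, 5), (90, 4), (69, 3), (9, 2), (116, 2), (118, 3), (119, 4), (14, 5), (105, 4), (12, 3), (99, 3), (66, 2), (42, 1), (116, 5), (103, 4), (91, 3), (119, 6), (13, 5), (116, 5), (91, 4), (10, 3), (117, 4), (92, 3), (118, 5), (12, 4), (113, 4),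 (77, 3), (7, 2), (117, 3), (104, 2), (14, 4), (101, 3), (78, 2), (102, 4), (79, 3), (105, 5), (13, 6), (91, 5), (80, 4), (12, 6), (11, 5), (97, 5), (64, 4), (55, 3), (47, 2), (34, 1), (29, 0), (99, 7), (76, 6), (66, 5), (57, 4), (42, 3), (6, 2), (88, 2), (12, 3), (115, 4), (102, 3), (118, 5), (105, 4), (14, 6), (103, 5), (91, 4), (104, 6), (92, 5), (13, 7), (12, 6), (101, 6), (78, 5), (68, 4), (59, 3), (116, 5), (117, 6), (119, 7), (115, 8), (102, 7), (79, 6), (69, 5), (9, 4), (116, 4), (117, 5), (119, 6), (14, 7), (13, 6), (116, 6), (80, 5), (10, 4), (118, 5), (14, 6), (98, 6), (86, 5), (75, 4), (48, 3), (41, 2), (5, 1), (100, 4), (88, 3), (77, 2), (67, 1), (117, 3), (118, 4), (119, 5), (114, 6), (101, 5), (89, 4), (78, 3), (68, 2), (115, 7), (102, 6), (90, 5), (79, 4), (69, 3), (118, 8), (105, 7), (12, 6), (119, 7), (13, 6), (114, 6), (78, 5), (68, 4), (59, 3),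 (8, 2), (116, 3), (117, 4), (14, 5), (117, 6), (104, 5), (11, 4), (119, 5), (13, 4), (118, 4), (14, 5), (101, 5), (89, 4), (68, 3), (59, 2), (116, 4), (118, 5), (119, 6), (115, 7), (102, 6), (90, 5), (69, 4), (9, 3), (116, 3), (118, 4), (119, 5), (14, 6), (104, 5), (92, 4), (105, 6), (12, 5), (13, 5), (74, 4), (64, 3), (47, 2), (40, 1), (4, 0), (117, 4), (92, 3), (112, 5), (87, 4), (76, 3), (66, 2), (49, 1), (42, 0), (114, 4), (101, 3), (89, 2), (118, 5), (105, 4), (12, 3), (116, 4), (103, 3), (117, 5), (104, 4), (118, 6), (105, 5), (14, 7), (100, 6), (88, 5), (77, 4), (67, 3), (50, 2), (7, 1), (114, 2), (101, 1), (118, 3), (105, 2), (14, 4), (103, 3), (91, 2), (117, 5), (104, 4), (92, 3), (118, 6), (105, 5), (12, 4), (119, 5), (13, 4), (114, 4), (78, 3), (68, 2), (8, 1), (115, 3), (79, 2), (69, 1), (117, 4), (11, 3), (118, 3), (119, 4), (110, 5), (97, 4), (85,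 3), (64, 2), (55, 1), (34, 0), (102, 3), (90, 2), (13, 4), (116, 4), (91, 3), (118, 5), (12, 4), (14, 4), (112, 6), (99, 5), (87, 4), (66, 3), (57, 2), (6, 1), (90, 1), (12, 2), (116, 2), (118, 3), (119, 4), (14, 5), (100, 4), (88, 3), (67, 2), (58, 1), (116, 4), (91, 3), (14, 5), (12, 4), (101, 4), (68, 3), (59, 2), (116, 4), (119, 5), (115, 6), (102, 5), (69, 4), (9, 3), (116, 3), (119, 4), (14, 5), (103, 4), (10, 3), (13, 3), (45, 2), (38, 1), (23, 0), (113, 8), (100, 7), (88, 6), (67, 5), (58, 4), (7, 3), (115, 4), (102, 3), (118, 5), (105, 4), (14, 6), (103, 5), (91, 4), (118, 7), (105, 6), (12, 5), (119, 6), (13, 5), (14, 5), (68, 4), (59, 3), (116, 5), (115, 6), (69, 5), (9, 4), (116, 4), (14, 5), (114, 7), (101, 6), (89, 5), (68, 4), (8, 3), (118, 6), (105, 5), (12, 4), (111, 5), (98, 4), (65, 3), (35, 2), (116, 6), (119, 7), (14, 8), (13, 7), (112, 7),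 (66, 6), (57, 5), (49, 4), (6, 3), (89, 3), (12, 4), (116, 6), (91, 5), (14, 7), (88, 6), (67, 5), (58, 4), (50, 3), (115, 6), (90, 5), (118, 7), (12, 6), (14, 6), (118, 7), (115, 8), (90, 7), (69, 6), (9, 5), (116, 5), (118, 6), (14, 7), (92, 6), (12, 7)]⟩,
    ⟨7, [1, 0], [0, 1, 2, 3, 7, 8, 10], [(15, 0), (86, 7), (65, 6), (48, 5), (5, 4), (101, 7), (89, 6), (78, 5), (68, 4), (13, 8), (116, 8), (91, 7), (80, 6), (10, 5), (119, 7), (14, 8), (105, 7), (12, 6)], [(26, 1), (83, 6), (53, 5), (38, 4), (32, 3), (27, 2), (99, 8), (87, 7), (49, 6), (42, 5), (6, 4), (88, 4), (12, 5), (114, 6), (101, 5), (118, 7), (105, 6), (118, 8), (105, 7), (12, 6), (119, 7), (13, 6), (114, 6), (8, 5), (115, 5), (118, 6), (113, 7), (88, 6), (58, 5), (7, 4), (115, 5), (102, 4), (118, 6), (105, 5), (14, 7), (105, 6), (12, 5), (114, 6), (101, 5), (59, 4), (119, 6), (14, 7), (102, 6), (9,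 5), (119, 5), (118, 6), (105, 5), (119, 7), (13, 6), (14, 6), (90, 5), (12, 6), (105, 6), (111, 8), (98, 7), (86, 6), (56, 5), (48, 4), (5, 3), (101, 6), (89, 5), (78, 4), (68, 3), (13, 7), (115, 7), (90, 6), (79, 5), (69, 4), (119, 8), (14, 9), (105, 8), (12, 7), (119, 8), (13, 7), (14, 7), (74, 6), (64, 5), (55, 4), (47, 3), (116, 7), (103, 6), (118, 8), (105, 7), (14, 9), (104, 8), (92, 7), (102, 9), (90, 8), (79, 7), (69, 6), (9, 5), (116, 5), (117, 6), (118, 7), (119, 8), (116, 9), (103, 8), (91, 7), (80, 6), (10, 5), (118, 8), (105, 7), (12, 6)], [(70, 6), (36, 5), (30, 4), (25, 3), (21, 2), (16, 1), (15, 0), (83, 7), (62, 6), (45, 5), (27, 4), (23, 3), (2, 2), (110, 6), (64, 5), (47, 4), (40, 3), (34, 2), (100, 5), (88, 4), (101, 6), (89, 5), (103, 7), (91, 6), (105, 8), (12, 7), (14, 8), (99, 7), (66, 6), (49, 5), (42, 4), (6, 3), (88, 3), (12, 4), (114,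 5), (101, 4), (118, 6), (105, 5), (116, 7), (103, 6), (91, 5), (119, 8), (13, 7), (113, 7), (88, 6), (67, 5), (50, 4), (7, 3), (114, 4), (101, 3), (118, 5), (105, 4), (14, 6), (103, 5), (91, 4), (118, 7), (105, 6), (12, 5), (14, 6), (102, 5), (69, 4), (103, 6), (10, 5), (105, 5), (13, 6), (111, 6), (86, 5), (56, 4), (48, 3), (115, 6), (102, 5), (119, 7), (13, 6), (14, 6), (14, 7), (87, 6), (57, 5), (49, 4), (90, 6), (12, 7), (118, 7), (113, 8), (88, 7), (58, 6), (50, 5), (115, 8), (90, 7), (118, 9), (12, 8), (14, 8), (114, 9), (89, 8), (59, 7), (8, 6), (118, 7), (14, 8), (12, 7), (101, 7), (59, 6), (119, 8), (118, 9), (105, 8), (116, 10), (103, 9), (91, 8), (118, 11), (105, 10), (12, 9), (119, 10), (13, 9), (14, 9), (113, 10), (88, 9), (67, 8), (58, 7), (50, 6), (7, 5), (114, 6), (101, 5), (118, 7), (105, 6), (14, 8), (102, 7), (90, 6), (105, 8), (12, 7), (116,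 8), (103, 7), (14, 9), (105, 8), (115, 10), (102, 9), (90, 8), (69, 7), (9, 6), (116, 6), (118, 7), (119, 8), (14, 9), (110, 9), (97, 8), (85, 7), (64, 6), (47, 5), (34, 4), (29, 3), (4, 2), (99, 8), (76, 7), (66, 6), (57, 5), (42, 4), (6, 3), (88, 3), (12, 4), (115, 5), (102, 4), (118, 6), (105, 5), (14, 7), (103, 6), (91, 5), (104, 7), (92, 6), (13, 8), (12, 7), (101, 7), (78, 6), (68, 5), (59, 4), (116, 6), (117, 7), (119, 8), (116, 9), (103, 8), (80, 7), (10, 6), (118, 8), (105, 7), (14, 9), (105, 8), (12, 7), (13, 7), (113, 7), (77, 6), (58, 5), (50, 4), (7, 3), (114, 4), (101, 3), (118, 5), (105, 4), (14, 6), (102, 5), (90, 4), (105, 6), (12, 5), (117, 6), (104, 5), (14, 7), (101, 6), (78, 5), (59, 4), (8, 3), (117, 4), (119, 5), (115, 6), (102, 5), (79, 4), (9, 3), (117, 3), (119, 4), (14, 5), (104, 4), (11, 3), (98, 3), (5, 2), (13, 5), (89, 4), (78, 3),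 (68, 2), (99, 6), (87, 5), (76, 4), (66, 3), (49, 2), (91, 4), (92, 5), (12, 6), (101, 6), (78, 5), (68, 4), (8, 3), (102, 5), (79, 4), (69, 3), (103, 6), (80, 5), (10, 4), (105, 5), (100, 6), (88, 5), (77, 4), (58, 3), (117, 6), (92, 5), (118, 7), (12, 6), (119, 6), (117, 7), (104, 6), (11, 5), (118, 6), (105, 5), (117, 7), (104, 6), (92, 5), (119, 8), (13, 7), (111, 7), (86, 6), (75, 5), (56, 4), (41, 3), (35, 2), (113, 6), (58, 5), (50, 4), (115, 7), (90, 6), (118, 8), (12, 7), (14, 7), (114, 7), (59, 6), (8, 5), (14, 6), (9, 5), (118, 5), (119, 6), (115, 7), (102, 6), (90, 5), (119, 8), (13, 7), (14, 7), (92, 6), (105, 8), (12, 7), (14, 8), (99, 7), (76, 6), (57, 5), (42, 4), (6, 3), (88, 3), (12, 4), (115, 5), (102, 4), (118, 6), (105, 5), (14, 7), (104, 6), (92, 5), (13, 7), (89, 6), (78, 5), (59, 4), (117, 6), (118, 7), (116, 8), (91, 7), (80, 6), (117, 9),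 (92, 8), (11, 7)], [(71, 5), (61, 4), (44, 3), (31, 2), (26, 1), (87, 6), (57, 5), (42, 4), (6, 3), (88, 3), (12, 4), (115, 5), (102, 4), (118, 6), (105, 5), (14, 7), (105, 6), (12, 5), (103, 5), (104, 6), (105, 7), (101, 8), (89, 7), (78, 6), (68, 5), (59, 4), (116, 6), (117, 7), (118, 8), (119, 9), (116, 10), (103, 9), (91, 8), (80, 7), (10, 6), (117, 9), (104, 8), (92, 7), (11, 6), (116, 8), (103, 7), (91, 6), (118, 9), (105, 8), (12, 7), (117, 8), (104, 7), (108, 9), (95, 8), (72, 7), (62, 6), (53, 5), (45, 4), (38, 3), (27, 2), (100, 8), (88, 7), (50, 6), (7, 5), (114, 6), (101, 5), (118, 7), (105, 6), (14, 8), (105, 7), (12, 6), (13, 6), (8, 5), (114, 8), (101, 7), (89, 6), (59, 5), (118, 7), (119, 8), (14, 9), (105, 8), (12, 7), (102, 7), (9, 6), (119, 6), (118, 7), (105, 6), (119, 8), (13, 7), (116, 7), (91, 6), (118, 8), (12, 7), (119, 7), (14, 8), (104,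 7), (13, 8), (110, 9), (97, 8), (74, 7), (64, 6), (47, 5), (34, 4), (29, 3), (99, 10), (76, 9), (66, 8), (57, 7), (42, 6), (6, 5), (88, 5), (12, 6), (115, 7), (102, 6), (118, 8), (105, 7), (14, 9), (103, 8), (91, 7), (104, 9), (92, 8), (13, 10), (12, 9), (101, 9), (78, 8), (68, 7), (59, 6), (116, 8), (117, 9), (119, 10), (116, 11), (103, 10), (80, 9), (10, 8), (118, 10), (105, 9), (14, 11), (104, 10), (92, 9), (11, 8), (13, 9), (111, 9), (86, 8), (56, 7), (48, 6), (41, 5), (5, 4), (100, 7), (88, 6), (77, 5), (67, 4), (117, 6), (118, 7), (119, 8), (114, 9), (101, 8), (89, 7), (78, 6), (68, 5), (115, 10), (102, 9), (90, 8), (79, 7), (69, 6), (118, 11), (105, 10), (12, 9), (119, 10), (13, 9), (114, 9), (78, 8), (68, 7), (59, 6), (8, 5), (116, 6), (117, 7), (14, 8), (115, 9), (102, 8), (79, 7), (69, 6), (9, 5), (116, 5), (117, 6), (119, 7), (14, 8), (13, 7), (118, 7),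 (14, 8), (112, 8), (87, 7), (76, 6), (66, 5), (42, 4), (116, 8), (103, 7), (91, 6), (117, 9), (104, 8), (92, 7), (118, 10), (105, 9), (12, 8), (14, 9), (100, 8), (77, 7), (67, 6), (7, 5), (116, 6), (103, 5), (14, 7), (104, 6), (13, 7), (11, 6), (60, 5), (30, 4), (21, 3), (16, 2), (15, 1), (0, 0), (107, 6), (94, 5), (71, 4), (37, 3), (26, 2), (22, 1), (17, 0), (110, 5), (55, 4), (47, 3), (40, 2), (14, 7), (99, 6), (57, 5), (49, 4), (42, 3), (114, 7), (101, 6), (89, 5), (118, 8), (105, 7), (12, 6), (115, 7), (102, 6), (118, 8), (105, 7), (14, 9), (13, 8), (90, 7), (9, 6), (118, 6), (116, 7), (91, 6), (118, 8), (12, 7), (111, 7), (65, 6), (48, 5), (41, 4), (35, 3), (113, 7), (58, 6), (50, 5), (115, 8), (90, 7), (118, 9), (12, 8), (14, 8), (114, 8), (59, 7), (8, 6), (14, 7), (9, 6), (118, 6), (119, 7), (114, 8), (101, 7), (89, 6), (119, 9), (13, 8), (14, 8), (91, 7),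 (14, 10), (99, 9), (87, 8), (66, 7), (49, 6), (42, 5), (6, 4), (88, 4), (12, 5), (114, 6), (101, 5), (118, 7), (105, 6), (116, 8), (103, 7), (91, 6), (118, 9), (105, 8), (12, 7), (119, 8), (13, 7), (113, 7), (67, 6), (50, 5), (7, 4), (114, 5), (101, 4), (118, 6), (105, 5), (14, 7), (103, 6), (91, 5), (14, 8), (102, 7), (90, 6), (69, 5), (105, 8), (12, 7), (100, 7), (67, 6), (58, 5), (50, 4), (115, 7), (90, 6), (118, 8), (12, 7), (14, 7), (119, 8), (114, 9), (101, 8), (68, 7), (59, 6), (8, 5), (116, 6), (119, 7), (14, 8), (102, 7), (69, 6), (9, 5), (116, 5), (119, 6), (118, 7), (105, 6), (119, 8), (13, 7), (117, 7), (92, 6), (119, 8), (14, 9), (95, 8), (83, 7), (72, 6), (62, 5), (38, 4), (27, 3), (23, 2), (2, 1), (110, 5), (64, 4), (47, 3), (40, 2), (34, 1), (100, 4), (88, 3), (101, 5), (89, 4), (103, 6), (91, 5), (105, 7), (12, 6), (14, 7), (99, 6), (66, 5), (49,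 4), (42, 3), (6, 2), (88, 2), (12, 3), (114, 4), (101, 3), (118, 5), (105, 4), (116, 6), (103, 5), (91, 4), (119, 7), (13, 6), (113, 6), (88, 5), (67, 4), (50, 3), (7, 2), (114, 3), (101, 2), (118, 4), (105, 3), (14, 5), (103, 4), (91, 3), (118, 6), (105, 5), (12, 4), (14, 5), (102, 4), (69, 3), (103, 5), (10, 4), (105, 4), (13, 5), (111, 5), (86, 4), (56, 3), (48, 2), (115, 5), (102, 4), (119, 6), (13, 5), (14, 5), (14, 6), (87, 5), (57, 4), (49, 3), (90, 5), (12, 6), (118, 6), (113, 7), (88, 6), (58, 5), (50, 4), (115, 7), (90, 6), (118, 8), (12, 7), (14, 7), (114, 8), (89, 7), (59, 6), (8, 5), (118, 6), (14, 7), (12, 6), (100, 6), (58, 5), (7, 4), (115, 5), (102, 4), (118, 6), (105, 5), (14, 7), (13, 6), (89, 5), (59, 4), (118, 6), (115, 7), (90, 6), (9, 5), (118, 5), (14, 6), (12, 5), (116, 6), (103, 5), (118, 7), (105, 6), (119, 8), (13, 7), (14, 7), (92, 6),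 (105, 8), (12, 7), (119, 8), (13, 7), (110, 7), (74, 6), (64, 5), (47, 4), (34, 3), (29, 2), (4, 1), (99, 7), (76, 6), (66, 5), (57, 4), (42, 3), (6, 2), (88, 2), (12, 3), (115, 4), (102, 3), (118, 5), (105, 4), (14, 6), (103, 5), (91, 4), (104, 6), (92, 5), (13, 7), (12, 6), (101, 6), (78, 5), (68, 4), (59, 3), (116, 5), (117, 6), (119, 7), (116, 8), (103, 7), (80, 6), (10, 5), (118, 7), (105, 6), (14, 8), (104, 7), (92, 6), (11, 5), (111, 7), (98, 6), (86, 5), (56, 4), (48, 3), (41, 2), (5, 1), (100, 4), (88, 3), (77, 2), (67, 1), (117, 3), (118, 4), (119, 5), (114, 6), (101, 5), (89, 4), (78, 3), (68, 2), (115, 7), (102, 6), (90, 5), (79, 4), (69, 3), (118, 8), (105, 7), (12, 6), (119, 7), (13, 6), (114, 6), (78, 5), (68, 4), (59, 3), (8, 2), (116, 3), (117, 4), (14, 5), (115, 6), (102, 5), (79, 4), (69, 3), (9, 2), (116, 2), (117, 3), (119, 4), (14, 5), (13,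 4), (118, 4), (14, 5), (114, 6), (101, 5), (89, 4), (78, 3), (68, 2), (116, 7), (103, 6), (91, 5), (80, 4), (10, 3), (118, 6), (105, 5), (12, 4), (108, 5), (95, 4), (72, 3), (45, 2), (38, 1), (114, 7), (101, 6), (89, 5), (59, 4), (8, 3), (118, 4), (119, 5), (14, 6), (105, 5), (12, 4), (104, 4), (13, 5), (113, 6), (100, 5), (77, 4), (58, 3), (7, 2), (115, 3), (102, 2), (118, 4), (105, 3), (14, 5), (104, 4), (92, 3), (13, 5), (115, 5), (90, 4), (79, 3), (9, 2), (117, 2), (118, 3), (14, 4), (110, 4), (85, 3), (74, 2), (113, 5), (88, 4), (77, 3), (114, 6), (89, 5), (78, 4), (115, 7), (90, 6), (79, 5), (117, 8), (92, 7), (11, 6), (112, 7), (87, 6), (57, 5), (49, 4), (42, 3), (114, 7), (101, 6), (89, 5), (118, 8), (105, 7), (12, 6), (115, 7), (102, 6), (118, 8), (105, 7), (14, 9), (105, 8), (12, 7), (114, 8), (101, 7), (59, 6), (8, 5), (119, 6), (14, 7), (102, 6), (9,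 5), (119, 5), (116, 6), (103, 5), (118, 7), (105, 6), (116, 8), (103, 7), (91, 6), (10, 5), (107, 7), (94, 6), (82, 5), (37, 4), (31, 3), (22, 2), (17, 1), (1, 0), (95, 3), (62, 2), (45, 1), (32, 0), (89, 4), (59, 3), (8, 2), (118, 3), (118, 4), (12, 3), (116, 3), (118, 4), (119, 5), (14, 6), (13, 5), (88, 4), (67, 3), (58, 2), (116, 5), (91, 4), (14, 6), (12, 5), (68, 4), (59, 3), (116, 5), (115, 6), (69, 5), (9, 4), (116, 4), (14, 5), (110, 5), (64, 4), (47, 3), (40, 2), (34, 1), (100, 4), (88, 3), (101, 5), (89, 4), (103, 6), (91, 5), (105, 7), (12, 6), (14, 7), (99, 6), (66, 5), (49, 4), (42, 3), (6, 2), (88, 2), (12, 3), (114, 4), (101, 3), (118, 5), (105, 4), (116, 6), (103, 5), (91, 4), (119, 7), (13, 6), (115, 6), (90, 5), (69, 4), (116, 7), (91, 6), (10, 5), (118, 6), (12, 5), (112, 5), (57, 4), (49, 3), (42, 2), (114, 6), (101, 5), (89, 4), (118, 7), (105,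 6), (12, 5), (115, 6), (102, 5), (118, 7), (105, 6), (14, 8), (116, 8), (103, 7), (91, 6), (117, 9), (104, 8), (92, 7), (118, 10), (105, 9), (12, 8), (113, 9), (100, 8), (77, 7), (67, 6), (58, 5), (50, 4), (7, 3), (114, 4), (101, 3), (118, 5), (105, 4), (14, 6), (102, 5), (90, 4), (105, 6), (12, 5), (116, 6), (103, 5), (14, 7), (104, 6), (13, 7), (114, 7), (78, 6), (68, 5), (59, 4), (8, 3), (116, 4), (117, 5), (14, 6), (79, 5), (69, 4), (9, 3), (116, 3), (117, 4), (118, 5), (119, 6), (118, 7), (105, 6), (12, 5), (119, 6), (13, 5), (14, 5), (75, 4), (65, 3), (35, 2), (116, 6), (119, 7), (14, 8), (104, 7), (13, 8), (76, 7), (66, 6), (57, 5), (49, 4), (6, 3), (89, 3), (12, 4), (116, 6), (91, 5), (117, 7), (92, 6), (118, 8), (12, 7), (119, 7), (14, 8), (93, 7), (70, 6), (60, 5), (51, 4), (43, 3), (25, 2), (21, 1), (16, 0), (110, 4), (55, 3), (40, 2), (14, 6), (100,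 5), (58, 4), (7, 3), (115, 4), (102, 3), (118, 5), (105, 4), (14, 6), (13, 5), (89, 4), (59, 3), (118, 5), (115, 6), (90, 5), (9, 4), (118, 4), (14, 5), (92, 4), (86, 5), (75, 4), (48, 3), (117, 6), (104, 5), (119, 7), (13, 6), (118, 6), (14, 7), (89, 6), (78, 5), (8, 4), (101, 6), (89, 5), (78, 4), (103, 7), (91, 6), (80, 5), (104, 8), (92, 7), (11, 6), (105, 7), (12, 6), (13, 6), (69, 5), (10, 6), (80, 6), (11, 7), (13, 7), (61, 6), (52, 5), (44, 4), (26, 3), (22, 2), (17, 1), (110, 6), (55, 5), (47, 4), (40, 3), (14, 8), (99, 7), (57, 6), (49, 5), (42, 4), (114, 8), (101, 7), (89, 6), (118, 9), (105, 8), (12, 7), (115, 8), (102, 7), (118, 9), (105, 8), (14, 10), (13, 9), (90, 8), (9, 7), (118, 7), (116, 8), (91, 7), (118, 9), (12, 8), (111, 8), (65, 7), (48, 6), (41, 5), (35, 4), (113, 8), (58, 7), (50, 6), (115, 9), (90, 8), (118, 10), (12, 9), (14, 9), (114,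 9), (59, 8), (8, 7), (14, 8), (9, 7), (118, 7), (119, 8), (114, 9), (101, 8), (89, 7), (119, 10), (13, 9), (14, 9), (91, 8), (14, 11), (99, 10), (87, 9), (66, 8), (49, 7), (42, 6), (6, 5), (88, 5), (12, 6), (114, 7), (101, 6), (118, 8), (105, 7), (116, 9), (103, 8), (91, 7), (118, 10), (105, 9), (12, 8), (119, 9), (13, 8), (113, 8), (67, 7), (50, 6), (7, 5), (114, 6), (101, 5), (118, 7), (105, 6), (14, 8), (103, 7), (91, 6), (14, 9), (102, 8), (90, 7), (69, 6), (105, 9), (12, 8), (101, 8), (68, 7), (59, 6), (8, 5), (116, 6), (119, 7), (116, 8), (103, 7), (10, 6), (117, 7), (104, 6), (115, 8), (102, 7), (79, 6), (9, 5), (117, 5), (119, 6), (14, 7), (103, 6), (80, 5), (104, 7), (11, 6), (13, 6), (116, 6), (10, 5), (118, 5), (110, 6), (85, 5), (29, 4), (4, 3), (105, 9), (111, 11), (98, 10), (86, 9), (75, 8), (65, 7), (56, 6), (41, 5), (35, 4), (5, 3), (99, 6), (87,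 5), (76, 4), (66, 3), (101, 7), (89, 6), (78, 5), (68, 4), (102, 8), (90, 7), (79, 6), (69, 5), (113, 10), (100, 9), (88, 8), (77, 7), (67, 6), (58, 5), (50, 4), (115, 7), (90, 6), (118, 8), (12, 7), (14, 7), (117, 8), (118, 9), (119, 10), (14, 11), (101, 10), (89, 9), (78, 8), (68, 7), (59, 6), (8, 5), (116, 6), (117, 7), (118, 8), (119, 9), (115, 10), (102, 9), (90, 8), (79, 7), (69, 6), (9, 5), (116, 5), (117, 6), (118, 7), (119, 8), (14, 9), (105, 8), (12, 7), (13, 7), (79, 6), (69, 5), (116, 9), (103, 8), (80, 7), (10, 6), (119, 8), (13, 7), (14, 7), (11, 6), (105, 6), (119, 8), (13, 7), (14, 7), (89, 6), (59, 5), (118, 7), (115, 8), (90, 7), (9, 6), (118, 6), (14, 7), (92, 6), (12, 7), (95, 7), (72, 6), (45, 5), (38, 4), (32, 3), (2, 2), (112, 6), (66, 5), (49, 4), (42, 3), (6, 2), (88, 2), (12, 3), (114, 4), (101, 3), (118, 5), (105, 4), (116, 6), (103, 5),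 (91, 4), (14, 7), (101, 6), (89, 5), (68, 4), (8, 3), (102, 5), (90, 4), (69, 3), (105, 6), (12, 5), (100, 5), (67, 4), (58, 3), (7, 2), (115, 3), (102, 2), (118, 4), (105, 3), (14, 5), (103, 4), (91, 3), (119, 6), (13, 5), (114, 5), (89, 4), (68, 3), (59, 2), (116, 4), (118, 5), (14, 6), (90, 5), (69, 4), (9, 3), (116, 3), (118, 4), (118, 5), (12, 4), (119, 4), (14, 5), (101, 4), (68, 3), (8, 2), (105, 3), (104, 4), (92, 3), (13, 5), (98, 5), (86, 4), (75, 3), (65, 2), (117, 5), (104, 4), (119, 6), (13, 5), (118, 5), (14, 6), (99, 6), (87, 5), (76, 4), (66, 3), (100, 7), (88, 6), (77, 5), (67, 4), (117, 6), (118, 7), (119, 8), (115, 9), (102, 8), (90, 7), (79, 6), (69, 5), (117, 10), (104, 9), (92, 8), (11, 7), (118, 9), (105, 8), (12, 7), (112, 8), (99, 7), (66, 6), (57, 5), (42, 4), (6, 3), (88, 3), (12, 4), (115, 5), (102, 4), (118, 6), (105, 5), (14, 7), (103,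 6), (91, 5), (13, 7), (114, 7), (89, 6), (68, 5), (59, 4), (116, 6), (118, 7), (14, 8), (12, 7), (118, 7)]⟩,
    ⟨7, [2, 0], [0, 2, 4, 7, 10], [(25, 1), (16, 0), (111, 4), (56, 3), (41, 2), (102, 7), (90, 6), (9, 5), (118, 5), (119, 6), (119, 7), (13, 6), (14, 6), (114, 6), (89, 5), (8, 4), (119, 5), (111, 6), (98, 5), (86, 4), (41, 3), (5, 2), (100, 5), (88, 4), (77, 3), (67, 2), (117, 4), (118, 5), (119, 6), (114, 7), (101, 6), (89, 5), (78, 4), (68, 3), (115, 8), (102, 7), (90, 6), (79, 5), (69, 4), (118, 9), (105, 8), (12, 7), (119, 8), (13, 7), (118, 7), (14, 8)], [(27, 1), (98, 7), (86, 6), (48, 5), (41, 4), (35, 3), (5, 2), (99, 5), (87, 4), (76, 3), (66, 2), (101, 6), (89, 5), (78, 4), (68, 3), (102, 7), (90, 6), (79, 5), (69, 4), (113, 9), (100, 8), (88, 7), (77, 6), (67, 5), (58, 4), (50, 3), (115, 6), (90, 5), (118, 7), (12, 6), (14, 6), (117, 7), (118,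 8), (119, 9), (14, 10), (101, 9), (89, 8), (78, 7), (68, 6), (59, 5), (8, 4), (116, 5), (117, 6), (118, 7), (119, 8), (115, 9), (102, 8), (90, 7), (79, 6), (69, 5), (9, 4), (116, 4), (117, 5), (118, 6), (119, 7), (14, 8), (105, 7), (12, 6), (13, 6), (78, 5), (68, 4), (118, 8), (105, 7), (14, 9), (13, 8), (87, 7), (76, 6), (66, 5), (49, 4), (42, 3), (6, 2), (88, 2), (12, 3), (114, 4), (101, 3), (118, 5), (105, 4), (116, 6), (103, 5), (91, 4), (117, 7), (104, 6), (92, 5), (118, 8), (105, 7), (12, 6), (115, 7), (102, 6), (79, 5), (69, 4), (118, 8), (105, 7)], [(106, 6), (93, 5), (81, 4), (30, 3), (25, 2), (15, 1), (0, 0), (107, 6), (94, 5), (71, 4), (37, 3), (26, 2), (22, 1), (17, 0), (110, 5), (55, 4), (47, 3), (40, 2), (14, 7), (99, 6), (57, 5), (49, 4), (42, 3), (114, 7), (101, 6), (89, 5), (118, 8), (105, 7), (12, 6), (115, 7), (102, 6), (118, 8), (105, 7), (14,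 9), (13, 8), (90, 7), (9, 6), (118, 6), (116, 7), (91, 6), (118, 8), (12, 7), (111, 7), (65, 6), (48, 5), (41, 4), (35, 3), (113, 7), (58, 6), (50, 5), (115, 8), (90, 7), (118, 9), (12, 8), (14, 8), (114, 8), (59, 7), (8, 6), (14, 7), (9, 6), (118, 6), (119, 7), (114, 8), (101, 7), (89, 6), (119, 9), (13, 8), (14, 8), (91, 7), (14, 10), (99, 9), (87, 8), (66, 7), (49, 6), (42, 5), (6, 4), (88, 4), (12, 5), (114, 6), (101, 5), (118, 7), (105, 6), (116, 8), (103, 7), (91, 6), (118, 9), (105, 8), (12, 7), (119, 8), (13, 7), (113, 7), (67, 6), (50, 5), (7, 4), (114, 5), (101, 4), (118, 6), (105, 5), (14, 7), (103, 6), (91, 5), (14, 8), (102, 7), (90, 6), (69, 5), (105, 8), (12, 7), (100, 7), (67, 6), (58, 5), (50, 4), (115, 7), (90, 6), (118, 8), (12, 7), (14, 7), (119, 8), (114, 9), (101, 8), (68, 7), (59, 6), (8, 5), (116, 6), (119, 7), (14, 8), (102, 7), (69, 6),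 (9, 5), (116, 5), (119, 6), (118, 7), (105, 6), (119, 8), (13, 7), (117, 7), (92, 6), (119, 8), (14, 9), (95, 8), (83, 7), (72, 6), (62, 5), (38, 4), (27, 3), (23, 2), (2, 1), (110, 5), (64, 4), (47, 3), (40, 2), (34, 1), (100, 4), (88, 3), (101, 5), (89, 4), (103, 6), (91, 5), (105, 7), (12, 6), (14, 7), (99, 6), (66, 5), (49, 4), (42, 3), (6, 2), (88, 2), (12, 3), (114, 4), (101, 3), (118, 5), (105, 4), (116, 6), (103, 5), (91, 4), (119, 7), (13, 6), (113, 6), (88, 5), (67, 4), (50, 3), (7, 2), (114, 3), (101, 2), (118, 4), (105, 3), (14, 5), (103, 4), (91, 3), (118, 6), (105, 5), (12, 4), (14, 5), (102, 4), (69, 3), (103, 5), (10, 4), (105, 4), (13, 5), (111, 5), (86, 4), (56, 3), (48, 2), (115, 5), (102, 4), (119, 6), (13, 5), (14, 5), (14, 6), (87, 5), (57, 4), (49, 3), (90, 5), (12, 6), (118, 6), (113, 7), (88, 6), (58, 5), (50, 4), (115, 7), (90, 6), (118,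 8), (12, 7), (14, 7), (114, 8), (89, 7), (59, 6), (8, 5), (118, 6), (14, 7), (12, 6), (100, 6), (58, 5), (7, 4), (115, 5), (102, 4), (118, 6), (105, 5), (14, 7), (13, 6), (89, 5), (59, 4), (118, 6), (115, 7), (90, 6), (9, 5), (118, 5), (14, 6), (12, 5), (116, 6), (103, 5), (118, 7), (105, 6), (119, 8), (13, 7), (14, 7), (92, 6), (105, 8), (12, 7), (119, 8), (13, 7), (110, 7), (74, 6), (64, 5), (47, 4), (34, 3), (29, 2), (4, 1), (99, 7), (76, 6), (66, 5), (57, 4), (42, 3), (6, 2), (88, 2), (12, 3), (115, 4), (102, 3), (118, 5), (105, 4), (14, 6), (103, 5), (91, 4), (104, 6), (92, 5), (13, 7), (12, 6), (101, 6), (78, 5), (68, 4), (59, 3), (116, 5), (117, 6), (119, 7), (116, 8), (103, 7), (80, 6), (10, 5), (118, 7), (105, 6), (14, 8), (104, 7), (92, 6), (11, 5), (111, 7), (98, 6), (86, 5), (56, 4), (48, 3), (41, 2), (5, 1), (100, 4), (88, 3), (77, 2), (67, 1), (117,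 3), (118, 4), (119, 5), (114, 6), (101, 5), (89, 4), (78, 3), (68, 2), (115, 7), (102, 6), (90, 5), (79, 4), (69, 3), (118, 8), (105, 7), (12, 6), (119, 7), (13, 6), (114, 6), (78, 5), (68, 4), (59, 3), (8, 2), (116, 3), (117, 4), (14, 5), (115, 6), (102, 5), (79, 4), (69, 3), (9, 2), (116, 2), (117, 3), (119, 4), (14, 5), (13, 4), (118, 4), (14, 5), (114, 6), (101, 5), (89, 4), (78, 3), (68, 2), (116, 7), (103, 6), (91, 5), (80, 4), (10, 3), (118, 6), (105, 5), (12, 4), (111, 5), (98, 4), (75, 3), (48, 2), (41, 1), (101, 6), (89, 5), (59, 4), (8, 3), (118, 4), (119, 5), (119, 6), (13, 5), (14, 5), (92, 4), (13, 6), (114, 6), (89, 5), (78, 4), (59, 3), (117, 5), (118, 6), (14, 7), (99, 7), (87, 6), (76, 5), (57, 4), (49, 3), (42, 2), (114, 6), (101, 5), (89, 4), (118, 7), (105, 6), (12, 5), (115, 6), (102, 5), (118, 7), (105, 6), (14, 8), (104, 7), (92, 6), (105,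 8), (12, 7), (13, 7), (78, 6), (59, 5), (8, 4), (117, 5), (115, 6), (79, 5), (9, 4), (117, 4), (14, 5), (80, 4), (12, 6), (119, 6), (14, 7), (98, 6), (75, 5), (65, 4), (41, 3), (35, 2), (5, 1), (99, 4), (87, 3), (76, 2), (66, 1), (101, 5), (89, 4), (78, 3), (68, 2), (102, 6), (90, 5), (79, 4), (69, 3), (113, 8), (100, 7), (88, 6), (77, 5), (67, 4), (58, 3), (50, 2), (115, 5), (90, 4), (118, 6), (12, 5), (14, 5), (117, 6), (118, 7), (119, 8), (14, 9), (101, 8), (89, 7), (78, 6), (68, 5), (59, 4), (8, 3), (116, 4), (117, 5), (118, 6), (119, 7), (115, 8), (102, 7), (90, 6), (79, 5), (69, 4), (9, 3), (116, 3), (117, 4), (118, 5), (119, 6), (14, 7), (105, 6), (12, 5), (13, 5), (80, 4), (10, 3), (117, 5), (104, 4), (11, 3), (119, 4), (13, 3), (119, 3), (112, 4), (99, 3), (42, 2), (6, 1), (88, 1), (12, 2), (119, 3), (13, 2), (14, 2)], [(70, 5), (60, 4), (43, 3), (30, 2),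 (25, 1), (0, 0), (111, 6), (98, 5), (75, 4), (41, 3), (5, 2), (100, 5), (88, 4), (77, 3), (67, 2), (117, 4), (118, 5), (119, 6), (114, 7), (101, 6), (89, 5), (78, 4), (68, 3), (115, 8), (102, 7), (90, 6), (79, 5), (69, 4), (118, 9), (105, 8), (12, 7), (119, 8), (13, 7), (117, 7), (11, 6), (119, 6), (119, 7), (13, 6), (14, 6), (68, 5), (59, 4), (8, 3), (116, 4), (119, 5), (112, 6), (99, 5), (66, 4), (57, 3), (42, 2), (115, 6), (102, 5), (90, 4), (118, 7), (105, 6), (12, 5), (14, 6), (103, 5), (13, 6), (114, 6), (68, 5), (59, 4), (116, 6), (14, 7), (69, 6), (9, 5), (116, 5), (116, 6), (10, 5), (118, 5), (114, 6), (89, 5), (8, 4), (116, 5), (91, 4), (117, 6), (92, 5), (118, 7), (12, 6), (119, 6), (116, 7), (103, 6), (80, 5), (10, 4), (117, 6), (104, 5), (11, 4), (119, 5), (13, 4), (107, 4), (37, 3), (31, 2), (22, 1), (17, 0), (110, 5), (55, 4), (47, 3), (40, 2), (14,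 7), (99, 6), (57, 5), (49, 4), (42, 3), (114, 7), (101, 6), (89, 5), (118, 8), (105, 7), (12, 6), (115, 7), (102, 6), (118, 8), (105, 7), (14, 9), (13, 8), (90, 7), (9, 6), (118, 6), (116, 7), (91, 6), (118, 8), (12, 7), (112, 7), (66, 6), (49, 5), (42, 4), (6, 3), (88, 3), (12, 4), (114, 5), (101, 4), (118, 6), (105, 5), (116, 7), (103, 6), (91, 5), (14, 8), (103, 7), (91, 6), (10, 5), (104, 6), (92, 5), (105, 7), (12, 6), (100, 6), (77, 5), (50, 4), (7, 3), (114, 4), (101, 3), (118, 5), (105, 4), (14, 6), (104, 5), (92, 4), (13, 6), (89, 5), (78, 4), (8, 3), (90, 4), (79, 3), (12, 5), (111, 6), (98, 5), (75, 4), (56, 3), (117, 6), (104, 5), (119, 7), (13, 6), (119, 6), (14, 7), (99, 6), (76, 5), (57, 4), (117, 7), (92, 6), (119, 8), (118, 9), (105, 8), (12, 7), (119, 8), (13, 7), (14, 7), (74, 6), (55, 5), (34, 4), (29, 3), (4, 2), (99, 8), (76, 7), (66, 6), (57,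 5), (42, 4), (6, 3), (88, 3), (12, 4), (115, 5), (102, 4), (118, 6), (105, 5), (14, 7), (103, 6), (91, 5), (104, 7), (92, 6), (13, 8), (12, 7), (102, 7), (79, 6), (69, 5), (9, 4), (116, 4), (117, 5), (119, 6), (119, 7), (13, 6), (14, 6), (11, 5), (66, 4), (42, 3), (116, 7), (103, 6), (91, 5), (113, 8), (100, 7), (88, 6), (67, 5), (7, 4), (116, 5), (103, 4), (14, 6), (105, 5), (13, 6), (114, 6), (89, 5), (68, 4), (115, 7), (90, 6), (69, 5), (117, 8), (92, 7), (118, 9), (12, 8), (119, 8), (108, 9), (95, 8), (72, 7), (62, 6), (53, 5), (45, 4), (32, 3), (27, 2), (2, 1), (111, 5), (65, 4), (48, 3), (41, 2), (35, 1), (113, 5), (58, 4), (50, 3), (115, 6), (90, 5), (118, 7), (12, 6), (14, 6), (114, 6), (59, 5), (8, 4), (14, 5), (9, 4), (118, 4), (119, 5), (114, 6), (101, 5), (89, 4), (119, 7), (13, 6), (14, 6), (91, 5), (14, 8), (99, 7), (87, 6), (66, 5), (49, 4), (42,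 3), (6, 2), (88, 2), (12, 3), (114, 4), (101, 3), (118, 5), (105, 4), (116, 6), (103, 5), (91, 4), (118, 7), (105, 6), (12, 5), (119, 6), (13, 5), (113, 5), (67, 4), (50, 3), (7, 2), (114, 3), (101, 2), (118, 4), (105, 3), (14, 5), (103, 4), (91, 3), (14, 6), (101, 5), (89, 4), (68, 3), (8, 2), (105, 4), (12, 3), (13, 3), (66, 2), (68, 3), (69, 4), (89, 6), (68, 5), (59, 4), (8, 3), (116, 4), (118, 5), (118, 6), (12, 5), (115, 5), (69, 4), (9, 3), (116, 3), (14, 4), (103, 5), (91, 4), (10, 3), (105, 4), (12, 3), (13, 3), (117, 3), (119, 4), (119, 5), (13, 4), (14, 4), (75, 3), (35, 2), (5, 1), (99, 4), (87, 3), (76, 2), (66, 1), (101, 5), (89, 4), (78, 3), (68, 2), (102, 6), (90, 5), (79, 4), (69, 3), (117, 8), (104, 7), (92, 6), (11, 5), (119, 7), (13, 6), (112, 6), (87, 5), (66, 4), (57, 3), (49, 2), (6, 1), (89, 1), (12, 2), (116, 4), (91, 3), (118, 5), (12,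 4), (14, 4), (67, 3), (58, 2), (50, 1), (115, 4), (90, 3), (118, 5), (12, 4), (14, 4), (115, 5), (69, 4), (9, 3), (116, 3), (14, 4), (12, 5)]⟩]

/-- Part of the certificate. -/
def fusesPart7 : List Spor.SchurCert.Fuse := [
    ⟨7, [3, 0], [0, 3, 4, 7, 8, 12], [(21, 0), (75, 5), (56, 4), (48, 3), (41, 2), (101, 7), (89, 6), (59, 5), (8, 4), (118, 5), (119, 6), (119, 7), (13, 6), (14, 6), (90, 5), (9, 4), (118, 4), (119, 5), (14, 6), (104, 5), (92, 4), (13, 6)], [(29, 1), (99, 8), (76, 7), (66, 6), (57, 5), (42, 4), (6, 3), (88, 3), (12, 4), (115, 5), (102, 4), (118, 6), (105, 5), (14, 7), (103, 6), (91, 5), (104, 7), (92, 6), (13, 8), (90, 7), (79, 6), (69, 5), (9, 4), (116, 4), (117, 5), (118, 6), (116, 7), (91, 6), (80, 5), (10, 4), (14, 6)], [(93, 8), (81, 7), (70, 6), (51, 5), (43, 4), (25, 3), (21, 2), (15, 1), (0, 0), (107, 6), (94, 5), (71, 4), (37, 3), (26,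 2), (22, 1), (17, 0), (110, 5), (55, 4), (47, 3), (40, 2), (14, 7), (99, 6), (57, 5), (49, 4), (42, 3), (114, 7), (101, 6), (89, 5), (118, 8), (105, 7), (12, 6), (115, 7), (102, 6), (118, 8), (105, 7), (14, 9), (13, 8), (90, 7), (9, 6), (118, 6), (116, 7), (91, 6), (118, 8), (12, 7), (111, 7), (65, 6), (48, 5), (41, 4), (35, 3), (113, 7), (58, 6), (50, 5), (115, 8), (90, 7), (118, 9), (12, 8), (14, 8), (114, 8), (59, 7), (8, 6), (14, 7), (9, 6), (118, 6), (119, 7), (114, 8), (101, 7), (89, 6), (119, 9), (13, 8), (14, 8), (91, 7), (14, 10), (99, 9), (87, 8), (66, 7), (49, 6), (42, 5), (6, 4), (88, 4), (12, 5), (114, 6), (101, 5), (118, 7), (105, 6), (116, 8), (103, 7), (91, 6), (118, 9), (105, 8), (12, 7), (119, 8), (13, 7), (113, 7), (67, 6), (50, 5), (7, 4), (114, 5), (101, 4), (118, 6), (105, 5), (14, 7), (103, 6), (91, 5), (14, 8), (102, 7), (90, 6), (69, 5),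 (105, 8), (12, 7), (100, 7), (67, 6), (58, 5), (50, 4), (115, 7), (90, 6), (118, 8), (12, 7), (14, 7), (119, 8), (114, 9), (101, 8), (68, 7), (59, 6), (8, 5), (116, 6), (119, 7), (14, 8), (102, 7), (69, 6), (9, 5), (116, 5), (119, 6), (118, 7), (105, 6), (119, 8), (13, 7), (117, 7), (92, 6), (119, 8), (14, 9), (95, 8), (83, 7), (72, 6), (62, 5), (38, 4), (27, 3), (23, 2), (2, 1), (110, 5), (64, 4), (47, 3), (40, 2), (34, 1), (100, 4), (88, 3), (101, 5), (89, 4), (103, 6), (91, 5), (105, 7), (12, 6), (14, 7), (99, 6), (66, 5), (49, 4), (42, 3), (6, 2), (88, 2), (12, 3), (114, 4), (101, 3), (118, 5), (105, 4), (116, 6), (103, 5), (91, 4), (119, 7), (13, 6), (113, 6), (88, 5), (67, 4), (50, 3), (7, 2), (114, 3), (101, 2), (118, 4), (105, 3), (14, 5), (103, 4), (91, 3), (118, 6), (105, 5), (12, 4), (14, 5), (102, 4), (69, 3), (103, 5), (10, 4), (105, 4), (13, 5), (111,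 5), (86, 4), (56, 3), (48, 2), (115, 5), (102, 4), (119, 6), (13, 5), (14, 5), (14, 6), (87, 5), (57, 4), (49, 3), (90, 5), (12, 6), (118, 6), (113, 7), (88, 6), (58, 5), (50, 4), (115, 7), (90, 6), (118, 8), (12, 7), (14, 7), (114, 8), (89, 7), (59, 6), (8, 5), (118, 6), (14, 7), (12, 6), (100, 6), (58, 5), (7, 4), (115, 5), (102, 4), (118, 6), (105, 5), (14, 7), (13, 6), (89, 5), (59, 4), (118, 6), (115, 7), (90, 6), (9, 5), (118, 5), (14, 6), (12, 5), (116, 6), (103, 5), (118, 7), (105, 6), (119, 8), (13, 7), (14, 7), (92, 6), (105, 8), (12, 7), (119, 8), (13, 7), (110, 7), (74, 6), (64, 5), (47, 4), (34, 3), (29, 2), (4, 1), (99, 7), (76, 6), (66, 5), (57, 4), (42, 3), (6, 2), (88, 2), (12, 3), (115, 4), (102, 3), (118, 5), (105, 4), (14, 6), (103, 5), (91, 4), (104, 6), (92, 5), (13, 7), (12, 6), (101, 6), (78, 5), (68, 4), (59, 3), (116, 5), (117, 6), (119,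 7), (116, 8), (103, 7), (80, 6), (10, 5), (118, 7), (105, 6), (14, 8), (104, 7), (92, 6), (11, 5), (111, 7), (98, 6), (86, 5), (56, 4), (48, 3), (41, 2), (5, 1), (100, 4), (88, 3), (77, 2), (67, 1), (117, 3), (118, 4), (119, 5), (114, 6), (101, 5), (89, 4), (78, 3), (68, 2), (115, 7), (102, 6), (90, 5), (79, 4), (69, 3), (118, 8), (105, 7), (12, 6), (119, 7), (13, 6), (114, 6), (78, 5), (68, 4), (59, 3), (8, 2), (116, 3), (117, 4), (14, 5), (115, 6), (102, 5), (79, 4), (69, 3), (9, 2), (116, 2), (117, 3), (119, 4), (14, 5), (13, 4), (118, 4), (14, 5), (114, 6), (101, 5), (89, 4), (78, 3), (68, 2), (116, 7), (103, 6), (91, 5), (80, 4), (10, 3), (118, 6), (105, 5), (12, 4), (110, 5), (97, 4), (74, 3), (47, 2), (40, 1), (113, 6), (100, 5), (77, 4), (50, 3), (7, 2), (114, 3), (101, 2), (118, 4), (105, 3), (14, 5), (104, 4), (92, 3), (13, 5), (114, 5), (89, 4), (78,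 3), (8, 2), (115, 4), (90, 3), (79, 2), (117, 5), (92, 4), (11, 3), (111, 4), (86, 3), (56, 2), (118, 5), (105, 4), (14, 6), (114, 6), (101, 5), (89, 4), (59, 3), (118, 5), (119, 6), (14, 7), (13, 6), (89, 5), (59, 4), (8, 3), (118, 4), (116, 5), (91, 4), (117, 6), (92, 5), (118, 7), (12, 6), (119, 6), (115, 7), (102, 6), (79, 5), (69, 4), (9, 3), (116, 3), (117, 4), (119, 5), (14, 6), (103, 5), (80, 4), (10, 3), (104, 4), (11, 3), (104, 3), (13, 4), (119, 5), (111, 6), (98, 5), (86, 4), (75, 3), (5, 2), (104, 5), (92, 4), (11, 3), (13, 4), (12, 3), (119, 3), (14, 4), (99, 3), (66, 2), (101, 4), (68, 3), (103, 5), (10, 4), (104, 4)], [(70, 5), (60, 4), (43, 3), (30, 2), (25, 1), (0, 0), (111, 6), (98, 5), (75, 4), (41, 3), (5, 2), (100, 5), (88, 4), (77, 3), (67, 2), (117, 4), (118, 5), (119, 6), (114, 7), (101, 6), (89, 5), (78, 4), (68, 3), (115, 8), (102, 7),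 (90, 6), (79, 5), (69, 4), (118, 9), (105, 8), (12, 7), (119, 8), (13, 7), (117, 7), (11, 6), (119, 6), (119, 7), (13, 6), (14, 6), (68, 5), (59, 4), (8, 3), (116, 4), (119, 5), (112, 6), (99, 5), (66, 4), (57, 3), (42, 2), (115, 6), (102, 5), (90, 4), (118, 7), (105, 6), (12, 5), (14, 6), (103, 5), (13, 6), (114, 6), (68, 5), (59, 4), (116, 6), (14, 7), (69, 6), (9, 5), (116, 5), (116, 6), (10, 5), (118, 5), (114, 6), (89, 5), (8, 4), (116, 5), (91, 4), (117, 6), (92, 5), (118, 7), (12, 6), (119, 6), (116, 7), (103, 6), (80, 5), (10, 4), (117, 6), (104, 5), (11, 4), (119, 5), (13, 4), (107, 4), (37, 3), (31, 2), (22, 1), (17, 0), (110, 5), (55, 4), (47, 3), (40, 2), (14, 7), (99, 6), (57, 5), (49, 4), (42, 3), (114, 7), (101, 6), (89, 5), (118, 8), (105, 7), (12, 6), (115, 7), (102, 6), (118, 8), (105, 7), (14, 9), (13, 8), (90, 7), (9, 6), (118, 6), (116, 7),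 (91, 6), (118, 8), (12, 7), (112, 7), (66, 6), (49, 5), (42, 4), (6, 3), (88, 3), (12, 4), (114, 5), (101, 4), (118, 6), (105, 5), (116, 7), (103, 6), (91, 5), (14, 8), (103, 7), (91, 6), (10, 5), (104, 6), (92, 5), (105, 7), (12, 6), (100, 6), (77, 5), (50, 4), (7, 3), (114, 4), (101, 3), (118, 5), (105, 4), (14, 6), (104, 5), (92, 4), (13, 6), (89, 5), (78, 4), (8, 3), (90, 4), (79, 3), (12, 5), (110, 6), (97, 5), (74, 4), (55, 3), (4, 2), (117, 4), (104, 3), (119, 5), (13, 4), (14, 4), (75, 3), (56, 2), (117, 5), (104, 4), (119, 6), (13, 5), (114, 5), (78, 4), (59, 3), (117, 5), (14, 6), (79, 5), (9, 4), (117, 4), (117, 5), (11, 4), (118, 4), (119, 5), (110, 6), (97, 5), (85, 4), (47, 3), (29, 2), (101, 9), (78, 8), (68, 7), (59, 6), (116, 8), (117, 9), (119, 10), (118, 11), (105, 10), (119, 12), (13, 11), (14, 11), (87, 10), (76, 9), (66, 8), (57, 7), (49, 6),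 (42, 5), (6, 4), (88, 4), (12, 5), (114, 6), (101, 5), (118, 7), (105, 6), (115, 8), (102, 7), (90, 6), (118, 9), (105, 8), (12, 7), (14, 8), (103, 7), (104, 8), (105, 9), (100, 10), (88, 9), (77, 8), (67, 7), (58, 6), (50, 5), (7, 4), (114, 5), (101, 4), (118, 6), (105, 5), (14, 7), (102, 6), (90, 5), (105, 7), (12, 6), (116, 7), (103, 6), (14, 8), (104, 7), (105, 8), (13, 9), (89, 8), (78, 7), (68, 6), (59, 5), (8, 4), (116, 5), (117, 6), (118, 7), (115, 8), (90, 7), (79, 6), (69, 5), (9, 4), (116, 4), (117, 5), (118, 6), (14, 7), (92, 6), (11, 5), (12, 5), (95, 5), (62, 4), (27, 3), (23, 2), (2, 1), (110, 5), (64, 4), (47, 3), (40, 2), (34, 1), (100, 4), (88, 3), (101, 5), (89, 4), (103, 6), (91, 5), (105, 7), (12, 6), (14, 7), (99, 6), (66, 5), (49, 4), (42, 3), (6, 2), (88, 2), (12, 3), (114, 4), (101, 3), (118, 5), (105, 4), (116, 6), (103, 5), (91, 4), (119,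 7), (13, 6), (113, 6), (88, 5), (67, 4), (50, 3), (7, 2), (114, 3), (101, 2), (118, 4), (105, 3), (14, 5), (103, 4), (91, 3), (118, 6), (105, 5), (12, 4), (14, 5), (102, 4), (69, 3), (103, 5), (10, 4), (105, 4), (13, 5), (111, 5), (86, 4), (56, 3), (48, 2), (115, 5), (102, 4), (119, 6), (13, 5), (14, 5), (14, 6), (87, 5), (57, 4), (49, 3), (90, 5), (12, 6), (118, 6), (113, 7), (88, 6), (58, 5), (50, 4), (115, 7), (90, 6), (118, 8), (12, 7), (14, 7), (114, 8), (89, 7), (59, 6), (8, 5), (118, 6), (14, 7), (12, 6), (103, 6), (105, 7), (13, 8), (119, 8), (111, 9), (98, 8), (86, 7), (65, 6), (56, 5), (41, 4), (35, 3), (5, 2), (99, 5), (87, 4), (76, 3), (66, 2), (101, 6), (89, 5), (78, 4), (68, 3), (102, 7), (90, 6), (79, 5), (69, 4), (113, 9), (100, 8), (88, 7), (77, 6), (67, 5), (58, 4), (50, 3), (115, 6), (90, 5), (118, 7), (12, 6), (14, 6), (117, 7), (118, 8), (119,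 9), (14, 10), (101, 9), (89, 8), (78, 7), (68, 6), (59, 5), (8, 4), (116, 5), (117, 6), (118, 7), (119, 8), (115, 9), (102, 8), (90, 7), (79, 6), (69, 5), (9, 4), (116, 4), (117, 5), (118, 6), (119, 7), (14, 8), (105, 7), (12, 6), (13, 6), (79, 5), (69, 4), (116, 8), (103, 7), (80, 6), (10, 5), (119, 7), (13, 6), (14, 6), (119, 7), (14, 8), (99, 7), (87, 6), (76, 5), (57, 4), (42, 3), (6, 2), (88, 2), (12, 3), (115, 4), (102, 3), (118, 5), (105, 4), (14, 6), (104, 5), (92, 4), (105, 6), (12, 5), (13, 5), (77, 4), (58, 3), (7, 2), (115, 3), (102, 2), (118, 4), (105, 3), (14, 5), (104, 4), (92, 3), (102, 5), (90, 4), (79, 3), (9, 2), (117, 2), (118, 3), (119, 4), (117, 5), (104, 4), (92, 3), (11, 2), (118, 4), (105, 3), (12, 2), (112, 3), (99, 2), (114, 4), (101, 3), (118, 5), (105, 4), (14, 6), (104, 5), (92, 4), (105, 6), (12, 5)]⟩,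
    ⟨7, [4, 0], [0, 4, 8, 10, 11, 12], [(30, 0), (86, 5), (65, 4), (56, 3), (48, 2), (35, 1), (114, 5), (59, 4), (8, 3), (14, 4), (115, 5), (102, 4), (9, 3), (119, 3), (14, 4), (13, 3), (116, 3), (119, 4), (14, 5), (105, 4)], [], [(93, 7), (81, 6), (70, 5), (51, 4), (43, 3), (36, 2), (30, 1), (21, 0), (76, 5), (57, 4), (49, 3), (42, 2), (114, 6), (101, 5), (89, 4), (118, 7), (105, 6), (12, 5), (115, 6), (102, 5), (118, 7), (105, 6), (14, 8), (104, 7), (92, 6), (101, 8), (89, 7), (78, 6), (59, 5), (8, 4), (117, 5), (118, 6), (119, 7), (115, 8), (102, 7), (90, 6), (79, 5), (9, 4), (117, 4), (118, 5), (119, 6), (14, 7), (103, 6), (91, 5), (80, 4), (105, 7), (12, 6), (100, 6), (77, 5), (67, 4), (7, 3), (116, 4), (103, 3), (14, 5), (104, 4), (13, 5), (11, 4), (89, 4), (68, 3), (91, 5), (10, 4), (92, 4), (12, 5), (102, 5), (79, 4), (103, 6), (80, 5), (104, 7), (11, 6),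 (104, 6), (13, 7), (119, 8), (111, 9), (98, 8), (86, 7), (75, 6), (65, 5), (56, 4), (48, 3), (35, 2), (114, 6), (59, 5), (8, 4), (14, 5), (115, 6), (102, 5), (9, 4), (119, 4), (14, 5), (13, 4), (116, 4), (119, 5), (14, 6), (104, 5), (13, 6), (119, 7), (14, 8), (99, 7), (87, 6), (76, 5), (66, 4), (6, 3), (91, 3), (92, 4), (12, 5), (101, 5), (78, 4), (68, 3), (103, 6), (80, 5), (10, 4), (104, 5), (11, 4)], [(74, 5), (64, 4), (47, 3), (34, 2), (29, 1), (99, 8), (76, 7), (66, 6), (57, 5), (42, 4), (6, 3), (88, 3), (12, 4), (115, 5), (102, 4), (118, 6), (105, 5), (14, 7), (103, 6), (91, 5), (104, 7), (92, 6), (13, 8), (12, 7), (101, 7), (78, 6), (68, 5), (59, 4), (116, 6), (117, 7), (119, 8), (116, 9), (103, 8), (80, 7), (10, 6), (118, 8), (105, 7), (14, 9), (104, 8), (92, 7), (11, 6), (99, 7), (87, 6), (57, 5), (49, 4), (42, 3), (114, 7), (101, 6), (89, 5), (118, 8),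 (105, 7), (12, 6), (115, 7), (102, 6), (118, 8), (105, 7), (14, 9), (105, 8), (12, 7), (13, 7), (58, 6), (50, 5), (7, 4), (114, 5), (101, 4), (118, 6), (105, 5), (14, 7), (102, 6), (90, 5), (105, 7), (12, 6), (114, 7), (101, 6), (59, 5), (8, 4), (119, 5), (14, 6), (102, 5), (9, 4), (119, 4), (117, 5), (104, 4), (118, 6), (105, 5), (119, 7), (13, 6), (112, 6), (87, 5), (76, 4), (6, 3), (92, 3), (12, 4), (114, 4), (78, 3), (118, 5), (14, 6), (12, 5), (104, 6), (92, 5), (11, 4), (105, 5), (12, 4)]⟩,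
    ⟨7, [5, 0], [0, 5, 6, 7, 9, 12], [(36, 0), (86, 3), (75, 2), (41, 1), (104, 6), (92, 5), (13, 7), (12, 6)], [], [(93, 8), (81, 7), (60, 6), (51, 5), (36, 4), (21, 3), (16, 2), (15, 1), (0, 0), (107, 6), (94, 5), (71, 4), (37, 3), (26, 2), (22, 1), (17, 0), (110, 5), (55, 4), (47, 3), (40, 2), (14, 7), (99, 6), (57, 5), (49, 4), (42, 3), (114, 7), (101, 6), (89, 5), (118, 8), (105, 7), (12, 6), (115, 7), (102, 6), (118, 8), (105, 7), (14, 9), (13, 8), (90, 7), (9, 6), (118, 6), (116, 7), (91, 6), (118, 8), (12, 7), (111, 7), (65, 6), (48, 5), (41, 4), (35, 3), (113, 7), (58, 6), (50, 5), (115, 8), (90, 7), (118, 9), (12, 8), (14, 8), (114, 8), (59, 7), (8, 6), (14, 7), (9, 6), (118, 6), (119, 7), (114, 8), (101, 7), (89, 6), (119, 9), (13, 8), (14, 8), (91, 7), (14, 10), (99, 9), (87, 8), (66, 7), (49, 6), (42, 5), (6, 4), (88, 4), (12, 5), (114, 6), (101, 5),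 (118, 7), (105, 6), (116, 8), (103, 7), (91, 6), (118, 9), (105, 8), (12, 7), (119, 8), (13, 7), (113, 7), (67, 6), (50, 5), (7, 4), (114, 5), (101, 4), (118, 6), (105, 5), (14, 7), (103, 6), (91, 5), (14, 8), (102, 7), (90, 6), (69, 5), (105, 8), (12, 7), (100, 7), (67, 6), (58, 5), (50, 4), (115, 7), (90, 6), (118, 8), (12, 7), (14, 7), (119, 8), (114, 9), (101, 8), (68, 7), (59, 6), (8, 5), (116, 6), (119, 7), (14, 8), (102, 7), (69, 6), (9, 5), (116, 5), (119, 6), (118, 7), (105, 6), (119, 8), (13, 7), (117, 7), (92, 6), (119, 8), (14, 9), (95, 8), (83, 7), (72, 6), (62, 5), (38, 4), (27, 3), (23, 2), (2, 1), (110, 5), (64, 4), (47, 3), (40, 2), (34, 1), (100, 4), (88, 3), (101, 5), (89, 4), (103, 6), (91, 5), (105, 7), (12, 6), (14, 7), (99, 6), (66, 5), (49, 4), (42, 3), (6, 2), (88, 2), (12, 3), (114, 4), (101, 3), (118, 5), (105, 4), (116, 6), (103, 5),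 (91, 4), (119, 7), (13, 6), (113, 6), (88, 5), (67, 4), (50, 3), (7, 2), (114, 3), (101, 2), (118, 4), (105, 3), (14, 5), (103, 4), (91, 3), (118, 6), (105, 5), (12, 4), (14, 5), (102, 4), (69, 3), (103, 5), (10, 4), (105, 4), (13, 5), (111, 5), (86, 4), (56, 3), (48, 2), (115, 5), (102, 4), (119, 6), (13, 5), (14, 5), (14, 6), (87, 5), (57, 4), (49, 3), (90, 5), (12, 6), (118, 6), (113, 7), (88, 6), (58, 5), (50, 4), (115, 7), (90, 6), (118, 8), (12, 7), (14, 7), (114, 8), (89, 7), (59, 6), (8, 5), (118, 6), (14, 7), (12, 6), (100, 6), (58, 5), (7, 4), (115, 5), (102, 4), (118, 6), (105, 5), (14, 7), (13, 6), (89, 5), (59, 4), (118, 6), (115, 7), (90, 6), (9, 5), (118, 5), (14, 6), (12, 5), (116, 6), (103, 5), (118, 7), (105, 6), (119, 8), (13, 7), (14, 7), (92, 6), (105, 8), (12, 7), (119, 8), (13, 7), (110, 7), (74, 6), (64, 5), (47, 4), (34, 3), (29, 2), (4,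 1), (99, 7), (76, 6), (66, 5), (57, 4), (42, 3), (6, 2), (88, 2), (12, 3), (115, 4), (102, 3), (118, 5), (105, 4), (14, 6), (103, 5), (91, 4), (104, 6), (92, 5), (13, 7), (12, 6), (101, 6), (78, 5), (68, 4), (59, 3), (116, 5), (117, 6), (119, 7), (116, 8), (103, 7), (80, 6), (10, 5), (118, 7), (105, 6), (14, 8), (104, 7), (92, 6), (11, 5), (111, 7), (98, 6), (86, 5), (56, 4), (48, 3), (41, 2), (5, 1), (100, 4), (88, 3), (77, 2), (67, 1), (117, 3), (118, 4), (119, 5), (114, 6), (101, 5), (89, 4), (78, 3), (68, 2), (115, 7), (102, 6), (90, 5), (79, 4), (69, 3), (118, 8), (105, 7), (12, 6), (119, 7), (13, 6), (114, 6), (78, 5), (68, 4), (59, 3), (8, 2), (116, 3), (117, 4), (14, 5), (115, 6), (102, 5), (79, 4), (69, 3), (9, 2), (116, 2), (117, 3), (119, 4), (14, 5), (13, 4), (118, 4), (14, 5), (114, 6), (101, 5), (89, 4), (78, 3), (68, 2), (116, 7), (103, 6), (91, 5),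 (80, 4), (10, 3), (118, 6), (105, 5), (12, 4), (108, 5), (95, 4), (72, 3), (45, 2), (38, 1), (114, 7), (101, 6), (89, 5), (59, 4), (8, 3), (118, 4), (119, 5), (14, 6), (105, 5), (12, 4), (104, 4), (13, 5), (113, 6), (100, 5), (77, 4), (58, 3), (7, 2), (115, 3), (102, 2), (118, 4), (105, 3), (14, 5), (104, 4), (92, 3), (13, 5), (115, 5), (90, 4), (79, 3), (9, 2), (117, 2), (118, 3), (14, 4), (110, 4), (85, 3), (74, 2), (113, 5), (88, 4), (77, 3), (114, 6), (89, 5), (78, 4), (115, 7), (90, 6), (79, 5), (117, 8), (92, 7), (11, 6), (113, 7), (88, 6), (58, 5), (50, 4), (7, 3), (114, 4), (101, 3), (118, 5), (105, 4), (14, 6), (102, 5), (90, 4), (105, 6), (12, 5), (118, 6), (105, 5), (14, 7), (104, 6), (92, 5), (105, 7), (12, 6), (102, 6), (79, 5), (9, 4), (117, 4), (119, 5), (116, 6), (103, 5), (80, 4), (117, 7), (104, 6), (11, 5), (116, 6), (103, 5), (10, 4), (118, 5),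 (105, 4), (14, 6), (13, 5), (86, 4), (48, 3), (118, 6), (105, 5), (14, 7), (99, 6), (87, 5), (49, 4), (12, 6), (101, 6), (8, 5), (103, 5), (104, 6)], [(70, 5), (60, 4), (43, 3), (30, 2), (25, 1), (0, 0), (111, 6), (98, 5), (75, 4), (41, 3), (5, 2), (100, 5), (88, 4), (77, 3), (67, 2), (117, 4), (118, 5), (119, 6), (114, 7), (101, 6), (89, 5), (78, 4), (68, 3), (115, 8), (102, 7), (90, 6), (79, 5), (69, 4), (118, 9), (105, 8), (12, 7), (119, 8), (13, 7), (117, 7), (11, 6), (119, 6), (119, 7), (13, 6), (14, 6), (68, 5), (59, 4), (8, 3), (116, 4), (119, 5), (112, 6), (99, 5), (66, 4), (57, 3), (42, 2), (115, 6), (102, 5), (90, 4), (118, 7), (105, 6), (12, 5), (14, 6), (103, 5), (13, 6), (114, 6), (68, 5), (59, 4), (116, 6), (14, 7), (69, 6), (9, 5), (116, 5), (116, 6), (10, 5), (118, 5), (114, 6), (89, 5), (8, 4), (116, 5), (91, 4), (117, 6), (92, 5), (118, 7), (12,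 6), (119, 6), (116, 7), (103, 6), (80, 5), (10, 4), (117, 6), (104, 5), (11, 4), (119, 5), (13, 4), (107, 4), (37, 3), (31, 2), (22, 1), (17, 0), (110, 5), (55, 4), (47, 3), (40, 2), (14, 7), (99, 6), (57, 5), (49, 4), (42, 3), (114, 7), (101, 6), (89, 5), (118, 8), (105, 7), (12, 6), (115, 7), (102, 6), (118, 8), (105, 7), (14, 9), (13, 8), (90, 7), (9, 6), (118, 6), (116, 7), (91, 6), (118, 8), (12, 7), (112, 7), (66, 6), (49, 5), (42, 4), (6, 3), (88, 3), (12, 4), (114, 5), (101, 4), (118, 6), (105, 5), (116, 7), (103, 6), (91, 5), (14, 8), (103, 7), (91, 6), (10, 5), (104, 6), (92, 5), (105, 7), (12, 6), (100, 6), (77, 5), (50, 4), (7, 3), (114, 4), (101, 3), (118, 5), (105, 4), (14, 6), (104, 5), (92, 4), (13, 6), (89, 5), (78, 4), (8, 3), (90, 4), (79, 3), (12, 5), (108, 6), (95, 5), (72, 4), (53, 3), (23, 2), (2, 1), (110, 5), (64, 4), (47, 3), (40, 2), (34,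 1), (100, 4), (88, 3), (101, 5), (89, 4), (103, 6), (91, 5), (105, 7), (12, 6), (14, 7), (99, 6), (66, 5), (49, 4), (42, 3), (6, 2), (88, 2), (12, 3), (114, 4), (101, 3), (118, 5), (105, 4), (116, 6), (103, 5), (91, 4), (119, 7), (13, 6), (113, 6), (88, 5), (67, 4), (50, 3), (7, 2), (114, 3), (101, 2), (118, 4), (105, 3), (14, 5), (103, 4), (91, 3), (118, 6), (105, 5), (12, 4), (14, 5), (102, 4), (69, 3), (103, 5), (10, 4), (105, 4), (13, 5), (115, 5), (90, 4), (9, 3), (118, 3), (14, 4), (12, 3), (104, 3), (13, 4), (110, 5), (97, 4), (74, 3), (47, 2), (4, 1), (113, 4), (100, 3), (77, 2), (50, 1), (117, 4), (92, 3), (119, 5), (14, 6), (102, 5), (90, 4), (79, 3), (103, 6), (91, 5), (80, 4), (105, 7), (12, 6), (13, 6), (74, 5), (64, 4), (55, 3), (47, 2), (40, 1), (116, 6), (103, 5), (118, 7), (105, 6), (14, 8), (104, 7), (92, 6), (99, 8), (87, 7), (76, 6), (66, 5),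 (57, 4), (49, 3), (42, 2), (114, 6), (101, 5), (89, 4), (118, 7), (105, 6), (12, 5), (115, 6), (102, 5), (118, 7), (105, 6), (14, 8), (103, 7), (91, 6), (104, 8), (92, 7), (105, 9), (12, 8), (13, 8), (77, 7), (67, 6), (58, 5), (50, 4), (7, 3), (114, 4), (101, 3), (118, 5), (105, 4), (14, 6), (102, 5), (90, 4), (105, 6), (12, 5), (116, 6), (103, 5), (14, 7), (104, 6), (101, 7), (78, 6), (68, 5), (59, 4), (8, 3), (116, 4), (117, 5), (119, 6), (115, 7), (102, 6), (79, 5), (69, 4), (9, 3), (116, 3), (117, 4), (119, 5), (14, 6), (103, 5), (80, 4), (10, 3), (13, 4), (72, 3), (32, 2), (23, 1), (112, 9), (99, 8), (87, 7), (66, 6), (57, 5), (42, 4), (6, 3), (88, 3), (12, 4), (115, 5), (102, 4), (118, 6), (105, 5), (14, 7), (103, 6), (91, 5), (105, 7), (12, 6), (13, 6), (114, 6), (68, 5), (59, 4), (116, 6), (14, 7), (69, 6), (9, 5), (116, 5), (118, 6), (117, 7), (92, 6),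 (119, 8), (111, 9), (98, 8), (86, 7), (75, 6), (65, 5), (48, 4), (41, 3), (101, 8), (89, 7), (59, 6), (8, 5), (118, 6), (119, 7), (119, 8), (13, 7), (14, 7), (91, 6), (117, 9), (104, 8), (92, 7), (119, 10), (13, 9), (118, 9), (12, 8), (14, 8), (112, 9), (99, 8), (76, 7), (66, 6), (57, 5), (42, 4), (115, 8), (102, 7), (90, 6), (118, 9), (105, 8), (12, 7), (14, 8), (103, 7), (104, 8), (13, 9), (113, 9), (77, 8), (67, 7), (58, 6), (7, 5), (115, 6), (102, 5), (118, 7), (105, 6), (14, 8), (103, 7), (91, 6), (117, 9), (104, 8), (92, 7), (14, 10), (102, 9), (90, 8), (79, 7), (69, 6), (9, 5), (116, 5), (117, 6), (118, 7), (119, 8), (117, 9), (104, 8), (92, 7), (11, 6), (118, 8), (105, 7), (12, 6), (118, 7), (105, 6), (14, 8), (104, 7), (92, 6), (105, 8), (12, 7)]⟩,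
    ⟨7, [6, 0], [0, 6, 8, 9, 10, 12], [(43, 0), (98, 5), (86, 4), (75, 3), (65, 2), (48, 1), (116, 4), (103, 3), (119, 5), (13, 4), (14, 4), (105, 5), (119, 7), (13, 6)], [], [(93, 6), (60, 5), (51, 4), (43, 3), (36, 2), (30, 1), (21, 0), (76, 5), (57, 4), (49, 3), (42, 2), (114, 6), (101, 5), (89, 4), (118, 7), (105, 6), (12, 5), (115, 6), (102, 5), (118, 7), (105, 6), (14, 8), (104, 7), (92, 6), (101, 8), (89, 7), (78, 6), (59, 5), (8, 4), (117, 5), (118, 6), (119, 7), (115, 8), (102, 7), (90, 6), (79, 5), (9, 4), (117, 4), (118, 5), (119, 6), (14, 7), (103, 6), (91, 5), (80, 4), (105, 7), (12, 6), (100, 6), (77, 5), (67, 4), (7, 3), (116, 4), (103, 3), (14, 5), (104, 4), (13, 5), (11, 4), (89, 4), (68, 3), (91, 5), (10, 4), (92, 4), (12, 5), (102, 5), (79, 4), (103, 6), (80, 5), (104, 7), (11, 6), (103, 6), (10, 5), (13, 5), (56, 4), (48, 3), (35, 2), (114, 6),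 (59, 5), (8, 4), (14, 5), (115, 6), (102, 5), (9, 4), (119, 4), (14, 5), (13, 4), (112, 4), (6, 3), (114, 4), (89, 3), (116, 5), (91, 4), (117, 6), (92, 5)], [(74, 5), (64, 4), (47, 3), (34, 2), (29, 1), (99, 8), (76, 7), (66, 6), (57, 5), (42, 4), (6, 3), (88, 3), (12, 4), (115, 5), (102, 4), (118, 6), (105, 5), (14, 7), (103, 6), (91, 5), (104, 7), (92, 6), (13, 8), (12, 7), (101, 7), (78, 6), (68, 5), (59, 4), (116, 6), (117, 7), (119, 8), (116, 9), (103, 8), (80, 7), (10, 6), (118, 8), (105, 7), (14, 9), (104, 8), (92, 7), (11, 6), (99, 7), (87, 6), (57, 5), (49, 4), (42, 3), (114, 7), (101, 6), (89, 5), (118, 8), (105, 7), (12, 6), (115, 7), (102, 6), (118, 8), (105, 7), (14, 9), (105, 8), (12, 7), (13, 7), (58, 6), (50, 5), (7, 4), (114, 5), (101, 4), (118, 6), (105, 5), (14, 7), (102, 6), (90, 5), (105, 7), (12, 6), (114, 7), (101, 6), (59, 5), (8, 4), (119,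 5), (14, 6), (102, 5), (9, 4), (119, 4), (116, 5), (103, 4), (119, 6), (13, 5), (112, 5), (66, 4), (6, 3), (91, 3), (114, 5), (89, 4), (68, 3), (118, 6), (12, 5), (14, 5), (118, 6), (12, 5), (117, 5), (118, 6)]⟩,
    ⟨7, [7, 0], [0, 7, 8, 9, 11], [(51, 0), (75, 3), (65, 2), (56, 1), (116, 4), (103, 3), (119, 5), (13, 4), (14, 4)], [], [(81, 6), (70, 5), (51, 4), (36, 3), (30, 2), (25, 1), (16, 0), (111, 4), (56, 3), (41, 2), (102, 7), (90, 6), (9, 5), (118, 5), (119, 6), (119, 7), (13, 6), (14, 6), (114, 6), (89, 5), (8, 4), (119, 5), (112, 6), (99, 5), (87, 4), (42, 3), (118, 7), (105, 6), (12, 5), (119, 6), (13, 5), (14, 5), (88, 8), (67, 7), (58, 6), (50, 5), (7, 4), (114, 5), (101, 4), (118, 6), (105, 5), (14, 7), (102, 6), (90, 5), (105, 7), (12, 6), (116, 7), (103, 6), (14, 8), (105, 7), (104, 8), (92, 7), (105, 9), (12, 8), (102, 8), (79, 7), (69, 6), (9,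 5), (116, 5), (117, 6), (119, 7), (116, 8), (103, 7), (80, 6), (10, 5), (117, 7), (104, 6), (11, 5), (117, 6), (104, 5), (119, 7), (13, 6), (118, 6), (14, 7), (86, 6), (75, 5), (48, 4), (35, 3), (5, 2), (99, 5), (87, 4), (76, 3), (66, 2), (101, 6), (89, 5), (78, 4), (68, 3), (102, 7), (90, 6), (79, 5), (69, 4), (114, 9), (101, 8), (89, 7), (78, 6), (68, 5), (59, 4), (8, 3), (116, 4), (117, 5), (118, 6), (119, 7), (14, 8), (13, 7), (117, 7), (92, 6), (11, 5), (119, 6), (118, 7), (105, 6), (12, 5), (14, 6), (99, 5), (66, 4), (57, 3), (6, 2), (90, 2), (12, 3), (116, 3), (119, 4), (114, 5), (101, 4), (68, 3), (59, 2), (116, 4), (119, 5), (14, 6), (103, 5), (10, 4), (104, 4)], [(72, 5), (62, 4), (45, 3), (32, 2), (27, 1), (99, 7), (87, 6), (49, 5), (42, 4), (6, 3), (88, 3), (12, 4), (114, 5), (101, 4), (118, 6), (105, 5), (118, 7), (105, 6), (12, 5), (119, 6), (13, 5),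 (114, 5), (8, 4), (115, 4), (118, 5), (114, 6), (89, 5), (59, 4), (118, 6), (14, 7), (12, 6), (117, 9), (104, 8), (92, 7), (119, 10), (13, 9), (111, 9), (86, 8), (75, 7), (65, 6), (56, 5), (48, 4), (41, 3), (5, 2), (100, 5), (88, 4), (77, 3), (67, 2), (117, 4), (118, 5), (119, 6), (114, 7), (101, 6), (89, 5), (78, 4), (68, 3), (115, 8), (102, 7), (90, 6), (79, 5), (69, 4), (118, 9), (105, 8), (12, 7), (119, 8), (13, 7), (114, 7), (78, 6), (68, 5), (59, 4), (8, 3), (116, 4), (117, 5), (14, 6), (115, 7), (102, 6), (79, 5), (69, 4), (9, 3), (116, 3), (117, 4), (119, 5), (14, 6), (13, 5), (116, 5), (80, 4), (10, 3), (119, 4), (14, 5), (104, 4), (11, 3), (13, 3), (14, 4), (87, 3), (42, 2), (118, 6), (105, 5), (12, 4), (113, 5), (100, 4), (7, 3), (119, 4), (13, 3), (14, 3), (87, 5), (76, 4), (57, 3), (6, 2), (90, 2), (12, 3), (117, 3), (118, 4), (114, 5), (89, 4), (78,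 3), (59, 2), (117, 4), (118, 5), (14, 6), (12, 5), (118, 5), (14, 6), (12, 5)]⟩,
    ⟨7, [8, 0], [0, 8, 11, 12], [(60, 0), (65, 1)], [], [(106, 3), (81, 2), (43, 1), (30, 0), (89, 5), (68, 4), (59, 3), (8, 2), (116, 3), (118, 4), (116, 5), (91, 4), (10, 3), (117, 4), (92, 3), (118, 5), (12, 4), (119, 4), (118, 5), (105, 4), (14, 6), (111, 6), (98, 5), (86, 4), (75, 3), (56, 2), (35, 1), (115, 5), (9, 4), (14, 4), (117, 5), (104, 4), (119, 6), (13, 5), (118, 5), (14, 6), (112, 7), (99, 6), (87, 5), (76, 4), (49, 3), (6, 2), (89, 2), (12, 3), (114, 6), (101, 5), (89, 4), (78, 3), (8, 2), (116, 5), (103, 4), (91, 3), (80, 2), (117, 6), (104, 5), (92, 4), (11, 3)], [(76, 5), (66, 4), (49, 3), (6, 2), (89, 2), (12, 3), (78, 4), (68, 3), (8, 2), (118, 5), (12, 4), (119, 4), (117, 5), (104, 4), (11, 3), (118, 4), (105, 3)]⟩,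
    ⟨7, [1, 1], [4, 6, 8, 11], [(1, 0)], [], [(71, 6), (37, 5), (31, 4), (26, 3), (22, 2), (17, 1), (1, 0), (95, 3), (62, 2), (45, 1), (32, 0), (89, 4), (59, 3), (8, 2), (118, 3), (118, 4), (12, 3), (116, 3), (118, 4), (119, 5), (14, 6), (13, 5), (88, 4), (67, 3), (58, 2), (116, 5), (91, 4), (14, 6), (12, 5), (68, 4), (59, 3), (116, 5), (115, 6), (69, 5), (9, 4), (116, 4), (14, 5), (110, 5), (64, 4), (47, 3), (40, 2), (34, 1), (100, 4), (88, 3), (101, 5), (89, 4), (103, 6), (91, 5), (105, 7), (12, 6), (14, 7), (99, 6), (66, 5), (49, 4), (42, 3), (6, 2), (88, 2), (12, 3), (114, 4), (101, 3), (118, 5), (105, 4), (116, 6), (103, 5), (91, 4), (119, 7), (13, 6), (115, 6), (90, 5), (69, 4), (116, 7), (91, 6), (10, 5), (118, 6), (12, 5), (111, 5), (56, 4), (48, 3), (41, 2), (101, 7), (89, 6), (59, 5), (8, 4), (118, 5), (119, 6), (119, 7), (13, 6), (14, 6), (90, 5), (9,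 4), (118, 4), (119, 5), (14, 6), (112, 6), (99, 5), (87, 4), (42, 3), (118, 7), (105, 6), (12, 5), (119, 6), (13, 5), (14, 5), (7, 4), (115, 5), (102, 4), (118, 6), (105, 5), (112, 7), (99, 6), (87, 5), (57, 4), (6, 3), (90, 3), (12, 4), (118, 4), (119, 5), (14, 6), (103, 5), (91, 4), (104, 6), (92, 5), (105, 7), (12, 6), (100, 6), (77, 5), (67, 4), (58, 3), (116, 6), (91, 5), (14, 7), (92, 6), (101, 8), (89, 7), (78, 6), (68, 5), (59, 4), (116, 6), (117, 7), (118, 8), (119, 9), (115, 10), (102, 9), (90, 8), (79, 7), (69, 6), (9, 5), (116, 5), (117, 6), (118, 7), (119, 8), (14, 9), (105, 8), (12, 7), (13, 7), (11, 6), (62, 5), (45, 4), (38, 3), (27, 2), (23, 1), (2, 0), (110, 4), (64, 3), (47, 2), (40, 1), (34, 0), (100, 3), (88, 2), (101, 4), (89, 3), (103, 5), (91, 4), (105, 6), (12, 5), (14, 6), (99, 5), (66, 4), (49, 3), (42, 2), (6, 1), (88, 1), (12, 2), (114,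 3), (101, 2), (118, 4), (105, 3), (116, 5), (103, 4), (91, 3), (119, 6), (13, 5), (113, 5), (88, 4), (67, 3), (50, 2), (7, 1), (114, 2), (101, 1), (118, 3), (105, 2), (14, 4), (103, 3), (91, 2), (118, 5), (105, 4), (12, 3), (14, 4), (102, 3), (69, 2), (103, 4), (10, 3), (105, 3), (13, 4), (111, 4), (86, 3), (56, 2), (48, 1), (115, 4), (102, 3), (119, 5), (13, 4), (14, 4), (14, 5), (87, 4), (57, 3), (49, 2), (90, 4), (12, 5), (118, 5), (113, 6), (88, 5), (58, 4), (50, 3), (115, 6), (90, 5), (118, 7), (12, 6), (14, 6), (114, 7), (89, 6), (59, 5), (8, 4), (118, 5), (14, 6), (12, 5), (100, 5), (58, 4), (7, 3), (115, 4), (102, 3), (118, 5), (105, 4), (14, 6), (13, 5), (89, 4), (59, 3), (118, 5), (115, 6), (90, 5), (9, 4), (118, 4), (14, 5), (12, 4), (114, 5), (101, 4), (8, 3), (118, 4), (105, 3), (116, 5), (103, 4), (91, 3), (118, 6), (105, 5), (12, 4), (119, 5), (13,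 4), (14, 4), (64, 3), (34, 2), (29, 1), (4, 0), (99, 6), (76, 5), (66, 4), (57, 3), (42, 2), (6, 1), (88, 1), (12, 2), (115, 3), (102, 2), (118, 4), (105, 3), (14, 5), (103, 4), (91, 3), (104, 5), (92, 4), (13, 6), (12, 5), (103, 5), (80, 4), (10, 3), (105, 4), (111, 6), (98, 5), (86, 4), (75, 3), (56, 2), (41, 1), (5, 0), (100, 3), (88, 2), (77, 1), (67, 0), (117, 2), (118, 3), (119, 4), (114, 5), (101, 4), (89, 3), (78, 2), (68, 1), (115, 6), (102, 5), (90, 4), (79, 3), (69, 2), (118, 7), (105, 6), (12, 5), (119, 6), (13, 5), (115, 5), (79, 4), (69, 3), (9, 2), (116, 2), (117, 3), (14, 4), (117, 5), (104, 4), (11, 3), (119, 4), (13, 3), (118, 3), (14, 4), (112, 5), (99, 4), (87, 3), (66, 2), (49, 1), (42, 0), (114, 4), (101, 3), (89, 2), (118, 5), (105, 4), (12, 3), (116, 4), (103, 3), (118, 5), (105, 4), (119, 6), (13, 5), (14, 5), (88, 4), (67, 3), (50, 2),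 (7, 1), (114, 2), (101, 1), (118, 3), (105, 2), (14, 4), (103, 3), (91, 2), (118, 5), (105, 4), (12, 3), (117, 4), (104, 3)], [(97, 7), (85, 6), (74, 5), (55, 4), (47, 3), (40, 2), (34, 1), (4, 0), (100, 2), (88, 1), (101, 3), (89, 2), (102, 4), (90, 3), (13, 5), (117, 5), (92, 4), (118, 6), (12, 5), (119, 5), (112, 6), (99, 5), (76, 4), (57, 3), (49, 2), (42, 1), (6, 0), (88, 0), (12, 1), (114, 2), (101, 1), (118, 3), (105, 2), (115, 4), (102, 3), (90, 2), (118, 5), (105, 4), (12, 3), (14, 4), (104, 3), (13, 4), (113, 4), (77, 3), (58, 2), (50, 1), (7, 0), (114, 1), (101, 0), (118, 2), (105, 1), (14, 3), (102, 2), (90, 1), (105, 3), (12, 2), (117, 3), (104, 2), (14, 4), (101, 3), (78, 2), (59, 1), (8, 0), (117, 1), (119, 2), (115, 3), (102, 2), (79, 1), (9, 0), (117, 0), (119, 1), (14, 2), (103, 1), (80, 0), (13, 2), (76, 1), (66, 0), (78, 2), (68, 1), (118, 5),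 (12, 4), (119, 4)]⟩,
    ⟨7, [2, 2], [9, 10, 12], [(27, 1), (2, 0), (111, 4), (65, 3), (48, 2), (41, 1), (35, 0), (113, 4), (58, 3), (50, 2), (115, 5), (90, 4), (118, 6), (12, 5), (14, 5), (114, 5), (59, 4), (8, 3), (14, 4), (9, 3), (118, 3), (119, 4), (114, 5), (101, 4), (89, 3), (119, 6), (13, 5), (14, 5), (91, 4), (14, 7), (99, 6), (87, 5), (66, 4), (49, 3), (42, 2), (6, 1), (88, 1), (12, 2), (114, 3), (101, 2), (118, 4), (105, 3), (116, 5), (103, 4), (91, 3), (118, 6), (105, 5), (12, 4), (119, 5), (13, 4), (113, 4), (67, 3), (50, 2), (7, 1), (114, 2), (101, 1), (118, 3), (105, 2), (14, 4), (103, 3), (91, 2), (14, 5), (101, 4), (89, 3), (68, 2), (8, 1), (105, 3), (12, 2), (13, 2), (65, 1), (5, 0), (103, 3), (91, 2), (80, 1), (10, 0), (13, 2)], [], [(106, 6), (93, 5), (81, 4), (30, 3), (25, 2), (15, 1), (0, 0), (107, 6), (94, 5), (71, 4), (37, 3), (26, 2), (22,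 1), (17, 0), (110, 5), (55, 4), (47, 3), (40, 2), (14, 7), (99, 6), (57, 5), (49, 4), (42, 3), (114, 7), (101, 6), (89, 5), (118, 8), (105, 7), (12, 6), (115, 7), (102, 6), (118, 8), (105, 7), (14, 9), (13, 8), (90, 7), (9, 6), (118, 6), (116, 7), (91, 6), (118, 8), (12, 7), (111, 7), (65, 6), (48, 5), (41, 4), (35, 3), (113, 7), (58, 6), (50, 5), (115, 8), (90, 7), (118, 9), (12, 8), (14, 8), (114, 8), (59, 7), (8, 6), (14, 7), (9, 6), (118, 6), (119, 7), (114, 8), (101, 7), (89, 6), (119, 9), (13, 8), (14, 8), (91, 7), (14, 10), (99, 9), (87, 8), (66, 7), (49, 6), (42, 5), (6, 4), (88, 4), (12, 5), (114, 6), (101, 5), (118, 7), (105, 6), (116, 8), (103, 7), (91, 6), (118, 9), (105, 8), (12, 7), (119, 8), (13, 7), (113, 7), (67, 6), (50, 5), (7, 4), (114, 5), (101, 4), (118, 6), (105, 5), (14, 7), (103, 6), (91, 5), (14, 8), (102, 7), (90, 6), (69, 5), (105, 8),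 (12, 7), (100, 7), (67, 6), (58, 5), (50, 4), (115, 7), (90, 6), (118, 8), (12, 7), (14, 7), (119, 8), (114, 9), (101, 8), (68, 7), (59, 6), (8, 5), (116, 6), (119, 7), (14, 8), (102, 7), (69, 6), (9, 5), (116, 5), (119, 6), (118, 7), (105, 6), (119, 8), (13, 7), (117, 7), (92, 6), (119, 8), (14, 9), (95, 8), (83, 7), (72, 6), (62, 5), (38, 4), (27, 3), (23, 2), (2, 1), (110, 5), (64, 4), (47, 3), (40, 2), (34, 1), (100, 4), (88, 3), (101, 5), (89, 4), (103, 6), (91, 5), (105, 7), (12, 6), (14, 7), (99, 6), (66, 5), (49, 4), (42, 3), (6, 2), (88, 2), (12, 3), (114, 4), (101, 3), (118, 5), (105, 4), (116, 6), (103, 5), (91, 4), (119, 7), (13, 6), (113, 6), (88, 5), (67, 4), (50, 3), (7, 2), (114, 3), (101, 2), (118, 4), (105, 3), (14, 5), (103, 4), (91, 3), (118, 6), (105, 5), (12, 4), (14, 5), (102, 4), (69, 3), (103, 5), (10, 4), (105, 4), (13, 5), (111, 5), (86,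 4), (56, 3), (48, 2), (115, 5), (102, 4), (119, 6), (13, 5), (14, 5), (14, 6), (87, 5), (57, 4), (49, 3), (90, 5), (12, 6), (118, 6), (113, 7), (88, 6), (58, 5), (50, 4), (115, 7), (90, 6), (118, 8), (12, 7), (14, 7), (114, 8), (89, 7), (59, 6), (8, 5), (118, 6), (14, 7), (12, 6), (100, 6), (58, 5), (7, 4), (115, 5), (102, 4), (118, 6), (105, 5), (14, 7), (13, 6), (89, 5), (59, 4), (118, 6), (115, 7), (90, 6), (9, 5), (118, 5), (14, 6), (12, 5), (116, 6), (103, 5), (118, 7), (105, 6), (119, 8), (13, 7), (14, 7), (92, 6), (105, 8), (12, 7), (119, 8), (13, 7), (110, 7), (74, 6), (64, 5), (47, 4), (34, 3), (29, 2), (4, 1), (99, 7), (76, 6), (66, 5), (57, 4), (42, 3), (6, 2), (88, 2), (12, 3), (115, 4), (102, 3), (118, 5), (105, 4), (14, 6), (103, 5), (91, 4), (104, 6), (92, 5), (13, 7), (12, 6), (101, 6), (78, 5), (68, 4), (59, 3), (116, 5), (117, 6), (119, 7), (116,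 8), (103, 7), (80, 6), (10, 5), (118, 7), (105, 6), (14, 8), (104, 7), (92, 6), (11, 5), (111, 7), (98, 6), (86, 5), (56, 4), (48, 3), (41, 2), (5, 1), (100, 4), (88, 3), (77, 2), (67, 1), (117, 3), (118, 4), (119, 5), (114, 6), (101, 5), (89, 4), (78, 3), (68, 2), (115, 7), (102, 6), (90, 5), (79, 4), (69, 3), (118, 8), (105, 7), (12, 6), (119, 7), (13, 6), (114, 6), (78, 5), (68, 4), (59, 3), (8, 2), (116, 3), (117, 4), (14, 5), (115, 6), (102, 5), (79, 4), (69, 3), (9, 2), (116, 2), (117, 3), (119, 4), (14, 5), (13, 4), (118, 4), (14, 5), (114, 6), (101, 5), (89, 4), (78, 3), (68, 2), (116, 7), (103, 6), (91, 5), (80, 4), (10, 3), (118, 6), (105, 5), (12, 4), (111, 5), (98, 4), (75, 3), (48, 2), (41, 1), (101, 6), (89, 5), (59, 4), (8, 3), (118, 4), (119, 5), (119, 6), (13, 5), (14, 5), (92, 4), (13, 6), (114, 6), (89, 5), (78, 4), (59, 3), (117, 5), (118, 6),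 (14, 7), (99, 7), (87, 6), (76, 5), (57, 4), (49, 3), (42, 2), (114, 6), (101, 5), (89, 4), (118, 7), (105, 6), (12, 5), (115, 6), (102, 5), (118, 7), (105, 6), (14, 8), (104, 7), (92, 6), (105, 8), (12, 7), (13, 7), (78, 6), (59, 5), (8, 4), (117, 5), (115, 6), (79, 5), (9, 4), (117, 4), (14, 5), (80, 4), (12, 6), (119, 6), (14, 7), (94, 6), (71, 5), (61, 4), (37, 3), (31, 2), (26, 1), (1, 0), (98, 3), (65, 2), (48, 1), (35, 0), (114, 4), (59, 3), (8, 2), (14, 3), (116, 4), (103, 3), (119, 5), (13, 4), (14, 4), (99, 4), (66, 3), (57, 2), (6, 1), (90, 1), (12, 2), (116, 2), (119, 3), (113, 4), (100, 3), (67, 2), (58, 1), (116, 4), (91, 3), (14, 5), (115, 6), (102, 5), (90, 4), (69, 3), (9, 2), (116, 2), (118, 3), (119, 4), (14, 5), (105, 4), (12, 3), (99, 3), (66, 2), (42, 1), (116, 5), (103, 4), (91, 3), (119, 6), (13, 5), (116, 5), (91, 4), (10, 3), (117, 4),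 (92, 3), (118, 5), (12, 4), (113, 4), (77, 3), (7, 2), (117, 3), (104, 2), (14, 4), (101, 3), (78, 2), (102, 4), (79, 3), (105, 5), (13, 6), (91, 5), (80, 4), (12, 6), (11, 5), (98, 5), (65, 4), (56, 3), (48, 2), (35, 1), (5, 0), (99, 3), (87, 2), (76, 1), (66, 0), (101, 4), (89, 3), (78, 2), (68, 1), (102, 5), (90, 4), (79, 3), (69, 2), (114, 7), (101, 6), (89, 5), (78, 4), (68, 3), (59, 2), (8, 1), (116, 2), (117, 3), (118, 4), (119, 5), (14, 6), (13, 5), (115, 5), (90, 4), (79, 3), (69, 2), (9, 1), (116, 1), (117, 2), (118, 3), (14, 4), (116, 5), (103, 4), (91, 3), (80, 2), (10, 1), (119, 4), (13, 3), (14, 3), (99, 3), (87, 2), (76, 1), (6, 0), (92, 0), (12, 1), (105, 1), (13, 2)], [(118, 1), (12, 0), (117, 0), (118, 1)]⟩]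

/-- Part of the certificate. -/
def fusesPart8 : List Spor.SchurCert.Fuse := [
    ⟨7, [3, 3], [], [(4, 0)], [], [(93, 8), (81, 7), (70, 6), (51, 5), (43, 4), (25, 3), (21, 2), (15, 1), (0, 0), (107, 6), (94, 5), (71, 4), (37, 3), (26, 2), (22, 1), (17, 0), (110, 5), (55, 4), (47, 3), (40, 2), (14, 7), (99, 6), (57, 5), (49, 4), (42, 3), (114, 7), (101, 6), (89, 5), (118, 8), (105, 7), (12, 6), (115, 7), (102, 6), (118, 8), (105, 7), (14, 9), (13, 8), (90, 7), (9, 6), (118, 6), (116, 7), (91, 6), (118, 8), (12, 7), (111, 7), (65, 6), (48, 5), (41, 4), (35, 3), (113, 7), (58, 6), (50, 5), (115, 8), (90, 7), (118, 9), (12, 8), (14, 8), (114, 8), (59, 7), (8, 6), (14, 7), (9, 6), (118, 6), (119, 7), (114, 8), (101, 7), (89, 6), (119, 9), (13, 8), (14, 8), (91, 7), (14, 10), (99, 9), (87, 8), (66, 7), (49, 6), (42, 5), (6, 4), (88, 4), (12, 5), (114, 6), (101, 5),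 (118, 7), (105, 6), (116, 8), (103, 7), (91, 6), (118, 9), (105, 8), (12, 7), (119, 8), (13, 7), (113, 7), (67, 6), (50, 5), (7, 4), (114, 5), (101, 4), (118, 6), (105, 5), (14, 7), (103, 6), (91, 5), (14, 8), (102, 7), (90, 6), (69, 5), (105, 8), (12, 7), (100, 7), (67, 6), (58, 5), (50, 4), (115, 7), (90, 6), (118, 8), (12, 7), (14, 7), (119, 8), (114, 9), (101, 8), (68, 7), (59, 6), (8, 5), (116, 6), (119, 7), (14, 8), (102, 7), (69, 6), (9, 5), (116, 5), (119, 6), (118, 7), (105, 6), (119, 8), (13, 7), (117, 7), (92, 6), (119, 8), (14, 9), (95, 8), (83, 7), (72, 6), (62, 5), (38, 4), (27, 3), (23, 2), (2, 1), (110, 5), (64, 4), (47, 3), (40, 2), (34, 1), (100, 4), (88, 3), (101, 5), (89, 4), (103, 6), (91, 5), (105, 7), (12, 6), (14, 7), (99, 6), (66, 5), (49, 4), (42, 3), (6, 2), (88, 2), (12, 3), (114, 4), (101, 3), (118, 5), (105, 4), (116, 6), (103, 5),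 (91, 4), (119, 7), (13, 6), (113, 6), (88, 5), (67, 4), (50, 3), (7, 2), (114, 3), (101, 2), (118, 4), (105, 3), (14, 5), (103, 4), (91, 3), (118, 6), (105, 5), (12, 4), (14, 5), (102, 4), (69, 3), (103, 5), (10, 4), (105, 4), (13, 5), (111, 5), (86, 4), (56, 3), (48, 2), (115, 5), (102, 4), (119, 6), (13, 5), (14, 5), (14, 6), (87, 5), (57, 4), (49, 3), (90, 5), (12, 6), (118, 6), (113, 7), (88, 6), (58, 5), (50, 4), (115, 7), (90, 6), (118, 8), (12, 7), (14, 7), (114, 8), (89, 7), (59, 6), (8, 5), (118, 6), (14, 7), (12, 6), (100, 6), (58, 5), (7, 4), (115, 5), (102, 4), (118, 6), (105, 5), (14, 7), (13, 6), (89, 5), (59, 4), (118, 6), (115, 7), (90, 6), (9, 5), (118, 5), (14, 6), (12, 5), (116, 6), (103, 5), (118, 7), (105, 6), (119, 8), (13, 7), (14, 7), (92, 6), (105, 8), (12, 7), (119, 8), (13, 7), (110, 7), (74, 6), (64, 5), (47, 4), (34, 3), (29, 2), (4,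 1), (99, 7), (76, 6), (66, 5), (57, 4), (42, 3), (6, 2), (88, 2), (12, 3), (115, 4), (102, 3), (118, 5), (105, 4), (14, 6), (103, 5), (91, 4), (104, 6), (92, 5), (13, 7), (12, 6), (101, 6), (78, 5), (68, 4), (59, 3), (116, 5), (117, 6), (119, 7), (116, 8), (103, 7), (80, 6), (10, 5), (118, 7), (105, 6), (14, 8), (104, 7), (92, 6), (11, 5), (111, 7), (98, 6), (86, 5), (56, 4), (48, 3), (41, 2), (5, 1), (100, 4), (88, 3), (77, 2), (67, 1), (117, 3), (118, 4), (119, 5), (114, 6), (101, 5), (89, 4), (78, 3), (68, 2), (115, 7), (102, 6), (90, 5), (79, 4), (69, 3), (118, 8), (105, 7), (12, 6), (119, 7), (13, 6), (114, 6), (78, 5), (68, 4), (59, 3), (8, 2), (116, 3), (117, 4), (14, 5), (115, 6), (102, 5), (79, 4), (69, 3), (9, 2), (116, 2), (117, 3), (119, 4), (14, 5), (13, 4), (118, 4), (14, 5), (114, 6), (101, 5), (89, 4), (78, 3), (68, 2), (116, 7), (103, 6), (91, 5),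 (80, 4), (10, 3), (118, 6), (105, 5), (12, 4), (110, 5), (97, 4), (74, 3), (47, 2), (40, 1), (113, 6), (100, 5), (77, 4), (50, 3), (7, 2), (114, 3), (101, 2), (118, 4), (105, 3), (14, 5), (104, 4), (92, 3), (13, 5), (114, 5), (89, 4), (78, 3), (8, 2), (115, 4), (90, 3), (79, 2), (117, 5), (92, 4), (11, 3), (111, 4), (86, 3), (56, 2), (118, 5), (105, 4), (14, 6), (114, 6), (101, 5), (89, 4), (59, 3), (118, 5), (119, 6), (14, 7), (13, 6), (89, 5), (59, 4), (8, 3), (118, 4), (116, 5), (91, 4), (117, 6), (92, 5), (118, 7), (12, 6), (119, 6), (115, 7), (102, 6), (79, 5), (69, 4), (9, 3), (116, 3), (117, 4), (119, 5), (14, 6), (103, 5), (80, 4), (10, 3), (104, 4), (11, 3), (104, 3), (13, 4), (119, 5), (107, 6), (94, 5), (82, 4), (71, 3), (26, 2), (22, 1), (1, 0), (97, 3), (64, 2), (47, 1), (34, 0), (101, 3), (89, 2), (103, 4), (91, 3), (105, 5), (12, 4), (119, 5), (13,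 4), (112, 4), (66, 3), (49, 2), (6, 1), (89, 1), (12, 2), (115, 3), (69, 2), (116, 4), (10, 3), (118, 3), (111, 4), (86, 3), (56, 2), (48, 1), (115, 4), (102, 3), (119, 5), (13, 4), (14, 4), (14, 5), (87, 4), (57, 3), (49, 2), (90, 4), (12, 5), (118, 5), (113, 6), (88, 5), (58, 4), (50, 3), (115, 6), (90, 5), (118, 7), (12, 6), (14, 6), (115, 7), (90, 6), (9, 5), (118, 5), (14, 6), (12, 5), (110, 8), (97, 7), (85, 6), (74, 5), (47, 4), (40, 3), (34, 2), (29, 1), (4, 0), (99, 6), (76, 5), (66, 4), (57, 3), (42, 2), (6, 1), (88, 1), (12, 2), (115, 3), (102, 2), (118, 4), (105, 3), (14, 5), (103, 4), (91, 3), (104, 5), (92, 4), (13, 6), (12, 5), (100, 5), (77, 4), (67, 3), (58, 2), (7, 1), (115, 2), (102, 1), (118, 3), (105, 2), (14, 4), (103, 3), (91, 2), (117, 5), (104, 4), (92, 3), (119, 6), (13, 5), (114, 5), (89, 4), (78, 3), (68, 2), (59, 1), (116, 3), (117,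 4), (118, 5), (14, 6), (92, 5), (11, 4), (12, 4), (111, 5), (98, 4), (65, 3), (56, 2), (48, 1), (5, 0), (101, 3), (89, 2), (78, 1), (68, 0), (13, 4), (115, 4), (90, 3), (79, 2), (69, 1), (119, 5), (14, 6), (103, 5), (91, 4), (80, 3), (10, 2), (13, 4), (119, 4), (14, 5), (101, 4), (89, 3), (78, 2), (59, 1), (8, 0), (117, 1), (118, 2), (119, 3), (115, 4), (102, 3), (90, 2), (79, 1), (9, 0), (117, 0), (118, 1), (119, 2), (14, 3), (104, 2), (92, 1), (11, 0), (105, 1), (12, 0), (13, 0)], []⟩,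
    ⟨7, [5, 5], [11, 12], [(7, 0)], [], [(93, 8), (81, 7), (60, 6), (51, 5), (36, 4), (21, 3), (16, 2), (15, 1), (0, 0), (107, 6), (94, 5), (71, 4), (37, 3), (26, 2), (22, 1), (17, 0), (110, 5), (55, 4), (47, 3), (40, 2), (14, 7), (99, 6), (57, 5), (49, 4), (42, 3), (114, 7), (101, 6), (89, 5), (118, 8), (105, 7), (12, 6), (115, 7), (102, 6), (118, 8), (105, 7), (14, 9), (13, 8), (90, 7), (9, 6), (118, 6), (116, 7), (91, 6), (118, 8), (12, 7), (111, 7), (65, 6), (48, 5), (41, 4), (35, 3), (113, 7), (58, 6), (50, 5), (115, 8), (90, 7), (118, 9), (12, 8), (14, 8), (114, 8), (59, 7), (8, 6), (14, 7), (9, 6), (118, 6), (119, 7), (114, 8), (101, 7), (89, 6), (119, 9), (13, 8), (14, 8), (91, 7), (14, 10), (99, 9), (87, 8), (66, 7), (49, 6), (42, 5), (6, 4), (88, 4), (12, 5), (114, 6), (101, 5), (118, 7), (105, 6), (116, 8), (103, 7), (91, 6), (118, 9), (105, 8), (12,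 7), (119, 8), (13, 7), (113, 7), (67, 6), (50, 5), (7, 4), (114, 5), (101, 4), (118, 6), (105, 5), (14, 7), (103, 6), (91, 5), (14, 8), (102, 7), (90, 6), (69, 5), (105, 8), (12, 7), (100, 7), (67, 6), (58, 5), (50, 4), (115, 7), (90, 6), (118, 8), (12, 7), (14, 7), (119, 8), (114, 9), (101, 8), (68, 7), (59, 6), (8, 5), (116, 6), (119, 7), (14, 8), (102, 7), (69, 6), (9, 5), (116, 5), (119, 6), (118, 7), (105, 6), (119, 8), (13, 7), (117, 7), (92, 6), (119, 8), (14, 9), (95, 8), (83, 7), (72, 6), (62, 5), (38, 4), (27, 3), (23, 2), (2, 1), (110, 5), (64, 4), (47, 3), (40, 2), (34, 1), (100, 4), (88, 3), (101, 5), (89, 4), (103, 6), (91, 5), (105, 7), (12, 6), (14, 7), (99, 6), (66, 5), (49, 4), (42, 3), (6, 2), (88, 2), (12, 3), (114, 4), (101, 3), (118, 5), (105, 4), (116, 6), (103, 5), (91, 4), (119, 7), (13, 6), (113, 6), (88, 5), (67, 4), (50, 3), (7, 2), (114,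 3), (101, 2), (118, 4), (105, 3), (14, 5), (103, 4), (91, 3), (118, 6), (105, 5), (12, 4), (14, 5), (102, 4), (69, 3), (103, 5), (10, 4), (105, 4), (13, 5), (111, 5), (86, 4), (56, 3), (48, 2), (115, 5), (102, 4), (119, 6), (13, 5), (14, 5), (14, 6), (87, 5), (57, 4), (49, 3), (90, 5), (12, 6), (118, 6), (113, 7), (88, 6), (58, 5), (50, 4), (115, 7), (90, 6), (118, 8), (12, 7), (14, 7), (114, 8), (89, 7), (59, 6), (8, 5), (118, 6), (14, 7), (12, 6), (100, 6), (58, 5), (7, 4), (115, 5), (102, 4), (118, 6), (105, 5), (14, 7), (13, 6), (89, 5), (59, 4), (118, 6), (115, 7), (90, 6), (9, 5), (118, 5), (14, 6), (12, 5), (116, 6), (103, 5), (118, 7), (105, 6), (119, 8), (13, 7), (14, 7), (92, 6), (105, 8), (12, 7), (119, 8), (13, 7), (110, 7), (74, 6), (64, 5), (47, 4), (34, 3), (29, 2), (4, 1), (99, 7), (76, 6), (66, 5), (57, 4), (42, 3), (6, 2), (88, 2), (12, 3), (115,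 4), (102, 3), (118, 5), (105, 4), (14, 6), (103, 5), (91, 4), (104, 6), (92, 5), (13, 7), (12, 6), (101, 6), (78, 5), (68, 4), (59, 3), (116, 5), (117, 6), (119, 7), (116, 8), (103, 7), (80, 6), (10, 5), (118, 7), (105, 6), (14, 8), (104, 7), (92, 6), (11, 5), (111, 7), (98, 6), (86, 5), (56, 4), (48, 3), (41, 2), (5, 1), (100, 4), (88, 3), (77, 2), (67, 1), (117, 3), (118, 4), (119, 5), (114, 6), (101, 5), (89, 4), (78, 3), (68, 2), (115, 7), (102, 6), (90, 5), (79, 4), (69, 3), (118, 8), (105, 7), (12, 6), (119, 7), (13, 6), (114, 6), (78, 5), (68, 4), (59, 3), (8, 2), (116, 3), (117, 4), (14, 5), (115, 6), (102, 5), (79, 4), (69, 3), (9, 2), (116, 2), (117, 3), (119, 4), (14, 5), (13, 4), (118, 4), (14, 5), (114, 6), (101, 5), (89, 4), (78, 3), (68, 2), (116, 7), (103, 6), (91, 5), (80, 4), (10, 3), (118, 6), (105, 5), (12, 4), (108, 5), (95, 4), (72, 3), (45,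 2), (38, 1), (114, 7), (101, 6), (89, 5), (59, 4), (8, 3), (118, 4), (119, 5), (14, 6), (105, 5), (12, 4), (104, 4), (13, 5), (113, 6), (100, 5), (77, 4), (58, 3), (7, 2), (115, 3), (102, 2), (118, 4), (105, 3), (14, 5), (104, 4), (92, 3), (13, 5), (115, 5), (90, 4), (79, 3), (9, 2), (117, 2), (118, 3), (14, 4), (110, 4), (85, 3), (74, 2), (113, 5), (88, 4), (77, 3), (114, 6), (89, 5), (78, 4), (115, 7), (90, 6), (79, 5), (117, 8), (92, 7), (11, 6), (113, 7), (88, 6), (58, 5), (50, 4), (7, 3), (114, 4), (101, 3), (118, 5), (105, 4), (14, 6), (102, 5), (90, 4), (105, 6), (12, 5), (118, 6), (105, 5), (14, 7), (104, 6), (92, 5), (105, 7), (12, 6), (102, 6), (79, 5), (9, 4), (117, 4), (119, 5), (116, 6), (103, 5), (80, 4), (117, 7), (104, 6), (11, 5), (116, 6), (103, 5), (10, 4), (118, 5), (105, 4), (14, 6), (13, 5), (82, 4), (44, 3), (22, 2), (17, 1), (1, 0), (95,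 3), (62, 2), (45, 1), (32, 0), (89, 4), (59, 3), (8, 2), (118, 3), (118, 4), (12, 3), (116, 3), (118, 4), (119, 5), (14, 6), (13, 5), (88, 4), (67, 3), (58, 2), (116, 5), (91, 4), (14, 6), (12, 5), (68, 4), (59, 3), (116, 5), (115, 6), (69, 5), (9, 4), (116, 4), (14, 5), (110, 5), (64, 4), (47, 3), (40, 2), (34, 1), (100, 4), (88, 3), (101, 5), (89, 4), (103, 6), (91, 5), (105, 7), (12, 6), (14, 7), (99, 6), (66, 5), (49, 4), (42, 3), (6, 2), (88, 2), (12, 3), (114, 4), (101, 3), (118, 5), (105, 4), (116, 6), (103, 5), (91, 4), (119, 7), (13, 6), (115, 6), (90, 5), (69, 4), (116, 7), (91, 6), (10, 5), (118, 6), (12, 5), (114, 5), (59, 4), (8, 3), (14, 4), (83, 6), (72, 5), (62, 4), (53, 3), (38, 2), (23, 1), (2, 0), (110, 4), (64, 3), (47, 2), (40, 1), (34, 0), (100, 3), (88, 2), (101, 4), (89, 3), (103, 5), (91, 4), (105, 6), (12, 5), (14, 6), (99, 5), (66, 4),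 (49, 3), (42, 2), (6, 1), (88, 1), (12, 2), (114, 3), (101, 2), (118, 4), (105, 3), (116, 5), (103, 4), (91, 3), (119, 6), (13, 5), (113, 5), (88, 4), (67, 3), (50, 2), (7, 1), (114, 2), (101, 1), (118, 3), (105, 2), (14, 4), (103, 3), (91, 2), (118, 5), (105, 4), (12, 3), (14, 4), (102, 3), (69, 2), (103, 4), (10, 3), (105, 3), (13, 4), (113, 4), (88, 3), (58, 2), (50, 1), (115, 4), (90, 3), (118, 5), (12, 4), (14, 4), (114, 5), (89, 4), (59, 3), (8, 2), (118, 3), (14, 4), (90, 3), (9, 2), (118, 2), (118, 3), (12, 2), (119, 2), (14, 3), (102, 2), (105, 3), (13, 4), (91, 3), (12, 4), (117, 5), (104, 4), (119, 6), (13, 5), (118, 5), (14, 6), (85, 5), (74, 4), (64, 3), (55, 2), (40, 1), (4, 0), (116, 3), (103, 2), (118, 4), (105, 3), (14, 5), (104, 4), (92, 3), (105, 5), (12, 4), (100, 4), (77, 3), (67, 2), (58, 1), (7, 0), (115, 1), (102, 0), (118, 2), (105, 1),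 (14, 3), (103, 2), (91, 1), (117, 4), (104, 3), (92, 2), (119, 5), (13, 4), (115, 4), (90, 3), (79, 2), (69, 1), (9, 0), (116, 0), (117, 1), (118, 2), (14, 3), (91, 2), (80, 1), (10, 0), (12, 1)], [(104, 1), (92, 0), (105, 2), (12, 1)]⟩,
    ⟨8, [0, 0], [], [(37, 2), (22, 1), (1, 0), (97, 3), (64, 2), (47, 1), (34, 0), (101, 3), (89, 2), (103, 4), (91, 3), (105, 5), (12, 4), (119, 5), (13, 4), (112, 4), (66, 3), (49, 2), (6, 1), (89, 1), (12, 2), (115, 3), (69, 2), (116, 4), (10, 3), (118, 3), (113, 4), (88, 3), (58, 2), (50, 1), (115, 4), (90, 3), (118, 5), (12, 4), (14, 4), (114, 5), (89, 4), (59, 3), (8, 2), (118, 3), (14, 4), (90, 3), (9, 2), (118, 2), (118, 3), (12, 2), (119, 2), (110, 3), (97, 2), (40, 1), (4, 0), (113, 2), (100, 1), (7, 0), (119, 1), (13, 0), (14, 0)], [], [(107, 8), (94, 7), (82, 6), (61, 5), (37, 4), (31, 3), (26, 2), (17, 1), (1, 0), (95,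 3), (62, 2), (45, 1), (32, 0), (89, 4), (59, 3), (8, 2), (118, 3), (118, 4), (12, 3), (116, 3), (118, 4), (119, 5), (14, 6), (13, 5), (88, 4), (67, 3), (58, 2), (116, 5), (91, 4), (14, 6), (12, 5), (68, 4), (59, 3), (116, 5), (115, 6), (69, 5), (9, 4), (116, 4), (14, 5), (111, 5), (65, 4), (48, 3), (41, 2), (35, 1), (113, 5), (58, 4), (50, 3), (115, 6), (90, 5), (118, 7), (12, 6), (14, 6), (114, 6), (59, 5), (8, 4), (14, 5), (9, 4), (118, 4), (119, 5), (114, 6), (101, 5), (89, 4), (119, 7), (13, 6), (14, 6), (91, 5), (14, 8), (99, 7), (87, 6), (66, 5), (49, 4), (42, 3), (6, 2), (88, 2), (12, 3), (114, 4), (101, 3), (118, 5), (105, 4), (116, 6), (103, 5), (91, 4), (118, 7), (105, 6), (12, 5), (119, 6), (13, 5), (113, 5), (67, 4), (50, 3), (7, 2), (114, 3), (101, 2), (118, 4), (105, 3), (14, 5), (103, 4), (91, 3), (14, 6), (102, 5), (90, 4), (69, 3), (105, 6), (12,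 5), (99, 5), (66, 4), (57, 3), (49, 2), (90, 4), (12, 5), (116, 5), (119, 6), (116, 7), (103, 6), (10, 5), (117, 6), (104, 5), (118, 7), (105, 6), (113, 8), (100, 7), (88, 6), (77, 5), (58, 4), (50, 3), (115, 6), (90, 5), (118, 7), (12, 6), (14, 6), (114, 9), (101, 8), (89, 7), (78, 6), (59, 5), (8, 4), (117, 5), (118, 6), (119, 7), (14, 8), (102, 7), (90, 6), (79, 5), (9, 4), (117, 4), (118, 5), (119, 6), (118, 7), (105, 6), (12, 5), (119, 6), (13, 5), (116, 5), (80, 4), (118, 6), (118, 7), (12, 6), (119, 6), (14, 7), (95, 6), (72, 5), (62, 4), (38, 3), (32, 2), (27, 1), (2, 0), (111, 4), (65, 3), (48, 2), (41, 1), (35, 0), (113, 4), (58, 3), (50, 2), (115, 5), (90, 4), (118, 6), (12, 5), (14, 5), (114, 5), (59, 4), (8, 3), (14, 4), (9, 3), (118, 3), (119, 4), (114, 5), (101, 4), (89, 3), (119, 6), (13, 5), (14, 5), (91, 4), (14, 7), (99, 6), (87, 5), (66, 4),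 (49, 3), (42, 2), (6, 1), (88, 1), (12, 2), (114, 3), (101, 2), (118, 4), (105, 3), (116, 5), (103, 4), (91, 3), (118, 6), (105, 5), (12, 4), (119, 5), (13, 4), (113, 4), (67, 3), (50, 2), (7, 1), (114, 2), (101, 1), (118, 3), (105, 2), (14, 4), (103, 3), (91, 2), (14, 5), (101, 4), (89, 3), (68, 2), (8, 1), (105, 3), (12, 2), (13, 2), (66, 1), (68, 2), (69, 3), (88, 5), (67, 4), (58, 3), (50, 2), (115, 5), (90, 4), (118, 6), (12, 5), (14, 5), (118, 6), (114, 7), (89, 6), (68, 5), (59, 4), (8, 3), (116, 4), (118, 5), (14, 6), (90, 5), (69, 4), (9, 3), (116, 3), (118, 4), (118, 5), (12, 4), (119, 4), (14, 5), (103, 4), (10, 3), (105, 3), (13, 4), (117, 4), (92, 3), (119, 5), (119, 6), (13, 5), (111, 5), (86, 4), (75, 3), (41, 2), (35, 1), (5, 0), (99, 3), (87, 2), (76, 1), (66, 0), (101, 4), (89, 3), (78, 2), (68, 1), (102, 5), (90, 4), (79, 3), (69, 2), (113, 7),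 (100, 6), (88, 5), (77, 4), (67, 3), (58, 2), (50, 1), (115, 4), (90, 3), (118, 5), (12, 4), (14, 4), (117, 5), (118, 6), (119, 7), (14, 8), (101, 7), (89, 6), (78, 5), (68, 4), (59, 3), (8, 2), (116, 3), (117, 4), (118, 5), (119, 6), (115, 7), (102, 6), (90, 5), (79, 4), (69, 3), (9, 2), (116, 2), (117, 3), (118, 4), (119, 5), (14, 6), (105, 5), (12, 4), (13, 4), (11, 3), (105, 3), (14, 5), (99, 4), (87, 3), (66, 2), (42, 1), (6, 0), (88, 0), (12, 1), (116, 2), (103, 1), (118, 3), (105, 2), (119, 4), (13, 3), (113, 3), (88, 2), (67, 1), (7, 0), (116, 1), (103, 0), (14, 2), (105, 1), (116, 3), (103, 2), (91, 1), (10, 0), (118, 2), (105, 1), (12, 0), (119, 1), (13, 0), (14, 0)], []⟩,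
    ⟨8, [1, 1], [], [(53, 4), (38, 3), (27, 2), (23, 1), (2, 0), (110, 4), (64, 3), (47, 2), (40, 1), (34, 0), (100, 3), (88, 2), (101, 4), (89, 3), (103, 5), (91, 4), (105, 6), (12, 5), (14, 6), (99, 5), (66, 4), (49, 3), (42, 2), (6, 1), (88, 1), (12, 2), (114, 3), (101, 2), (118, 4), (105, 3), (116, 5), (103, 4), (91, 3), (119, 6), (13, 5), (113, 5), (88, 4), (67, 3), (50, 2), (7, 1), (114, 2), (101, 1), (118, 3), (105, 2), (14, 4), (103, 3), (91, 2), (118, 5), (105, 4), (12, 3), (14, 4), (102, 3), (69, 2), (103, 4), (10, 3), (105, 3), (13, 4), (111, 4), (86, 3), (56, 2), (48, 1), (115, 4), (102, 3), (119, 5), (13, 4), (14, 4), (14, 5), (87, 4), (57, 3), (49, 2), (90, 4), (12, 5), (118, 5), (113, 6), (88, 5), (58, 4), (50, 3), (115, 6), (90, 5), (118, 7), (12, 6), (14, 6), (114, 7), (89, 6), (59, 5), (8, 4), (118, 5), (14, 6), (12, 5), (100, 5), (58, 4), (7,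 3), (115, 4), (102, 3), (118, 5), (105, 4), (14, 6), (13, 5), (89, 4), (59, 3), (118, 5), (115, 6), (90, 5), (9, 4), (118, 4), (14, 5), (12, 4), (115, 5), (102, 4), (118, 6), (105, 5), (119, 7), (13, 6), (110, 6), (85, 5), (55, 4), (47, 3), (34, 2), (29, 1), (4, 0), (99, 6), (76, 5), (66, 4), (57, 3), (42, 2), (6, 1), (88, 1), (12, 2), (115, 3), (102, 2), (118, 4), (105, 3), (14, 5), (103, 4), (91, 3), (104, 5), (92, 4), (13, 6), (12, 5), (101, 5), (78, 4), (68, 3), (59, 2), (116, 4), (117, 5), (119, 6), (115, 7), (102, 6), (79, 5), (69, 4), (9, 3), (116, 3), (117, 4), (119, 5), (14, 6), (13, 5), (118, 5), (14, 6), (86, 5), (75, 4), (65, 3), (48, 2), (41, 1), (5, 0), (100, 3), (88, 2), (77, 1), (67, 0), (117, 2), (118, 3), (119, 4), (114, 5), (101, 4), (89, 3), (78, 2), (68, 1), (115, 6), (102, 5), (90, 4), (79, 3), (69, 2), (118, 7), (105, 6), (12, 5), (119, 6),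 (13, 5), (114, 5), (78, 4), (68, 3), (59, 2), (8, 1), (116, 2), (117, 3), (14, 4), (116, 5), (103, 4), (80, 3), (10, 2), (119, 4), (13, 3), (14, 3), (11, 2), (105, 2), (113, 4), (100, 3), (88, 2), (58, 1), (7, 0), (115, 1), (102, 0), (118, 2), (105, 1), (14, 3), (105, 2), (12, 1), (13, 1), (115, 1), (9, 0), (14, 0)], [], [(94, 7), (52, 6), (44, 5), (37, 4), (31, 3), (26, 2), (17, 1), (1, 0), (95, 3), (62, 2), (45, 1), (32, 0), (89, 4), (59, 3), (8, 2), (118, 3), (118, 4), (12, 3), (116, 3), (118, 4), (119, 5), (14, 6), (13, 5), (88, 4), (67, 3), (58, 2), (116, 5), (91, 4), (14, 6), (12, 5), (68, 4), (59, 3), (116, 5), (115, 6), (69, 5), (9, 4), (116, 4), (14, 5), (111, 5), (65, 4), (48, 3), (41, 2), (35, 1), (113, 5), (58, 4), (50, 3), (115, 6), (90, 5), (118, 7), (12, 6), (14, 6), (114, 6), (59, 5), (8, 4), (14, 5), (9, 4), (118, 4), (119, 5), (114, 6), (101, 5),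 (89, 4), (119, 7), (13, 6), (14, 6), (91, 5), (14, 8), (99, 7), (87, 6), (66, 5), (49, 4), (42, 3), (6, 2), (88, 2), (12, 3), (114, 4), (101, 3), (118, 5), (105, 4), (116, 6), (103, 5), (91, 4), (118, 7), (105, 6), (12, 5), (119, 6), (13, 5), (113, 5), (67, 4), (50, 3), (7, 2), (114, 3), (101, 2), (118, 4), (105, 3), (14, 5), (103, 4), (91, 3), (14, 6), (102, 5), (90, 4), (69, 3), (105, 6), (12, 5), (99, 5), (66, 4), (57, 3), (49, 2), (90, 4), (12, 5), (116, 5), (119, 6), (116, 7), (103, 6), (10, 5), (117, 6), (104, 5), (118, 7), (105, 6), (113, 8), (100, 7), (88, 6), (77, 5), (58, 4), (50, 3), (115, 6), (90, 5), (118, 7), (12, 6), (14, 6), (114, 9), (101, 8), (89, 7), (78, 6), (59, 5), (8, 4), (117, 5), (118, 6), (119, 7), (14, 8), (102, 7), (90, 6), (79, 5), (9, 4), (117, 4), (118, 5), (119, 6), (118, 7), (105, 6), (12, 5), (119, 6), (13, 5), (114, 5), (78, 4),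 (116, 6), (80, 5), (117, 7), (11, 6), (115, 6), (69, 5), (116, 7), (10, 6), (117, 6), (119, 7), (14, 8), (13, 7), (72, 6), (53, 5), (45, 4), (38, 3), (32, 2), (27, 1), (2, 0), (111, 4), (65, 3), (48, 2), (41, 1), (35, 0), (113, 4), (58, 3), (50, 2), (115, 5), (90, 4), (118, 6), (12, 5), (14, 5), (114, 5), (59, 4), (8, 3), (14, 4), (9, 3), (118, 3), (119, 4), (114, 5), (101, 4), (89, 3), (119, 6), (13, 5), (14, 5), (91, 4), (14, 7), (99, 6), (87, 5), (66, 4), (49, 3), (42, 2), (6, 1), (88, 1), (12, 2), (114, 3), (101, 2), (118, 4), (105, 3), (116, 5), (103, 4), (91, 3), (118, 6), (105, 5), (12, 4), (119, 5), (13, 4), (113, 4), (67, 3), (50, 2), (7, 1), (114, 2), (101, 1), (118, 3), (105, 2), (14, 4), (103, 3), (91, 2), (14, 5), (101, 4), (89, 3), (68, 2), (8, 1), (105, 3), (12, 2), (13, 2), (66, 1), (68, 2), (69, 3), (88, 5), (67, 4), (58, 3), (50, 2), (115, 5),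 (90, 4), (118, 6), (12, 5), (14, 5), (118, 6), (114, 7), (89, 6), (68, 5), (59, 4), (8, 3), (116, 4), (118, 5), (14, 6), (90, 5), (69, 4), (9, 3), (116, 3), (118, 4), (118, 5), (12, 4), (119, 4), (14, 5), (101, 4), (68, 3), (105, 5), (102, 6), (90, 5), (69, 4), (105, 7), (12, 6), (13, 6), (98, 7), (75, 6), (65, 5), (56, 4), (48, 3), (41, 2), (35, 1), (5, 0), (99, 3), (87, 2), (76, 1), (66, 0), (101, 4), (89, 3), (78, 2), (68, 1), (102, 5), (90, 4), (79, 3), (69, 2), (113, 7), (100, 6), (88, 5), (77, 4), (67, 3), (58, 2), (50, 1), (115, 4), (90, 3), (118, 5), (12, 4), (14, 4), (117, 5), (118, 6), (119, 7), (14, 8), (101, 7), (89, 6), (78, 5), (68, 4), (59, 3), (8, 2), (116, 3), (117, 4), (118, 5), (119, 6), (115, 7), (102, 6), (90, 5), (79, 4), (69, 3), (9, 2), (116, 2), (117, 3), (118, 4), (119, 5), (14, 6), (105, 5), (12, 4), (13, 4), (78, 3), (68, 2), (115, 6),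 (102, 5), (79, 4), (69, 3), (119, 7), (13, 6), (14, 6), (80, 5), (10, 4), (117, 6), (104, 5), (11, 4), (119, 5), (13, 4), (119, 4), (112, 5), (99, 4), (57, 3), (49, 2), (42, 1), (6, 0), (88, 0), (12, 1), (114, 2), (101, 1), (118, 3), (105, 2), (115, 4), (102, 3), (90, 2), (118, 5), (105, 4), (12, 3), (14, 4), (13, 3), (113, 3), (58, 2), (50, 1), (7, 0), (114, 1), (101, 0), (118, 2), (105, 1), (14, 3), (102, 2), (90, 1), (105, 3), (12, 2), (14, 3), (101, 2), (59, 1), (8, 0), (119, 1), (115, 2), (102, 1), (9, 0), (119, 0), (14, 1), (13, 0)], []⟩,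
    ⟨8, [2, 2], [], [(57, 1), (6, 0), (90, 0), (12, 1), (115, 1), (9, 0), (14, 0)], [], [(107, 8), (94, 7), (82, 6), (71, 5), (52, 4), (37, 3), (31, 2), (22, 1), (1, 0), (97, 3), (64, 2), (47, 1), (34, 0), (101, 3), (89, 2), (103, 4), (91, 3), (105, 5), (12, 4), (119, 5), (13, 4), (112, 4), (66, 3), (49, 2), (6, 1), (89, 1), (12, 2), (115, 3), (69, 2), (116, 4), (10, 3), (118, 3), (112, 4), (87, 3), (57, 2), (49, 1), (90, 3), (12, 4), (118, 4), (14, 5), (91, 4), (92, 5), (12, 6), (77, 5), (67, 4), (58, 3), (50, 2), (115, 5), (90, 4), (118, 6), (12, 5), (14, 5), (117, 6), (114, 7), (78, 6), (68, 5), (59, 4), (8, 3), (116, 4), (117, 5), (14, 6), (79, 5), (69, 4), (9, 3), (116, 3), (117, 4), (118, 5), (119, 6), (115, 7), (102, 6), (90, 5), (79, 4), (69, 3), (116, 8), (103, 7), (91, 6), (80, 5), (10, 4), (117, 7), (104, 6), (92, 5), (11, 4), (119, 6), (13, 5), (14,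 5), (92, 4), (12, 5), (110, 6), (97, 5), (74, 4), (55, 3), (40, 2), (34, 1), (4, 0), (100, 2), (88, 1), (102, 3), (90, 2), (13, 4), (117, 4), (92, 3), (119, 5), (14, 6), (99, 5), (87, 4), (76, 3), (57, 2), (42, 1), (6, 0), (88, 0), (12, 1), (115, 2), (102, 1), (118, 3), (105, 2), (14, 4), (104, 3), (92, 2), (105, 4), (12, 3), (13, 3), (77, 2), (58, 1), (7, 0), (115, 1), (102, 0), (118, 2), (105, 1), (14, 3), (104, 2), (92, 1), (102, 3), (90, 2), (79, 1), (9, 0), (117, 0), (118, 1), (119, 2), (117, 3), (104, 2), (92, 1), (11, 0), (118, 2), (105, 1), (12, 0), (119, 1), (13, 0), (14, 0)], []⟩,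
    ⟨8, [3, 3], [], [(59, 1), (8, 0), (115, 1), (9, 0), (14, 0)], [], [(71, 5), (52, 4), (44, 3), (37, 2), (22, 1), (1, 0), (97, 3), (64, 2), (47, 1), (34, 0), (101, 3), (89, 2), (103, 4), (91, 3), (105, 5), (12, 4), (119, 5), (13, 4), (112, 4), (66, 3), (49, 2), (6, 1), (89, 1), (12, 2), (115, 3), (69, 2), (116, 4), (10, 3), (118, 3), (113, 4), (88, 3), (58, 2), (50, 1), (115, 4), (90, 3), (118, 5), (12, 4), (14, 4), (114, 5), (89, 4), (59, 3), (8, 2), (118, 3), (14, 4), (90, 3), (9, 2), (118, 2), (118, 3), (12, 2), (119, 2), (114, 3), (101, 2), (116, 4), (103, 3), (117, 5), (104, 4), (115, 6), (102, 5), (79, 4), (69, 3), (116, 7), (103, 6), (80, 5), (10, 4), (117, 6), (104, 5), (11, 4), (119, 5), (13, 4), (14, 4), (74, 4), (55, 3), (47, 2), (40, 1), (4, 0), (117, 4), (104, 3), (113, 5), (100, 4), (77, 3), (58, 2), (50, 1), (7, 0), (114, 1), (101, 0), (118, 2),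 (105, 1), (14, 3), (102, 2), (90, 1), (105, 3), (12, 2), (117, 3), (104, 2), (119, 4), (13, 3), (14, 3), (78, 2), (59, 1), (8, 0), (117, 1), (115, 2), (79, 1), (9, 0), (117, 0), (14, 1), (11, 0)], []⟩,
    ⟨8, [4, 4], [], [(10, 0)], [], [(107, 9), (94, 8), (82, 7), (71, 6), (61, 5), (44, 4), (37, 3), (31, 2), (22, 1), (1, 0), (97, 3), (64, 2), (47, 1), (34, 0), (101, 3), (89, 2), (103, 4), (91, 3), (105, 5), (12, 4), (119, 5), (13, 4), (112, 4), (66, 3), (49, 2), (6, 1), (89, 1), (12, 2), (115, 3), (69, 2), (116, 4), (10, 3), (118, 3), (112, 4), (87, 3), (57, 2), (49, 1), (90, 3), (12, 4), (118, 4), (14, 5), (91, 4), (92, 5), (12, 6), (77, 5), (67, 4), (58, 3), (50, 2), (115, 5), (90, 4), (118, 6), (12, 5), (14, 5), (117, 6), (114, 7), (78, 6), (68, 5), (59, 4), (8, 3), (116, 4), (117, 5), (14, 6), (79, 5), (69, 4), (9, 3), (116, 3), (117, 4), (118, 5), (119, 6),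 (114, 7), (101, 6), (89, 5), (78, 4), (68, 3), (116, 8), (103, 7), (91, 6), (80, 5), (10, 4), (117, 7), (104, 6), (92, 5), (11, 4), (116, 6), (103, 5), (91, 4), (118, 7), (105, 6), (12, 5), (117, 6), (104, 5), (118, 7), (105, 6), (119, 8), (13, 7), (14, 7), (85, 6), (74, 5), (64, 4), (47, 3), (40, 2), (34, 1), (4, 0), (100, 2), (88, 1), (101, 3), (89, 2), (103, 4), (91, 3), (105, 5), (12, 4), (117, 5), (104, 4), (118, 6), (105, 5), (112, 7), (99, 6), (87, 5), (76, 4), (66, 3), (49, 2), (42, 1), (6, 0), (88, 0), (12, 1), (114, 2), (101, 1), (118, 3), (105, 2), (116, 4), (103, 3), (91, 2), (117, 5), (104, 4), (92, 3), (118, 6), (105, 5), (12, 4), (119, 5), (13, 4), (14, 4), (77, 3), (67, 2), (50, 1), (7, 0), (114, 1), (101, 0), (118, 2), (105, 1), (14, 3), (103, 2), (91, 1), (117, 4), (104, 3), (92, 2), (114, 5), (101, 4), (89, 3), (78, 2), (68, 1), (8, 0), (116,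 4), (103, 3), (91, 2), (80, 1), (10, 0), (117, 3), (104, 2), (92, 1), (11, 0), (118, 2), (105, 1), (12, 0), (119, 1), (13, 0), (14, 0)], []⟩,
    ⟨8, [5, 5], [], [(11, 0)], [], [(108, 8), (95, 7), (83, 6), (72, 5), (53, 4), (38, 3), (27, 2), (23, 1), (2, 0), (110, 4), (64, 3), (47, 2), (40, 1), (34, 0), (100, 3), (88, 2), (101, 4), (89, 3), (103, 5), (91, 4), (105, 6), (12, 5), (14, 6), (99, 5), (66, 4), (49, 3), (42, 2), (6, 1), (88, 1), (12, 2), (114, 3), (101, 2), (118, 4), (105, 3), (116, 5), (103, 4), (91, 3), (119, 6), (13, 5), (113, 5), (88, 4), (67, 3), (50, 2), (7, 1), (114, 2), (101, 1), (118, 3), (105, 2), (14, 4), (103, 3), (91, 2), (118, 5), (105, 4), (12, 3), (14, 4), (102, 3), (69, 2), (103, 4), (10, 3), (105, 3), (13, 4), (111, 4), (86, 3), (56, 2), (48, 1), (115, 4), (102, 3), (119, 5), (13, 4), (14, 4), (14, 5), (87, 4), (57, 3), (49, 2), (90,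 4), (12, 5), (118, 5), (113, 6), (88, 5), (58, 4), (50, 3), (115, 6), (90, 5), (118, 7), (12, 6), (14, 6), (114, 7), (89, 6), (59, 5), (8, 4), (118, 5), (14, 6), (12, 5), (100, 5), (58, 4), (7, 3), (115, 4), (102, 3), (118, 5), (105, 4), (14, 6), (13, 5), (89, 4), (59, 3), (118, 5), (115, 6), (90, 5), (9, 4), (118, 4), (14, 5), (12, 4), (115, 5), (102, 4), (118, 6), (105, 5), (119, 7), (13, 6), (117, 6), (92, 5), (119, 7), (118, 8), (105, 7), (12, 6), (14, 7), (13, 6), (110, 6), (74, 5), (55, 4), (47, 3), (34, 2), (29, 1), (4, 0), (99, 6), (76, 5), (66, 4), (57, 3), (42, 2), (6, 1), (88, 1), (12, 2), (115, 3), (102, 2), (118, 4), (105, 3), (14, 5), (103, 4), (91, 3), (104, 5), (92, 4), (13, 6), (12, 5), (101, 5), (78, 4), (68, 3), (59, 2), (116, 4), (117, 5), (119, 6), (115, 7), (102, 6), (79, 5), (69, 4), (9, 3), (116, 3), (117, 4), (119, 5), (14, 6), (13, 5),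 (117, 5), (11, 4), (14, 4), (65, 3), (48, 2), (41, 1), (5, 0), (100, 3), (88, 2), (77, 1), (67, 0), (117, 2), (118, 3), (119, 4), (114, 5), (101, 4), (89, 3), (78, 2), (68, 1), (115, 6), (102, 5), (90, 4), (79, 3), (69, 2), (118, 7), (105, 6), (12, 5), (119, 6), (13, 5), (114, 5), (78, 4), (68, 3), (59, 2), (8, 1), (116, 2), (117, 3), (14, 4), (116, 5), (103, 4), (80, 3), (10, 2), (119, 4), (13, 3), (14, 3), (77, 2), (58, 1), (7, 0), (115, 1), (102, 0), (118, 2), (105, 1), (14, 3), (104, 2), (92, 1), (102, 3), (90, 2), (79, 1), (9, 0), (117, 0), (118, 1), (119, 2), (117, 3), (104, 2), (92, 1), (11, 0), (118, 2), (105, 1), (12, 0), (119, 1), (13, 0), (14, 0)], []⟩]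

/-- Part of the certificate. -/
def fusesPart9 : List Spor.SchurCert.Fuse := [
    ⟨8, [6, 6], [], [(12, 0)], [], [(108, 6), (95, 5), (53, 4), (38, 3), (27, 2), (23, 1), (2, 0), (110, 4), (64, 3), (47, 2), (40, 1), (34, 0), (100, 3), (88, 2), (101, 4), (89, 3), (103, 5), (91, 4), (105, 6), (12, 5), (14, 6), (99, 5), (66, 4), (49, 3), (42, 2), (6, 1), (88, 1), (12, 2), (114, 3), (101, 2), (118, 4), (105, 3), (116, 5), (103, 4), (91, 3), (119, 6), (13, 5), (113, 5), (88, 4), (67, 3), (50, 2), (7, 1), (114, 2), (101, 1), (118, 3), (105, 2), (14, 4), (103, 3), (91, 2), (118, 5), (105, 4), (12, 3), (14, 4), (102, 3), (69, 2), (103, 4), (10, 3), (105, 3), (13, 4), (111, 4), (86, 3), (56, 2), (48, 1), (115, 4), (102, 3), (119, 5), (13, 4), (14, 4), (14, 5), (87, 4), (57, 3), (49, 2), (90, 4), (12, 5), (118, 5), (113, 6), (88, 5), (58, 4), (50, 3), (115, 6), (90, 5), (118,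 7), (12, 6), (14, 6), (114, 7), (89, 6), (59, 5), (8, 4), (118, 5), (14, 6), (12, 5), (100, 5), (58, 4), (7, 3), (115, 4), (102, 3), (118, 5), (105, 4), (14, 6), (13, 5), (89, 4), (59, 3), (118, 5), (115, 6), (90, 5), (9, 4), (118, 4), (14, 5), (12, 4), (115, 5), (102, 4), (118, 6), (105, 5), (119, 7), (13, 6), (119, 6), (14, 7), (97, 6), (85, 5), (55, 4), (47, 3), (34, 2), (29, 1), (4, 0), (99, 6), (76, 5), (66, 4), (57, 3), (42, 2), (6, 1), (88, 1), (12, 2), (115, 3), (102, 2), (118, 4), (105, 3), (14, 5), (103, 4), (91, 3), (104, 5), (92, 4), (13, 6), (12, 5), (101, 5), (78, 4), (68, 3), (59, 2), (116, 4), (117, 5), (119, 6), (115, 7), (102, 6), (79, 5), (69, 4), (9, 3), (116, 3), (117, 4), (119, 5), (14, 6), (13, 5), (118, 5), (119, 6), (111, 7), (98, 6), (86, 5), (75, 4), (65, 3), (48, 2), (41, 1), (5, 0), (100, 3), (88, 2), (77, 1), (67, 0), (117, 2), (118,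 3), (119, 4), (114, 5), (101, 4), (89, 3), (78, 2), (68, 1), (115, 6), (102, 5), (90, 4), (79, 3), (69, 2), (118, 7), (105, 6), (12, 5), (119, 6), (13, 5), (114, 5), (78, 4), (68, 3), (59, 2), (8, 1), (116, 2), (117, 3), (14, 4), (116, 5), (103, 4), (80, 3), (10, 2), (119, 4), (13, 3), (14, 3), (11, 2), (105, 2), (119, 4), (13, 3), (14, 3), (88, 2), (58, 1), (7, 0), (115, 1), (102, 0), (118, 2), (105, 1), (14, 3), (105, 2), (12, 1), (102, 1), (9, 0), (119, 0), (119, 1), (13, 0), (14, 0)], []⟩,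
    ⟨8, [7, 7], [], [(13, 0)], [], [(95, 8), (83, 7), (53, 6), (45, 5), (38, 4), (32, 3), (27, 2), (23, 1), (2, 0), (110, 4), (64, 3), (47, 2), (40, 1), (34, 0), (100, 3), (88, 2), (101, 4), (89, 3), (103, 5), (91, 4), (105, 6), (12, 5), (14, 6), (99, 5), (66, 4), (49, 3), (42, 2), (6, 1), (88, 1), (12, 2), (114, 3), (101, 2), (118, 4), (105, 3), (116, 5), (103, 4), (91, 3), (119, 6), (13, 5), (113, 5), (88, 4), (67, 3), (50, 2), (7, 1), (114, 2), (101, 1), (118, 3), (105, 2), (14, 4), (103, 3), (91, 2), (118, 5), (105, 4), (12, 3), (14, 4), (102, 3), (69, 2), (103, 4), (10, 3), (105, 3), (13, 4), (111, 4), (86, 3), (56, 2), (48, 1), (115, 4), (102, 3), (119, 5), (13, 4), (14, 4), (14, 5), (87, 4), (57, 3), (49, 2), (90, 4), (12, 5), (118, 5), (113, 6), (88, 5), (58, 4), (50, 3), (115, 6), (90, 5), (118, 7), (12, 6), (14, 6), (114, 7), (89, 6), (59, 5), (8, 4),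 (118, 5), (14, 6), (12, 5), (99, 5), (57, 4), (42, 3), (6, 2), (88, 2), (12, 3), (115, 4), (102, 3), (118, 5), (105, 4), (14, 6), (13, 5), (89, 4), (59, 3), (118, 5), (115, 6), (90, 5), (9, 4), (118, 4), (14, 5), (12, 4), (50, 3), (7, 2), (114, 3), (101, 2), (118, 4), (105, 3), (14, 5), (101, 4), (89, 3), (8, 2), (102, 3), (90, 2), (105, 4), (12, 3), (13, 3), (114, 3), (59, 2), (14, 4), (90, 4), (9, 3), (118, 3), (118, 4), (12, 3), (119, 3), (118, 4), (105, 3), (14, 5), (13, 4), (85, 3), (47, 2), (29, 1), (4, 0), (101, 6), (78, 5), (68, 4), (59, 3), (116, 5), (117, 6), (119, 7), (118, 8), (105, 7), (111, 9), (98, 8), (86, 7), (75, 6), (65, 5), (56, 4), (48, 3), (41, 2), (35, 1), (5, 0), (99, 3), (87, 2), (76, 1), (66, 0), (101, 4), (89, 3), (78, 2), (68, 1), (102, 5), (90, 4), (79, 3), (69, 2), (113, 7), (100, 6), (88, 5), (77, 4), (67, 3), (58, 2), (50, 1), (115,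 4), (90, 3), (118, 5), (12, 4), (14, 4), (117, 5), (118, 6), (119, 7), (14, 8), (101, 7), (89, 6), (78, 5), (68, 4), (59, 3), (8, 2), (116, 3), (117, 4), (118, 5), (119, 6), (115, 7), (102, 6), (90, 5), (79, 4), (69, 3), (9, 2), (116, 2), (117, 3), (118, 4), (119, 5), (14, 6), (105, 5), (12, 4), (13, 4), (78, 3), (68, 2), (115, 6), (102, 5), (79, 4), (69, 3), (119, 7), (13, 6), (14, 6), (80, 5), (10, 4), (117, 6), (104, 5), (11, 4), (119, 5), (13, 4), (118, 4), (14, 5), (112, 6), (99, 5), (87, 4), (57, 3), (49, 2), (42, 1), (6, 0), (88, 0), (12, 1), (114, 2), (101, 1), (118, 3), (105, 2), (115, 4), (102, 3), (90, 2), (118, 5), (105, 4), (12, 3), (14, 4), (105, 3), (13, 4), (113, 4), (88, 3), (58, 2), (50, 1), (7, 0), (114, 1), (101, 0), (118, 2), (105, 1), (14, 3), (102, 2), (90, 1), (105, 3), (12, 2), (118, 3), (105, 2), (14, 4), (101, 3), (89, 2), (59, 1), (8,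 0), (118, 1), (119, 2), (115, 3), (102, 2), (90, 1), (9, 0), (118, 0), (119, 1), (14, 2), (105, 1), (12, 0), (13, 0)], []⟩,
    ⟨8, [8, 8], [], [(14, 0)], [], [(82, 6), (61, 5), (52, 4), (37, 3), (31, 2), (22, 1), (1, 0), (97, 3), (64, 2), (47, 1), (34, 0), (101, 3), (89, 2), (103, 4), (91, 3), (105, 5), (12, 4), (119, 5), (13, 4), (112, 4), (66, 3), (49, 2), (6, 1), (89, 1), (12, 2), (115, 3), (69, 2), (116, 4), (10, 3), (118, 3), (112, 4), (87, 3), (57, 2), (49, 1), (90, 3), (12, 4), (118, 4), (14, 5), (91, 4), (92, 5), (12, 6), (77, 5), (67, 4), (58, 3), (50, 2), (115, 5), (90, 4), (118, 6), (12, 5), (14, 5), (117, 6), (114, 7), (78, 6), (68, 5), (59, 4), (8, 3), (116, 4), (117, 5), (14, 6), (79, 5), (69, 4), (9, 3), (116, 3), (117, 4), (118, 5), (119, 6), (115, 7), (102, 6), (90, 5), (79, 4), (69, 3), (116, 8), (103, 7), (91, 6), (80, 5), (10, 4), (117, 7),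 (104, 6), (92, 5), (11, 4), (119, 6), (13, 5), (14, 5), (91, 4), (12, 5), (85, 5), (64, 4), (55, 3), (40, 2), (34, 1), (4, 0), (100, 2), (88, 1), (102, 3), (90, 2), (13, 4), (116, 4), (91, 3), (118, 5), (12, 4), (14, 4), (87, 4), (66, 3), (57, 2), (42, 1), (6, 0), (88, 0), (12, 1), (115, 2), (102, 1), (118, 3), (105, 2), (14, 4), (103, 3), (91, 2), (105, 4), (12, 3), (100, 3), (67, 2), (58, 1), (7, 0), (115, 1), (102, 0), (118, 2), (105, 1), (14, 3), (103, 2), (91, 1), (119, 4), (13, 3), (115, 3), (90, 2), (69, 1), (9, 0), (116, 0), (118, 1), (14, 2), (91, 1), (10, 0), (12, 0)], []⟩,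
    ⟨9, [0, 0], [], [(37, 2), (22, 1), (1, 0), (97, 3), (64, 2), (47, 1), (34, 0), (101, 3), (89, 2), (103, 4), (91, 3), (105, 5), (12, 4), (119, 5), (13, 4), (112, 4), (66, 3), (49, 2), (6, 1), (89, 1), (12, 2), (115, 3), (69, 2), (116, 4), (10, 3), (118, 3), (113, 4), (88, 3), (58, 2), (50, 1), (115, 4), (90, 3), (118, 5), (12, 4), (14, 4), (114, 5), (89, 4), (59, 3), (8, 2), (118, 3), (14, 4), (90, 3), (9, 2), (118, 2), (118, 3), (12, 2), (119, 2), (110, 3), (97, 2), (40, 1), (4, 0), (113, 2), (100, 1), (7, 0), (119, 1), (13, 0), (14, 0)], [], [(107, 7), (82, 6), (71, 5), (44, 4), (37, 3), (26, 2), (17, 1), (1, 0), (95, 3), (62, 2), (45, 1), (32, 0), (89, 4), (59, 3), (8, 2), (118, 3), (118, 4), (12, 3), (116, 3), (118, 4), (119, 5), (14, 6), (13, 5), (88, 4), (67, 3), (58, 2), (116, 5), (91, 4), (14, 6), (12, 5), (68, 4), (59, 3), (116, 5), (115, 6), (69, 5),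 (9, 4), (116, 4), (14, 5), (111, 5), (65, 4), (48, 3), (41, 2), (35, 1), (113, 5), (58, 4), (50, 3), (115, 6), (90, 5), (118, 7), (12, 6), (14, 6), (114, 6), (59, 5), (8, 4), (14, 5), (9, 4), (118, 4), (119, 5), (114, 6), (101, 5), (89, 4), (119, 7), (13, 6), (14, 6), (91, 5), (14, 8), (99, 7), (87, 6), (66, 5), (49, 4), (42, 3), (6, 2), (88, 2), (12, 3), (114, 4), (101, 3), (118, 5), (105, 4), (116, 6), (103, 5), (91, 4), (118, 7), (105, 6), (12, 5), (119, 6), (13, 5), (113, 5), (67, 4), (50, 3), (7, 2), (114, 3), (101, 2), (118, 4), (105, 3), (14, 5), (103, 4), (91, 3), (14, 6), (102, 5), (90, 4), (69, 3), (105, 6), (12, 5), (100, 5), (67, 4), (58, 3), (50, 2), (115, 5), (90, 4), (118, 6), (12, 5), (14, 5), (119, 6), (114, 7), (101, 6), (68, 5), (59, 4), (8, 3), (116, 4), (119, 5), (14, 6), (102, 5), (69, 4), (9, 3), (116, 3), (119, 4), (118, 5), (105, 4), (119,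 6), (13, 5), (114, 5), (89, 4), (68, 3), (116, 6), (91, 5), (10, 4), (117, 5), (92, 4), (117, 6), (92, 5), (11, 4), (118, 5), (12, 4), (14, 4), (45, 3), (38, 2), (27, 1), (2, 0), (111, 4), (65, 3), (48, 2), (41, 1), (35, 0), (113, 4), (58, 3), (50, 2), (115, 5), (90, 4), (118, 6), (12, 5), (14, 5), (114, 5), (59, 4), (8, 3), (14, 4), (9, 3), (118, 3), (119, 4), (114, 5), (101, 4), (89, 3), (119, 6), (13, 5), (14, 5), (91, 4), (14, 7), (99, 6), (87, 5), (66, 4), (49, 3), (42, 2), (6, 1), (88, 1), (12, 2), (114, 3), (101, 2), (118, 4), (105, 3), (116, 5), (103, 4), (91, 3), (118, 6), (105, 5), (12, 4), (119, 5), (13, 4), (113, 4), (67, 3), (50, 2), (7, 1), (114, 2), (101, 1), (118, 3), (105, 2), (14, 4), (103, 3), (91, 2), (14, 5), (101, 4), (89, 3), (68, 2), (8, 1), (105, 3), (12, 2), (13, 2), (67, 1), (114, 3), (68, 2), (115, 4), (69, 3), (118, 5), (119, 6), (14,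 7), (101, 6), (89, 5), (68, 4), (59, 3), (8, 2), (116, 3), (118, 4), (119, 5), (118, 6), (105, 5), (12, 4), (111, 5), (98, 4), (65, 3), (56, 2), (41, 1), (5, 0), (100, 3), (88, 2), (77, 1), (67, 0), (117, 2), (118, 3), (119, 4), (114, 5), (101, 4), (89, 3), (78, 2), (68, 1), (115, 6), (102, 5), (90, 4), (79, 3), (69, 2), (118, 7), (105, 6), (12, 5), (119, 6), (13, 5), (115, 5), (79, 4), (69, 3), (9, 2), (116, 2), (117, 3), (14, 4), (116, 5), (103, 4), (80, 3), (10, 2), (119, 4), (13, 3), (14, 3), (113, 4), (100, 3), (77, 2), (50, 1), (7, 0), (114, 1), (101, 0), (118, 2), (105, 1), (14, 3), (104, 2), (92, 1), (13, 3), (114, 3), (89, 2), (78, 1), (8, 0), (117, 2), (92, 1), (11, 0), (118, 1), (12, 0), (14, 0)], []⟩,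
    ⟨9, [1, 1], [], [(53, 4), (38, 3), (27, 2), (23, 1), (2, 0), (110, 4), (64, 3), (47, 2), (40, 1), (34, 0), (100, 3), (88, 2), (101, 4), (89, 3), (103, 5), (91, 4), (105, 6), (12, 5), (14, 6), (99, 5), (66, 4), (49, 3), (42, 2), (6, 1), (88, 1), (12, 2), (114, 3), (101, 2), (118, 4), (105, 3), (116, 5), (103, 4), (91, 3), (119, 6), (13, 5), (113, 5), (88, 4), (67, 3), (50, 2), (7, 1), (114, 2), (101, 1), (118, 3), (105, 2), (14, 4), (103, 3), (91, 2), (118, 5), (105, 4), (12, 3), (14, 4), (102, 3), (69, 2), (103, 4), (10, 3), (105, 3), (13, 4), (111, 4), (86, 3), (56, 2), (48, 1), (115, 4), (102, 3), (119, 5), (13, 4), (14, 4), (14, 5), (87, 4), (57, 3), (49, 2), (90, 4), (12, 5), (118, 5), (113, 6), (88, 5), (58, 4), (50, 3), (115, 6), (90, 5), (118, 7), (12, 6), (14, 6), (114, 7), (89, 6), (59, 5), (8, 4), (118, 5), (14, 6), (12, 5), (100, 5), (58, 4), (7,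 3), (115, 4), (102, 3), (118, 5), (105, 4), (14, 6), (13, 5), (89, 4), (59, 3), (118, 5), (115, 6), (90, 5), (9, 4), (118, 4), (14, 5), (12, 4), (115, 5), (102, 4), (118, 6), (105, 5), (119, 7), (13, 6), (110, 6), (85, 5), (55, 4), (47, 3), (34, 2), (29, 1), (4, 0), (99, 6), (76, 5), (66, 4), (57, 3), (42, 2), (6, 1), (88, 1), (12, 2), (115, 3), (102, 2), (118, 4), (105, 3), (14, 5), (103, 4), (91, 3), (104, 5), (92, 4), (13, 6), (12, 5), (101, 5), (78, 4), (68, 3), (59, 2), (116, 4), (117, 5), (119, 6), (115, 7), (102, 6), (79, 5), (69, 4), (9, 3), (116, 3), (117, 4), (119, 5), (14, 6), (13, 5), (118, 5), (14, 6), (86, 5), (75, 4), (65, 3), (48, 2), (41, 1), (5, 0), (100, 3), (88, 2), (77, 1), (67, 0), (117, 2), (118, 3), (119, 4), (114, 5), (101, 4), (89, 3), (78, 2), (68, 1), (115, 6), (102, 5), (90, 4), (79, 3), (69, 2), (118, 7), (105, 6), (12, 5), (119, 6),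 (13, 5), (114, 5), (78, 4), (68, 3), (59, 2), (8, 1), (116, 2), (117, 3), (14, 4), (116, 5), (103, 4), (80, 3), (10, 2), (119, 4), (13, 3), (14, 3), (11, 2), (105, 2), (113, 4), (100, 3), (88, 2), (58, 1), (7, 0), (115, 1), (102, 0), (118, 2), (105, 1), (14, 3), (105, 2), (12, 1), (13, 1), (115, 1), (9, 0), (14, 0)], [], [(107, 5), (52, 4), (37, 3), (26, 2), (17, 1), (1, 0), (95, 3), (62, 2), (45, 1), (32, 0), (89, 4), (59, 3), (8, 2), (118, 3), (118, 4), (12, 3), (116, 3), (118, 4), (119, 5), (14, 6), (13, 5), (88, 4), (67, 3), (58, 2), (116, 5), (91, 4), (14, 6), (12, 5), (68, 4), (59, 3), (116, 5), (115, 6), (69, 5), (9, 4), (116, 4), (14, 5), (111, 5), (65, 4), (48, 3), (41, 2), (35, 1), (113, 5), (58, 4), (50, 3), (115, 6), (90, 5), (118, 7), (12, 6), (14, 6), (114, 6), (59, 5), (8, 4), (14, 5), (9, 4), (118, 4), (119, 5), (114, 6), (101, 5), (89, 4), (119,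 7), (13, 6), (14, 6), (91, 5), (14, 8), (99, 7), (87, 6), (66, 5), (49, 4), (42, 3), (6, 2), (88, 2), (12, 3), (114, 4), (101, 3), (118, 5), (105, 4), (116, 6), (103, 5), (91, 4), (118, 7), (105, 6), (12, 5), (119, 6), (13, 5), (113, 5), (67, 4), (50, 3), (7, 2), (114, 3), (101, 2), (118, 4), (105, 3), (14, 5), (103, 4), (91, 3), (14, 6), (102, 5), (90, 4), (69, 3), (105, 6), (12, 5), (100, 5), (67, 4), (58, 3), (50, 2), (115, 5), (90, 4), (118, 6), (12, 5), (14, 5), (119, 6), (114, 7), (101, 6), (68, 5), (59, 4), (8, 3), (116, 4), (119, 5), (14, 6), (102, 5), (69, 4), (9, 3), (116, 3), (119, 4), (118, 5), (105, 4), (119, 6), (13, 5), (115, 5), (90, 4), (69, 3), (116, 6), (91, 5), (10, 4), (117, 5), (92, 4), (119, 6), (14, 7), (108, 7), (95, 6), (83, 5), (72, 4), (53, 3), (38, 2), (27, 1), (2, 0), (111, 4), (65, 3), (48, 2), (41, 1), (35, 0), (113, 4), (58, 3),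 (50, 2), (115, 5), (90, 4), (118, 6), (12, 5), (14, 5), (114, 5), (59, 4), (8, 3), (14, 4), (9, 3), (118, 3), (119, 4), (114, 5), (101, 4), (89, 3), (119, 6), (13, 5), (14, 5), (91, 4), (14, 7), (99, 6), (87, 5), (66, 4), (49, 3), (42, 2), (6, 1), (88, 1), (12, 2), (114, 3), (101, 2), (118, 4), (105, 3), (116, 5), (103, 4), (91, 3), (118, 6), (105, 5), (12, 4), (119, 5), (13, 4), (113, 4), (67, 3), (50, 2), (7, 1), (114, 2), (101, 1), (118, 3), (105, 2), (14, 4), (103, 3), (91, 2), (14, 5), (101, 4), (89, 3), (68, 2), (8, 1), (105, 3), (12, 2), (13, 2), (67, 1), (114, 3), (68, 2), (115, 4), (69, 3), (118, 5), (119, 6), (14, 7), (102, 6), (90, 5), (69, 4), (9, 3), (116, 3), (118, 4), (119, 5), (118, 6), (105, 5), (12, 4), (119, 5), (13, 4), (117, 4), (119, 5), (118, 6), (105, 5), (14, 7), (13, 6), (111, 6), (86, 5), (75, 4), (65, 3), (48, 2), (41, 1), (5, 0), (100,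 3), (88, 2), (77, 1), (67, 0), (117, 2), (118, 3), (119, 4), (114, 5), (101, 4), (89, 3), (78, 2), (68, 1), (115, 6), (102, 5), (90, 4), (79, 3), (69, 2), (118, 7), (105, 6), (12, 5), (119, 6), (13, 5), (114, 5), (78, 4), (68, 3), (59, 2), (8, 1), (116, 2), (117, 3), (14, 4), (116, 5), (103, 4), (80, 3), (10, 2), (119, 4), (13, 3), (14, 3), (11, 2), (105, 2), (14, 4), (100, 3), (88, 2), (58, 1), (7, 0), (115, 1), (102, 0), (118, 2), (105, 1), (14, 3), (105, 2), (12, 1), (13, 1), (9, 0), (14, 0)], []⟩,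
    ⟨9, [2, 2], [], [(57, 1), (6, 0), (90, 0), (12, 1), (115, 1), (9, 0), (14, 0)], [], [(94, 6), (71, 5), (44, 4), (37, 3), (31, 2), (22, 1), (1, 0), (97, 3), (64, 2), (47, 1), (34, 0), (101, 3), (89, 2), (103, 4), (91, 3), (105, 5), (12, 4), (119, 5), (13, 4), (112, 4), (66, 3), (49, 2), (6, 1), (89, 1), (12, 2), (115, 3), (69, 2), (116, 4), (10, 3), (118, 3), (112, 4), (87, 3), (57, 2), (49, 1), (90, 3), (12, 4), (118, 4), (14, 5), (91, 4), (92, 5), (12, 6), (77, 5), (67, 4), (58, 3), (50, 2), (115, 5), (90, 4), (118, 6), (12, 5), (14, 5), (117, 6), (114, 7), (78, 6), (68, 5), (59, 4), (8, 3), (116, 4), (117, 5), (14, 6), (79, 5), (69, 4), (9, 3), (116, 3), (117, 4), (118, 5), (119, 6), (114, 7), (101, 6), (89, 5), (78, 4), (68, 3), (116, 8), (103, 7), (91, 6), (80, 5), (10, 4), (117, 7), (104, 6), (92, 5), (11, 4), (117, 6), (104, 5), (92, 4), (119, 7), (13,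 6), (110, 6), (85, 5), (74, 4), (47, 3), (40, 2), (34, 1), (4, 0), (100, 2), (88, 1), (101, 3), (89, 2), (104, 4), (92, 3), (105, 5), (12, 4), (112, 5), (99, 4), (76, 3), (49, 2), (42, 1), (6, 0), (88, 0), (12, 1), (114, 2), (101, 1), (118, 3), (105, 2), (117, 4), (104, 3), (92, 2), (119, 5), (13, 4), (14, 4), (88, 3), (77, 2), (50, 1), (7, 0), (114, 1), (101, 0), (118, 2), (105, 1), (14, 3), (104, 2), (92, 1), (105, 3), (12, 2), (101, 2), (78, 1), (8, 0), (104, 1), (11, 0), (13, 0)], []⟩,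
    ⟨9, [3, 3], [], [(59, 1), (8, 0), (115, 1), (9, 0), (14, 0)], [], [(82, 7), (71, 6), (61, 5), (37, 4), (31, 3), (26, 2), (17, 1), (1, 0), (95, 3), (62, 2), (45, 1), (32, 0), (89, 4), (59, 3), (8, 2), (118, 3), (118, 4), (12, 3), (116, 3), (118, 4), (119, 5), (14, 6), (13, 5), (88, 4), (67, 3), (58, 2), (116, 5), (91, 4), (14, 6), (12, 5), (68, 4), (59, 3), (116, 5), (115, 6), (69, 5), (9, 4), (116, 4), (14, 5), (111, 5), (65, 4), (48, 3), (41, 2), (35, 1), (113, 5), (58, 4), (50, 3), (115, 6), (90, 5), (118, 7), (12, 6), (14, 6), (114, 6), (59, 5), (8, 4), (14, 5), (9, 4), (118, 4), (119, 5), (114, 6), (101, 5), (89, 4), (119, 7), (13, 6), (14, 6), (91, 5), (14, 8), (99, 7), (87, 6), (66, 5), (49, 4), (42, 3), (6, 2), (88, 2), (12, 3), (114, 4), (101, 3), (118, 5), (105, 4), (116, 6), (103, 5), (91, 4), (118, 7), (105, 6), (12, 5), (119, 6), (13, 5), (113, 5),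 (67, 4), (50, 3), (7, 2), (114, 3), (101, 2), (118, 4), (105, 3), (14, 5), (103, 4), (91, 3), (14, 6), (102, 5), (90, 4), (69, 3), (105, 6), (12, 5), (99, 5), (66, 4), (57, 3), (49, 2), (90, 4), (12, 5), (116, 5), (119, 6), (116, 7), (103, 6), (10, 5), (117, 6), (104, 5), (118, 7), (105, 6), (113, 8), (100, 7), (88, 6), (77, 5), (58, 4), (50, 3), (115, 6), (90, 5), (118, 7), (12, 6), (14, 6), (114, 9), (101, 8), (89, 7), (78, 6), (59, 5), (8, 4), (117, 5), (118, 6), (119, 7), (14, 8), (102, 7), (90, 6), (79, 5), (9, 4), (117, 4), (118, 5), (119, 6), (118, 7), (105, 6), (12, 5), (119, 6), (13, 5), (116, 5), (80, 4), (118, 6), (117, 7), (92, 6), (11, 5), (118, 6), (12, 5), (108, 5), (62, 4), (38, 3), (32, 2), (27, 1), (2, 0), (111, 4), (65, 3), (48, 2), (41, 1), (35, 0), (113, 4), (58, 3), (50, 2), (115, 5), (90, 4), (118, 6), (12, 5), (14, 5), (114, 5), (59, 4),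 (8, 3), (14, 4), (9, 3), (118, 3), (119, 4), (114, 5), (101, 4), (89, 3), (119, 6), (13, 5), (14, 5), (91, 4), (14, 7), (99, 6), (87, 5), (66, 4), (49, 3), (42, 2), (6, 1), (88, 1), (12, 2), (114, 3), (101, 2), (118, 4), (105, 3), (116, 5), (103, 4), (91, 3), (118, 6), (105, 5), (12, 4), (119, 5), (13, 4), (113, 4), (67, 3), (50, 2), (7, 1), (114, 2), (101, 1), (118, 3), (105, 2), (14, 4), (103, 3), (91, 2), (14, 5), (101, 4), (89, 3), (68, 2), (8, 1), (105, 3), (12, 2), (13, 2), (66, 1), (68, 2), (69, 3), (88, 5), (67, 4), (58, 3), (50, 2), (115, 5), (90, 4), (118, 6), (12, 5), (14, 5), (118, 6), (114, 7), (89, 6), (68, 5), (59, 4), (8, 3), (116, 4), (118, 5), (14, 6), (90, 5), (69, 4), (9, 3), (116, 3), (118, 4), (118, 5), (12, 4), (119, 4), (14, 5), (103, 4), (10, 3), (105, 3), (13, 4), (14, 4), (86, 3), (41, 2), (35, 1), (5, 0), (99, 3), (87, 2), (76, 1), (66,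 0), (101, 4), (89, 3), (78, 2), (68, 1), (102, 5), (90, 4), (79, 3), (69, 2), (113, 7), (100, 6), (88, 5), (77, 4), (67, 3), (58, 2), (50, 1), (115, 4), (90, 3), (118, 5), (12, 4), (14, 4), (117, 5), (118, 6), (119, 7), (14, 8), (101, 7), (89, 6), (78, 5), (68, 4), (59, 3), (8, 2), (116, 3), (117, 4), (118, 5), (119, 6), (115, 7), (102, 6), (90, 5), (79, 4), (69, 3), (9, 2), (116, 2), (117, 3), (118, 4), (119, 5), (14, 6), (105, 5), (12, 4), (13, 4), (112, 5), (87, 4), (76, 3), (66, 2), (42, 1), (6, 0), (88, 0), (12, 1), (116, 2), (103, 1), (117, 3), (104, 2), (118, 4), (105, 3), (14, 5), (100, 4), (88, 3), (77, 2), (67, 1), (7, 0), (116, 1), (103, 0), (14, 2), (104, 1), (105, 2), (13, 3), (91, 2), (80, 1), (10, 0), (92, 1), (11, 0), (12, 0)], []⟩,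
    ⟨9, [4, 4], [], [(10, 0)], [], [(107, 6), (82, 5), (52, 4), (37, 3), (31, 2), (22, 1), (1, 0), (97, 3), (64, 2), (47, 1), (34, 0), (101, 3), (89, 2), (103, 4), (91, 3), (105, 5), (12, 4), (119, 5), (13, 4), (112, 4), (66, 3), (49, 2), (6, 1), (89, 1), (12, 2), (115, 3), (69, 2), (116, 4), (10, 3), (118, 3), (112, 4), (87, 3), (57, 2), (49, 1), (90, 3), (12, 4), (118, 4), (14, 5), (91, 4), (92, 5), (12, 6), (77, 5), (67, 4), (58, 3), (50, 2), (115, 5), (90, 4), (118, 6), (12, 5), (14, 5), (117, 6), (114, 7), (78, 6), (68, 5), (59, 4), (8, 3), (116, 4), (117, 5), (14, 6), (79, 5), (69, 4), (9, 3), (116, 3), (117, 4), (118, 5), (119, 6), (115, 7), (102, 6), (90, 5), (79, 4), (69, 3), (116, 8), (103, 7), (91, 6), (80, 5), (10, 4), (117, 7), (104, 6), (92, 5), (11, 4), (119, 6), (13, 5), (14, 5), (12, 4), (110, 4), (55, 3), (40, 2), (34, 1), (4, 0), (100, 2), (88,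 1), (102, 3), (90, 2), (13, 4), (14, 4), (87, 3), (57, 2), (42, 1), (6, 0), (88, 0), (12, 1), (115, 2), (102, 1), (118, 3), (105, 2), (14, 4), (105, 3), (12, 2), (100, 2), (58, 1), (7, 0), (115, 1), (102, 0), (118, 2), (105, 1), (14, 3), (13, 2), (90, 1), (9, 0), (118, 0), (118, 1), (12, 0), (14, 0)], []⟩]

/-- Part of the certificate. -/
def fusesPart10 : List Spor.SchurCert.Fuse := [
    ⟨9, [5, 5], [], [(11, 0)], [], [(99, 3), (76, 2), (49, 1), (6, 0), (89, 0), (12, 1), (101, 2), (78, 1), (8, 0), (104, 1), (11, 0), (13, 0)], []⟩,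
    ⟨9, [6, 6], [], [(12, 0)], [], [(99, 3), (87, 2), (49, 1), (6, 0), (89, 0), (12, 1), (101, 2), (89, 1), (8, 0), (105, 1), (12, 0), (13, 0)], []⟩,
    ⟨9, [7, 7], [], [(13, 0)], [], [(108, 6), (95, 5), (53, 4), (38, 3), (27, 2), (23, 1), (2, 0), (110, 4), (64, 3), (47, 2), (40, 1), (34, 0), (100, 3), (88, 2), (101, 4), (89, 3), (103, 5), (91, 4), (105, 6), (12, 5), (14, 6), (99, 5), (66, 4), (49, 3), (42, 2), (6, 1), (88, 1), (12, 2), (114, 3), (101, 2), (118, 4), (105, 3), (116, 5), (103, 4), (91, 3), (119, 6), (13, 5), (113, 5), (88, 4), (67, 3), (50, 2), (7, 1), (114, 2), (101, 1), (118, 3), (105, 2), (14, 4), (103, 3), (91, 2), (118, 5), (105, 4), (12, 3), (14, 4), (102, 3), (69, 2), (103, 4), (10, 3), (105, 3), (13, 4), (111, 4), (86, 3), (56, 2), (48, 1), (115, 4), (102, 3), (119, 5), (13, 4), (14, 4), (14, 5), (87, 4), (57, 3), (49, 2), (90, 4), (12, 5),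 (118, 5), (113, 6), (88, 5), (58, 4), (50, 3), (115, 6), (90, 5), (118, 7), (12, 6), (14, 6), (114, 7), (89, 6), (59, 5), (8, 4), (118, 5), (14, 6), (12, 5), (100, 5), (58, 4), (7, 3), (115, 4), (102, 3), (118, 5), (105, 4), (14, 6), (13, 5), (89, 4), (59, 3), (118, 5), (115, 6), (90, 5), (9, 4), (118, 4), (14, 5), (12, 4), (115, 5), (102, 4), (118, 6), (105, 5), (119, 7), (13, 6), (119, 6), (14, 7), (97, 6), (85, 5), (55, 4), (47, 3), (34, 2), (29, 1), (4, 0), (99, 6), (76, 5), (66, 4), (57, 3), (42, 2), (6, 1), (88, 1), (12, 2), (115, 3), (102, 2), (118, 4), (105, 3), (14, 5), (103, 4), (91, 3), (104, 5), (92, 4), (13, 6), (12, 5), (101, 5), (78, 4), (68, 3), (59, 2), (116, 4), (117, 5), (119, 6), (115, 7), (102, 6), (79, 5), (69, 4), (9, 3), (116, 3), (117, 4), (119, 5), (14, 6), (13, 5), (118, 5), (119, 6), (111, 7), (98, 6), (86, 5), (75, 4), (65, 3), (48,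 2), (41, 1), (5, 0), (100, 3), (88, 2), (77, 1), (67, 0), (117, 2), (118, 3), (119, 4), (114, 5), (101, 4), (89, 3), (78, 2), (68, 1), (115, 6), (102, 5), (90, 4), (79, 3), (69, 2), (118, 7), (105, 6), (12, 5), (119, 6), (13, 5), (114, 5), (78, 4), (68, 3), (59, 2), (8, 1), (116, 2), (117, 3), (14, 4), (116, 5), (103, 4), (80, 3), (10, 2), (119, 4), (13, 3), (14, 3), (11, 2), (105, 2), (119, 4), (13, 3), (14, 3), (88, 2), (58, 1), (7, 0), (115, 1), (102, 0), (118, 2), (105, 1), (14, 3), (105, 2), (12, 1), (102, 1), (9, 0), (119, 0), (119, 1), (13, 0), (14, 0)], []⟩,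
    ⟨9, [8, 8], [], [(14, 0)], [], [(82, 6), (61, 5), (52, 4), (37, 3), (31, 2), (22, 1), (1, 0), (97, 3), (64, 2), (47, 1), (34, 0), (101, 3), (89, 2), (103, 4), (91, 3), (105, 5), (12, 4), (119, 5), (13, 4), (112, 4), (66, 3), (49, 2), (6, 1), (89, 1), (12, 2), (115, 3), (69, 2), (116, 4), (10, 3), (118, 3), (112, 4), (87, 3), (57, 2), (49, 1), (90, 3), (12, 4), (118, 4), (14, 5), (91, 4), (92, 5), (12, 6), (77, 5), (67, 4), (58, 3), (50, 2), (115, 5), (90, 4), (118, 6), (12, 5), (14, 5), (117, 6), (114, 7), (78, 6), (68, 5), (59, 4), (8, 3), (116, 4), (117, 5), (14, 6), (79, 5), (69, 4), (9, 3), (116, 3), (117, 4), (118, 5), (119, 6), (115, 7), (102, 6), (90, 5), (79, 4), (69, 3), (116, 8), (103, 7), (91, 6), (80, 5), (10, 4), (117, 7), (104, 6), (92, 5), (11, 4), (119, 6), (13, 5), (14, 5), (91, 4), (12, 5), (85, 5), (64, 4), (55, 3), (40, 2), (34, 1), (4, 0),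 (100, 2), (88, 1), (102, 3), (90, 2), (13, 4), (116, 4), (91, 3), (118, 5), (12, 4), (14, 4), (87, 4), (66, 3), (57, 2), (42, 1), (6, 0), (88, 0), (12, 1), (115, 2), (102, 1), (118, 3), (105, 2), (14, 4), (103, 3), (91, 2), (105, 4), (12, 3), (100, 3), (67, 2), (58, 1), (7, 0), (115, 1), (102, 0), (118, 2), (105, 1), (14, 3), (103, 2), (91, 1), (119, 4), (13, 3), (115, 3), (90, 2), (69, 1), (9, 0), (116, 0), (118, 1), (14, 2), (91, 1), (10, 0), (12, 0)], []⟩]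

/-- Part of the certificate. -/
def densePart0 : List (List ℕ) := [
    [0, 0, 0, 0, 0, 0, 0, 1, 1, 1, 0, 1, 1, 3, 4, 0, 1, 0, 0, 0, 0, 1, 0, 0, 0, 1, 0, 0, 0, 0, 0, 0, 0, 0, 0, 0, 1, 0, 0, 0, 1, 0, 0, 0, 0, 0, 0, 0, 1, 0, 0, 0, 0, 0, 0, 1, 0, 0, 1, 1, 0, 0, 0, 0, 0, 0, 0, 0, 0, 0, 1, 0, 0, 0, 0, 1, 0, 1, 1, 0, 0, 0, 0, 0, 0, 0, 1, 0, 1, 2, 1, 0, 2, 1, 0, 0, 0, 0, 0, 0, 2, 0, 1, 0, 3, 2, 1, 0, 0, 0, 1, 0, 0, 0, 0, 2, 0, 1, 4, 1],
    [0, 0, 0, 0, 0, 0, 0, 0, 0, 0, 1, 1, 1, 0, 0, 0, 0, 0, 0, 0, 0, 0, 0, 0, 0, 0, 0, 0, 0, 0, 0, 1, 0, 0, 0, 0, 0, 0, 0, 0, 0, 0, 0, 0, 1, 0, 0, 0, 0, 0, 0, 0, 0, 0, 0, 0, 0, 0, 0, 0, 0, 1, 0, 0, 0, 0, 0, 0, 1, 0, 0, 0, 0, 0, 0, 0, 0, 0, 1, 0, 1, 0, 0, 0, 0, 0, 0, 0, 0, 1, 0, 2, 1, 0, 1],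
    [0, 0, 7, 0, 7, 7, 5, 5, 4, 4, 5, 7, 7, 5, 3, 6, 0, 7, 0, 0, 0, 0, 7, 7, 0, 0, 7, 7, 0, 7, 1, 0, 6, 0, 6, 7, 0, 0, 0, 0, 5, 7, 4, 1, 7, 6, 0, 6, 6, 5, 6, 0, 0, 7, 0, 7, 6, 6, 5, 2, 1, 7, 7, 0, 6, 7, 5, 5, 7, 3, 0, 0, 7, 0, 7, 0, 7, 7, 6, 6, 6, 0, 7, 7, 0, 7, 7, 5, 0, 0, 0, 5, 6, 1, 0, 6, 0, 7, 0, 3, 5, 0, 2, 7, 4, 2, 0, 0, 0, 0, 5, 6, 7, 6, 3, 7, 1, 5, 2, 5],
    [0, 0, 7, 0, 7, 7, 5, 4, 1, 1, 4, 6, 2, 7, 0, 6, 7, 7, 0, 0, 0, 7, 7, 7, 0, 7, 7, 7, 0, 7, 0, 0, 0, 0, 6, 7, 0, 7, 6, 0, 6, 5, 4, 7, 0, 7, 0, 5, 4, 4, 3, 0, 0, 0, 0, 7, 5, 5, 3, 0, 7, 0, 7, 0, 6, 7, 5, 4, 3, 3, 0, 7, 6, 0, 6, 0, 7, 5, 3, 4, 5, 7, 0, 7, 0, 7, 5, 6, 0, 6, 5, 6, 2, 0, 7, 6, 0, 0, 7, 4, 3, 2, 6, 5, 4, 1, 0, 7, 7, 0, 4, 4, 0, 2, 2, 3, 5, 1, 0, 4],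
    [0, 0, 0, 0, 0, 0, 0, 0, 1, 1, 0, 0, 3, 1, 3, 0, 0, 0, 0, 0, 0, 0, 0, 0, 0, 0, 0, 0, 0, 0, 0, 0, 1, 0, 0, 0, 0, 0, 1, 0, 0, 0, 0, 0, 0, 1, 0, 0, 0, 0, 1, 0, 0, 0, 0, 0, 0, 0, 1, 1, 0, 0, 1, 0, 0, 0, 0, 0, 0, 0, 0, 0, 0, 0, 0, 0, 0, 0, 0, 0, 0, 0, 0, 0, 0, 0, 0, 0, 1, 1, 2, 1, 0, 0, 0, 0, 0, 0, 0, 0, 0, 1, 0, 1, 0, 2, 0, 0, 1, 0, 0, 0, 0, 0, 1, 2, 1, 0, 5, 1],
    [0, 0, 0, 0, 0, 0, 0, 7, 0, 7, 1, 1, 1, 7, 6, 0, 6, 0, 0, 0, 0, 0, 0, 0, 0, 0, 0, 0, 0, 0, 1, 0, 0, 0, 0, 0, 1, 0, 7, 0, 0, 0, 0, 1, 0, 0, 0, 0, 0, 0, 0, 0, 0, 7, 0, 0, 0, 0, 1, 1, 1, 0, 0, 0, 0, 0, 0, 7, 0, 5, 0, 0, 0, 0, 0, 0, 0, 0, 1, 0, 1, 0, 0, 0, 0, 0, 0, 0, 0, 7, 7, 0, 1, 0, 0, 0, 0, 0, 0, 0, 7, 6, 6, 0, 0, 6, 1, 0, 7, 0, 0, 0, 0, 6, 0, 0, 0, 2, 1, 7],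
    [0, 0, 0, 0, 0, 0, 7, 6, 0, 7, 7, 7, 2, 5, 1, 0, 6, 0, 0, 0, 0, 0, 0, 7, 0, 0, 0, 7, 0, 0, 0, 0, 0, 0, 0, 1, 7, 0, 7, 0, 0, 1, 7, 0, 0, 0, 0, 0, 0, 6, 6, 7, 0, 0, 0, 0, 7, 7, 6, 7, 0, 0, 0, 0, 0, 1, 7, 0, 0, 7, 0, 0, 7, 0, 0, 0, 0, 6, 0, 7, 0, 0, 0, 0, 0, 0, 7, 7, 5, 7, 4, 0, 6, 0, 0, 7, 0, 0, 1, 7, 5, 7, 3, 6, 7, 2, 7, 0, 7, 0, 0, 7, 0, 0, 7, 3, 7, 4, 0, 5],
    [0, 0, 0, 0, 0, 0, 0, 7, 7, 7, 1, 1, 7, 7, 4, 0, 0, 6, 0, 0, 0, 0, 0, 0, 0, 0, 0, 0, 0, 0, 0, 1, 0, 0, 0, 0, 0, 1, 7, 0, 0, 0, 0, 0, 1, 7, 0, 0, 0, 0, 6, 0, 0, 7, 0, 0, 0, 0, 0, 0, 0, 1, 0, 0, 0, 0, 0, 7, 7, 6, 0, 0, 0, 0, 0, 0, 0, 1, 2, 1, 1, 0, 0, 0, 0, 0, 0, 0, 1, 7, 6, 6, 0, 0, 0, 0, 0, 0, 0, 0, 7, 6, 6, 1, 1, 7, 0, 1, 7, 0, 0, 0, 0, 7, 0, 1, 6, 2, 7, 1]]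

/-- Part of the certificate. -/
def densePart1 : List (List ℕ) := [
    [0, 0, 0, 0, 0, 0, 0, 7, 6, 6, 7, 7, 5, 6, 1, 0, 0, 6, 0, 0, 0, 0, 0, 0, 0, 0, 0, 0, 0, 0, 0, 0, 7, 0, 0, 0, 0, 7, 0, 0, 0, 0, 0, 0, 7, 7, 0, 0, 0, 0, 7, 0, 7, 0, 0, 0, 0, 0, 7, 5, 0, 0, 7, 0, 0, 0, 0, 6, 5, 6, 0, 0, 0, 0, 0, 0, 0, 0, 0, 7, 7, 0, 0, 0, 0, 0, 0, 0, 7, 6, 7, 6, 0, 0, 0, 7, 0, 0, 0, 0, 0, 6, 7, 7, 0, 6, 0, 7, 0, 0, 0, 0, 0, 7, 7, 6, 2, 6, 4, 7],
    [0, 0, 0, 0, 0, 0, 1, 1, 7, 7, 1, 1, 5, 7, 3, 0, 0, 0, 0, 0, 0, 0, 0, 1, 0, 0, 0, 1, 0, 0, 0, 0, 0, 0, 0, 7, 1, 7, 0, 0, 0, 7, 1, 1, 0, 1, 0, 0, 0, 2, 2, 1, 7, 7, 0, 7, 0, 1, 0, 7, 0, 0, 0, 0, 1, 0, 1, 3, 1, 1, 0, 0, 7, 0, 7, 7, 0, 0, 0, 0, 0, 0, 0, 0, 0, 7, 1, 1, 5, 0, 7, 3, 6, 0, 0, 7, 0, 0, 0, 1, 1, 2, 1, 6, 1, 7, 1, 7, 0, 0, 0, 1, 0, 2, 1, 1, 6, 0, 5, 6],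
    [0, 0, 0, 0, 0, 0, 0, 0, 0, 0, 0, 0, 1, 0, 1, 0, 0, 0, 0, 0, 0, 0, 0, 0, 0, 0, 0, 0, 0, 0, 0, 0, 0, 0, 0, 0, 0, 0, 0, 0, 0, 0, 0, 0, 0, 0, 0, 0, 0, 0, 0, 0, 0, 0, 0, 0, 0, 0, 0, 0, 0, 0, 0, 1, 0, 0, 0, 0, 0, 0, 0, 0, 0, 1, 0, 0, 0, 0, 0, 0, 0, 0, 0, 0, 1, 0, 0, 0, 0, 0, 0, 0, 1, 0, 0, 0, 1, 0, 0, 0, 0, 0, 0, 0, 0, 0, 0, 0, 0, 1, 0, 0, 0, 0, 0, 0, 0, 0, 1, 1],
    [0, 0, 0, 0, 0, 0, 7, 7, 7, 7, 6, 6, 2, 7, 2, 0, 0, 0, 6, 0, 0, 0, 0, 0, 0, 0, 0, 0, 0, 0, 0, 0, 0, 7, 0, 0, 0, 0, 0, 7, 0, 0, 7, 0, 0, 0, 7, 0, 0, 7, 7, 0, 0, 0, 7, 0, 0, 7, 7, 7, 1, 0, 0, 7, 0, 0, 7, 0, 7, 7, 1, 0, 0, 7, 0, 0, 7, 0, 7, 7, 6, 1, 0, 0, 7, 0, 0, 7, 6, 7, 6, 5, 6, 1, 0, 0, 0, 0, 0, 7, 7, 6, 6, 7, 7, 5, 1, 0, 0, 7, 0, 0, 7, 0, 4, 6, 6, 6, 1, 7],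
    [0, 0, 0, 0, 0, 0, 7, 7, 6, 7, 5, 5, 2, 7, 2, 0, 0, 0, 6, 0, 1, 0, 0, 0, 7, 0, 0, 0, 7, 0, 7, 0, 0, 0, 0, 0, 7, 0, 0, 7, 0, 0, 7, 7, 0, 0, 0, 0, 7, 7, 5, 7, 0, 0, 0, 1, 1, 7, 1, 7, 7, 0, 0, 0, 1, 1, 7, 0, 7, 6, 7, 0, 0, 7, 1, 1, 7, 7, 6, 7, 4, 7, 0, 0, 0, 1, 7, 0, 7, 5, 6, 4, 4, 0, 0, 0, 7, 1, 7, 0, 7, 6, 7, 7, 4, 6, 7, 0, 0, 7, 1, 0, 0, 7, 4, 7, 4, 5, 1, 1],
    [0, 0, 0, 0, 0, 0, 0, 0, 0, 7, 0, 0, 0, 0, 7, 0, 0, 0, 0, 6, 0, 0, 0, 0, 0, 0, 0, 0, 0, 0, 0, 0, 0, 0, 0, 0, 0, 0, 0, 0, 0, 0, 0, 0, 0, 0, 0, 0, 0, 0, 0, 0, 0, 0, 7, 0, 0, 0, 0, 0, 0, 1, 0, 0, 0, 0, 0, 0, 0, 6, 0, 1, 0, 0, 0, 0, 0, 0, 0, 6, 0, 0, 1, 0, 0, 0, 0, 0, 0, 0, 7, 0, 1, 0, 1, 0, 0, 0, 0, 0, 0, 0, 6, 0, 0, 7, 0, 1, 0, 0, 0, 0, 0, 0, 0, 7, 7, 7, 7, 7],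
    [0, 0, 0, 0, 0, 0, 0, 0, 0, 7, 7, 7, 7, 7, 6, 0, 0, 0, 0, 6, 0, 0, 0, 0, 0, 0, 0, 0, 0, 0, 0, 0, 0, 7, 0, 0, 0, 0, 0, 0, 0, 0, 0, 0, 0, 0, 7, 0, 0, 0, 0, 0, 7, 0, 0, 0, 0, 0, 0, 0, 0, 0, 0, 7, 0, 0, 0, 0, 7, 0, 0, 0, 0, 0, 0, 0, 0, 0, 7, 6, 6, 0, 0, 0, 0, 0, 0, 0, 0, 0, 0, 7, 0, 0, 0, 0, 7, 0, 0, 0, 0, 7, 0, 7, 0, 6, 0, 0, 0, 0, 0, 0, 0, 0, 7, 0, 6, 6, 6, 6],
    [0, 0, 0, 0, 0, 0, 0, 0, 6, 5, 7, 7, 2, 5, 0, 0, 0, 0, 0, 0, 7, 0, 0, 0, 1, 0, 0, 0, 1, 0, 0, 7, 7, 0, 7, 7, 0, 7, 7, 0, 7, 7, 0, 0, 7, 0, 1, 0, 1, 0, 6, 1, 7, 7, 0, 0, 0, 6, 6, 5, 0, 7, 0, 1, 7, 7, 7, 6, 4, 5, 0, 7, 0, 0, 7, 7, 0, 7, 5, 5, 7, 0, 7, 0, 1, 0, 1, 0, 7, 7, 6, 4, 4, 0, 0, 0, 0, 7, 1, 0, 7, 6, 7, 6, 7, 1, 0, 7, 7, 0, 7, 1, 7, 6, 5, 5, 6, 7, 2, 2]]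

/-- Part of the certificate. -/
def densePart2 : List (List ℕ) := [
    [0, 0, 0, 0, 0, 0, 0, 0, 0, 7, 7, 7, 6, 0, 6, 0, 0, 0, 0, 0, 6, 0, 0, 0, 0, 0, 0, 0, 0, 0, 0, 0, 0, 0, 0, 0, 0, 0, 0, 0, 0, 0, 0, 0, 0, 0, 0, 0, 0, 0, 0, 0, 0, 0, 7, 0, 0, 0, 0, 0, 0, 0, 1, 7, 0, 0, 0, 0, 0, 7, 0, 0, 1, 7, 0, 0, 0, 0, 0, 7, 7, 0, 0, 1, 7, 0, 0, 0, 0, 0, 6, 7, 7, 0, 0, 1, 7, 0, 0, 0, 0, 0, 7, 7, 0, 4, 0, 0, 1, 7, 0, 0, 0, 0, 0, 6, 0, 1, 6],
    [0, 0, 0, 0, 0, 0, 0, 0, 0, 7, 6, 6, 5, 5, 4, 0, 0, 0, 0, 0, 6, 0, 0, 0, 0, 0, 0, 0, 0, 0, 0, 0, 0, 7, 0, 0, 0, 0, 0, 7, 0, 0, 0, 0, 0, 0, 7, 0, 0, 0, 0, 0, 0, 7, 0, 0, 0, 0, 0, 0, 0, 0, 7, 7, 0, 0, 0, 7, 0, 7, 0, 0, 7, 0, 0, 0, 0, 7, 0, 7, 6, 0, 0, 7, 0, 0, 0, 0, 0, 0, 7, 7, 7, 0, 0, 7, 0, 0, 0, 0, 7, 7, 7, 4, 6, 3, 0, 0, 7, 7, 0, 0, 0, 7, 7, 7, 7, 5, 4, 6],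
    [0, 0, 0, 0, 0, 0, 0, 0, 7, 7, 1, 1, 6, 7, 7, 0, 0, 0, 0, 0, 0, 0, 0, 0, 0, 0, 0, 0, 0, 0, 0, 0, 7, 0, 0, 0, 0, 0, 7, 1, 0, 0, 1, 0, 0, 7, 0, 0, 0, 0, 6, 1, 0, 7, 1, 0, 0, 0, 1, 7, 1, 0, 7, 0, 0, 0, 0, 0, 6, 7, 1, 0, 7, 0, 0, 0, 0, 0, 6, 7, 1, 1, 0, 7, 0, 0, 0, 0, 7, 7, 2, 0, 1, 1, 0, 0, 0, 0, 0, 7, 7, 5, 0, 1, 2, 7, 1, 0, 7, 1, 0, 0, 0, 1, 6, 4, 5, 0, 0, 5],
    [0, 0, 0, 0, 0, 0, 0, 0, 0, 0, 1, 1, 1, 0, 1, 0, 0, 0, 0, 0, 0, 0, 0, 0, 0, 0, 0, 0, 0, 0, 0, 0, 0, 0, 0, 0, 0, 0, 0, 1, 0, 0, 0, 0, 0, 0, 1, 0, 0, 0, 0, 0, 1, 7, 1, 0, 0, 0, 0, 0, 0, 1, 0, 0, 0, 0, 0, 7, 0, 1, 0, 1, 0, 0, 0, 0, 0, 7, 0, 1, 1, 0, 1, 0, 0, 0, 0, 0, 0, 0, 0, 0, 1, 0, 1, 0, 0, 0, 0, 0, 0, 0, 7, 1, 1, 1, 0, 1, 0, 1, 0, 0, 0, 0, 0, 0, 1, 0, 3],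
    [0, 0, 0, 0, 0, 0, 0, 7, 7, 7, 0, 7, 7, 7, 5, 0, 0, 0, 0, 0, 0, 6, 0, 0, 0, 0, 0, 0, 0, 0, 0, 0, 0, 0, 0, 0, 0, 0, 0, 0, 7, 0, 0, 0, 0, 0, 0, 7, 0, 0, 7, 0, 0, 0, 0, 7, 0, 0, 7, 7, 0, 0, 0, 0, 0, 0, 0, 0, 0, 0, 0, 0, 0, 0, 7, 0, 0, 7, 7, 7, 0, 0, 0, 0, 0, 0, 0, 0, 0, 0, 7, 0, 0, 0, 0, 0, 0, 0, 0, 0, 7, 7, 7, 0, 6, 6, 0, 0, 0, 0, 0, 0, 0, 7, 7, 7, 0, 4, 7, 7],
    [0, 0, 0, 0, 0, 0, 0, 7, 0, 0, 7, 5, 1, 1, 2, 0, 0, 0, 0, 0, 0, 6, 0, 1, 0, 0, 0, 0, 0, 7, 0, 0, 0, 0, 1, 1, 7, 0, 0, 0, 0, 1, 0, 7, 0, 0, 0, 0, 0, 0, 0, 7, 0, 0, 0, 1, 1, 0, 0, 0, 0, 0, 0, 0, 1, 1, 0, 6, 6, 7, 7, 0, 0, 0, 7, 0, 0, 6, 0, 7, 7, 0, 0, 0, 0, 1, 1, 0, 0, 0, 2, 7, 3, 0, 0, 0, 0, 0, 1, 0, 6, 6, 0, 6, 4, 0, 0, 0, 0, 0, 0, 1, 0, 2, 7, 0, 4, 1, 1, 3],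
    [0, 0, 0, 0, 0, 0, 7, 0, 0, 7, 7, 0, 5, 7, 6, 0, 0, 0, 0, 0, 0, 0, 6, 0, 0, 0, 0, 0, 0, 0, 0, 0, 0, 0, 7, 0, 0, 0, 0, 0, 0, 0, 0, 0, 0, 0, 0, 0, 0, 0, 0, 0, 0, 0, 0, 7, 0, 7, 0, 0, 0, 0, 0, 0, 7, 0, 7, 0, 0, 7, 0, 0, 0, 0, 0, 0, 0, 0, 0, 0, 0, 0, 0, 0, 0, 7, 0, 7, 0, 0, 5, 6, 0, 0, 0, 0, 0, 0, 0, 0, 0, 0, 7, 0, 0, 0, 0, 0, 0, 0, 0, 0, 0, 0, 0, 7, 5, 0, 5],
    [0, 0, 0, 0, 0, 0, 7, 0, 0, 7, 6, 7, 3, 7, 6, 0, 0, 0, 0, 0, 0, 0, 6, 0, 0, 0, 0, 0, 0, 0, 0, 7, 0, 0, 7, 0, 0, 0, 0, 0, 0, 0, 0, 0, 0, 0, 0, 7, 0, 6, 0, 0, 7, 0, 0, 0, 0, 7, 0, 0, 0, 7, 0, 0, 7, 0, 7, 0, 0, 6, 0, 0, 0, 0, 0, 0, 0, 0, 0, 7, 7, 0, 7, 0, 0, 0, 0, 7, 0, 6, 7, 6, 7, 0, 0, 0, 0, 7, 0, 0, 0, 7, 0, 6, 0, 5, 0, 0, 0, 0, 0, 0, 6, 0, 0, 7, 5, 6, 6, 6]]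

/-- Part of the certificate. -/
def densePart3 : List (List ℕ) := [
    [0, 0, 0, 0, 0, 0, 0, 0, 7, 7, 0, 0, 5, 4, 4, 0, 0, 0, 0, 0, 0, 0, 0, 7, 0, 0, 0, 0, 0, 1, 1, 0, 7, 0, 0, 0, 0, 7, 7, 0, 0, 0, 7, 0, 7, 0, 0, 1, 0, 0, 0, 1, 7, 7, 0, 0, 0, 7, 0, 0, 1, 0, 7, 0, 1, 0, 7, 6, 5, 5, 0, 7, 7, 0, 7, 7, 0, 1, 1, 0, 0, 1, 0, 7, 0, 1, 0, 7, 5, 0, 0, 4, 4, 0, 0, 0, 0, 7, 7, 7, 1, 7, 6, 4, 7, 5, 0, 0, 7, 0, 7, 7, 0, 7, 0, 7, 5, 3, 4, 1],
    [0, 0, 0, 0, 0, 0, 7, 7, 0, 7, 7, 0, 4, 5, 3, 0, 0, 0, 0, 0, 0, 0, 0, 6, 0, 0, 0, 0, 0, 0, 0, 0, 0, 0, 7, 0, 0, 0, 0, 0, 7, 0, 7, 0, 0, 0, 0, 0, 0, 0, 0, 0, 0, 0, 0, 7, 0, 7, 7, 0, 0, 0, 0, 0, 7, 0, 7, 7, 0, 7, 0, 0, 0, 0, 0, 0, 0, 0, 0, 0, 0, 0, 0, 0, 0, 7, 0, 7, 6, 0, 6, 4, 0, 0, 0, 0, 0, 7, 0, 7, 7, 0, 4, 5, 0, 4, 0, 0, 0, 0, 7, 0, 7, 7, 0, 6, 5, 0, 3, 6],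
    [0, 0, 0, 0, 0, 0, 7, 7, 7, 6, 7, 0, 1, 4, 1, 0, 0, 0, 0, 0, 0, 0, 0, 6, 0, 0, 0, 0, 0, 0, 0, 0, 7, 0, 7, 0, 0, 0, 7, 0, 7, 0, 7, 0, 0, 0, 0, 7, 0, 6, 7, 0, 0, 7, 0, 0, 0, 7, 0, 7, 0, 0, 7, 0, 7, 0, 7, 7, 0, 7, 0, 0, 0, 0, 0, 0, 0, 0, 0, 0, 0, 0, 0, 7, 0, 0, 0, 7, 5, 6, 5, 5, 0, 0, 0, 7, 0, 0, 0, 7, 7, 5, 6, 4, 0, 1, 0, 0, 7, 0, 7, 0, 7, 7, 6, 6, 7, 0, 0, 6],
    [0, 0, 0, 0, 0, 0, 0, 0, 0, 0, 1, 1, 0, 7, 0, 0, 0, 0, 0, 0, 0, 0, 0, 0, 0, 0, 0, 0, 0, 0, 1, 0, 0, 0, 0, 0, 1, 0, 7, 0, 1, 0, 0, 0, 0, 7, 0, 0, 0, 1, 0, 1, 0, 7, 0, 1, 0, 0, 0, 0, 1, 0, 0, 0, 0, 0, 0, 7, 6, 6, 0, 0, 7, 0, 0, 0, 1, 0, 1, 0, 2, 1, 0, 0, 0, 0, 0, 1, 7, 0, 2, 1, 2, 1, 0, 0, 0, 0, 0, 0, 7, 7, 6, 7, 0, 5, 1, 0, 0, 0, 1, 0, 0, 6, 7, 6, 0, 7, 1, 4],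
    [0, 0, 0, 0, 0, 0, 0, 0, 0, 0, 1, 1, 1, 1, 7, 0, 0, 0, 0, 0, 0, 0, 0, 0, 0, 0, 0, 0, 0, 0, 0, 1, 7, 0, 0, 0, 0, 1, 0, 0, 1, 0, 1, 0, 0, 0, 0, 1, 0, 2, 0, 0, 1, 7, 0, 1, 0, 0, 7, 6, 0, 1, 7, 0, 0, 0, 0, 0, 7, 6, 0, 0, 0, 0, 0, 0, 0, 1, 1, 2, 1, 0, 1, 7, 0, 0, 0, 7, 0, 2, 0, 2, 2, 0, 1, 0, 0, 0, 0, 0, 1, 1, 7, 1, 3, 0, 0, 1, 0, 0, 1, 0, 0, 7, 1, 6, 0, 2, 1, 6],
    [0, 0, 0, 0, 0, 0, 0, 0, 7, 0, 0, 0, 7, 7, 7, 0, 0, 0, 0, 0, 0, 0, 0, 0, 6, 0, 0, 0, 0, 0, 0, 0, 0, 0, 0, 0, 0, 0, 0, 0, 0, 0, 0, 0, 0, 0, 0, 7, 0, 0, 0, 0, 0, 0, 0, 0, 0, 0, 0, 0, 0, 0, 0, 0, 0, 0, 0, 0, 0, 0, 0, 0, 0, 0, 0, 0, 0, 0, 0, 0, 0, 0, 0, 0, 0, 7, 0, 0, 0, 7, 0, 0, 0, 0, 0, 0, 0, 7, 0, 0, 0, 7, 0, 0, 0, 7, 0, 0, 0, 0, 7, 0, 0, 0, 7, 0, 0, 0, 7, 7],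
    [0, 0, 0, 0, 0, 0, 0, 0, 7, 0, 0, 0, 6, 7, 6, 0, 0, 0, 0, 0, 0, 0, 0, 0, 6, 0, 0, 0, 0, 0, 0, 0, 0, 0, 0, 0, 0, 0, 0, 0, 0, 0, 0, 0, 0, 0, 7, 0, 0, 0, 0, 0, 0, 0, 0, 0, 0, 0, 0, 0, 0, 0, 0, 0, 7, 0, 0, 0, 6, 0, 0, 0, 0, 0, 7, 0, 0, 0, 6, 0, 0, 0, 0, 0, 7, 7, 0, 0, 0, 7, 0, 0, 7, 0, 0, 0, 7, 7, 0, 0, 0, 7, 0, 0, 0, 7, 0, 0, 0, 7, 7, 0, 0, 0, 7, 0, 0, 7, 5, 6],
    [0, 0, 0, 0, 0, 0, 0, 0, 0, 0, 0, 0, 7, 1, 7, 0, 0, 0, 0, 0, 0, 0, 0, 0, 0, 0, 0, 0, 0, 0, 0, 0, 0, 0, 1, 0, 0, 0, 0, 7, 1, 0, 7, 1, 0, 0, 7, 1, 0, 0, 0, 0, 0, 0, 7, 1, 0, 7, 0, 0, 0, 0, 0, 0, 1, 0, 7, 0, 0, 7, 0, 0, 0, 7, 1, 0, 0, 1, 0, 0, 0, 1, 0, 0, 0, 1, 0, 7, 0, 3, 1, 1, 2, 1, 0, 0, 0, 0, 0, 7, 0, 2, 7, 6, 0, 4, 1, 0, 0, 0, 1, 0, 7, 7, 2, 4, 3, 4]]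

/-- Part of the certificate. -/
def densePart4 : List (List ℕ) := [
    [0, 0, 0, 0, 0, 0, 0, 0, 0, 0, 0, 0, 7, 0, 0, 0, 0, 0, 0, 0, 0, 0, 0, 0, 0, 0, 0, 0, 0, 0, 0, 0, 0, 7, 0, 0, 0, 0, 0, 0, 0, 0, 0, 0, 1, 0, 0, 0, 0, 7, 0, 0, 0, 0, 7, 1, 0, 1, 0, 0, 0, 0, 0, 7, 0, 0, 0, 0, 1, 7, 0, 0, 0, 0, 0, 0, 0, 0, 0, 6, 7, 0, 1, 0, 7, 0, 0, 7, 0, 0, 0, 0, 0, 0, 1, 0, 0, 0, 0, 0, 0, 1, 1, 1, 0, 2, 0, 1, 0, 0, 0, 0, 0, 0, 1, 7, 0, 7, 0, 2],
    [0, 0, 0, 0, 0, 0, 0, 0, 0, 0, 7, 7, 0, 0, 0, 0, 0, 0, 0, 0, 0, 0, 0, 0, 0, 0, 0, 0, 0, 0, 0, 0, 0, 7, 0, 0, 0, 0, 0, 7, 0, 0, 0, 0, 0, 1, 0, 0, 0, 7, 7, 0, 0, 0, 7, 1, 0, 1, 1, 0, 0, 0, 0, 7, 1, 0, 1, 0, 0, 0, 0, 0, 0, 0, 1, 0, 1, 0, 1, 1, 0, 0, 0, 1, 7, 1, 0, 7, 1, 1, 7, 0, 1, 0, 0, 1, 7, 1, 0, 7, 0, 1, 7, 7, 7, 3, 0, 0, 1, 7, 1, 0, 0, 0, 0, 7, 1, 0, 0, 7],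
    [0, 0, 0, 0, 0, 0, 0, 0, 0, 0, 0, 0, 0, 1, 1, 0, 0, 0, 0, 0, 0, 0, 0, 0, 0, 0, 0, 0, 0, 0, 0, 0, 0, 0, 0, 0, 0, 0, 0, 0, 0, 0, 0, 0, 0, 0, 0, 0, 0, 0, 0, 0, 0, 0, 0, 0, 0, 0, 0, 0, 0, 0, 0, 0, 0, 1, 0, 0, 0, 0, 0, 0, 0, 0, 0, 1, 0, 0, 0, 0, 0, 0, 0, 0, 0, 0, 1, 0, 0, 0, 0, 0, 0, 0, 0, 0, 0, 0, 1, 0, 0, 0, 0, 0, 1, 0, 0, 0, 0, 0, 0, 0, 0, 0, 0, 0, 0, 1, 1, 1],
    [0, 0, 0, 0, 0, 0, 0, 0, 7, 0, 0, 0, 0, 7, 0, 0, 0, 0, 0, 0, 0, 0, 0, 0, 0, 6, 0, 0, 0, 0, 0, 0, 0, 0, 0, 0, 0, 0, 0, 0, 0, 0, 0, 0, 0, 0, 0, 0, 7, 0, 0, 0, 0, 0, 0, 0, 0, 0, 0, 0, 1, 0, 0, 0, 0, 0, 0, 0, 6, 0, 1, 0, 0, 0, 0, 0, 0, 0, 6, 0, 0, 1, 0, 0, 0, 0, 0, 0, 0, 6, 0, 0, 0, 1, 0, 0, 0, 0, 7, 0, 0, 6, 0, 0, 0, 1, 0, 0, 0, 0, 0, 0, 0, 0, 7, 0, 0, 0, 0, 7],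
    [0, 0, 0, 0, 0, 0, 1, 1, 7, 0, 0, 0, 3, 2, 4, 0, 0, 0, 0, 0, 0, 0, 0, 0, 0, 6, 0, 1, 0, 1, 0, 0, 0, 0, 1, 0, 0, 0, 0, 0, 1, 7, 1, 7, 0, 0, 0, 1, 1, 0, 1, 0, 0, 0, 0, 0, 1, 1, 2, 7, 0, 0, 0, 0, 0, 1, 1, 0, 7, 0, 0, 0, 0, 0, 0, 0, 1, 0, 1, 0, 1, 0, 0, 0, 0, 1, 0, 0, 1, 1, 1, 3, 4, 7, 0, 0, 0, 1, 0, 1, 0, 7, 1, 2, 1, 0, 0, 0, 0, 0, 0, 7, 0, 1, 7, 3, 7, 2, 2, 7],
    [0, 0, 0, 0, 0, 0, 7, 7, 7, 6, 0, 0, 4, 6, 1, 0, 0, 0, 0, 0, 0, 0, 0, 0, 0, 0, 6, 0, 0, 0, 0, 0, 0, 0, 0, 7, 0, 0, 0, 0, 0, 7, 7, 0, 0, 0, 0, 0, 0, 0, 7, 0, 0, 0, 0, 0, 7, 7, 6, 7, 0, 1, 0, 0, 0, 0, 6, 6, 6, 4, 0, 1, 0, 0, 0, 0, 6, 6, 6, 4, 0, 0, 1, 0, 0, 0, 7, 6, 6, 6, 4, 6, 7, 0, 1, 0, 0, 0, 0, 6, 7, 6, 3, 6, 6, 2, 0, 0, 0, 0, 0, 0, 0, 7, 0, 3, 5, 3, 0, 4],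
    [0, 0, 0, 0, 0, 0, 7, 7, 7, 6, 7, 7, 4, 5, 2, 0, 0, 0, 0, 0, 0, 0, 0, 0, 0, 0, 6, 0, 0, 0, 0, 7, 0, 0, 0, 7, 0, 7, 0, 0, 0, 0, 7, 0, 0, 0, 0, 0, 7, 0, 0, 0, 7, 0, 0, 0, 0, 7, 7, 7, 0, 0, 0, 0, 0, 7, 6, 7, 0, 7, 0, 0, 0, 0, 0, 0, 0, 7, 7, 6, 7, 0, 7, 0, 0, 0, 0, 0, 0, 0, 5, 4, 6, 0, 0, 0, 0, 0, 7, 6, 7, 7, 6, 6, 7, 5, 0, 0, 0, 0, 0, 0, 0, 6, 7, 7, 1, 4, 5, 3],
    [0, 0, 0, 0, 0, 0, 7, 7, 6, 6, 0, 0, 3, 4, 3, 0, 0, 0, 0, 0, 0, 0, 0, 0, 0, 0, 0, 7, 0, 7, 1, 0, 7, 0, 0, 7, 1, 0, 7, 0, 0, 7, 7, 0, 7, 7, 0, 0, 1, 7, 0, 1, 0, 7, 0, 7, 0, 0, 7, 5, 0, 0, 7, 0, 7, 1, 7, 0, 6, 6, 0, 0, 7, 0, 7, 0, 0, 0, 0, 6, 0, 1, 0, 7, 0, 7, 1, 6, 6, 5, 6, 7, 7, 0, 7, 7, 0, 0, 0, 6, 7, 6, 3, 7, 0, 1, 0, 0, 7, 0, 7, 0, 1, 7, 7, 6, 0, 3, 0, 7]]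

/-- Part of the certificate. -/
def densePart5 : List (List ℕ) := [
    [0, 0, 0, 0, 0, 0, 7, 7, 6, 7, 0, 0, 4, 6, 3, 0, 0, 0, 0, 0, 0, 0, 0, 0, 0, 0, 0, 6, 0, 0, 0, 0, 0, 0, 0, 7, 0, 0, 0, 0, 0, 7, 7, 0, 0, 0, 0, 0, 7, 7, 6, 0, 0, 0, 0, 0, 0, 0, 7, 7, 0, 0, 1, 0, 0, 0, 6, 6, 4, 6, 0, 0, 1, 0, 0, 0, 6, 6, 4, 6, 0, 0, 0, 1, 0, 0, 7, 6, 6, 5, 5, 6, 7, 0, 0, 1, 0, 0, 7, 7, 6, 4, 6, 6, 7, 3, 0, 0, 0, 0, 0, 0, 0, 6, 6, 6, 5, 4, 1, 5],
    [0, 0, 0, 0, 0, 0, 7, 7, 5, 6, 0, 0, 1, 4, 7, 0, 0, 0, 0, 0, 0, 0, 0, 0, 0, 0, 0, 6, 0, 0, 0, 0, 7, 0, 0, 7, 0, 0, 7, 0, 0, 7, 7, 0, 0, 7, 0, 0, 7, 7, 5, 0, 0, 0, 0, 0, 0, 0, 6, 6, 0, 0, 0, 0, 0, 7, 6, 6, 4, 6, 0, 0, 0, 0, 0, 0, 0, 0, 0, 0, 0, 0, 0, 7, 0, 0, 0, 7, 6, 5, 5, 5, 0, 0, 0, 7, 0, 0, 0, 7, 0, 3, 0, 6, 0, 2, 0, 0, 0, 0, 0, 7, 0, 6, 3, 6, 5, 0, 6, 3],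
    [0, 0, 0, 0, 0, 0, 0, 0, 1, 1, 1, 1, 3, 2, 4, 0, 0, 0, 0, 0, 0, 0, 0, 0, 0, 0, 0, 0, 0, 0, 1, 0, 0, 0, 0, 0, 1, 0, 0, 0, 0, 1, 1, 1, 0, 7, 0, 0, 0, 0, 1, 0, 0, 0, 0, 0, 1, 0, 1, 1, 0, 0, 0, 0, 0, 0, 0, 1, 1, 0, 0, 0, 0, 0, 0, 0, 0, 0, 1, 0, 1, 1, 0, 0, 0, 0, 0, 1, 1, 0, 2, 0, 1, 1, 0, 7, 0, 0, 0, 1, 0, 1, 1, 2, 2, 5, 0, 0, 0, 0, 0, 1, 1, 0, 2, 7, 3, 2, 5, 6],
    [0, 0, 0, 0, 0, 0, 0, 0, 0, 0, 1, 1, 7, 1, 0, 0, 0, 0, 0, 0, 0, 0, 0, 0, 0, 0, 0, 0, 0, 0, 0, 1, 7, 0, 0, 0, 0, 1, 7, 0, 0, 1, 0, 0, 1, 0, 0, 0, 1, 7, 7, 0, 0, 7, 0, 0, 1, 1, 7, 0, 0, 0, 0, 0, 0, 0, 0, 1, 2, 1, 0, 0, 0, 0, 0, 0, 0, 1, 2, 1, 1, 0, 1, 7, 0, 0, 0, 1, 5, 1, 0, 2, 2, 0, 1, 0, 0, 0, 0, 1, 0, 7, 7, 1, 1, 6, 0, 0, 0, 0, 0, 1, 2, 6, 4, 7, 3, 2, 7, 1],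
    [0, 0, 0, 0, 0, 0, 0, 0, 0, 0, 7, 7, 0, 6, 7, 0, 0, 0, 0, 0, 0, 0, 0, 0, 0, 0, 0, 0, 6, 0, 0, 0, 0, 0, 0, 0, 0, 0, 0, 0, 0, 0, 0, 0, 0, 0, 0, 0, 0, 0, 0, 0, 0, 0, 0, 0, 0, 0, 0, 0, 0, 0, 0, 1, 0, 7, 0, 0, 0, 0, 0, 0, 0, 1, 0, 7, 0, 0, 0, 0, 7, 0, 0, 0, 1, 0, 7, 0, 0, 0, 0, 7, 0, 0, 0, 0, 1, 0, 7, 0, 0, 0, 0, 7, 0, 7, 0, 0, 0, 0, 0, 7, 0, 0, 0, 0, 7, 6, 7, 7],
    [0, 0, 0, 0, 0, 0, 0, 0, 0, 0, 7, 7, 6, 6, 5, 0, 0, 0, 0, 0, 0, 0, 0, 0, 0, 0, 0, 0, 6, 0, 0, 0, 0, 0, 0, 0, 0, 0, 0, 0, 0, 0, 0, 0, 0, 0, 0, 0, 0, 0, 0, 0, 0, 0, 0, 0, 0, 0, 0, 0, 0, 0, 0, 7, 0, 7, 0, 0, 0, 0, 0, 0, 0, 7, 0, 7, 0, 0, 0, 0, 7, 0, 0, 0, 7, 0, 7, 0, 0, 0, 0, 7, 6, 0, 0, 0, 7, 0, 7, 0, 0, 0, 0, 7, 6, 7, 0, 0, 0, 7, 0, 7, 0, 0, 0, 0, 7, 6, 5, 5],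
    [0, 0, 0, 0, 0, 0, 0, 0, 1, 1, 0, 0, 0, 3, 4, 0, 0, 0, 0, 0, 0, 0, 0, 0, 0, 0, 0, 0, 0, 0, 0, 0, 0, 0, 0, 1, 0, 0, 0, 0, 0, 1, 0, 0, 0, 0, 7, 0, 1, 7, 0, 0, 0, 0, 0, 0, 1, 0, 1, 2, 1, 0, 0, 0, 0, 1, 7, 7, 7, 7, 1, 0, 0, 0, 0, 1, 7, 7, 7, 7, 0, 1, 0, 0, 0, 0, 1, 0, 7, 0, 2, 7, 7, 1, 0, 0, 7, 0, 0, 0, 0, 1, 0, 1, 0, 1, 1, 0, 0, 0, 0, 1, 0, 1, 1, 1, 2, 2, 2, 5],
    [0, 0, 0, 0, 0, 0, 0, 0, 0, 0, 7, 7, 1, 0, 0, 0, 0, 0, 0, 0, 0, 0, 0, 0, 0, 0, 0, 0, 0, 0, 0, 0, 0, 7, 0, 0, 0, 0, 0, 7, 0, 0, 0, 0, 0, 0, 0, 0, 0, 0, 0, 0, 0, 0, 7, 0, 1, 1, 1, 0, 0, 1, 0, 0, 0, 0, 7, 0, 0, 6, 0, 1, 0, 0, 0, 0, 7, 0, 0, 6, 7, 0, 1, 0, 7, 0, 0, 7, 0, 0, 6, 7, 6, 0, 1, 0, 0, 0, 0, 0, 1, 0, 1, 0, 0, 3, 0, 1, 0, 0, 0, 0, 0, 0, 0, 0, 6, 6, 7, 2]]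

/-- Part of the certificate. -/
def densePart6 : List (List ℕ) := [
    [0, 0, 0, 0, 0, 0, 0, 0, 0, 0, 7, 7, 1, 2, 3, 0, 0, 0, 0, 0, 0, 0, 0, 0, 0, 0, 0, 0, 0, 0, 0, 0, 0, 7, 0, 0, 0, 0, 0, 7, 0, 0, 0, 0, 0, 0, 7, 0, 0, 0, 0, 0, 0, 0, 0, 0, 1, 1, 1, 1, 0, 0, 1, 0, 0, 1, 0, 1, 0, 7, 0, 0, 1, 0, 0, 1, 0, 1, 0, 7, 7, 0, 0, 1, 7, 0, 1, 0, 7, 0, 7, 7, 0, 0, 0, 1, 7, 0, 1, 7, 0, 0, 7, 0, 6, 2, 0, 0, 1, 0, 0, 1, 7, 1, 0, 0, 3, 2, 1, 1],
    [0, 0, 0, 0, 0, 0, 7, 7, 7, 6, 7, 7, 5, 4, 2, 0, 0, 0, 0, 0, 0, 0, 0, 0, 0, 0, 0, 0, 0, 6, 0, 0, 0, 0, 0, 7, 0, 0, 0, 0, 0, 7, 7, 0, 0, 0, 0, 0, 0, 0, 7, 0, 0, 0, 0, 0, 7, 7, 6, 7, 0, 0, 0, 0, 1, 7, 7, 7, 6, 5, 0, 0, 0, 0, 1, 7, 7, 7, 6, 5, 7, 0, 0, 0, 0, 1, 0, 7, 5, 6, 5, 0, 1, 0, 0, 0, 0, 1, 7, 7, 6, 6, 4, 7, 0, 4, 0, 0, 0, 0, 0, 0, 0, 7, 0, 4, 4, 5, 3, 4],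
    [0, 0, 0, 0, 0, 0, 7, 7, 0, 7, 7, 7, 5, 5, 4, 0, 0, 0, 0, 0, 0, 0, 0, 0, 0, 0, 0, 0, 0, 6, 0, 0, 0, 0, 7, 0, 0, 0, 0, 0, 7, 0, 7, 0, 0, 0, 0, 0, 0, 0, 0, 0, 0, 0, 0, 7, 0, 7, 7, 0, 0, 0, 0, 0, 7, 0, 7, 7, 0, 7, 0, 0, 0, 0, 7, 0, 7, 7, 0, 7, 7, 0, 0, 0, 0, 0, 0, 0, 7, 0, 7, 5, 6, 0, 0, 0, 0, 7, 0, 7, 7, 0, 6, 5, 5, 5, 0, 0, 0, 0, 0, 0, 0, 0, 0, 5, 6, 6, 4, 7],
    [0, 0, 0, 0, 0, 0, 0, 0, 1, 1, 1, 1, 2, 3, 1, 0, 0, 0, 0, 0, 0, 0, 0, 0, 0, 0, 0, 0, 0, 0, 1, 0, 0, 0, 0, 0, 1, 0, 0, 0, 0, 1, 1, 0, 0, 0, 0, 7, 1, 1, 7, 1, 0, 0, 0, 0, 1, 0, 0, 7, 1, 0, 0, 0, 0, 0, 0, 0, 6, 0, 1, 0, 0, 0, 0, 1, 1, 0, 0, 0, 2, 0, 0, 0, 0, 0, 0, 1, 0, 4, 1, 2, 3, 1, 0, 0, 0, 7, 0, 1, 0, 7, 0, 2, 4, 2, 0, 0, 0, 0, 0, 0, 0, 0, 0, 2, 0, 0, 5, 3],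
    [0, 0, 0, 0, 0, 0, 0, 0, 1, 1, 1, 1, 3, 1, 4, 0, 0, 0, 0, 0, 0, 0, 0, 0, 0, 0, 0, 0, 0, 0, 0, 1, 0, 0, 7, 1, 0, 1, 0, 0, 7, 0, 0, 0, 0, 0, 0, 0, 0, 2, 2, 0, 1, 0, 0, 7, 1, 0, 0, 1, 0, 1, 0, 0, 0, 1, 0, 0, 0, 7, 0, 1, 0, 0, 0, 0, 6, 0, 1, 0, 0, 0, 0, 0, 0, 7, 1, 2, 1, 3, 1, 0, 7, 0, 1, 0, 0, 0, 0, 6, 0, 2, 0, 1, 1, 3, 0, 0, 0, 0, 0, 0, 1, 2, 2, 0, 2, 3, 4, 2],
    [0, 0, 0, 0, 0, 0, 0, 0, 2, 2, 0, 0, 2, 3, 5, 0, 0, 0, 0, 0, 0, 0, 0, 0, 0, 0, 0, 0, 0, 0, 0, 0, 1, 0, 7, 1, 0, 0, 1, 0, 7, 1, 0, 0, 0, 0, 0, 7, 0, 0, 0, 0, 0, 1, 0, 0, 1, 0, 0, 2, 0, 0, 1, 0, 0, 1, 0, 0, 2, 2, 0, 0, 1, 0, 0, 0, 6, 6, 7, 7, 7, 0, 0, 0, 0, 7, 1, 1, 1, 0, 3, 1, 7, 0, 0, 1, 0, 7, 1, 7, 0, 2, 2, 0, 6, 4, 0, 0, 0, 0, 0, 1, 2, 1, 1, 3, 2, 3, 1, 6],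
    [0, 0, 0, 0, 0, 0, 0, 0, 0, 0, 1, 1, 2, 1, 3, 0, 0, 0, 0, 0, 0, 0, 0, 0, 0, 0, 0, 0, 0, 0, 0, 0, 0, 1, 0, 0, 0, 0, 0, 1, 0, 0, 0, 0, 0, 0, 0, 0, 1, 1, 1, 0, 0, 0, 1, 0, 0, 0, 0, 7, 0, 0, 0, 1, 7, 0, 1, 0, 0, 1, 0, 0, 0, 1, 7, 0, 1, 0, 0, 1, 1, 0, 0, 0, 0, 7, 1, 0, 1, 0, 0, 4, 2, 0, 0, 0, 1, 7, 1, 1, 0, 0, 0, 0, 0, 7, 0, 0, 0, 0, 7, 1, 0, 1, 0, 1, 1, 0, 2],
    [0, 0, 0, 0, 0, 0, 0, 0, 0, 0, 0, 0, 0, 0, 0, 0, 0, 0, 0, 0, 0, 0, 0, 0, 0, 0, 0, 0, 0, 0, 0, 0, 0, 0, 0, 0, 0, 0, 0, 0, 0, 0, 0, 0, 0, 0, 0, 0, 0, 0, 0, 0, 0, 0, 0, 0, 0, 0, 0, 0, 0, 0, 0, 0, 0, 0, 0, 0, 0, 0, 0, 0, 0, 0, 0, 0, 0, 0, 0, 0, 0, 0, 0, 0, 0, 0, 0, 1]]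

/-- Part of the certificate. -/
def densePart7 : List (List ℕ) := [
    [0, 0, 0, 0, 0, 0, 0, 0, 7, 7, 7, 0, 6, 0, 7, 0, 0, 0, 0, 0, 0, 0, 0, 0, 0, 0, 0, 0, 0, 0, 6, 0, 0, 0, 0, 0, 0, 0, 0, 0, 0, 0, 0, 0, 0, 0, 0, 0, 0, 7, 0, 0, 0, 0, 0, 0, 0, 7, 0, 7, 0, 0, 0, 0, 0, 0, 7, 0, 7, 7, 0, 0, 0, 0, 0, 0, 0, 0, 0, 0, 0, 1, 0, 0, 0, 0, 0, 7, 0, 7, 0, 7, 0, 0, 0, 0, 0, 0, 0, 0, 0, 0, 0, 0, 0, 0, 0, 0, 0, 0, 0, 0, 0, 0, 7, 0, 4, 0, 6],
    [0, 0, 0, 0, 0, 0, 0, 0, 0, 0, 6, 7, 7, 1, 1, 0, 0, 0, 0, 0, 0, 0, 0, 0, 0, 0, 0, 0, 0, 0, 6, 0, 1, 0, 1, 1, 0, 0, 0, 0, 0, 0, 7, 7, 0, 0, 0, 1, 1, 0, 0, 7, 0, 0, 0, 1, 1, 0, 0, 0, 7, 0, 0, 0, 0, 0, 0, 0, 7, 0, 0, 0, 0, 0, 0, 0, 7, 0, 6, 7, 5, 7, 0, 0, 0, 1, 0, 0, 0, 0, 7, 5, 6, 0, 0, 0, 0, 0, 0, 7, 0, 1, 1, 6, 6, 7, 0, 0, 0, 0, 0, 1, 7, 0, 1, 0, 6, 5, 7, 6],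
    [0, 0, 0, 0, 0, 0, 0, 0, 0, 0, 7, 7, 7, 0, 0, 0, 0, 0, 0, 0, 0, 0, 0, 0, 0, 0, 0, 0, 0, 0, 0, 6, 0, 0, 0, 0, 0, 0, 0, 0, 0, 0, 0, 0, 0, 0, 0, 0, 0, 0, 0, 0, 0, 0, 0, 0, 0, 0, 0, 0, 0, 0, 0, 0, 0, 0, 7, 0, 0, 0, 0, 0, 0, 0, 0, 0, 7, 0, 0, 0, 7, 0, 1, 0, 0, 0, 0, 7, 0, 0, 0, 7, 7],
    [0, 0, 0, 0, 0, 0, 0, 0, 0, 0, 7, 7, 6, 0, 0, 0, 0, 0, 0, 0, 0, 0, 0, 0, 0, 0, 0, 0, 0, 0, 0, 6, 0, 0, 0, 0, 0, 0, 0, 0, 0, 0, 0, 0, 0, 0, 0, 0, 0, 7, 0, 0, 0, 0, 0, 0, 0, 0, 0, 0, 0, 7, 0, 0, 0, 0, 7, 0, 0, 0, 0, 7, 0, 0, 0, 0, 0, 0, 0, 0, 7, 0, 7, 0, 0, 0, 0, 0, 0, 0, 0, 0, 0, 0, 0, 0, 0, 0, 0, 7, 0, 0, 0, 6, 6, 5],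
    [0, 0, 0, 0, 0, 0, 0, 0, 7, 7, 7, 7, 6, 6, 5, 0, 0, 0, 0, 0, 0, 0, 0, 0, 0, 0, 0, 0, 0, 0, 0, 0, 7, 0, 7, 7, 0, 0, 0, 0, 0, 0, 0, 0, 7, 7, 0, 0, 0, 1, 0, 0, 7, 7, 0, 0, 0, 0, 0, 6, 1, 7, 0, 0, 0, 0, 1, 0, 0, 1, 1, 0, 7, 0, 7, 7, 0, 0, 6, 0, 5, 1, 7, 7, 0, 0, 7, 1, 0, 5, 7, 6, 5, 0, 0, 7, 0, 7, 0, 0, 0, 7, 0, 6, 6, 5, 0, 0, 7, 0, 0, 0, 0, 0, 0, 7, 6, 6, 1, 5],
    [0, 0, 0, 0, 0, 0, 0, 0, 7, 7, 0, 0, 6, 0, 7, 0, 0, 0, 0, 0, 0, 0, 0, 0, 0, 0, 0, 0, 0, 0, 0, 0, 6, 0, 0, 0, 0, 0, 0, 0, 0, 0, 0, 0, 0, 0, 0, 0, 0, 7, 0, 0, 0, 0, 0, 0, 0, 7, 0, 7, 0, 0, 0, 0, 0, 0, 0, 0, 0, 0, 0, 0, 0, 0, 0, 0, 0, 0, 0, 0, 0, 0, 0, 1, 0, 0, 0, 7, 0, 7, 0, 0, 0, 0, 0, 0, 0, 0, 0, 0, 0, 0, 0, 0, 0, 0, 0, 0, 0, 0, 0, 0, 0, 0, 7, 0, 0, 0, 6],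
    [0, 0, 0, 0, 0, 0, 0, 0, 7, 7, 0, 0, 5, 7, 6, 0, 0, 0, 0, 0, 0, 0, 0, 0, 0, 0, 0, 0, 0, 0, 0, 0, 6, 0, 0, 0, 0, 0, 0, 0, 0, 0, 7, 0, 0, 7, 0, 0, 0, 7, 0, 0, 0, 7, 0, 0, 0, 0, 0, 7, 0, 0, 0, 0, 0, 0, 7, 0, 6, 6, 0, 0, 0, 0, 0, 0, 0, 0, 0, 0, 0, 0, 0, 7, 0, 0, 0, 0, 0, 0, 6, 0, 0, 0, 0, 0, 0, 0, 0, 0, 0, 5, 6, 7, 0, 4, 0, 0, 0, 0, 0, 0, 7, 0, 7, 7, 5, 0, 5, 6],
    [0, 0, 0, 0, 0, 0, 0, 0, 0, 0, 1, 1, 0, 0, 0, 0, 0, 0, 0, 0, 0, 0, 0, 0, 0, 0, 0, 0, 0, 0, 0, 0, 0, 0, 0, 0, 0, 0, 0, 0, 0, 0, 1, 1, 0, 7, 0, 0, 0, 0, 0, 1, 0, 7, 0, 0, 0, 1, 0, 0, 0, 0, 7, 0, 0, 0, 0, 7, 1, 7, 0, 0, 0, 0, 0, 0, 0, 0, 0, 1, 1, 1, 0, 7, 0, 0, 0, 0, 7, 0, 0, 0, 1, 0, 0, 0, 0, 0, 0, 0, 0, 2, 2, 1, 1, 2, 0, 0, 0, 0, 0, 0, 1, 0, 2, 0, 3, 2, 0, 3]]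

/-- Part of the certificate. -/
def densePart8 : List (List ℕ) := [
    [0, 0, 0, 0, 0, 0, 0, 0, 0, 0, 1, 1, 0, 0, 7, 0, 0, 0, 0, 0, 0, 0, 0, 0, 0, 0, 0, 0, 0, 0, 0, 0, 0, 0, 0, 0, 0, 0, 0, 0, 0, 0, 1, 0, 1, 0, 0, 0, 0, 1, 7, 0, 1, 0, 0, 0, 0, 1, 7, 0, 0, 0, 7, 0, 0, 0, 0, 7, 0, 7, 0, 0, 7, 0, 0, 0, 0, 7, 0, 7, 1, 0, 1, 7, 0, 0, 0, 0, 7, 0, 6, 0, 1, 0, 0, 0, 0, 0, 0, 0, 0, 2, 2, 3, 2, 3, 0, 0, 0, 0, 0, 0, 1, 0, 1, 0, 1, 7, 6, 2],
    [0, 0, 0, 0, 0, 0, 0, 0, 0, 0, 7, 7, 0, 7, 7, 0, 0, 0, 0, 0, 0, 0, 0, 0, 0, 0, 0, 0, 0, 0, 0, 0, 0, 6, 0, 0, 0, 0, 0, 0, 0, 0, 0, 0, 0, 0, 0, 0, 0, 0, 0, 0, 0, 0, 0, 0, 0, 0, 0, 0, 0, 0, 0, 0, 0, 0, 7, 0, 0, 0, 0, 0, 0, 0, 0, 0, 7, 0, 0, 0, 7, 0, 0, 0, 1, 0, 0, 0, 0, 0, 0, 6, 6, 0, 0, 0, 0, 0, 0, 7, 0, 0, 0, 7, 7, 0, 0, 0, 0, 0, 0, 0, 7, 0, 0, 0, 7, 7, 0, 7],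
    [0, 0, 0, 0, 0, 0, 0, 0, 0, 0, 7, 7, 7, 7, 6, 0, 0, 0, 0, 0, 0, 0, 0, 0, 0, 0, 0, 0, 0, 0, 0, 0, 0, 6, 0, 0, 0, 0, 0, 0, 0, 0, 0, 0, 0, 0, 0, 0, 0, 0, 0, 0, 0, 0, 0, 0, 0, 0, 0, 0, 0, 0, 0, 7, 0, 0, 7, 0, 0, 0, 0, 0, 0, 7, 0, 0, 7, 0, 0, 0, 7, 0, 0, 0, 0, 0, 0, 7, 0, 0, 0, 6, 7, 0, 0, 0, 7, 0, 0, 7, 0, 0, 0, 7, 7, 0, 0, 0, 0, 7, 0, 0, 7, 0, 0, 0, 7, 7, 0, 6],
    [0, 0, 0, 0, 0, 0, 0, 0, 0, 0, 0, 0, 6, 1, 7, 0, 0, 0, 0, 0, 0, 0, 0, 0, 0, 0, 0, 0, 0, 0, 0, 0, 0, 0, 0, 0, 0, 0, 0, 0, 0, 0, 1, 0, 0, 0, 7, 0, 0, 0, 7, 0, 0, 0, 7, 0, 0, 0, 7, 0, 1, 0, 0, 7, 0, 0, 1, 0, 0, 0, 1, 0, 0, 0, 0, 0, 0, 7, 7, 7, 0, 0, 0, 0, 7, 0, 0, 1, 0, 7, 7, 0, 6, 1, 0, 0, 0, 0, 0, 7, 7, 0, 0, 1, 1, 7, 1, 0, 0, 0, 0, 0, 1, 7, 0, 7, 3, 7, 7, 1],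
    [0, 0, 0, 0, 0, 0, 0, 0, 0, 0, 0, 0, 0, 0, 0, 0, 0, 0, 0, 0, 0, 0, 0, 0, 0, 0, 0, 0, 0, 0, 0, 0, 0, 0, 0, 0, 0, 0, 0, 0, 0, 0, 0, 0, 0, 0, 0, 0, 0, 0, 0, 0, 0, 0, 0, 0, 0, 1, 0, 0, 0, 1, 0, 7, 0, 0, 0, 0, 0, 0, 0, 1, 0, 7, 0, 0, 0, 0, 0, 0, 0, 0, 0, 0, 7, 0, 0, 0, 0, 0, 7, 1, 1, 0, 1, 0, 0, 0, 0, 0, 0, 0, 7, 7, 7, 5, 0, 1, 0, 0, 0, 0, 0, 0, 0, 0, 1, 1, 0, 1],
    [0, 0, 0, 0, 0, 0, 0, 0, 0, 0, 0, 0, 0, 1, 1, 0, 0, 0, 0, 0, 0, 0, 0, 0, 0, 0, 0, 0, 0, 0, 0, 0, 0, 0, 0, 0, 0, 0, 0, 0, 0, 0, 0, 0, 0, 0, 7, 0, 0, 0, 0, 0, 0, 0, 7, 0, 0, 1, 0, 1, 0, 0, 1, 0, 0, 0, 1, 0, 0, 7, 0, 0, 1, 0, 0, 0, 1, 0, 0, 7, 0, 0, 0, 0, 7, 0, 0, 1, 0, 0, 6, 1, 0, 0, 0, 1, 0, 0, 0, 1, 0, 0, 7, 0, 7, 6, 0, 0, 1, 0, 0, 0, 1, 0, 7, 0, 1, 2, 5, 3],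
    [0, 0, 0, 0, 0, 0, 0, 0, 0, 0, 0, 0, 7, 7, 0, 0, 0, 0, 0, 0, 0, 0, 0, 0, 0, 0, 0, 0, 0, 0, 0, 0, 0, 0, 6, 0, 0, 0, 0, 0, 0, 0, 0, 0, 0, 0, 0, 0, 0, 0, 0, 0, 0, 0, 0, 0, 0, 0, 0, 0, 0, 0, 0, 0, 0, 0, 0, 0, 0, 0, 0, 0, 0, 0, 0, 0, 0, 0, 0, 0, 0, 0, 0, 0, 0, 1, 0, 7, 0, 0, 0, 0, 0, 0, 0, 0, 0, 0, 0, 7, 0, 0, 0, 0, 0, 7],
    [0, 0, 0, 0, 0, 0, 0, 0, 0, 0, 0, 0, 7, 7, 0, 0, 0, 0, 0, 0, 0, 0, 0, 0, 0, 0, 0, 0, 0, 0, 0, 0, 0, 0, 6, 0, 0, 0, 0, 0, 0, 0, 0, 0, 0, 0, 0, 0, 0, 0, 0, 0, 0, 0, 0, 0, 0, 0, 0, 0, 0, 0, 0, 0, 0, 0, 0, 0, 0, 0, 0, 0, 0, 0, 0, 0, 0, 0, 0, 0, 0, 0, 0, 0, 0, 7, 0, 0, 0, 0, 0, 0, 0, 0, 0, 0, 0, 7, 0, 0, 0, 0, 0, 0, 0, 7]]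

/-- Part of the certificate. -/
def densePart9 : List (List ℕ) := [
    [0, 0, 0, 0, 0, 0, 0, 0, 0, 0, 0, 0, 0, 0, 7, 0, 0, 0, 0, 0, 0, 0, 0, 0, 0, 0, 0, 0, 0, 0, 0, 0, 0, 0, 0, 0, 0, 0, 0, 0, 0, 0, 1, 0, 0, 0, 0, 7, 0, 1, 7, 0, 0, 0, 0, 7, 0, 1, 7, 0, 0, 0, 0, 0, 7, 0, 0, 7, 7, 7, 0, 0, 0, 0, 0, 0, 1, 0, 1, 1, 1, 1, 0, 0, 0, 7, 0, 0, 7, 0, 6, 0, 0, 1, 0, 0, 0, 0, 0, 0, 0, 1, 1, 1, 1, 4, 0, 0, 0, 0, 0, 0, 0, 0, 0, 1, 5, 1, 7, 3],
    [0, 0, 0, 0, 0, 0, 0, 0, 0, 0, 0, 0, 0, 0, 0, 0, 0, 0, 0, 0, 0, 0, 0, 0, 0, 0, 0, 0, 0, 0, 0, 0, 0, 0, 0, 0, 0, 0, 0, 0, 0, 0, 0, 0, 0, 0, 0, 0, 0, 0, 0, 0, 0, 0, 0, 0, 0, 1, 0, 0, 0, 0, 0, 0, 7, 0, 0, 0, 0, 7, 0, 0, 0, 0, 7, 0, 7, 0, 0, 7, 7, 0, 1, 0, 0, 7, 0, 0, 0, 0, 1, 7, 0, 0, 1, 0, 0, 0, 0, 7, 0, 0, 7, 6, 7, 5, 0, 0, 0, 0, 0, 0, 7, 0, 0, 7, 1, 0, 1, 1],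
    [0, 0, 0, 0, 0, 0, 0, 0, 0, 0, 0, 0, 7, 0, 0, 0, 0, 0, 0, 0, 0, 0, 0, 0, 0, 0, 0, 0, 0, 0, 0, 0, 0, 0, 0, 0, 0, 0, 0, 0, 0, 0, 1, 0, 0, 0, 0, 7, 0, 7, 7, 0, 0, 0, 0, 7, 0, 0, 7, 1, 0, 0, 0, 0, 0, 0, 1, 0, 1, 1, 0, 0, 0, 0, 0, 0, 0, 0, 0, 0, 0, 0, 0, 1, 0, 7, 0, 1, 0, 6, 5, 0, 0, 0, 0, 1, 0, 0, 0, 1, 0, 7, 0, 1, 0, 2, 0, 0, 0, 0, 0, 0, 0, 0, 1, 0, 1, 0, 7, 7],
    [0, 0, 0, 0, 0, 0, 0, 0, 0, 0, 0, 0, 0, 0, 0, 0, 0, 0, 0, 0, 0, 0, 0, 0, 0, 0, 0, 0, 0, 0, 0, 0, 0, 0, 0, 0, 0, 0, 0, 0, 0, 0, 0, 0, 0, 0, 0, 0, 0, 1, 0, 0, 0, 0, 0, 0, 0, 0, 0, 0, 0, 0, 0, 0, 7, 0, 0, 0, 7, 0, 0, 0, 0, 0, 7, 0, 0, 0, 7, 0, 0, 0, 0, 0, 1, 0, 0, 1, 0, 0, 0, 7, 0, 0, 0, 0, 1, 7, 0, 1, 0, 0, 0, 0, 0, 7, 0, 0, 0, 0, 7, 0, 1, 0, 0, 0, 1],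
    [0, 0, 0, 0, 0, 0, 0, 0, 7, 7, 0, 0, 7, 0, 6, 0, 0, 0, 0, 0, 0, 0, 0, 0, 0, 0, 0, 0, 0, 0, 0, 0, 0, 0, 0, 6, 0, 0, 0, 0, 0, 0, 0, 0, 0, 0, 0, 0, 0, 7, 0, 0, 0, 0, 0, 0, 0, 7, 0, 7, 0, 0, 0, 0, 0, 0, 0, 0, 0, 0, 0, 0, 0, 0, 0, 0, 0, 0, 0, 0, 0, 0, 0, 0, 0, 0, 1, 0, 0, 6, 7, 0, 0, 0, 0, 0, 0, 0, 0, 0, 0, 0, 0, 0, 0, 0, 0, 0, 0, 0, 0, 0, 7, 0, 0, 7, 0, 0, 6],
    [0, 0, 0, 0, 0, 0, 0, 0, 7, 7, 0, 0, 0, 7, 5, 0, 0, 0, 0, 0, 0, 0, 0, 0, 0, 0, 0, 0, 0, 0, 0, 0, 0, 0, 0, 6, 0, 0, 0, 0, 0, 0, 0, 0, 0, 0, 0, 0, 7, 0, 0, 0, 0, 0, 0, 0, 7, 0, 0, 7, 0, 0, 0, 0, 0, 0, 7, 0, 6, 6, 0, 0, 0, 0, 0, 0, 7, 0, 6, 6, 0, 0, 0, 0, 0, 0, 0, 7, 0, 6, 6, 0, 0, 0, 0, 0, 0, 0, 0, 7, 0, 6, 7, 0, 0, 0, 0, 0, 0, 0, 0, 7, 0, 0, 7, 7, 6, 6, 6, 7],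
    [0, 0, 0, 0, 0, 0, 0, 0, 0, 0, 1, 1, 1, 7, 6, 0, 0, 0, 0, 0, 0, 0, 0, 0, 0, 0, 0, 0, 0, 0, 0, 0, 0, 0, 0, 0, 0, 0, 0, 0, 0, 0, 0, 1, 0, 0, 0, 0, 7, 1, 0, 1, 0, 0, 0, 0, 7, 0, 0, 0, 0, 0, 0, 0, 0, 7, 0, 0, 0, 0, 0, 0, 0, 0, 0, 0, 0, 0, 0, 1, 1, 0, 0, 0, 0, 0, 7, 0, 0, 0, 2, 2, 1, 0, 0, 0, 0, 0, 0, 1, 0, 1, 0, 2, 1, 1, 1, 0, 0, 0, 0, 0, 0, 0, 6, 0, 1, 2, 2, 7],
    [0, 0, 0, 0, 0, 0, 0, 0, 0, 0, 1, 1, 7, 0, 7, 0, 0, 0, 0, 0, 0, 0, 0, 0, 0, 0, 0, 0, 0, 0, 0, 0, 0, 0, 0, 0, 0, 0, 0, 0, 0, 0, 1, 0, 1, 0, 0, 0, 0, 7, 7, 0, 1, 0, 0, 0, 0, 0, 7, 1, 0, 0, 0, 0, 0, 7, 7, 7, 1, 7, 0, 0, 0, 0, 0, 7, 7, 7, 1, 7, 1, 0, 0, 0, 0, 0, 7, 0, 1, 0, 0, 1, 1, 0, 0, 0, 0, 0, 0, 0, 0, 1, 2, 3, 2, 3, 0, 1, 0, 0, 0, 0, 7, 0, 0, 0, 7, 7, 1, 1]]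

/-- Part of the certificate. -/
def densePart10 : List (List ℕ) := [
    [0, 0, 0, 0, 0, 0, 0, 0, 0, 0, 0, 0, 2, 0, 7, 0, 0, 0, 0, 0, 0, 0, 0, 0, 0, 0, 0, 0, 0, 0, 0, 0, 0, 0, 0, 0, 0, 0, 0, 0, 0, 0, 1, 0, 0, 1, 0, 0, 7, 1, 0, 0, 0, 1, 0, 0, 7, 0, 0, 0, 0, 0, 0, 0, 0, 0, 0, 0, 0, 0, 0, 0, 0, 0, 0, 0, 0, 0, 0, 0, 0, 0, 0, 0, 0, 0, 7, 0, 1, 1, 0, 0, 0, 0, 0, 0, 0, 0, 0, 1, 0, 1, 7, 0, 0, 2, 0, 0, 1, 0, 0, 0, 0, 0, 2, 0, 0, 0, 4, 1],
    [0, 0, 0, 0, 0, 0, 0, 0, 0, 0, 0, 0, 1, 7, 0, 0, 0, 0, 0, 0, 0, 0, 0, 0, 0, 0, 0, 0, 0, 0, 0, 0, 0, 0, 0, 0, 0, 0, 0, 0, 0, 0, 0, 0, 0, 0, 1, 0, 0, 0, 0, 0, 0, 0, 1, 0, 0, 0, 0, 0, 0, 0, 0, 0, 0, 7, 1, 0, 0, 0, 0, 0, 0, 0, 0, 7, 1, 0, 0, 0, 0, 0, 0, 0, 0, 0, 0, 1, 0, 1, 0, 1, 1, 0, 0, 0, 0, 0, 7, 1, 0, 0, 0, 0, 7, 7, 0, 0, 0, 1, 0, 7, 1, 0, 0, 0, 7, 0, 7, 7],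
    [0, 0, 0, 0, 0, 0, 0, 0, 0, 0, 0, 0, 7, 1, 0, 0, 0, 0, 0, 0, 0, 0, 0, 0, 0, 0, 0, 0, 0, 0, 0, 0, 0, 0, 0, 0, 0, 0, 0, 0, 0, 0, 1, 0, 0, 0, 0, 1, 0, 7, 7, 0, 0, 0, 0, 1, 0, 0, 7, 1, 0, 0, 0, 0, 0, 0, 1, 0, 1, 1, 0, 0, 0, 0, 0, 0, 1, 0, 1, 1, 0, 0, 0, 0, 0, 0, 7, 7, 1, 7, 7, 1, 1, 0, 0, 0, 0, 0, 7, 0, 7, 1, 1, 0, 0, 1, 0, 0, 0, 0, 1, 0, 0, 7, 0, 0, 2, 2, 6],
    [0, 0, 0, 0, 0, 0, 0, 0, 0, 0, 0, 0, 0, 0, 0, 0, 0, 0, 0, 0, 0, 0, 0, 0, 0, 0, 0, 0, 0, 0, 0, 0, 0, 0, 0, 0, 0, 0, 0, 0, 0, 0, 0, 0, 0, 0, 0, 0, 0, 0, 0, 0, 0, 0, 0, 0, 0, 0, 0, 0, 0, 0, 0, 0, 0, 0, 0, 0, 0, 0, 0, 0, 0, 0, 0, 0, 0, 0, 0, 0, 0, 0, 0, 0, 0, 0, 0, 0, 0, 0, 0, 0, 0, 0, 0, 0, 0, 0, 0, 0, 1, 0, 0, 0, 0, 0, 0, 0, 0, 0, 0, 0, 0, 1],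
    [0, 0, 0, 0, 0, 0, 0, 0, 0, 0, 0, 7, 7, 0, 0, 0, 0, 0, 0, 0, 0, 0, 0, 0, 0, 0, 0, 0, 0, 0, 0, 0, 0, 0, 0, 0, 6, 0, 0, 0, 0, 0, 0, 0, 0, 0, 0, 0, 0, 0, 0, 0, 0, 0, 0, 0, 0, 0, 0, 0, 0, 0, 0, 0, 0, 0, 0, 0, 0, 0, 0, 0, 0, 0, 0, 0, 0, 7, 0, 0, 0, 0, 0, 0, 0, 0, 0, 0, 7, 0, 0, 0, 7, 1, 0, 0, 0, 0, 0, 0, 0, 0, 0, 0, 6, 6, 1, 0, 0, 0, 0, 0, 0, 0, 0, 0, 0, 6, 6],
    [0, 0, 0, 0, 0, 0, 0, 0, 1, 1, 0, 7, 0, 2, 3, 0, 0, 0, 0, 0, 0, 0, 0, 0, 0, 0, 0, 0, 0, 0, 0, 0, 0, 0, 0, 0, 6, 0, 1, 0, 1, 1, 0, 0, 0, 0, 0, 1, 1, 0, 0, 0, 0, 0, 0, 1, 1, 0, 0, 1, 0, 0, 0, 0, 0, 0, 0, 0, 0, 0, 7, 0, 0, 0, 0, 0, 0, 7, 0, 0, 0, 7, 0, 0, 0, 1, 1, 0, 0, 1, 1, 0, 7, 0, 0, 0, 0, 1, 0, 0, 0, 1, 0, 0, 7, 1, 0, 0, 0, 0, 1, 0, 0, 0, 0, 0, 0, 7, 3, 4],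
    [0, 0, 0, 0, 0, 0, 0, 0, 7, 7, 0, 0, 6, 7, 6, 0, 0, 0, 0, 0, 0, 0, 0, 0, 0, 0, 0, 0, 0, 0, 0, 0, 0, 0, 0, 0, 0, 6, 0, 0, 0, 0, 0, 0, 0, 0, 0, 0, 0, 0, 7, 0, 0, 0, 0, 0, 0, 0, 7, 7, 0, 0, 0, 0, 0, 0, 0, 0, 0, 0, 0, 0, 0, 0, 0, 0, 0, 0, 0, 0, 0, 0, 0, 0, 0, 0, 0, 0, 7, 7, 6, 0, 0, 0, 1, 0, 0, 0, 0, 0, 7, 7, 7, 0, 0, 5, 0, 1, 0, 0, 0, 0, 0, 0, 6, 0, 0, 0, 3, 6],
    [0, 0, 0, 0, 0, 0, 0, 0, 7, 7, 7, 7, 7, 7, 6, 0, 0, 0, 0, 0, 0, 0, 0, 0, 0, 0, 0, 0, 0, 0, 0, 0, 0, 0, 0, 0, 0, 6, 0, 0, 0, 0, 1, 0, 7, 0, 0, 0, 0, 0, 7, 0, 7, 0, 0, 0, 0, 0, 0, 7, 0, 0, 0, 0, 0, 0, 0, 7, 6, 7, 0, 0, 0, 0, 0, 0, 0, 0, 0, 7, 7, 0, 7, 0, 0, 0, 0, 0, 0, 0, 7, 0, 0, 0, 7, 0, 0, 0, 0, 0, 7, 0, 7, 1, 0, 6, 0, 0, 0, 0, 0, 0, 0, 0, 1, 7, 6, 6, 7]]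

/-- Part of the certificate. -/
def densePart11 : List (List ℕ) := [
    [0, 0, 0, 0, 0, 0, 0, 0, 7, 7, 1, 1, 7, 6, 7, 0, 0, 0, 0, 0, 0, 0, 0, 0, 0, 0, 0, 0, 0, 0, 0, 0, 0, 0, 0, 0, 0, 0, 7, 0, 7, 7, 0, 1, 0, 7, 0, 0, 0, 0, 1, 1, 0, 7, 0, 0, 0, 0, 0, 6, 0, 0, 0, 0, 0, 0, 0, 1, 1, 0, 0, 7, 7, 0, 7, 7, 0, 0, 0, 0, 0, 1, 7, 0, 0, 7, 7, 0, 1, 0, 0, 2, 6, 1, 0, 7, 0, 0, 0, 0, 0, 7, 0, 1, 7, 6, 0, 0, 0, 0, 7, 7, 0, 0, 7, 0, 0, 6, 5, 4],
    [0, 0, 0, 0, 0, 0, 0, 0, 7, 7, 0, 0, 6, 7, 5, 0, 0, 0, 0, 0, 0, 0, 0, 0, 0, 0, 0, 0, 0, 0, 0, 0, 0, 0, 0, 0, 0, 0, 6, 0, 0, 0, 0, 0, 0, 0, 0, 0, 0, 0, 7, 0, 0, 0, 0, 0, 0, 0, 7, 7, 0, 0, 0, 0, 0, 0, 0, 0, 0, 0, 0, 0, 0, 0, 0, 0, 0, 0, 0, 0, 0, 0, 0, 0, 0, 0, 0, 0, 7, 7, 6, 0, 0, 0, 0, 1, 0, 0, 0, 0, 7, 7, 7, 0, 0, 5, 0, 0, 1, 0, 0, 0, 0, 7, 7, 7, 0, 0, 4, 7],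
    [0, 0, 0, 0, 0, 0, 0, 0, 7, 7, 0, 0, 6, 7, 5, 0, 0, 0, 0, 0, 0, 0, 0, 0, 0, 0, 0, 0, 0, 0, 0, 0, 0, 0, 0, 0, 0, 0, 6, 0, 0, 0, 1, 0, 0, 7, 0, 0, 0, 0, 7, 0, 0, 7, 0, 0, 0, 0, 0, 7, 0, 0, 0, 0, 0, 0, 0, 7, 6, 6, 0, 0, 0, 0, 0, 0, 0, 0, 0, 0, 0, 0, 0, 7, 0, 0, 0, 0, 1, 0, 6, 0, 0, 0, 0, 7, 0, 0, 0, 0, 1, 6, 7, 7, 0, 6, 0, 0, 7, 0, 0, 0, 0, 0, 6, 0, 6, 0, 5],
    [0, 0, 0, 0, 0, 0, 0, 0, 0, 0, 1, 1, 0, 0, 0, 0, 0, 0, 0, 0, 0, 0, 0, 0, 0, 0, 0, 0, 0, 0, 0, 0, 0, 0, 0, 0, 0, 0, 0, 0, 0, 0, 0, 1, 0, 0, 0, 0, 0, 0, 7, 1, 0, 0, 0, 0, 0, 0, 0, 1, 0, 0, 0, 0, 0, 0, 0, 0, 0, 1, 0, 0, 7, 0, 0, 0, 0, 7, 1, 7, 1, 1, 0, 7, 0, 0, 0, 0, 0, 0, 0, 1, 1, 1, 0, 0, 0, 0, 0, 0, 0, 0, 7, 1, 0, 1, 1, 0, 0, 0, 0, 0, 0, 1, 0, 0, 2, 0, 2, 7],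
    [0, 0, 0, 0, 0, 0, 0, 0, 0, 0, 7, 7, 0, 0, 7, 0, 0, 0, 0, 0, 0, 0, 0, 0, 0, 0, 0, 0, 0, 0, 0, 0, 0, 0, 0, 0, 0, 0, 0, 6, 0, 0, 0, 0, 0, 0, 0, 0, 0, 0, 0, 0, 0, 0, 0, 0, 0, 0, 0, 0, 0, 0, 0, 0, 0, 0, 0, 7, 0, 0, 0, 0, 0, 0, 0, 0, 0, 7, 0, 0, 7, 0, 0, 0, 0, 0, 0, 0, 0, 0, 0, 0, 0, 0, 0, 0, 1, 0, 0, 0, 0, 0, 0, 6, 6, 0, 0, 0, 0, 1, 0, 0, 0, 7, 0, 0, 6, 7],
    [0, 0, 0, 0, 0, 0, 0, 0, 0, 0, 7, 7, 7, 0, 6, 0, 0, 0, 0, 0, 0, 0, 0, 0, 0, 0, 0, 0, 0, 0, 0, 0, 0, 0, 0, 0, 0, 0, 0, 6, 0, 0, 0, 0, 0, 0, 0, 0, 0, 0, 0, 0, 0, 0, 0, 0, 0, 0, 0, 0, 0, 0, 0, 7, 0, 0, 0, 7, 0, 0, 0, 0, 0, 7, 0, 0, 0, 7, 0, 0, 7, 0, 0, 0, 0, 0, 0, 0, 7, 0, 0, 6, 7, 0, 0, 0, 0, 0, 0, 0, 7, 0, 0, 6, 6, 6, 0, 0, 0, 7, 0, 0, 0, 7, 0, 0, 7, 6, 5, 7],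
    [0, 0, 0, 0, 0, 0, 0, 0, 0, 0, 0, 0, 7, 0, 0, 0, 0, 0, 0, 0, 0, 0, 0, 0, 0, 0, 0, 0, 0, 0, 0, 0, 0, 0, 0, 0, 0, 0, 0, 0, 0, 0, 0, 0, 0, 0, 0, 0, 0, 0, 0, 0, 0, 0, 0, 0, 0, 0, 0, 1, 0, 0, 0, 7, 0, 0, 0, 0, 0, 7, 0, 0, 0, 7, 0, 0, 0, 0, 0, 7, 0, 0, 1, 0, 0, 0, 0, 0, 0, 0, 7, 7, 0, 0, 0, 0, 0, 0, 0, 0, 0, 0, 0, 0, 0, 0, 0, 0, 0, 0, 0, 0, 0, 0, 0, 7, 1, 1, 1],
    [0, 0, 0, 0, 0, 0, 0, 0, 0, 0, 0, 0, 7, 0, 7, 0, 0, 0, 0, 0, 0, 0, 0, 0, 0, 0, 0, 0, 0, 0, 0, 0, 0, 0, 0, 0, 0, 0, 0, 0, 0, 0, 0, 0, 0, 0, 0, 0, 0, 0, 7, 0, 0, 0, 0, 0, 0, 0, 0, 1, 0, 0, 0, 0, 7, 0, 0, 7, 7, 7, 0, 0, 0, 0, 7, 0, 0, 7, 0, 7, 1, 0, 0, 0, 0, 7, 0, 0, 0, 7, 7, 7, 5, 0, 0, 0, 0, 7, 0, 0, 7, 7, 7, 0, 7, 0, 0, 0, 0, 0, 0, 0, 0, 7, 7, 7]]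

/-- Part of the certificate. -/
def densePart12 : List (List ℕ) := [
    [0, 0, 0, 0, 0, 0, 0, 0, 2, 2, 1, 1, 3, 2, 6, 0, 0, 0, 0, 0, 0, 1, 1, 0, 0, 0, 0, 0, 0, 7, 0, 0, 0, 0, 0, 1, 0, 1, 0, 0, 0, 1, 0, 0, 1, 0, 0, 0, 0, 0, 1, 0, 1, 0, 0, 7, 1, 0, 2, 2, 0, 0, 0, 0, 0, 1, 0, 1, 2, 1, 0, 1, 0, 0, 0, 1, 0, 0, 0, 1, 1, 7, 1, 0, 0, 0, 2, 0, 1, 1, 2, 4, 4, 7, 1, 0, 0, 0, 7, 0, 0, 1, 0, 2, 3, 0, 0, 1, 0, 0, 0, 0, 0, 1, 1, 4, 3, 2, 2, 1],
    [7, 7, 7, 0, 0, 6, 4, 4, 1, 0, 3, 5, 0, 3, 4, 7, 0, 7, 0, 0, 0, 0, 7, 7, 0, 7, 6, 7, 0, 7, 0, 0, 0, 0, 6, 6, 0, 6, 7, 0, 6, 5, 4, 0, 7, 0, 0, 5, 3, 4, 3, 7, 0, 0, 0, 7, 5, 4, 3, 6, 0, 7, 7, 0, 6, 5, 4, 2, 1, 0, 0, 7, 7, 0, 7, 6, 7, 7, 3, 4, 3, 7, 0, 7, 0, 0, 6, 6, 1, 6, 3, 2, 0, 7, 7, 7, 0, 0, 4, 3, 2, 3, 3, 1, 3, 1, 0, 7, 0, 0, 5, 3, 0, 3, 2, 4, 3, 7, 5, 7, 0, 6],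
    [0, 0, 0, 0, 0, 0, 7, 7, 0, 7, 7, 0, 5, 7, 5, 0, 0, 0, 0, 0, 0, 0, 0, 0, 0, 0, 0, 0, 0, 0, 0, 0, 0, 0, 0, 0, 0, 0, 0, 0, 0, 0, 7, 0, 0, 0, 0, 0, 0, 7, 7, 0, 0, 0, 0, 0, 0, 7, 7, 7, 0, 0, 0, 0, 0, 0, 7, 7, 7, 7, 0, 0, 0, 0, 0, 0, 0, 0, 0, 0, 0, 0, 0, 0, 0, 0, 0, 0, 7, 0, 6, 0, 0, 0, 0, 0, 0, 0, 0, 0, 7, 6, 6, 6, 0, 4, 0, 0, 0, 0, 0, 0, 0, 0, 7, 6, 5, 0, 5, 0, 0, 0, 0, 6],
    [0, 0, 0, 0, 7, 0, 0, 0, 0, 0, 0, 1, 7, 0, 7, 0, 0, 0, 0, 0, 0, 0, 0, 0, 0, 0, 0, 0, 0, 0, 0, 0, 0, 0, 0, 0, 0, 0, 0, 0, 0, 0, 0, 0, 0, 0, 0, 0, 0, 0, 0, 0, 0, 0, 0, 0, 0, 0, 0, 0, 0, 0, 0, 0, 0, 0, 0, 0, 0, 0, 0, 0, 0, 0, 0, 0, 0, 0, 0, 0, 0, 0, 0, 0, 0, 7, 0, 0, 0, 0, 0, 0, 0, 0, 0, 0, 0, 0, 0, 0, 0, 0, 0, 0, 0, 0, 0, 0, 0, 0, 7, 0, 0, 0, 0, 0, 0, 0, 7, 0, 0, 0, 0, 0, 6],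
    [7, 7, 7, 0, 7, 6, 4, 4, 1, 0, 3, 4, 1, 3, 5, 7, 0, 7, 0, 0, 0, 0, 7, 7, 0, 7, 6, 7, 0, 7, 0, 0, 0, 0, 6, 6, 0, 6, 7, 0, 6, 5, 4, 0, 7, 0, 0, 5, 3, 4, 3, 7, 0, 0, 0, 7, 5, 4, 3, 6, 0, 7, 7, 0, 6, 5, 4, 2, 1, 0, 7, 6, 7, 0, 7, 7, 7, 7, 3, 3, 3, 7, 0, 7, 0, 0, 6, 6, 1, 6, 3, 2, 7, 7, 6, 7, 0, 0, 5, 3, 2, 3, 3, 1, 1, 2, 0, 7, 0, 0, 5, 3, 0, 3, 2, 4, 3, 4, 6, 5, 0, 0, 0, 0, 0, 6],
    [0, 0, 0, 7, 0, 0, 0, 7, 7, 6, 5, 5, 7, 2, 4, 0, 0, 0, 7, 7, 0, 0, 0, 0, 0, 0, 0, 0, 7, 0, 0, 7, 0, 6, 0, 6, 7, 0, 0, 7, 0, 1, 6, 0, 1, 0, 5, 0, 0, 7, 7, 7, 0, 0, 7, 0, 5, 0, 0, 1, 0, 7, 0, 6, 0, 1, 7, 7, 3, 3, 1, 7, 0, 7, 0, 5, 5, 6, 3, 4, 5, 7, 1, 0, 0, 0, 6, 7, 6, 7, 3, 4, 6, 7, 7, 0, 6, 0, 7, 5, 0, 1, 1, 5, 4, 1, 7, 0, 0, 6, 0, 7, 6, 5, 3, 2, 6, 1, 3, 0, 0, 0, 0, 0, 0, 0, 0, 0, 0, 0, 0, 0, 0, 0, 0, 6, 0, 0, 0, 0, 0, 0, 0, 1],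
    [0, 0, 1, 1, 1, 0, 2, 2, 3, 6, 5, 4, 7, 5, 2, 0, 1, 1, 1, 1, 1, 7, 7, 1, 7, 0, 0, 7, 7, 1, 7, 0, 1, 3, 1, 2, 1, 0, 1, 2, 0, 2, 6, 0, 0, 1, 4, 1, 0, 7, 5, 0, 1, 1, 0, 3, 0, 3, 3, 5, 0, 1, 2, 1, 3, 0, 7, 5, 2, 0, 7, 1, 1, 1, 0, 3, 6, 7, 6, 2, 4, 0, 0, 2, 0, 1, 5, 2, 6, 1, 2, 4, 5, 1, 1, 1, 1, 0, 0, 6, 7, 7, 3, 4, 6, 5, 0, 1, 0, 3, 3, 7, 5, 1, 0, 2, 3, 2, 7, 0, 0, 0, 0, 0, 0, 0, 0, 0, 0, 0, 0, 0, 0, 0, 0, 0, 0, 0, 0, 1, 1, 1, 1],
    [0, 0, 1, 1, 1, 0, 5, 3, 2, 3, 5, 3, 1, 1, 4, 0, 7, 7, 0, 0, 2, 7, 7, 1, 7, 0, 0, 3, 2, 3, 7, 1, 2, 0, 1, 0, 0, 0, 1, 6, 2, 7, 2, 0, 0, 0, 7, 0, 1, 2, 7, 0, 1, 2, 7, 2, 2, 7, 5, 7, 7, 1, 1, 0, 0, 4, 5, 5, 5, 5, 0, 0, 0, 1, 6, 4, 2, 5, 2, 3, 4, 0, 7, 3, 1, 7, 5, 0, 6, 5, 5, 6, 6, 0, 0, 2, 1, 0, 5, 3, 1, 6, 7, 2, 7, 3, 7, 1, 2, 7, 0, 6, 7, 3, 6, 0, 5, 7, 6, 0, 0, 0, 0, 0, 0, 0, 0, 0, 0, 0, 0, 0, 0, 0, 0, 0, 0, 0, 0, 1, 0, 1, 1, 0, 1,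 1]]

/-- Part of the certificate. -/
def densePart13 : List (List ℕ) := [
    [0, 0, 0, 0, 0, 0, 1, 1, 3, 4, 2, 2, 6, 6, 4, 0, 0, 0, 1, 1, 0, 0, 0, 0, 7, 0, 0, 0, 7, 0, 0, 1, 0, 0, 0, 2, 1, 2, 0, 0, 7, 1, 4, 7, 1, 0, 1, 7, 0, 7, 7, 0, 2, 0, 0, 1, 1, 1, 1, 4, 0, 1, 0, 1, 0, 0, 0, 4, 0, 4, 0, 2, 0, 1, 6, 3, 1, 1, 2, 1, 2, 0, 7, 0, 7, 0, 7, 6, 2, 0, 4, 1, 4, 1, 0, 0, 1, 6, 7, 2, 0, 6, 7, 0, 4, 1, 1, 7, 0, 0, 0, 7, 2, 0, 0, 4, 3, 5, 6, 6, 0, 0, 0, 0, 0, 0, 0, 0, 0, 0, 0, 0, 0, 0, 0, 0, 0, 0, 0, 0, 0, 0, 0, 0, 1, 1],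
    [0, 0, 0, 0, 0, 0, 1, 0, 1, 1, 0, 0, 6, 5, 2, 0, 7, 7, 0, 0, 1, 7, 7, 0, 7, 0, 0, 1, 0, 1, 0, 0, 0, 0, 1, 1, 1, 1, 1, 7, 6, 0, 1, 7, 0, 0, 0, 7, 7, 6, 3, 7, 1, 1, 0, 7, 1, 2, 3, 2, 7, 1, 0, 7, 1, 1, 2, 5, 4, 5, 1, 7, 0, 7, 1, 2, 0, 2, 1, 3, 6, 0, 0, 1, 0, 1, 2, 1, 2, 0, 7, 1, 1, 0, 0, 1, 0, 1, 1, 1, 7, 0, 3, 0, 0, 2, 0, 1, 1, 0, 7, 2, 0, 2, 7, 3, 2, 2, 4, 1, 0, 0, 0, 0, 0, 0, 0, 0, 0, 0, 0, 0, 0, 0, 0, 0, 0, 0, 0, 0, 0, 0, 0, 0, 1, 1],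
    [0, 0, 0, 0, 0, 0, 0, 0, 0, 0, 0, 0, 7, 0, 7, 0, 0, 0, 0, 0, 0, 0, 0, 0, 0, 0, 0, 0, 0, 0, 0, 0, 0, 0, 0, 0, 0, 0, 0, 0, 0, 0, 0, 0, 0, 0, 7, 0, 0, 0, 7, 0, 0, 0, 0, 0, 0, 0, 0, 1, 0, 0, 0, 0, 0, 0, 0, 0, 0, 0, 0, 0, 0, 0, 0, 0, 0, 0, 7, 0, 0, 0, 0, 0, 0, 0, 7, 0, 7, 1, 0, 0, 0, 0, 0, 0, 7, 0, 0, 0, 0, 1, 0, 0, 0, 7, 0, 0, 0, 0, 0, 7, 0, 7, 1, 0, 0, 1, 7, 2, 0, 0, 0, 0, 0, 0, 0, 0, 0, 0, 0, 0, 0, 0, 0, 0, 0, 0, 0, 0, 0, 0, 0, 0, 0, 1],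
    [0, 0, 0, 0, 0, 0, 0, 0, 6, 6, 0, 0, 5, 0, 6, 0, 0, 0, 7, 7, 0, 0, 0, 0, 0, 0, 0, 0, 1, 0, 7, 0, 0, 0, 0, 0, 0, 7, 0, 0, 0, 7, 1, 0, 0, 0, 7, 0, 7, 7, 0, 0, 0, 0, 0, 0, 0, 0, 7, 5, 0, 0, 0, 0, 0, 1, 1, 0, 7, 2, 0, 1, 0, 7, 0, 0, 1, 7, 7, 7, 7, 0, 0, 0, 0, 0, 1, 7, 7, 4, 5, 7, 0, 0, 7, 0, 0, 0, 2, 1, 0, 4, 3, 0, 7, 3, 7, 0, 0, 1, 0, 2, 7, 7, 4, 7, 1, 0, 1, 1, 0, 0, 0, 0, 0, 0, 0, 0, 0, 0, 0, 0, 0, 0, 0, 0, 0, 0, 0, 0, 0, 0, 0, 1, 0, 1],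
    [7, 7, 1, 1, 7, 6, 5, 5, 3, 1, 6, 4, 5, 1, 5, 7, 0, 7, 0, 0, 1, 7, 6, 0, 2, 7, 6, 7, 0, 6, 7, 7, 0, 2, 6, 6, 7, 6, 0, 1, 6, 5, 4, 0, 0, 0, 3, 4, 4, 2, 1, 7, 7, 0, 1, 0, 3, 5, 4, 7, 0, 0, 7, 3, 6, 6, 4, 5, 4, 0, 7, 6, 0, 0, 0, 0, 0, 6, 3, 1, 7, 7, 0, 0, 0, 3, 4, 6, 1, 4, 5, 0, 0, 0, 6, 7, 0, 6, 7, 4, 4, 5, 0, 0, 5, 7, 7, 7, 0, 1, 7, 3, 2, 3, 3, 3, 4, 3, 2, 4, 0, 0, 0, 0, 0, 0, 0, 0, 0, 0, 0, 0, 0, 0, 0, 0, 6, 0, 0, 1, 0, 1, 1, 1, 0, 1],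
    [0, 0, 0, 0, 0, 0, 1, 0, 1, 0, 0, 7, 5, 4, 5, 0, 7, 7, 7, 7, 1, 7, 7, 1, 1, 0, 0, 1, 1, 1, 7, 0, 1, 1, 7, 0, 7, 0, 2, 6, 7, 0, 7, 0, 7, 0, 0, 6, 1, 2, 1, 0, 0, 1, 6, 7, 0, 2, 3, 2, 7, 0, 0, 1, 6, 0, 2, 2, 2, 6, 7, 7, 2, 1, 6, 7, 7, 7, 6, 2, 7, 0, 7, 1, 1, 6, 1, 0, 2, 0, 1, 7, 1, 0, 0, 0, 0, 7, 1, 1, 3, 0, 0, 4, 4, 0, 7, 0, 1, 7, 7, 1, 0, 1, 2, 6, 4, 5, 4, 1, 0, 0, 0, 0, 0, 0, 0, 0, 0, 0, 0, 0, 0, 0, 0, 0, 0, 0, 0, 0, 1, 0, 0, 0, 1],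
    [0, 0, 1, 1, 1, 0, 3, 2, 6, 7, 7, 4, 3, 2, 5, 0, 0, 0, 0, 0, 1, 0, 0, 2, 2, 0, 0, 0, 0, 0, 1, 1, 2, 2, 2, 1, 1, 1, 2, 3, 1, 1, 3, 7, 0, 2, 1, 2, 7, 0, 7, 0, 1, 0, 1, 1, 0, 2, 4, 3, 0, 0, 0, 3, 1, 0, 3, 6, 5, 1, 1, 1, 1, 2, 4, 7, 5, 5, 7, 2, 7, 0, 7, 1, 0, 2, 0, 6, 3, 7, 2, 0, 6, 0, 0, 0, 0, 2, 7, 3, 2, 1, 1, 0, 4, 4, 1, 7, 0, 2, 2, 7, 4, 5, 5, 0, 5, 2, 6, 4, 0, 0, 0, 0, 0, 0, 0, 0, 0, 0, 0, 0, 0, 0, 0, 0, 0, 0, 0, 1, 0, 1, 1, 1],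
    [1, 1, 1, 0, 1, 0, 3, 4, 4, 3, 3, 0, 5, 5, 3, 1, 0, 1, 0, 0, 0, 0, 1, 1, 0, 0, 1, 1, 0, 0, 0, 0, 0, 0, 2, 0, 0, 2, 1, 0, 3, 1, 4, 0, 1, 0, 0, 3, 2, 4, 6, 0, 0, 0, 0, 1, 2, 4, 5, 6, 0, 0, 1, 0, 2, 1, 3, 6, 3, 2, 0, 2, 1, 0, 0, 0, 0, 0, 7, 6, 0, 0, 0, 1, 0, 1, 1, 2, 6, 6, 6, 4, 2, 0, 2, 1, 0, 0, 0, 4, 5, 3, 0, 5, 2, 7, 0, 2, 0, 0, 2, 2, 0, 4, 5, 6, 6, 1, 1, 6, 0, 0, 0, 0, 0, 0, 0, 0, 0, 0, 0, 0, 0, 0, 0, 0, 0, 0, 0, 0, 0, 0, 0, 0, 0, 0, 0, 0, 0, 0, 6, 0, 0, 0, 0, 1, 1, 1, 1, 0, 0, 0, 1]]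

/-- Part of the certificate. -/
def densePart14 : List (List ℕ) := [
    [0, 0, 0, 0, 0, 0, 2, 3, 3, 3, 2, 1, 3, 0, 1, 0, 1, 1, 0, 0, 0, 0, 0, 1, 0, 0, 0, 1, 0, 1, 0, 0, 0, 0, 0, 1, 0, 1, 0, 0, 0, 1, 2, 0, 0, 1, 0, 7, 7, 1, 3, 0, 1, 1, 0, 0, 1, 2, 4, 6, 0, 0, 1, 0, 0, 1, 2, 2, 3, 1, 0, 0, 1, 0, 1, 0, 0, 0, 0, 0, 0, 0, 0, 0, 0, 7, 0, 1, 4, 1, 5, 6, 0, 0, 0, 1, 0, 0, 0, 1, 1, 5, 0, 5, 2, 6, 0, 1, 1, 0, 1, 1, 1, 3, 7, 6, 6, 1, 7, 3, 0, 0, 0, 0, 0, 0, 0, 0, 0, 0, 0, 0, 0, 0, 0, 0, 0, 0, 0, 0, 0, 0, 0, 0, 0, 0, 0, 0, 0, 0, 0, 0, 0, 0, 0, 0, 0, 0, 1, 1, 1, 1, 1],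
    [0, 0, 0, 0, 1, 0, 2, 3, 1, 2, 5, 4, 1, 7, 4, 0, 0, 0, 1, 1, 0, 0, 0, 0, 1, 0, 0, 0, 1, 3, 0, 1, 0, 0, 0, 7, 0, 1, 0, 0, 7, 7, 2, 0, 1, 0, 1, 1, 1, 1, 1, 0, 1, 0, 1, 2, 7, 2, 0, 0, 0, 1, 0, 1, 7, 7, 3, 5, 4, 6, 0, 1, 0, 1, 1, 0, 3, 4, 4, 6, 5, 0, 1, 0, 0, 1, 1, 1, 2, 0, 6, 5, 0, 0, 0, 0, 1, 0, 1, 2, 1, 4, 4, 1, 6, 2, 0, 1, 0, 1, 7, 0, 1, 3, 2, 1, 7, 5, 7, 6, 0, 0, 0, 0, 0, 0, 0, 0, 0, 0, 0, 0, 0, 0, 0, 0, 0, 0, 0, 0, 0, 0, 0, 0, 0, 0, 0, 0, 0, 0, 0, 0, 0, 0, 0, 1, 1, 0, 1, 0, 0, 0, 0, 1],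
    [0, 0, 0, 0, 1, 0, 2, 3, 2, 3, 4, 3, 2, 7, 1, 0, 0, 0, 0, 0, 0, 1, 1, 0, 0, 0, 0, 0, 0, 3, 0, 0, 0, 0, 1, 0, 0, 1, 0, 0, 2, 0, 2, 0, 1, 0, 0, 2, 0, 0, 1, 0, 1, 0, 0, 1, 0, 2, 6, 5, 0, 0, 0, 0, 1, 0, 2, 6, 5, 3, 0, 1, 0, 0, 2, 0, 1, 3, 3, 3, 3, 0, 0, 0, 0, 2, 0, 0, 4, 2, 2, 1, 1, 0, 0, 0, 0, 2, 0, 1, 4, 4, 0, 1, 6, 1, 0, 0, 0, 0, 2, 0, 0, 2, 1, 1, 4, 2, 4, 2, 0, 0, 0, 0, 0, 0, 0, 0, 0, 0, 0, 0, 0, 0, 0, 0, 0, 0, 0, 0, 0, 0, 0, 0, 0, 0, 0, 0, 0, 0, 0, 0, 0, 0, 0, 1, 1, 0, 1, 1, 1, 1, 0, 1],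
    [0, 0, 0, 0, 1, 0, 3, 4, 4, 5, 5, 4, 5, 4, 2, 0, 0, 0, 0, 0, 0, 1, 1, 0, 0, 2, 2, 0, 0, 3, 0, 0, 0, 0, 1, 1, 0, 1, 0, 0, 2, 1, 2, 1, 1, 0, 0, 1, 1, 1, 3, 1, 1, 0, 0, 2, 1, 1, 3, 3, 1, 1, 0, 0, 2, 0, 2, 4, 2, 6, 1, 0, 0, 0, 2, 1, 1, 3, 4, 4, 7, 0, 0, 0, 0, 2, 0, 2, 6, 0, 4, 1, 6, 1, 1, 0, 0, 3, 7, 1, 3, 4, 6, 0, 6, 7, 1, 1, 0, 0, 1, 0, 2, 3, 3, 7, 0, 2, 2, 6, 0, 0, 0, 0, 0, 0, 0, 0, 0, 0, 0, 0, 0, 0, 0, 0, 0, 0, 0, 0, 0, 0, 0, 0, 0, 0, 0, 0, 0, 0, 0, 0, 0, 0, 0, 1, 1, 1, 1, 1, 1, 1, 1, 1],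
    [0, 0, 0, 0, 0, 0, 1, 1, 0, 0, 3, 2, 4, 0, 3, 0, 0, 0, 0, 0, 0, 0, 0, 0, 0, 0, 0, 0, 0, 1, 1, 1, 0, 0, 0, 0, 0, 0, 0, 0, 7, 7, 0, 0, 1, 0, 0, 0, 7, 1, 2, 0, 1, 0, 0, 0, 7, 1, 1, 1, 0, 1, 0, 0, 0, 7, 1, 1, 2, 0, 0, 0, 0, 0, 1, 0, 0, 0, 2, 1, 3, 0, 1, 0, 0, 7, 0, 1, 1, 1, 0, 2, 2, 0, 0, 0, 0, 0, 0, 1, 2, 2, 1, 0, 0, 2, 0, 0, 0, 0, 1, 0, 0, 2, 2, 2, 5, 2, 6, 3, 0, 0, 0, 0, 0, 0, 0, 0, 0, 0, 0, 0, 0, 0, 0, 0, 0, 0, 0, 0, 0, 0, 0, 0, 0, 0, 0, 0, 0, 0, 0, 0, 0, 0, 0, 0, 0, 1, 1, 0, 1, 1, 1, 1],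
    [0, 0, 0, 0, 0, 0, 1, 1, 0, 0, 1, 1, 2, 2, 2, 0, 0, 0, 0, 0, 0, 0, 0, 0, 0, 0, 0, 0, 0, 1, 0, 0, 0, 0, 0, 0, 1, 1, 0, 0, 7, 7, 0, 0, 0, 0, 0, 1, 0, 0, 1, 0, 0, 0, 0, 1, 0, 0, 0, 0, 0, 0, 0, 0, 1, 0, 0, 0, 1, 1, 0, 1, 0, 0, 1, 0, 0, 0, 1, 1, 1, 0, 1, 0, 0, 7, 7, 1, 1, 1, 0, 0, 2, 0, 0, 0, 0, 1, 0, 0, 1, 1, 0, 7, 1, 2, 0, 0, 0, 0, 0, 7, 0, 1, 1, 0, 3, 3, 3, 1, 0, 0, 0, 0, 0, 0, 0, 0, 0, 0, 0, 0, 0, 0, 0, 0, 0, 0, 0, 0, 0, 0, 0, 0, 0, 0, 0, 0, 0, 0, 0, 0, 0, 0, 0, 0, 0, 1, 1, 0, 1, 0, 1],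
    [0, 0, 0, 0, 0, 0, 0, 0, 0, 0, 1, 1, 1, 0, 0, 0, 0, 0, 0, 0, 0, 0, 0, 0, 0, 0, 0, 0, 0, 0, 0, 0, 0, 0, 0, 0, 0, 0, 0, 0, 0, 0, 0, 1, 1, 0, 0, 7, 7, 0, 0, 0, 0, 0, 0, 0, 0, 0, 0, 1, 0, 1, 0, 0, 0, 0, 0, 0, 1, 0, 0, 1, 0, 0, 0, 0, 0, 0, 1, 0, 1, 0, 1, 0, 0, 0, 0, 0, 0, 0, 0, 0, 1, 0, 1, 0, 0, 0, 0, 0, 0, 0, 7, 7, 7, 0, 0, 0, 0, 0, 0, 0, 0, 0, 0, 7, 0, 0, 0, 0, 0, 0, 0, 0, 0, 0, 0, 0, 0, 0, 0, 0, 0, 0, 0, 0, 0, 0, 0, 0, 0, 0, 0, 0, 0, 0, 0, 0, 0, 0, 0, 0, 0, 0, 0, 0, 0, 0, 0, 0, 0, 0, 1],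
    [0, 0, 0, 0, 0, 0, 0, 0, 0, 0, 0, 0, 0, 7, 7, 0, 0, 0, 0, 0, 0, 0, 0, 0, 0, 0, 0, 0, 0, 0, 0, 0, 0, 0, 0, 0, 0, 0, 0, 0, 0, 0, 0, 0, 0, 0, 0, 7, 7, 0, 0, 0, 0, 0, 0, 0, 0, 0, 0, 1, 1, 1, 0, 0, 7, 7, 0, 0, 0, 7, 0, 0, 0, 0, 0, 0, 0, 0, 1, 0, 1, 0, 0, 0, 0, 7, 0, 0, 0, 0, 0, 0, 0, 0, 0, 0, 0, 0, 0, 0, 0, 1, 0, 0, 0, 2, 0, 0, 0, 0, 7, 0, 0, 0, 1, 0, 0, 1, 0, 0, 0, 0, 0, 0, 0, 0, 0, 0, 0, 0, 0, 0, 0, 0, 0, 0, 0, 0, 0, 0, 0, 0, 0, 0, 0, 0, 0, 0, 0, 0, 0, 0, 0, 0, 0, 0, 0, 0, 0, 0, 0, 1]]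

/-- Part of the certificate. -/
def densePart15 : List (List ℕ) := [
    [0, 0, 0, 0, 0, 0, 7, 0, 0, 0, 0, 0, 6, 6, 0, 0, 0, 0, 0, 0, 0, 0, 0, 7, 0, 0, 0, 0, 0, 0, 0, 0, 0, 0, 7, 0, 0, 0, 0, 0, 0, 0, 7, 0, 0, 7, 0, 0, 0, 7, 0, 0, 0, 0, 0, 0, 0, 0, 1, 0, 0, 0, 0, 0, 0, 0, 7, 0, 2, 7, 0, 0, 0, 0, 0, 0, 0, 0, 0, 0, 0, 0, 0, 7, 0, 0, 0, 0, 5, 7, 1, 6, 0, 0, 0, 7, 0, 0, 0, 7, 7, 0, 0, 7, 0, 0, 0, 0, 0, 0, 6, 0, 0, 7, 7, 0, 4, 0, 6, 6, 0, 0, 0, 0, 0, 0, 0, 0, 0, 0, 0, 0, 0, 0, 0, 0, 0, 0, 0, 0, 0, 0, 0, 0, 0, 0, 0, 0, 0, 0, 0, 6, 0, 0, 0, 1, 1, 1, 0, 1, 0, 0, 0, 1],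
    [0, 0, 0, 0, 0, 0, 0, 0, 0, 6, 0, 0, 5, 6, 4, 0, 0, 0, 0, 0, 0, 0, 0, 7, 1, 0, 0, 0, 0, 0, 0, 0, 7, 0, 0, 0, 0, 0, 7, 0, 0, 0, 0, 0, 0, 0, 1, 0, 0, 0, 7, 0, 0, 7, 0, 6, 0, 0, 7, 7, 0, 0, 7, 0, 6, 0, 0, 0, 7, 7, 0, 0, 0, 0, 6, 0, 6, 6, 5, 4, 6, 0, 0, 0, 1, 7, 0, 1, 0, 1, 6, 3, 4, 0, 0, 0, 1, 7, 0, 7, 1, 7, 0, 0, 5, 5, 0, 0, 7, 0, 6, 0, 0, 0, 7, 7, 0, 2, 6, 5, 0, 0, 0, 0, 0, 0, 0, 0, 0, 0, 0, 0, 0, 0, 0, 0, 0, 0, 0, 0, 0, 0, 0, 0, 0, 0, 0, 0, 0, 0, 0, 0, 0, 0, 0, 0, 0, 0, 1, 1, 1, 1, 1, 1],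
    [7, 7, 7, 0, 6, 0, 4, 4, 3, 1, 3, 6, 3, 1, 3, 7, 0, 7, 0, 0, 0, 7, 6, 7, 0, 0, 7, 7, 0, 7, 0, 0, 0, 0, 5, 7, 0, 7, 7, 0, 5, 6, 4, 0, 0, 0, 0, 2, 5, 3, 2, 7, 0, 0, 0, 6, 6, 5, 4, 2, 7, 0, 7, 0, 5, 7, 4, 4, 3, 2, 0, 6, 7, 0, 5, 0, 7, 6, 3, 4, 4, 0, 7, 7, 0, 0, 6, 6, 1, 6, 6, 4, 1, 0, 7, 7, 0, 6, 7, 4, 3, 3, 6, 4, 4, 3, 0, 7, 0, 0, 3, 5, 7, 3, 2, 3, 3, 0, 2, 7, 0, 0, 0, 0, 0, 0, 0, 0, 0, 0, 0, 0, 0, 0, 0, 0, 0, 0, 0, 0, 0, 0, 0, 0, 0, 0, 0, 0, 0, 0, 0, 0, 0, 0, 6, 0, 0, 0, 0, 1, 1, 1, 1],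
    [0, 0, 0, 0, 7, 0, 1, 7, 7, 7, 7, 0, 6, 6, 4, 0, 0, 0, 0, 0, 0, 0, 0, 0, 0, 0, 0, 0, 0, 0, 0, 0, 0, 0, 0, 0, 0, 0, 0, 0, 7, 0, 0, 0, 0, 0, 0, 7, 0, 0, 7, 0, 0, 0, 0, 7, 0, 0, 7, 7, 0, 0, 0, 0, 7, 0, 0, 7, 7, 7, 0, 0, 0, 0, 0, 0, 0, 0, 0, 0, 0, 0, 0, 0, 0, 7, 0, 0, 0, 0, 7, 0, 0, 0, 0, 0, 0, 7, 0, 0, 0, 6, 6, 5, 0, 3, 0, 0, 0, 0, 0, 0, 0, 0, 7, 7, 4, 0, 6, 6, 0, 0, 0, 0, 0, 0, 0, 0, 0, 0, 0, 0, 0, 0, 0, 0, 0, 0, 0, 0, 0, 0, 0, 0, 0, 0, 0, 0, 0, 0, 0, 0, 0, 0, 0, 6, 0, 0, 0, 0, 0, 1],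
    [0, 1, 7, 0, 0, 7, 7, 6, 6, 7, 6, 6, 0, 0, 3, 0, 0, 0, 0, 0, 0, 0, 1, 7, 0, 0, 0, 7, 0, 7, 0, 0, 0, 0, 7, 0, 0, 1, 7, 0, 0, 7, 6, 0, 0, 7, 0, 0, 7, 7, 6, 0, 0, 0, 0, 0, 6, 6, 7, 7, 0, 0, 7, 0, 7, 0, 7, 5, 6, 6, 0, 0, 7, 0, 7, 0, 7, 6, 6, 6, 6, 0, 0, 0, 0, 0, 6, 7, 2, 7, 6, 3, 5, 0, 0, 7, 0, 2, 7, 6, 6, 2, 3, 0, 4, 3, 0, 0, 7, 0, 7, 7, 1, 0, 2, 3, 5, 3, 4, 5, 0, 0, 0, 0, 0, 0, 0, 0, 0, 0, 0, 0, 0, 0, 0, 0, 0, 0, 0, 0, 0, 0, 0, 0, 0, 0, 0, 0, 0, 0, 0, 0, 0, 0, 0, 0, 0, 0, 0, 0, 0, 0, 0, 0, 0, 6],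
    [0, 0, 0, 0, 0, 0, 0, 0, 0, 0, 1, 1, 6, 6, 3, 0, 0, 0, 0, 0, 0, 0, 0, 0, 0, 0, 0, 0, 0, 0, 0, 1, 0, 0, 1, 0, 0, 0, 0, 0, 0, 0, 7, 0, 0, 7, 0, 7, 7, 0, 7, 0, 1, 7, 0, 0, 7, 0, 0, 7, 0, 0, 7, 0, 7, 7, 0, 7, 0, 2, 0, 0, 0, 0, 0, 0, 0, 0, 1, 2, 2, 0, 0, 7, 0, 1, 7, 0, 7, 7, 7, 0, 0, 0, 0, 7, 0, 0, 0, 0, 0, 0, 0, 6, 7, 6, 0, 0, 0, 0, 1, 0, 0, 0, 0, 6, 7, 0, 4],
    [0, 0, 0, 0, 0, 0, 1, 1, 1, 2, 1, 1, 0, 2, 2, 0, 0, 1, 0, 0, 0, 0, 1, 7, 0, 0, 1, 0, 0, 1, 0, 0, 7, 0, 0, 1, 0, 1, 7, 0, 2, 1, 1, 0, 1, 0, 0, 2, 1, 3, 3, 0, 0, 7, 0, 1, 0, 1, 4, 2, 0, 2, 7, 0, 2, 1, 0, 3, 1, 7, 0, 1, 0, 0, 0, 0, 1, 2, 1, 1, 3, 0, 0, 0, 0, 0, 7, 0, 7, 4, 5, 6, 2, 0, 1, 0, 0, 1, 0, 2, 3, 3, 3, 1, 1, 2, 0, 1, 7, 0, 1, 1, 0, 1, 5, 3, 4, 5, 4, 3],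
    [0, 0, 0, 0, 0, 0, 1, 0, 7, 0, 7, 0, 0, 7, 0, 0, 0, 0, 0, 0, 0, 0, 0, 0, 0, 0, 0, 0, 0, 0, 0, 0, 0, 0, 0, 0, 0, 0, 0, 0, 0, 0, 0, 0, 0, 0, 0, 0, 0, 0, 0, 0, 0, 0, 0, 0, 0, 1, 0, 7, 0, 0, 0, 0, 0, 0, 0, 0, 7, 7, 0, 0, 0, 0, 0, 0, 0, 0, 0, 0, 0, 0, 0, 0, 0, 0, 0, 0, 0, 7, 0, 7, 0, 0, 0, 0, 0, 0, 0, 0, 0, 7, 7, 7, 0, 7, 0, 0, 0, 0, 0, 0, 0, 0, 0, 0, 6, 0, 6, 6, 0, 0, 0, 0, 0, 0, 0, 0, 0, 0, 0, 0, 0, 0, 0, 0, 0, 0, 0, 0, 0, 0, 0, 0, 0, 0, 0, 0, 0, 0, 0, 0, 0, 0, 0, 0, 0, 0, 0, 0, 0, 0, 0, 0, 0, 0, 0, 6]]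

/-- Part of the certificate. -/
def densePart16 : List (List ℕ) := [
    [0, 0, 7, 0, 7, 7, 5, 5, 6, 6, 5, 6, 2, 6, 7, 0, 0, 0, 0, 0, 0, 0, 0, 7, 0, 0, 0, 7, 0, 7, 0, 0, 7, 0, 7, 7, 0, 0, 7, 0, 7, 7, 5, 0, 0, 0, 0, 7, 7, 6, 4, 0, 0, 0, 0, 7, 7, 6, 6, 6, 0, 0, 7, 0, 6, 0, 5, 5, 6, 4, 0, 0, 7, 0, 7, 0, 6, 6, 6, 5, 6, 0, 0, 7, 0, 0, 6, 5, 0, 2, 1, 4, 5, 0, 0, 7, 0, 7, 7, 4, 6, 1, 1, 1, 4, 4, 0, 0, 0, 0, 6, 7, 7, 5, 4, 3, 1, 2, 0, 4, 0, 0, 0, 0, 0, 0, 0, 0, 0, 0, 0, 0, 0, 0, 0, 0, 0, 0, 0, 0, 0, 0, 0, 0, 0, 0, 0, 0, 0, 0, 0, 0, 0, 0, 0, 0, 0, 0, 0, 0, 0, 0, 0, 0, 0, 0, 0, 0, 6],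
    [0, 7, 0, 0, 7, 0, 6, 7, 7, 6, 6, 7, 7, 4, 7, 0, 0, 0, 0, 0, 0, 0, 7, 0, 0, 0, 0, 0, 0, 0, 0, 7, 0, 0, 6, 0, 0, 7, 0, 0, 7, 0, 7, 0, 0, 0, 0, 7, 0, 6, 7, 0, 7, 0, 0, 7, 0, 6, 6, 7, 0, 7, 0, 0, 6, 0, 6, 6, 7, 4, 0, 0, 0, 0, 0, 0, 0, 7, 7, 6, 7, 0, 0, 0, 0, 0, 0, 7, 5, 6, 4, 1, 6, 0, 0, 0, 0, 7, 0, 0, 6, 7, 4, 4, 7, 4, 0, 7, 0, 0, 7, 0, 5, 7, 7, 3, 1, 4, 0, 4, 0, 0, 0, 0, 0, 0, 0, 0, 0, 0, 0, 0, 0, 0, 0, 0, 0, 0, 0, 0, 0, 0, 0, 0, 0, 0, 0, 0, 0, 0, 0, 0, 0, 0, 0, 0, 0, 0, 0, 0, 0, 0, 0, 0, 0, 0, 0, 0, 0, 6],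
    [0, 7, 7, 0, 0, 7, 5, 5, 0, 1, 5, 7, 3, 2, 2, 0, 0, 7, 0, 0, 0, 0, 0, 0, 0, 0, 7, 7, 0, 0, 0, 7, 6, 0, 0, 5, 0, 7, 7, 0, 0, 5, 5, 0, 7, 6, 0, 0, 5, 4, 0, 0, 7, 7, 0, 0, 7, 6, 1, 0, 0, 0, 7, 0, 0, 5, 3, 3, 0, 7, 0, 0, 7, 0, 0, 7, 7, 6, 3, 4, 6, 0, 0, 0, 0, 0, 0, 5, 1, 0, 2, 1, 0, 0, 7, 7, 0, 0, 7, 3, 6, 2, 7, 3, 6, 7, 0, 7, 7, 0, 0, 5, 0, 2, 2, 6, 2, 7, 2, 2, 0, 0, 0, 0, 0, 0, 0, 0, 0, 0, 0, 0, 0, 0, 0, 0, 0, 0, 0, 0, 0, 0, 0, 0, 0, 0, 0, 0, 0, 0, 0, 0, 0, 0, 0, 0, 0, 0, 0, 0, 0, 0, 0, 0, 0, 0, 0, 0, 0, 0, 6],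
    [0, 7, 0, 0, 7, 0, 6, 7, 6, 7, 5, 6, 7, 5, 1, 0, 0, 0, 0, 0, 0, 0, 7, 0, 0, 0, 0, 0, 0, 0, 0, 7, 0, 0, 6, 0, 0, 7, 0, 0, 7, 0, 7, 0, 7, 0, 0, 6, 0, 5, 6, 0, 0, 0, 0, 0, 0, 7, 7, 7, 0, 7, 0, 0, 6, 0, 6, 6, 5, 6, 0, 7, 0, 0, 7, 0, 7, 6, 5, 7, 6, 0, 0, 0, 0, 0, 0, 7, 5, 4, 6, 1, 4, 0, 7, 0, 0, 7, 0, 7, 7, 2, 0, 1, 2, 2, 0, 7, 0, 0, 0, 0, 5, 0, 3, 6, 1, 7, 0, 3, 0, 0, 0, 0, 0, 0, 0, 0, 0, 0, 0, 0, 0, 0, 0, 0, 0, 0, 0, 0, 0, 0, 0, 0, 0, 0, 0, 0, 0, 0, 0, 0, 0, 0, 0, 0, 0, 0, 0, 0, 0, 0, 0, 0, 0, 0, 0, 0, 0, 0, 0, 0, 6],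
    [0, 7, 7, 0, 0, 7, 5, 5, 0, 1, 5, 5, 3, 3, 4, 0, 0, 7, 0, 0, 0, 0, 0, 0, 0, 0, 7, 7, 0, 0, 0, 7, 6, 0, 0, 5, 0, 7, 7, 0, 0, 5, 5, 0, 7, 6, 0, 0, 5, 4, 0, 0, 7, 7, 0, 0, 7, 6, 1, 0, 0, 0, 7, 0, 0, 5, 3, 3, 0, 7, 0, 7, 0, 0, 0, 0, 6, 5, 2, 3, 6, 0, 0, 0, 0, 0, 0, 5, 1, 0, 2, 1, 0, 0, 7, 7, 0, 0, 0, 3, 6, 2, 7, 3, 3, 7, 0, 0, 0, 0, 0, 6, 7, 1, 3, 5, 2, 5, 2, 5, 0, 0, 0, 0, 0, 0, 0, 0, 0, 0, 0, 0, 0, 0, 0, 0, 0, 0, 0, 0, 0, 0, 0, 0, 0, 0, 0, 0, 0, 0, 0, 0, 0, 0, 0, 0, 0, 0, 0, 0, 0, 0, 0, 0, 0, 0, 0, 0, 0, 0, 0, 0, 0, 6],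
    [0, 0, 0, 7, 0, 0, 1, 0, 0, 7, 6, 6, 5, 3, 2, 0, 0, 0, 0, 7, 0, 0, 0, 0, 7, 0, 0, 0, 7, 0, 0, 1, 0, 6, 7, 1, 0, 0, 0, 0, 0, 0, 1, 0, 0, 0, 6, 1, 0, 1, 1, 0, 7, 0, 7, 7, 1, 7, 0, 1, 0, 0, 0, 6, 0, 6, 0, 7, 0, 0, 0, 0, 0, 7, 6, 6, 6, 7, 0, 5, 4, 0, 0, 0, 0, 7, 7, 1, 1, 0, 0, 2, 0, 0, 0, 0, 6, 0, 0, 0, 7, 1, 2, 4, 4, 0, 0, 0, 0, 7, 0, 7, 0, 2, 0, 3, 5, 7, 0, 7, 0, 0, 0, 0, 0, 0, 0, 0, 0, 0, 0, 0, 0, 0, 0, 0, 0, 0, 0, 0, 0, 0, 0, 0, 0, 0, 0, 0, 0, 0, 0, 0, 0, 0, 0, 0, 0, 0, 0, 0, 0, 0, 0, 0, 0, 0, 0, 0, 0, 0, 0, 0, 0, 0, 0, 0, 0, 0, 0, 0, 6],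
    [0, 0, 0, 0, 0, 0, 0, 0, 0, 0, 1, 1, 0, 2, 2, 0, 0, 0, 0, 7, 1, 0, 0, 0, 0, 0, 0, 0, 1, 0, 0, 7, 7, 0, 0, 1, 0, 0, 0, 0, 0, 0, 6, 0, 0, 0, 0, 7, 0, 7, 2, 0, 1, 1, 7, 1, 7, 0, 1, 6, 0, 0, 0, 7, 0, 0, 5, 7, 4, 4, 0, 0, 0, 1, 0, 2, 1, 3, 3, 5, 7, 0, 7, 0, 7, 0, 1, 0, 5, 1, 2, 0, 7, 0, 1, 0, 1, 1, 1, 0, 7, 7, 1, 5, 2, 3, 0, 0, 0, 7, 3, 1, 7, 3, 6, 0, 5, 1, 0, 1],
    [0, 0, 0, 7, 0, 0, 7, 0, 7, 0, 5, 5, 0, 6, 2, 0, 0, 0, 0, 0, 7, 0, 0, 0, 7, 0, 0, 0, 0, 0, 0, 0, 7, 6, 7, 0, 0, 0, 0, 6, 0, 0, 7, 0, 0, 0, 6, 0, 0, 6, 0, 0, 0, 1, 0, 0, 0, 7, 0, 0, 0, 0, 0, 6, 0, 0, 7, 7, 4, 6, 0, 0, 0, 7, 6, 0, 5, 5, 4, 5, 4, 0, 0, 7, 0, 7, 0, 5, 7, 0, 7, 6, 1, 0, 0, 1, 0, 7, 0, 0, 2, 3, 6, 7, 2, 2, 0, 0, 0, 7, 7, 0, 5, 0, 6, 7, 3, 7, 5, 4, 0, 0, 0, 0, 0, 0, 0, 0, 0, 0, 0, 0, 0, 0, 0, 0, 0, 0, 0, 0, 0, 0, 0, 0, 0, 0, 0, 0, 0, 0, 0, 0, 0, 0, 0, 0, 0, 0, 0, 0, 0, 0, 0, 0, 0, 0, 0, 0,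 0, 0, 0, 0, 0, 0, 0, 0, 0, 0, 0, 0, 0, 6]]

/-- Part of the certificate. -/
def densePart17 : List (List ℕ) := [
    [0, 0, 7, 1, 1, 0, 0, 7, 2, 4, 7, 0, 4, 5, 5, 0, 0, 7, 0, 0, 0, 0, 1, 0, 0, 0, 0, 7, 0, 1, 0, 7, 6, 1, 2, 5, 0, 0, 0, 0, 1, 6, 7, 0, 7, 7, 1, 2, 7, 0, 5, 0, 7, 0, 0, 0, 1, 1, 7, 3, 0, 7, 6, 0, 1, 7, 5, 6, 4, 3, 0, 0, 0, 0, 1, 0, 0, 1, 6, 6, 7, 0, 0, 0, 0, 0, 2, 6, 7, 7, 5, 1, 1, 0, 7, 6, 0, 1, 0, 5, 1, 7, 7, 5, 7, 2, 0, 7, 7, 0, 0, 7, 1, 5, 6, 2, 6, 5, 6, 7, 0, 0, 0, 0, 0, 0, 0, 0, 0, 0, 0, 0, 0, 0, 0, 0, 0, 0, 0, 0, 0, 0, 0, 0, 0, 0, 0, 0, 0, 0, 0, 0, 0, 0, 0, 0, 0, 0, 0, 0, 0, 0, 0, 0, 0, 0, 0, 0, 0, 0, 0, 0, 0, 0, 0, 0, 0, 0, 0, 0, 0, 0, 0, 0, 0, 0, 0, 0, 0, 0, 0, 0, 0, 0, 0, 6, 0, 0, 0, 1, 1],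
    [0, 0, 1, 1, 1, 0, 3, 3, 4, 3, 5, 4, 6, 7, 5, 0, 0, 1, 0, 7, 1, 0, 1, 0, 1, 0, 0, 1, 3, 1, 0, 7, 0, 2, 2, 1, 0, 1, 0, 1, 1, 1, 4, 0, 7, 0, 2, 1, 2, 4, 3, 0, 0, 1, 2, 2, 0, 4, 4, 2, 0, 7, 0, 3, 2, 1, 3, 3, 6, 1, 0, 7, 6, 2, 2, 3, 7, 4, 2, 2, 6, 0, 7, 1, 1, 0, 3, 2, 5, 5, 1, 2, 7, 0, 0, 2, 3, 3, 2, 3, 2, 7, 5, 4, 5, 5, 0, 0, 0, 4, 3, 1, 3, 5, 7, 3, 1, 4, 5, 6, 0, 0, 0, 0, 0, 0, 0, 0, 0, 0, 0, 0, 0, 0, 0, 0, 0, 0, 0, 0, 0, 0, 0, 0, 0, 0, 0, 0, 0, 0, 0, 0, 0, 0, 0, 0, 0, 0, 0, 0, 0, 0, 0, 0, 0, 0, 0, 0, 0, 0, 0, 0, 0, 0, 0, 0, 0, 0, 0, 0, 0, 0, 0, 0, 0, 0, 0, 0, 0, 0, 0, 0, 0, 0, 0, 0, 0, 0, 0, 0, 0, 1, 1, 1, 1],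
    [0, 0, 1, 2, 1, 0, 5, 4, 4, 4, 6, 5, 2, 3, 4, 0, 0, 0, 0, 1, 0, 0, 0, 1, 0, 0, 0, 2, 3, 2, 0, 7, 0, 1, 1, 1, 0, 0, 1, 4, 3, 2, 5, 0, 7, 2, 1, 1, 2, 5, 2, 0, 7, 2, 1, 0, 1, 6, 7, 7, 0, 0, 1, 3, 1, 3, 7, 2, 7, 5, 0, 0, 1, 0, 3, 3, 3, 6, 7, 0, 4, 0, 7, 7, 2, 2, 2, 3, 5, 0, 5, 3, 6, 0, 0, 1, 2, 4, 2, 5, 1, 4, 1, 5, 7, 2, 0, 7, 7, 3, 3, 4, 5, 6, 0, 2, 6, 4, 6, 6, 0, 0, 0, 0, 0, 0, 0, 0, 0, 0, 0, 0, 0, 0, 0, 0, 0, 0, 0, 0, 0, 0, 0, 0, 0, 0, 0, 0, 0, 0, 0, 0, 0, 0, 0, 0, 0, 0, 0, 0, 0, 0, 0, 0, 0, 0, 0, 0, 0, 0, 0, 0, 0, 0, 0, 0, 0, 0, 0, 0, 0, 0, 0, 0, 0, 0, 0, 0, 0, 0, 0, 0, 0, 0, 0, 0, 0, 0, 0, 1, 1, 1, 1, 1],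
    [0, 0, 1, 2, 1, 0, 5, 4, 5, 4, 7, 6, 6, 5, 4, 0, 0, 0, 0, 0, 0, 0, 0, 1, 1, 0, 0, 2, 4, 2, 0, 0, 0, 1, 2, 2, 0, 0, 1, 4, 3, 2, 5, 0, 7, 2, 1, 1, 3, 5, 4, 0, 7, 2, 1, 1, 2, 6, 7, 6, 0, 7, 0, 1, 4, 5, 6, 2, 0, 7, 0, 1, 0, 3, 2, 1, 3, 6, 2, 2, 7, 0, 7, 0, 3, 2, 3, 3, 0, 1, 0, 5, 0, 0, 7, 0, 2, 2, 2, 6, 1, 5, 3, 7, 4, 7, 0, 0, 1, 3, 2, 4, 4, 1, 3, 6, 1, 7, 4, 0, 0, 0, 0, 0, 0, 0, 0, 0, 0, 0, 0, 0, 0, 0, 0, 0, 0, 0, 0, 0, 0, 0, 0, 0, 0, 0, 0, 0, 0, 0, 0, 0, 0, 0, 0, 0, 0, 0, 0, 0, 0, 0, 0, 0, 0, 0, 0, 0, 0, 0, 0, 0, 0, 0, 0, 0, 0, 0, 0, 0, 0, 0, 0, 0, 0, 0, 0, 0, 0, 0, 0, 0, 0, 0, 0, 0, 0, 0, 0, 1, 1, 1, 1, 1, 1],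
    [0, 0, 1, 1, 1, 0, 4, 4, 4, 3, 6, 5, 1, 3, 2, 0, 0, 0, 0, 7, 1, 0, 0, 1, 1, 0, 0, 2, 3, 2, 0, 7, 0, 2, 1, 1, 0, 0, 0, 1, 0, 2, 4, 0, 0, 0, 2, 2, 3, 3, 4, 0, 0, 1, 2, 1, 0, 4, 6, 5, 0, 0, 1, 3, 3, 1, 3, 3, 7, 0, 0, 0, 2, 2, 2, 3, 6, 6, 2, 2, 4, 0, 0, 1, 2, 1, 4, 3, 5, 1, 7, 7, 0, 0, 0, 2, 3, 3, 3, 2, 3, 6, 6, 1, 4, 5, 0, 0, 0, 3, 2, 4, 3, 6, 6, 5, 3, 3, 5, 6, 0, 0, 0, 0, 0, 0, 0, 0, 0, 0, 0, 0, 0, 0, 0, 0, 0, 0, 0, 0, 0, 0, 0, 0, 0, 0, 0, 0, 0, 0, 0, 0, 0, 0, 0, 0, 0, 0, 0, 0, 0, 0, 0, 0, 0, 0, 0, 0, 0, 0, 0, 0, 0, 0, 0, 0, 0, 0, 0, 0, 0, 0, 0, 0, 0, 0, 0, 0, 0, 0, 0, 0, 0, 0, 0, 0, 0, 0, 0, 0, 0, 1, 1, 1],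
    [0, 0, 1, 7, 1, 0, 0, 2, 0, 1, 7, 6, 1, 2, 5, 0, 0, 0, 0, 0, 0, 0, 0, 1, 0, 0, 0, 0, 0, 0, 0, 0, 0, 7, 1, 0, 0, 0, 1, 0, 2, 0, 1, 0, 0, 0, 7, 1, 0, 0, 2, 0, 0, 0, 0, 0, 0, 0, 1, 1, 0, 0, 0, 7, 1, 0, 7, 1, 7, 1, 0, 0, 0, 7, 0, 0, 6, 0, 7, 0, 6, 0, 0, 0, 7, 0, 0, 6, 4, 7, 2, 1, 5, 0, 0, 0, 0, 1, 0, 0, 2, 3, 1, 3, 7, 5, 0, 0, 0, 0, 1, 0, 6, 2, 2, 1, 7, 6, 5, 2, 0, 0, 0, 0, 0, 0, 0, 0, 0, 0, 0, 0, 0, 0, 0, 0, 0, 0, 0, 0, 0, 0, 0, 0, 0, 0, 0, 0, 0, 0, 0, 0, 0, 0, 0, 0, 0, 0, 0, 0, 0, 0, 0, 0, 0, 0, 0, 0, 0, 0, 0, 0, 0, 0, 0, 0, 0, 0, 0, 0, 0, 0, 0, 0, 0, 0, 0, 0, 0, 0, 0, 0, 0, 0, 0, 0, 6, 0, 0, 0, 0, 0, 0, 0, 1],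
    [0, 0, 0, 1, 0, 0, 7, 0, 7, 7, 1, 1, 5, 0, 6, 0, 0, 0, 0, 0, 0, 0, 0, 0, 0, 0, 0, 0, 0, 0, 0, 0, 0, 0, 0, 0, 0, 0, 0, 1, 0, 0, 7, 0, 0, 0, 0, 0, 0, 7, 7, 0, 0, 0, 0, 0, 0, 7, 7, 7, 0, 0, 0, 0, 0, 0, 0, 1, 0, 0, 0, 0, 0, 1, 0, 0, 7, 1, 7, 7, 1, 0, 0, 0, 0, 0, 0, 7, 7, 7, 5, 1, 1, 0, 0, 0, 0, 0, 0, 0, 1, 6, 6, 1, 1, 3, 0, 0, 0, 0, 0, 0, 7, 0, 6, 6, 0, 1, 4, 1, 0, 0, 0, 0, 0, 0, 0, 0, 0, 0, 0, 0, 0, 0, 0, 0, 0, 0, 0, 0, 0, 0, 0, 0, 0, 0, 0, 0, 0, 0, 0, 0, 0, 0, 0, 0, 0, 0, 0, 0, 0, 0, 0, 0, 0, 0, 0, 0, 0, 0, 0, 0, 0, 0, 0, 0, 0, 0, 0, 0, 0, 0, 0, 0, 0, 0, 0, 0, 0, 0, 0, 0, 0, 0, 0, 0, 0, 6, 0, 0, 0, 0, 0, 0, 1],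
    [0, 0, 0, 0, 0, 0, 0, 0, 7, 7, 7, 1, 5, 7, 5, 0, 0, 0, 0, 0, 0, 0, 0, 0, 0, 0, 0, 0, 0, 0, 0, 0, 0, 0, 0, 0, 0, 0, 0, 0, 0, 0, 0, 0, 0, 0, 0, 0, 0, 7, 7, 0, 0, 0, 0, 0, 0, 7, 7, 7, 0, 0, 0, 0, 0, 0, 7, 7, 7, 7, 0, 0, 0, 0, 0, 0, 1, 1, 0, 0, 0, 0, 0, 0, 0, 0, 0, 7, 7, 7, 5, 7, 0, 0, 0, 0, 0, 0, 0, 7, 1, 5, 5, 5, 2, 1, 0, 0, 0, 0, 0, 0, 0, 1, 6, 6, 5, 2, 3, 7, 0, 0, 0, 0, 0, 0, 0, 0, 0, 0, 0, 0, 0, 0, 0, 0, 0, 0, 0, 0, 0, 0, 0, 0, 0, 0, 0, 0, 0, 0, 0, 0, 0, 0, 0, 0, 0, 0, 0, 0, 0, 0, 0, 0, 0, 0, 0, 0, 0, 0, 0, 0, 0, 0, 0, 0, 0, 0, 0, 0, 0, 0, 0, 0, 0, 0, 0, 0, 0, 0, 0, 0, 0, 0, 0, 0, 0, 0, 6]]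

/-- Part of the certificate. -/
def densePart18 : List (List ℕ) := [
    [0, 0, 0, 7, 0, 0, 7, 0, 0, 0, 7, 7, 6, 7, 7, 0, 0, 0, 0, 0, 0, 0, 0, 0, 0, 0, 0, 0, 0, 0, 0, 0, 0, 7, 0, 0, 0, 0, 0, 0, 0, 0, 0, 0, 0, 0, 7, 0, 0, 7, 0, 0, 0, 0, 0, 0, 0, 0, 0, 0, 0, 0, 0, 0, 0, 0, 7, 0, 0, 0, 0, 0, 0, 0, 0, 0, 7, 0, 0, 0, 7, 0, 0, 0, 0, 0, 0, 7, 0, 6, 0, 7, 7, 0, 0, 0, 0, 0, 0, 7, 0, 0, 0, 7, 7, 0, 0, 0, 0, 0, 0, 0, 7, 0, 0, 0, 7, 7, 0, 7, 0, 0, 0, 0, 0, 0, 0, 0, 0, 0, 0, 0, 0, 0, 0, 0, 0, 0, 0, 0, 0, 0, 0, 0, 0, 0, 0, 0, 0, 0, 0, 0, 0, 0, 0, 0, 0, 0, 0, 0, 0, 0, 0, 0, 0, 0, 0, 0, 0, 0, 0, 0, 0, 0, 0, 0, 0, 0, 0, 0, 0, 0, 0, 0, 0, 0, 0, 0, 0, 0, 0, 0, 0, 0, 0, 0, 0, 0, 0, 6],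
    [0, 0, 7, 7, 7, 0, 6, 6, 6, 6, 5, 6, 3, 0, 1, 0, 0, 0, 0, 0, 7, 0, 0, 7, 7, 0, 0, 0, 0, 0, 0, 0, 7, 6, 6, 0, 0, 0, 7, 6, 6, 0, 6, 0, 0, 0, 6, 7, 0, 5, 6, 0, 0, 0, 0, 7, 0, 7, 6, 7, 0, 0, 0, 6, 7, 0, 6, 6, 4, 5, 0, 0, 0, 7, 6, 0, 5, 5, 4, 5, 5, 0, 0, 0, 7, 5, 0, 6, 3, 6, 5, 3, 1, 0, 0, 7, 7, 7, 0, 6, 2, 0, 2, 3, 2, 1, 0, 0, 7, 6, 5, 0, 5, 6, 3, 5, 2, 7, 6, 5, 0, 0, 0, 0, 0, 0, 0, 0, 0, 0, 0, 0, 0, 0, 0, 0, 0, 0, 0, 0, 0, 0, 0, 0, 0, 0, 0, 0, 0, 0, 0, 0, 0, 0, 0, 0, 0, 0, 0, 0, 0, 0, 0, 0, 0, 0, 0, 0, 0, 0, 0, 0, 0, 0, 0, 0, 0, 0, 0, 0, 0, 0, 0, 0, 0, 0, 0, 0, 0, 0, 0, 0, 0, 0, 0, 0, 0, 0, 0, 0, 0, 6],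
    [0, 0, 0, 7, 0, 0, 7, 0, 0, 0, 6, 6, 7, 6, 6, 0, 0, 0, 0, 0, 0, 0, 0, 0, 0, 0, 0, 0, 0, 0, 0, 0, 0, 7, 0, 0, 0, 0, 0, 0, 0, 0, 0, 0, 0, 0, 0, 0, 0, 0, 0, 0, 0, 0, 0, 0, 0, 0, 0, 0, 0, 0, 0, 7, 0, 0, 6, 0, 0, 0, 0, 0, 0, 7, 0, 0, 6, 0, 0, 0, 6, 0, 0, 0, 0, 0, 0, 6, 0, 0, 0, 5, 6, 0, 0, 0, 7, 0, 0, 6, 0, 0, 0, 6, 6, 0, 0, 0, 0, 0, 0, 0, 7, 0, 0, 0, 7, 7, 0, 6, 0, 0, 0, 0, 0, 0, 0, 0, 0, 0, 0, 0, 0, 0, 0, 0, 0, 0, 0, 0, 0, 0, 0, 0, 0, 0, 0, 0, 0, 0, 0, 0, 0, 0, 0, 0, 0, 0, 0, 0, 0, 0, 0, 0, 0, 0, 0, 0, 0, 0, 0, 0, 0, 0, 0, 0, 0, 0, 0, 0, 0, 0, 0, 0, 0, 0, 0, 0, 0, 0, 0, 0, 0, 0, 0, 0, 0, 0, 0, 0, 0, 0, 6],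
    [0, 0, 0, 7, 0, 0, 1, 0, 1, 0, 7, 7, 0, 3, 4, 0, 0, 0, 0, 7, 0, 0, 0, 0, 7, 0, 0, 0, 7, 0, 0, 1, 0, 6, 7, 1, 0, 0, 0, 0, 0, 0, 1, 0, 1, 0, 7, 0, 7, 1, 2, 0, 0, 0, 0, 0, 0, 7, 1, 0, 0, 0, 0, 7, 0, 6, 1, 7, 1, 1, 0, 0, 0, 0, 6, 6, 7, 7, 1, 6, 5, 0, 0, 0, 0, 7, 7, 0, 3, 2, 3, 6, 5, 0, 0, 0, 6, 1, 0, 7, 7, 3, 6, 6, 0, 3, 0, 0, 0, 0, 7, 7, 7, 4, 0, 3, 5, 1, 6, 1, 0, 0, 0, 0, 0, 0, 0, 0, 0, 0, 0, 0, 0, 0, 0, 0, 0, 0, 0, 0, 0, 0, 0, 0, 0, 0, 0, 0, 0, 0, 0, 0, 0, 0, 0, 0, 0, 0, 0, 0, 0, 0, 0, 0, 0, 0, 0, 0, 0, 0, 0, 0, 0, 0, 0, 0, 0, 0, 0, 0, 0, 0, 0, 0, 0, 0, 0, 0, 0, 0, 0, 0, 0, 0, 0, 0, 0, 0, 0, 0, 0, 0, 0, 0, 0, 0, 0, 0, 0, 0, 6],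
    [0, 0, 0, 7, 0, 0, 7, 0, 0, 7, 5, 5, 3, 3, 2, 0, 0, 0, 0, 0, 7, 0, 0, 0, 7, 0, 0, 0, 0, 0, 0, 0, 7, 6, 7, 0, 0, 0, 0, 6, 0, 0, 7, 0, 0, 1, 6, 1, 0, 6, 1, 0, 0, 0, 0, 7, 0, 7, 7, 0, 0, 0, 0, 7, 0, 0, 6, 7, 5, 6, 0, 0, 0, 0, 6, 0, 4, 5, 5, 5, 4, 0, 0, 1, 0, 7, 0, 6, 7, 1, 7, 7, 5, 0, 0, 7, 7, 0, 0, 7, 4, 5, 3, 6, 7, 5, 0, 0, 0, 7, 7, 0, 6, 7, 0, 6, 1, 7, 2, 1, 0, 0, 0, 0, 0, 0, 0, 0, 0, 0, 0, 0, 0, 0, 0, 0, 0, 0, 0, 0, 0, 0, 0, 0, 0, 0, 0, 0, 0, 0, 0, 0, 0, 0, 0, 0, 0, 0, 0, 0, 0, 0, 0, 0, 0, 0, 0, 0, 0, 0, 0, 0, 0, 0, 0, 0, 0, 0, 0, 0, 0, 0, 0, 0, 0, 0, 0, 0, 0, 0, 0, 0, 0, 0, 0, 0, 0, 0, 0, 0, 0, 0, 0, 0, 0, 0, 0, 0, 0, 0, 0, 6],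
    [1, 1, 1, 0, 2, 2, 5, 6, 0, 2, 4, 2, 3, 3, 2, 1, 0, 1, 0, 0, 0, 0, 1, 2, 0, 1, 2, 1, 0, 1, 0, 1, 0, 0, 4, 2, 0, 2, 2, 0, 3, 4, 5, 7, 0, 1, 0, 5, 6, 7, 6, 0, 0, 0, 0, 3, 3, 6, 7, 4, 7, 1, 1, 0, 5, 4, 7, 2, 3, 3, 7, 2, 1, 0, 2, 2, 3, 4, 2, 6, 4, 1, 0, 1, 0, 1, 3, 4, 3, 4, 6, 1, 0, 1, 2, 1, 0, 2, 6, 6, 1, 5, 2, 6, 7, 7, 1, 1, 0, 0, 4, 5, 2, 6, 1, 3, 2, 6, 5, 4, 0, 0, 0, 0, 0, 0, 0, 0, 0, 0, 0, 0, 0, 0, 0, 0, 0, 0, 0, 0, 0, 0, 0, 0, 0, 0, 0, 0, 0, 0, 0, 0, 0, 0, 0, 0, 0, 0, 0, 0, 0, 0, 0, 0, 0, 0, 0, 0, 0, 0, 0, 0, 0, 0, 0, 0, 0, 0, 0, 0, 0, 0, 0, 0, 0, 0, 0, 0, 0, 0, 0, 0, 0, 0, 0, 0, 0, 0, 0, 0, 0, 0, 0, 0, 0, 0, 0, 0, 0, 0, 0, 0, 0, 0, 0, 0, 0, 0, 0, 0, 0, 0, 0, 0, 0, 6, 0, 1, 1, 1, 0, 1, 1, 0, 1],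
    [1, 1, 1, 0, 1, 2, 6, 6, 3, 5, 0, 7, 5, 6, 5, 1, 1, 3, 0, 0, 0, 1, 3, 0, 0, 0, 2, 0, 0, 2, 0, 2, 1, 0, 2, 3, 7, 2, 3, 0, 4, 4, 2, 1, 2, 3, 0, 3, 5, 7, 5, 1, 1, 0, 0, 2, 1, 7, 5, 7, 2, 2, 2, 0, 1, 6, 1, 2, 7, 5, 0, 2, 4, 0, 2, 3, 3, 6, 1, 0, 5, 0, 1, 7, 0, 1, 4, 5, 2, 0, 6, 6, 1, 1, 2, 5, 0, 0, 1, 6, 4, 7, 0, 5, 7, 3, 0, 2, 2, 0, 7, 3, 5, 4, 7, 5, 6, 2, 6, 7, 0, 0, 0, 0, 0, 0, 0, 0, 0, 0, 0, 0, 0, 0, 0, 0, 0, 0, 0, 0, 0, 0, 0, 0, 0, 0, 0, 0, 0, 0, 0, 0, 0, 0, 0, 0, 0, 0, 0, 0, 0, 0, 0, 0, 0, 0, 0, 0, 0, 0, 0, 0, 0, 0, 0, 0, 0, 0, 0, 0, 0, 0, 0, 0, 0, 0, 0, 0, 0, 0, 0, 0, 0, 0, 0, 0, 0, 0, 0, 0, 0, 0, 0, 0, 0, 0, 0, 0, 0, 0, 0, 0, 0, 0, 0, 0, 0, 0, 0, 0, 0, 0, 0, 0, 0, 0, 0, 1, 1, 0, 0, 0, 1, 1, 0, 1],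
    [0, 0, 0, 0, 0, 0, 7, 0, 7, 7, 0, 2, 2, 6, 2, 7, 1, 0, 0, 0, 0, 0, 0, 7, 0, 1, 7, 7, 0, 0, 0, 1, 1, 0, 7, 7, 0, 0, 7, 0, 7, 7, 7, 1, 0, 1, 0, 6, 4, 6, 5, 0, 0, 1, 0, 1, 0, 1, 4, 1, 1, 0, 0, 0, 6, 7, 2, 7, 7, 7, 1, 7, 0, 0, 0, 1, 6, 0, 1, 5, 5, 7, 0, 7, 0, 0, 6, 5, 3, 6, 4, 1, 0, 7, 7, 0, 0, 0, 7, 6, 6, 0, 1, 7, 1, 4, 7, 0, 1, 0, 6, 1, 2, 5, 6, 1, 0, 3, 0, 5, 0, 0, 0, 0, 0, 0, 0, 0, 0, 0, 0, 0, 0, 0, 0, 0, 0, 0, 0, 0, 0, 0, 0, 0, 0, 0, 0, 0, 0, 0, 0, 0, 0, 0, 0, 0, 0, 0, 0, 0, 0, 0, 0, 0, 0, 0, 0, 0, 0, 0, 0, 0, 0, 0, 0, 0, 0, 0, 0, 0, 0, 0, 0, 0, 0, 0, 0, 0, 0, 0, 0, 0, 0, 0, 0, 0, 0, 0, 0, 0, 0, 0, 0, 0, 0, 0, 0, 0, 0, 0, 0, 0, 0, 0, 0, 0, 0, 0, 0, 0, 0, 0, 0, 0, 0, 0, 0, 0, 0, 1, 0, 0, 1, 0, 0, 1]]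

/-- Part of the certificate. -/
def densePart19 : List (List ℕ) := [
    [0, 0, 0, 0, 0, 0, 0, 0, 1, 0, 7, 1, 2, 1, 6, 7, 0, 0, 0, 0, 0, 0, 0, 0, 0, 0, 7, 0, 0, 7, 1, 1, 0, 0, 7, 0, 0, 0, 7, 0, 7, 1, 1, 0, 0, 0, 0, 7, 7, 1, 7, 7, 0, 0, 0, 1, 1, 1, 0, 0, 1, 0, 0, 0, 7, 0, 0, 0, 1, 0, 0, 7, 7, 0, 7, 2, 1, 3, 2, 3, 6, 7, 0, 7, 0, 1, 6, 2, 2, 0, 4, 3, 0, 7, 7, 0, 0, 1, 0, 0, 0, 0, 1, 7, 4, 5, 0, 0, 0, 0, 0, 6, 3, 6, 6, 6, 1, 0, 1, 3, 0, 0, 0, 0, 0, 0, 0, 0, 0, 0, 0, 0, 0, 0, 0, 0, 0, 0, 0, 0, 0, 0, 0, 0, 0, 0, 0, 0, 0, 0, 0, 0, 0, 0, 0, 0, 0, 0, 0, 0, 0, 0, 0, 0, 0, 0, 0, 0, 0, 0, 0, 0, 0, 0, 0, 0, 0, 0, 0, 0, 0, 0, 0, 0, 0, 0, 0, 0, 0, 0, 0, 0, 0, 0, 0, 0, 0, 0, 0, 0, 0, 0, 0, 0, 0, 0, 0, 0, 0, 0, 0, 0, 0, 0, 0, 0, 0, 0, 0, 0, 0, 0, 0, 0, 0, 0, 0, 0, 0, 1, 0, 0, 1, 1, 0, 0, 0, 1],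
    [0, 0, 0, 0, 0, 0, 1, 0, 0, 0, 7, 7, 4, 0, 2, 0, 0, 0, 0, 0, 0, 7, 0, 0, 0, 0, 0, 0, 0, 1, 0, 0, 0, 0, 1, 0, 7, 0, 0, 0, 0, 0, 1, 7, 0, 0, 0, 1, 0, 0, 1, 7, 0, 0, 0, 0, 0, 1, 1, 1, 0, 0, 0, 0, 1, 0, 0, 7, 7, 0, 7, 0, 0, 0, 1, 7, 0, 7, 0, 6, 6, 7, 0, 0, 0, 0, 0, 1, 1, 6, 0, 6, 1, 7, 0, 0, 0, 0, 7, 1, 7, 1, 1, 6, 6, 7, 0, 0, 0, 0, 0, 7, 1, 0, 3, 0, 1, 0, 3, 0, 0, 0, 0, 0, 0, 0, 0, 0, 0, 0, 0, 0, 0, 0, 0, 0, 0, 0, 0, 0, 0, 0, 0, 0, 0, 0, 0, 0, 0, 0, 0, 0, 0, 0, 0, 0, 0, 0, 0, 0, 0, 0, 0, 0, 0, 0, 0, 0, 0, 0, 0, 0, 0, 0, 0, 0, 0, 0, 0, 0, 0, 0, 0, 0, 0, 0, 0, 0, 0, 0, 0, 0, 0, 0, 0, 0, 0, 0, 0, 0, 0, 0, 0, 0, 0, 0, 0, 0, 0, 0, 0, 0, 0, 0, 0, 0, 0, 0, 0, 0, 0, 0, 0, 0, 0, 0, 0, 0, 0, 0, 0, 0, 0, 1, 0, 1, 1, 1],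
    [0, 0, 0, 0, 0, 0, 0, 7, 7, 7, 1, 0, 0, 1, 0, 7, 7, 0, 0, 0, 0, 7, 0, 1, 0, 1, 7, 7, 0, 7, 1, 1, 1, 0, 7, 7, 0, 0, 6, 0, 1, 1, 3, 1, 0, 7, 0, 1, 5, 7, 6, 7, 0, 1, 0, 1, 6, 2, 4, 6, 0, 0, 7, 0, 0, 0, 3, 0, 0, 1, 1, 7, 0, 0, 0, 3, 1, 2, 6, 0, 0, 7, 0, 7, 0, 7, 7, 7, 5, 6, 6, 3, 5, 7, 7, 7, 0, 1, 1, 1, 7, 5, 0, 3, 6, 7, 0, 0, 0, 0, 7, 7, 4, 4, 4, 4, 3, 3, 2, 6, 0, 0, 0, 0, 0, 0, 0, 0, 0, 0, 0, 0, 0, 0, 0, 0, 0, 0, 0, 0, 0, 0, 0, 0, 0, 0, 0, 0, 0, 0, 0, 0, 0, 0, 0, 0, 0, 0, 0, 0, 0, 0, 0, 0, 0, 0, 0, 0, 0, 0, 0, 0, 0, 0, 0, 0, 0, 0, 0, 0, 0, 0, 0, 0, 0, 0, 0, 0, 0, 0, 0, 0, 0, 0, 0, 0, 0, 0, 0, 0, 0, 0, 0, 0, 0, 0, 0, 0, 0, 0, 0, 0, 0, 0, 0, 0, 0, 0, 0, 0, 0, 0, 0, 0, 0, 0, 0, 0, 0, 0, 0, 1, 1, 0, 1, 0, 0, 1],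
    [0, 0, 0, 0, 0, 0, 1, 0, 7, 7, 7, 7, 4, 2, 2, 0, 0, 0, 0, 0, 0, 7, 0, 0, 0, 0, 0, 0, 0, 1, 7, 0, 0, 0, 1, 7, 7, 0, 0, 0, 0, 0, 1, 0, 0, 0, 0, 1, 0, 0, 1, 7, 0, 0, 0, 0, 7, 1, 1, 0, 7, 0, 0, 0, 1, 1, 2, 7, 1, 0, 0, 0, 0, 0, 1, 1, 0, 7, 0, 6, 7, 0, 0, 0, 0, 0, 1, 1, 1, 6, 0, 7, 7, 7, 0, 0, 0, 0, 1, 2, 7, 2, 0, 0, 7, 5, 0, 0, 0, 0, 0, 0, 0, 0, 1, 7, 2, 7, 4, 3, 0, 0, 0, 0, 0, 0, 0, 0, 0, 0, 0, 0, 0, 0, 0, 0, 0, 0, 0, 0, 0, 0, 0, 0, 0, 0, 0, 0, 0, 0, 0, 0, 0, 0, 0, 0, 0, 0, 0, 0, 0, 0, 0, 0, 0, 0, 0, 0, 0, 0, 0, 0, 0, 0, 0, 0, 0, 0, 0, 0, 0, 0, 0, 0, 0, 0, 0, 0, 0, 0, 0, 0, 0, 0, 0, 0, 0, 0, 0, 0, 0, 0, 0, 0, 0, 0, 0, 0, 0, 0, 0, 0, 0, 0, 0, 0, 0, 0, 0, 0, 0, 0, 0, 0, 0, 0, 0, 0, 0, 0, 0, 0, 0, 1, 1, 1, 0, 1],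
    [0, 0, 0, 0, 0, 0, 1, 0, 0, 7, 7, 7, 3, 3, 1, 0, 7, 0, 0, 0, 0, 0, 0, 0, 0, 7, 0, 1, 0, 0, 7, 0, 1, 0, 0, 7, 7, 0, 0, 0, 0, 0, 1, 0, 0, 1, 0, 0, 0, 1, 7, 0, 0, 0, 0, 0, 1, 0, 7, 1, 0, 0, 1, 0, 0, 2, 6, 0, 7, 0, 7, 0, 1, 0, 0, 1, 0, 1, 1, 0, 0, 7, 0, 0, 0, 0, 0, 1, 1, 0, 6, 0, 7, 0, 0, 0, 0, 0, 0, 6, 2, 6, 6, 6, 6, 6, 0, 0, 0, 0, 0, 0, 7, 1, 2, 3, 6, 1, 4, 6, 0, 0, 0, 0, 0, 0, 0, 0, 0, 0, 0, 0, 0, 0, 0, 0, 0, 0, 0, 0, 0, 0, 0, 0, 0, 0, 0, 0, 0, 0, 0, 0, 0, 0, 0, 0, 0, 0, 0, 0, 0, 0, 0, 0, 0, 0, 0, 0, 0, 0, 0, 0, 0, 0, 0, 0, 0, 0, 0, 0, 0, 0, 0, 0, 0, 0, 0, 0, 0, 0, 0, 0, 0, 0, 0, 0, 0, 0, 0, 0, 0, 0, 0, 0, 0, 0, 0, 0, 0, 0, 0, 0, 0, 0, 0, 0, 0, 0, 0, 0, 0, 0, 0, 0, 0, 0, 0, 0, 0, 0, 0, 0, 0, 1, 1, 0, 1],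
    [0, 0, 0, 0, 0, 0, 0, 0, 7, 7, 7, 0, 0, 7, 5, 0, 0, 0, 0, 0, 0, 0, 0, 0, 0, 0, 0, 0, 0, 0, 7, 0, 0, 0, 0, 7, 0, 0, 0, 0, 0, 0, 0, 7, 0, 0, 0, 0, 0, 0, 0, 0, 0, 0, 0, 0, 7, 0, 0, 7, 1, 0, 0, 0, 0, 1, 1, 0, 0, 0, 0, 0, 0, 0, 0, 7, 0, 0, 0, 0, 7, 7, 0, 0, 0, 0, 7, 7, 0, 6, 0, 6, 6, 0, 0, 0, 0, 0, 7, 7, 0, 7, 0, 7, 7, 0, 7, 0, 0, 0, 0, 7, 7, 0, 7, 7, 5, 6, 6, 7, 0, 0, 0, 0, 0, 0, 0, 0, 0, 0, 0, 0, 0, 0, 0, 0, 0, 0, 0, 0, 0, 0, 0, 0, 0, 0, 0, 0, 0, 0, 0, 0, 0, 0, 0, 0, 0, 0, 0, 0, 0, 0, 0, 0, 0, 0, 0, 0, 0, 0, 0, 0, 0, 0, 0, 0, 0, 0, 0, 0, 0, 0, 0, 0, 0, 0, 0, 0, 0, 0, 0, 0, 0, 0, 0, 0, 0, 0, 0, 0, 0, 0, 0, 0, 0, 0, 0, 0, 0, 0, 0, 0, 0, 0, 0, 0, 0, 0, 0, 0, 0, 0, 0, 0, 0, 0, 0, 0, 0, 0, 0, 0, 0, 0, 0, 0, 1, 1],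
    [0, 0, 7, 0, 0, 7, 5, 5, 5, 4, 5, 6, 7, 5, 3, 0, 0, 7, 0, 0, 0, 0, 7, 7, 0, 0, 7, 7, 0, 7, 0, 7, 7, 0, 6, 0, 0, 7, 7, 0, 7, 6, 4, 0, 0, 6, 0, 7, 6, 5, 6, 0, 0, 0, 0, 1, 5, 6, 5, 3, 0, 0, 6, 0, 5, 0, 5, 3, 6, 2, 0, 7, 0, 0, 1, 7, 1, 7, 0, 6, 0, 0, 0, 0, 0, 1, 6, 4, 0, 0, 3, 4, 6, 0, 0, 7, 0, 1, 7, 3, 4, 1, 5, 5, 6, 7, 0, 0, 0, 0, 6, 5, 6, 7, 2, 7, 3, 6, 6, 4, 0, 0, 0, 0, 0, 0, 0, 0, 0, 0, 0, 0, 0, 0, 0, 0, 0, 0, 0, 0, 0, 0, 0, 0, 0, 0, 0, 0, 0, 0, 0, 0, 0, 0, 0, 0, 0, 0, 0, 0, 0, 0, 0, 0, 0, 0, 0, 0, 0, 0, 0, 0, 0, 0, 0, 0, 0, 0, 0, 0, 0, 0, 0, 0, 0, 0, 0, 0, 0, 0, 0, 0, 0, 0, 0, 0, 0, 0, 0, 0, 0, 0, 0, 0, 0, 0, 0, 0, 0, 0, 0, 0, 0, 0, 0, 0, 0, 0, 0, 0, 0, 0, 0, 0, 0, 0, 6, 0, 0, 1, 0, 1, 0, 1, 0, 0, 1],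
    [7, 7, 0, 0, 7, 7, 4, 5, 2, 1, 4, 6, 2, 6, 7, 7, 0, 7, 0, 0, 0, 0, 7, 7, 0, 7, 6, 0, 0, 7, 7, 7, 0, 0, 6, 6, 0, 6, 7, 0, 6, 6, 3, 0, 0, 0, 0, 5, 3, 4, 5, 0, 0, 0, 0, 7, 5, 3, 4, 6, 0, 7, 7, 0, 6, 7, 3, 4, 2, 0, 0, 6, 7, 0, 7, 7, 4, 6, 7, 2, 4, 7, 0, 7, 0, 0, 6, 4, 2, 6, 5, 6, 0, 7, 6, 7, 0, 0, 4, 0, 3, 4, 3, 6, 4, 3, 7, 7, 0, 0, 5, 5, 0, 4, 4, 3, 5, 5, 4, 2, 0, 0, 0, 0, 0, 0, 0, 0, 0, 0, 0, 0, 0, 0, 0, 0, 0, 0, 0, 0, 0, 0, 0, 0, 0, 0, 0, 0, 0, 0, 0, 0, 0, 0, 0, 0, 0, 0, 0, 0, 0, 0, 0, 0, 0, 0, 0, 0, 0, 0, 0, 0, 0, 0, 0, 0, 0, 0, 0, 0, 0, 0, 0, 0, 0, 0, 0, 0, 0, 0, 0, 0, 0, 0, 0, 0, 0, 0, 0, 0, 0, 0, 0, 0, 0, 0, 0, 0, 0, 0, 0, 0, 0, 0, 0, 0, 0, 0, 0, 0, 0, 0, 0, 0, 0, 0, 0, 6, 0, 0, 0, 0, 0, 0, 1, 1, 0, 1]]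

/-- Part of the certificate. -/
def densePart20 : List (List ℕ) := [
    [7, 7, 7, 0, 7, 6, 3, 3, 1, 0, 2, 3, 3, 1, 0, 7, 0, 7, 0, 0, 0, 7, 6, 7, 0, 7, 6, 7, 0, 6, 0, 0, 0, 0, 4, 7, 0, 7, 7, 0, 4, 6, 3, 7, 0, 0, 0, 2, 3, 2, 1, 7, 0, 0, 0, 7, 3, 3, 2, 6, 0, 0, 7, 0, 5, 6, 3, 3, 1, 0, 7, 6, 7, 0, 5, 0, 6, 5, 0, 2, 4, 7, 7, 7, 0, 7, 4, 5, 7, 1, 2, 2, 5, 7, 6, 7, 0, 5, 6, 3, 2, 0, 2, 1, 0, 7, 0, 6, 0, 0, 3, 2, 7, 2, 0, 4, 1, 4, 7, 5, 0, 0, 0, 0, 0, 0, 0, 0, 0, 0, 0, 0, 0, 0, 0, 0, 0, 0, 0, 0, 0, 0, 0, 0, 0, 0, 0, 0, 0, 0, 0, 0, 0, 0, 0, 0, 0, 0, 0, 0, 0, 0, 0, 0, 0, 0, 0, 0, 0, 0, 0, 0, 0, 0, 0, 0, 0, 0, 0, 0, 0, 0, 0, 0, 0, 0, 0, 0, 0, 0, 0, 0, 0, 0, 0, 0, 0, 0, 0, 0, 0, 0, 0, 0, 0, 0, 0, 0, 0, 0, 0, 0, 0, 0, 0, 0, 0, 0, 0, 0, 0, 0, 0, 0, 0, 0, 0, 0, 6],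
    [7, 7, 6, 0, 6, 7, 3, 2, 0, 6, 1, 5, 6, 1, 1, 7, 7, 6, 0, 0, 0, 7, 6, 6, 0, 0, 7, 7, 0, 7, 0, 0, 7, 0, 4, 7, 7, 7, 5, 0, 3, 6, 2, 0, 7, 6, 0, 3, 5, 2, 0, 7, 0, 7, 0, 6, 6, 5, 7, 5, 7, 0, 5, 0, 3, 7, 3, 1, 2, 7, 0, 7, 5, 0, 5, 0, 7, 4, 3, 2, 4, 7, 7, 6, 0, 6, 6, 6, 0, 3, 1, 5, 0, 7, 7, 5, 0, 0, 7, 2, 0, 6, 1, 4, 0, 4, 0, 7, 7, 0, 2, 5, 0, 7, 4, 6, 2, 4, 7, 0, 0, 0, 0, 0, 0, 0, 0, 0, 0, 0, 0, 0, 0, 0, 0, 0, 0, 0, 0, 0, 0, 0, 0, 0, 0, 0, 0, 0, 0, 0, 0, 0, 0, 0, 0, 0, 0, 0, 0, 0, 0, 0, 0, 0, 0, 0, 0, 0, 0, 0, 0, 0, 0, 0, 0, 0, 0, 0, 0, 0, 0, 0, 0, 0, 0, 0, 0, 0, 0, 0, 0, 0, 0, 0, 0, 0, 0, 0, 0, 0, 0, 0, 0, 0, 0, 0, 0, 0, 0, 0, 0, 0, 0, 0, 0, 0, 0, 0, 0, 0, 0, 0, 0, 0, 0, 0, 0, 0, 0, 0, 6, 0, 0, 0, 0, 0, 1, 1],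
    [0, 0, 7, 0, 1, 7, 6, 6, 2, 3, 6, 7, 0, 6, 0, 0, 0, 7, 0, 0, 0, 0, 1, 0, 0, 0, 7, 7, 0, 0, 0, 7, 6, 0, 1, 5, 0, 0, 7, 0, 1, 5, 5, 0, 0, 7, 0, 1, 6, 6, 2, 0, 0, 0, 0, 0, 0, 7, 3, 2, 0, 7, 6, 0, 1, 6, 3, 2, 2, 3, 0, 0, 7, 0, 0, 7, 7, 6, 5, 5, 7, 0, 7, 0, 0, 0, 7, 4, 1, 3, 7, 1, 7, 0, 7, 6, 0, 2, 0, 3, 7, 7, 4, 0, 7, 1, 0, 7, 0, 0, 1, 5, 1, 3, 7, 3, 1, 1, 6, 7, 0, 0, 0, 0, 0, 0, 0, 0, 0, 0, 0, 0, 0, 0, 0, 0, 0, 0, 0, 0, 0, 0, 0, 0, 0, 0, 0, 0, 0, 0, 0, 0, 0, 0, 0, 0, 0, 0, 0, 0, 0, 0, 0, 0, 0, 0, 0, 0, 0, 0, 0, 0, 0, 0, 0, 0, 0, 0, 0, 0, 0, 0, 0, 0, 0, 0, 0, 0, 0, 0, 0, 0, 0, 0, 0, 0, 0, 0, 0, 0, 0, 0, 0, 0, 0, 0, 0, 0, 0, 0, 0, 0, 0, 0, 0, 0, 0, 0, 0, 0, 0, 0, 0, 0, 0, 0, 0, 0, 0, 0, 0, 0, 0, 0, 0, 0, 0, 0, 0, 0, 6],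
    [0, 7, 0, 0, 1, 0, 7, 0, 2, 4, 7, 7, 6, 4, 3, 0, 0, 7, 0, 0, 0, 0, 0, 1, 0, 0, 7, 0, 0, 1, 0, 7, 6, 0, 2, 5, 0, 7, 0, 0, 1, 6, 7, 0, 7, 6, 0, 2, 7, 6, 2, 0, 7, 0, 0, 1, 0, 0, 4, 4, 0, 0, 7, 0, 1, 6, 5, 5, 3, 2, 0, 0, 7, 0, 0, 0, 0, 7, 6, 6, 7, 0, 0, 0, 0, 1, 2, 6, 0, 4, 6, 5, 1, 0, 7, 7, 0, 0, 7, 5, 2, 7, 7, 1, 7, 3, 0, 0, 0, 0, 2, 7, 7, 4, 0, 7, 7, 3, 1, 3, 0, 0, 0, 0, 0, 0, 0, 0, 0, 0, 0, 0, 0, 0, 0, 0, 0, 0, 0, 0, 0, 0, 0, 0, 0, 0, 0, 0, 0, 0, 0, 0, 0, 0, 0, 0, 0, 0, 0, 0, 0, 0, 0, 0, 0, 0, 0, 0, 0, 0, 0, 0, 0, 0, 0, 0, 0, 0, 0, 0, 0, 0, 0, 0, 0, 0, 0, 0, 0, 0, 0, 0, 0, 0, 0, 0, 0, 0, 0, 0, 0, 0, 0, 0, 0, 0, 0, 0, 0, 0, 0, 0, 0, 0, 0, 0, 0, 0, 0, 0, 0, 0, 0, 0, 0, 0, 0, 0, 0, 0, 0, 0, 0, 0, 0, 0, 0, 0, 0, 0, 0, 6],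
    [0, 7, 0, 0, 7, 0, 7, 7, 7, 7, 6, 6, 0, 3, 1, 0, 0, 0, 0, 0, 0, 0, 7, 0, 0, 0, 0, 0, 0, 0, 0, 7, 0, 0, 6, 0, 0, 7, 0, 0, 7, 0, 7, 0, 0, 0, 0, 7, 0, 6, 7, 0, 7, 0, 0, 7, 0, 7, 6, 7, 0, 0, 0, 0, 7, 0, 7, 7, 7, 5, 0, 7, 0, 0, 7, 0, 7, 6, 7, 5, 7, 0, 7, 0, 0, 0, 0, 6, 6, 6, 4, 5, 1, 0, 7, 0, 0, 6, 0, 7, 7, 7, 3, 6, 4, 3, 0, 7, 0, 0, 7, 0, 6, 0, 7, 4, 4, 1, 0, 2, 0, 0, 0, 0, 0, 0, 0, 0, 0, 0, 0, 0, 0, 0, 0, 0, 0, 0, 0, 0, 0, 0, 0, 0, 0, 0, 0, 0, 0, 0, 0, 0, 0, 0, 0, 0, 0, 0, 0, 0, 0, 0, 0, 0, 0, 0, 0, 0, 0, 0, 0, 0, 0, 0, 0, 0, 0, 0, 0, 0, 0, 0, 0, 0, 0, 0, 0, 0, 0, 0, 0, 0, 0, 0, 0, 0, 0, 0, 0, 0, 0, 0, 0, 0, 0, 0, 0, 0, 0, 0, 0, 0, 0, 0, 0, 0, 0, 0, 0, 0, 0, 0, 0, 0, 0, 0, 0, 0, 0, 0, 0, 0, 0, 0, 0, 0, 0, 0, 0, 0, 0, 0, 6],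
    [0, 7, 0, 0, 7, 0, 7, 7, 7, 7, 6, 6, 3, 5, 3, 0, 0, 0, 0, 0, 0, 0, 7, 0, 0, 0, 0, 0, 0, 0, 0, 0, 0, 0, 7, 0, 0, 7, 0, 0, 7, 0, 0, 0, 7, 0, 0, 6, 0, 7, 6, 0, 7, 0, 0, 7, 0, 0, 6, 7, 0, 0, 0, 0, 7, 0, 7, 0, 0, 6, 0, 7, 0, 0, 7, 0, 0, 7, 7, 6, 7, 0, 0, 0, 0, 0, 0, 0, 7, 5, 5, 7, 0, 0, 0, 0, 0, 7, 0, 0, 7, 5, 6, 5, 4, 5, 0, 0, 0, 0, 0, 0, 7, 6, 5, 5, 5, 2, 2, 4, 0, 0, 0, 0, 0, 0, 0, 0, 0, 0, 0, 0, 0, 0, 0, 0, 0, 0, 0, 0, 0, 0, 0, 0, 0, 0, 0, 0, 0, 0, 0, 0, 0, 0, 0, 0, 0, 0, 0, 0, 0, 0, 0, 0, 0, 0, 0, 0, 0, 0, 0, 0, 0, 0, 0, 0, 0, 0, 0, 0, 0, 0, 0, 0, 0, 0, 0, 0, 0, 0, 0, 0, 0, 0, 0, 0, 0, 0, 0, 0, 0, 0, 0, 0, 0, 0, 0, 0, 0, 0, 0, 0, 0, 0, 0, 0, 0, 0, 0, 0, 0, 0, 0, 0, 0, 0, 0, 0, 0, 0, 0, 0, 0, 0, 0, 0, 0, 0, 0, 0, 0, 0, 0, 6],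
    [0, 7, 0, 0, 7, 0, 6, 7, 6, 7, 6, 6, 6, 4, 1, 0, 0, 0, 0, 0, 0, 0, 7, 0, 0, 0, 0, 0, 0, 0, 0, 7, 0, 0, 6, 0, 0, 7, 0, 0, 7, 0, 7, 0, 7, 0, 0, 6, 0, 5, 6, 0, 0, 0, 0, 0, 0, 7, 7, 7, 0, 7, 0, 0, 6, 0, 6, 6, 5, 6, 0, 7, 0, 0, 7, 0, 7, 6, 5, 7, 6, 0, 7, 0, 0, 7, 0, 6, 6, 3, 6, 0, 3, 0, 7, 0, 0, 7, 0, 7, 7, 2, 0, 1, 2, 7, 0, 7, 0, 0, 0, 0, 5, 0, 3, 6, 1, 7, 5, 3, 0, 0, 0, 0, 0, 0, 0, 0, 0, 0, 0, 0, 0, 0, 0, 0, 0, 0, 0, 0, 0, 0, 0, 0, 0, 0, 0, 0, 0, 0, 0, 0, 0, 0, 0, 0, 0, 0, 0, 0, 0, 0, 0, 0, 0, 0, 0, 0, 0, 0, 0, 0, 0, 0, 0, 0, 0, 0, 0, 0, 0, 0, 0, 0, 0, 0, 0, 0, 0, 0, 0, 0, 0, 0, 0, 0, 0, 0, 0, 0, 0, 0, 0, 0, 0, 0, 0, 0, 0, 0, 0, 0, 0, 0, 0, 0, 0, 0, 0, 0, 0, 0, 0, 0, 0, 0, 0, 0, 0, 0, 0, 0, 0, 0, 0, 0, 0, 0, 0, 0, 0, 0, 0, 0, 6],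
    [0, 0, 7, 0, 7, 7, 6, 5, 6, 5, 6, 7, 4, 5, 7, 0, 0, 0, 0, 0, 0, 0, 0, 7, 0, 0, 0, 7, 0, 7, 0, 0, 0, 0, 6, 0, 0, 0, 7, 0, 7, 7, 6, 0, 0, 0, 0, 6, 6, 6, 6, 0, 0, 7, 0, 7, 7, 6, 5, 4, 0, 0, 0, 0, 7, 7, 6, 6, 5, 5, 0, 0, 7, 0, 7, 0, 7, 6, 5, 5, 7, 0, 0, 7, 0, 0, 7, 7, 2, 4, 3, 4, 4, 0, 0, 7, 0, 0, 0, 6, 5, 3, 7, 2, 5, 4, 0, 0, 7, 0, 6, 7, 0, 6, 3, 7, 3, 0, 7, 5, 0, 0, 0, 0, 0, 0, 0, 0, 0, 0, 0, 0, 0, 0, 0, 0, 0, 0, 0, 0, 0, 0, 0, 0, 0, 0, 0, 0, 0, 0, 0, 0, 0, 0, 0, 0, 0, 0, 0, 0, 0, 0, 0, 0, 0, 0, 0, 0, 0, 0, 0, 0, 0, 0, 0, 0, 0, 0, 0, 0, 0, 0, 0, 0, 0, 0, 0, 0, 0, 0, 0, 0, 0, 0, 0, 0, 0, 0, 0, 0, 0, 0, 0, 0, 0, 0, 0, 0, 0, 0, 0, 0, 0, 0, 0, 0, 0, 0, 0, 0, 0, 0, 0, 0, 0, 0, 0, 0, 0, 0, 0, 0, 0, 0, 0, 0, 0, 0, 0, 0, 0, 0, 0, 0, 0, 6]]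

/-- Part of the certificate. -/
def densePart21 : List (List ℕ) := [
    [0, 0, 7, 0, 7, 7, 6, 5, 6, 5, 6, 7, 6, 5, 7, 0, 0, 0, 0, 0, 0, 0, 0, 7, 0, 0, 0, 7, 0, 7, 0, 0, 0, 0, 6, 0, 0, 0, 7, 0, 7, 7, 6, 0, 0, 0, 0, 6, 6, 6, 6, 0, 0, 7, 0, 7, 7, 6, 5, 4, 0, 0, 0, 0, 7, 7, 6, 6, 5, 5, 0, 0, 0, 0, 0, 7, 7, 7, 5, 6, 7, 0, 0, 0, 0, 7, 6, 7, 1, 4, 4, 4, 7, 0, 0, 7, 0, 7, 7, 6, 5, 3, 7, 2, 7, 4, 0, 0, 7, 0, 7, 6, 0, 6, 3, 7, 3, 4, 1, 3, 0, 0, 0, 0, 0, 0, 0, 0, 0, 0, 0, 0, 0, 0, 0, 0, 0, 0, 0, 0, 0, 0, 0, 0, 0, 0, 0, 0, 0, 0, 0, 0, 0, 0, 0, 0, 0, 0, 0, 0, 0, 0, 0, 0, 0, 0, 0, 0, 0, 0, 0, 0, 0, 0, 0, 0, 0, 0, 0, 0, 0, 0, 0, 0, 0, 0, 0, 0, 0, 0, 0, 0, 0, 0, 0, 0, 0, 0, 0, 0, 0, 0, 0, 0, 0, 0, 0, 0, 0, 0, 0, 0, 0, 0, 0, 0, 0, 0, 0, 0, 0, 0, 0, 0, 0, 0, 0, 0, 0, 0, 0, 0, 0, 0, 0, 0, 0, 0, 0, 0, 0, 0, 0, 0, 0, 0, 6],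
    [0, 0, 7, 0, 7, 7, 5, 5, 4, 4, 6, 7, 0, 6, 3, 0, 0, 0, 0, 0, 0, 0, 0, 7, 0, 0, 0, 7, 0, 7, 0, 0, 7, 0, 7, 7, 0, 0, 7, 0, 7, 7, 5, 0, 0, 7, 0, 6, 6, 5, 3, 0, 0, 7, 0, 0, 6, 5, 5, 2, 0, 0, 0, 0, 7, 7, 6, 6, 4, 4, 0, 0, 0, 0, 0, 7, 7, 7, 4, 5, 7, 0, 0, 7, 0, 7, 6, 5, 0, 1, 5, 5, 0, 0, 0, 7, 0, 0, 7, 4, 6, 5, 6, 4, 7, 6, 0, 0, 0, 0, 7, 6, 7, 4, 1, 7, 4, 3, 7, 5, 0, 0, 0, 0, 0, 0, 0, 0, 0, 0, 0, 0, 0, 0, 0, 0, 0, 0, 0, 0, 0, 0, 0, 0, 0, 0, 0, 0, 0, 0, 0, 0, 0, 0, 0, 0, 0, 0, 0, 0, 0, 0, 0, 0, 0, 0, 0, 0, 0, 0, 0, 0, 0, 0, 0, 0, 0, 0, 0, 0, 0, 0, 0, 0, 0, 0, 0, 0, 0, 0, 0, 0, 0, 0, 0, 0, 0, 0, 0, 0, 0, 0, 0, 0, 0, 0, 0, 0, 0, 0, 0, 0, 0, 0, 0, 0, 0, 0, 0, 0, 0, 0, 0, 0, 0, 0, 0, 0, 0, 0, 0, 0, 0, 0, 0, 0, 0, 0, 0, 0, 0, 0, 0, 0, 0, 0, 0, 6],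
    [0, 7, 0, 0, 7, 0, 6, 7, 7, 6, 5, 7, 6, 4, 1, 0, 0, 0, 0, 0, 0, 0, 7, 0, 0, 0, 0, 0, 0, 0, 0, 7, 0, 0, 6, 0, 0, 7, 0, 0, 7, 0, 7, 0, 0, 0, 0, 7, 0, 6, 7, 0, 7, 0, 0, 7, 0, 6, 6, 7, 0, 7, 0, 0, 6, 0, 6, 6, 7, 4, 0, 0, 0, 0, 0, 0, 0, 7, 7, 6, 7, 0, 7, 0, 0, 7, 0, 6, 6, 6, 3, 0, 6, 0, 0, 0, 0, 7, 0, 0, 6, 7, 4, 4, 7, 4, 0, 0, 0, 0, 0, 0, 6, 0, 7, 2, 2, 4, 0, 4, 0, 0, 0, 0, 0, 0, 0, 0, 0, 0, 0, 0, 0, 0, 0, 0, 0, 0, 0, 0, 0, 0, 0, 0, 0, 0, 0, 0, 0, 0, 0, 0, 0, 0, 0, 0, 0, 0, 0, 0, 0, 0, 0, 0, 0, 0, 0, 0, 0, 0, 0, 0, 0, 0, 0, 0, 0, 0, 0, 0, 0, 0, 0, 0, 0, 0, 0, 0, 0, 0, 0, 0, 0, 0, 0, 0, 0, 0, 0, 0, 0, 0, 0, 0, 0, 0, 0, 0, 0, 0, 0, 0, 0, 0, 0, 0, 0, 0, 0, 0, 0, 0, 0, 0, 0, 0, 0, 0, 0, 0, 0, 0, 0, 0, 0, 0, 0, 0, 0, 0, 0, 0, 0, 0, 0, 0, 0, 0, 6],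
    [0, 0, 7, 0, 1, 7, 7, 6, 2, 4, 7, 6, 5, 0, 4, 0, 0, 7, 0, 0, 0, 0, 1, 0, 0, 0, 7, 7, 0, 0, 0, 0, 7, 0, 1, 6, 0, 0, 7, 0, 1, 5, 6, 0, 7, 6, 0, 1, 6, 7, 3, 0, 0, 0, 0, 0, 7, 0, 5, 3, 0, 0, 7, 0, 1, 5, 7, 2, 1, 3, 0, 7, 0, 0, 0, 0, 0, 6, 6, 6, 7, 0, 7, 0, 0, 0, 0, 6, 5, 3, 5, 1, 4, 0, 0, 7, 0, 2, 7, 6, 6, 6, 5, 4, 7, 5, 0, 7, 0, 0, 1, 5, 1, 5, 3, 3, 5, 3, 6, 3, 0, 0, 0, 0, 0, 0, 0, 0, 0, 0, 0, 0, 0, 0, 0, 0, 0, 0, 0, 0, 0, 0, 0, 0, 0, 0, 0, 0, 0, 0, 0, 0, 0, 0, 0, 0, 0, 0, 0, 0, 0, 0, 0, 0, 0, 0, 0, 0, 0, 0, 0, 0, 0, 0, 0, 0, 0, 0, 0, 0, 0, 0, 0, 0, 0, 0, 0, 0, 0, 0, 0, 0, 0, 0, 0, 0, 0, 0, 0, 0, 0, 0, 0, 0, 0, 0, 0, 0, 0, 0, 0, 0, 0, 0, 0, 0, 0, 0, 0, 0, 0, 0, 0, 0, 0, 0, 0, 0, 0, 0, 0, 0, 0, 0, 0, 0, 0, 0, 0, 0, 0, 0, 0, 0, 0, 0, 0, 0, 0, 0, 0, 0, 0, 0, 0, 6],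
    [0, 7, 0, 0, 1, 0, 0, 0, 4, 5, 0, 0, 5, 6, 7, 0, 0, 7, 0, 0, 0, 0, 0, 1, 0, 0, 7, 0, 0, 1, 0, 0, 7, 0, 2, 6, 0, 7, 0, 0, 1, 6, 0, 0, 0, 7, 0, 2, 7, 0, 5, 0, 7, 0, 0, 1, 1, 2, 6, 6, 0, 0, 7, 0, 1, 6, 0, 4, 5, 4, 0, 0, 7, 0, 0, 0, 1, 0, 1, 1, 0, 0, 0, 7, 0, 1, 1, 7, 2, 7, 5, 4, 0, 0, 0, 6, 0, 0, 0, 0, 1, 4, 3, 1, 1, 5, 0, 7, 7, 0, 2, 6, 0, 7, 1, 2, 1, 0, 1, 5, 0, 0, 0, 0, 0, 0, 0, 0, 0, 0, 0, 0, 0, 0, 0, 0, 0, 0, 0, 0, 0, 0, 0, 0, 0, 0, 0, 0, 0, 0, 0, 0, 0, 0, 0, 0, 0, 0, 0, 0, 0, 0, 0, 0, 0, 0, 0, 0, 0, 0, 0, 0, 0, 0, 0, 0, 0, 0, 0, 0, 0, 0, 0, 0, 0, 0, 0, 0, 0, 0, 0, 0, 0, 0, 0, 0, 0, 0, 0, 0, 0, 0, 0, 0, 0, 0, 0, 0, 0, 0, 0, 0, 0, 0, 0, 0, 0, 0, 0, 0, 0, 0, 0, 0, 0, 0, 0, 0, 0, 0, 0, 0, 0, 0, 0, 0, 0, 0, 0, 0, 0, 0, 0, 0, 0, 0, 0, 0, 0, 0, 0, 0, 0, 0, 0, 0, 6],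
    [0, 7, 0, 0, 7, 0, 7, 7, 6, 0, 6, 6, 1, 4, 4, 0, 0, 0, 0, 0, 0, 0, 7, 0, 0, 0, 0, 0, 0, 0, 0, 7, 0, 0, 6, 0, 0, 7, 0, 0, 7, 0, 7, 0, 7, 0, 0, 6, 0, 5, 6, 0, 0, 0, 0, 0, 0, 0, 7, 7, 0, 0, 0, 0, 7, 0, 7, 7, 6, 6, 0, 7, 0, 0, 7, 0, 7, 6, 5, 7, 7, 0, 0, 0, 0, 7, 0, 7, 5, 4, 7, 5, 2, 0, 7, 0, 0, 7, 0, 7, 7, 2, 0, 6, 2, 3, 0, 0, 0, 0, 7, 0, 5, 0, 4, 7, 4, 2, 2, 4, 0, 0, 0, 0, 0, 0, 0, 0, 0, 0, 0, 0, 0, 0, 0, 0, 0, 0, 0, 0, 0, 0, 0, 0, 0, 0, 0, 0, 0, 0, 0, 0, 0, 0, 0, 0, 0, 0, 0, 0, 0, 0, 0, 0, 0, 0, 0, 0, 0, 0, 0, 0, 0, 0, 0, 0, 0, 0, 0, 0, 0, 0, 0, 0, 0, 0, 0, 0, 0, 0, 0, 0, 0, 0, 0, 0, 0, 0, 0, 0, 0, 0, 0, 0, 0, 0, 0, 0, 0, 0, 0, 0, 0, 0, 0, 0, 0, 0, 0, 0, 0, 0, 0, 0, 0, 0, 0, 0, 0, 0, 0, 0, 0, 0, 0, 0, 0, 0, 0, 0, 0, 0, 0, 0, 0, 0, 0, 0, 0, 0, 0, 0, 0, 0, 0, 0, 0, 6],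
    [0, 7, 7, 0, 0, 7, 5, 5, 2, 3, 5, 6, 4, 6, 7, 0, 0, 7, 0, 0, 0, 0, 0, 0, 0, 0, 7, 7, 0, 0, 0, 7, 6, 0, 0, 5, 0, 7, 7, 0, 0, 5, 5, 0, 0, 7, 0, 0, 6, 5, 1, 0, 0, 0, 0, 0, 0, 7, 2, 2, 0, 7, 6, 0, 0, 6, 2, 2, 2, 2, 0, 7, 0, 0, 0, 0, 6, 5, 5, 5, 6, 0, 7, 0, 0, 0, 7, 4, 0, 0, 5, 0, 6, 0, 0, 7, 0, 0, 0, 4, 5, 6, 4, 0, 5, 2, 0, 0, 7, 0, 0, 6, 7, 2, 6, 2, 1, 0, 2, 1, 0, 0, 0, 0, 0, 0, 0, 0, 0, 0, 0, 0, 0, 0, 0, 0, 0, 0, 0, 0, 0, 0, 0, 0, 0, 0, 0, 0, 0, 0, 0, 0, 0, 0, 0, 0, 0, 0, 0, 0, 0, 0, 0, 0, 0, 0, 0, 0, 0, 0, 0, 0, 0, 0, 0, 0, 0, 0, 0, 0, 0, 0, 0, 0, 0, 0, 0, 0, 0, 0, 0, 0, 0, 0, 0, 0, 0, 0, 0, 0, 0, 0, 0, 0, 0, 0, 0, 0, 0, 0, 0, 0, 0, 0, 0, 0, 0, 0, 0, 0, 0, 0, 0, 0, 0, 0, 0, 0, 0, 0, 0, 0, 0, 0, 0, 0, 0, 0, 0, 0, 0, 0, 0, 0, 0, 0, 0, 0, 0, 0, 0, 0, 0, 0, 0, 0, 0, 0, 6],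
    [0, 7, 0, 0, 7, 0, 6, 7, 7, 6, 7, 7, 7, 4, 0, 0, 0, 0, 0, 0, 0, 0, 7, 0, 0, 0, 0, 0, 0, 0, 0, 7, 0, 0, 6, 0, 0, 7, 0, 0, 7, 0, 7, 0, 0, 0, 0, 7, 0, 6, 7, 0, 7, 0, 0, 7, 0, 6, 6, 7, 0, 0, 0, 0, 7, 0, 7, 7, 7, 5, 0, 0, 0, 0, 0, 0, 0, 7, 7, 6, 7, 0, 7, 0, 0, 0, 0, 6, 6, 6, 3, 5, 6, 0, 0, 0, 0, 7, 0, 0, 6, 7, 4, 6, 7, 4, 0, 7, 0, 0, 7, 0, 6, 0, 7, 3, 4, 4, 0, 5, 0, 0, 0, 0, 0, 0, 0, 0, 0, 0, 0, 0, 0, 0, 0, 0, 0, 0, 0, 0, 0, 0, 0, 0, 0, 0, 0, 0, 0, 0, 0, 0, 0, 0, 0, 0, 0, 0, 0, 0, 0, 0, 0, 0, 0, 0, 0, 0, 0, 0, 0, 0, 0, 0, 0, 0, 0, 0, 0, 0, 0, 0, 0, 0, 0, 0, 0, 0, 0, 0, 0, 0, 0, 0, 0, 0, 0, 0, 0, 0, 0, 0, 0, 0, 0, 0, 0, 0, 0, 0, 0, 0, 0, 0, 0, 0, 0, 0, 0, 0, 0, 0, 0, 0, 0, 0, 0, 0, 0, 0, 0, 0, 0, 0, 0, 0, 0, 0, 0, 0, 0, 0, 0, 0, 0, 0, 0, 0, 0, 0, 0, 0, 0, 0, 0, 0, 0, 0, 0, 6]]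

/-- Part of the certificate. -/
def densePart22 : List (List ℕ) := [
    [0, 0, 0, 0, 0, 0, 7, 0, 7, 0, 0, 0, 7, 7, 0, 0, 0, 0, 0, 0, 0, 0, 0, 0, 0, 0, 0, 0, 0, 0, 0, 0, 0, 0, 0, 0, 0, 0, 0, 0, 0, 0, 0, 0, 0, 0, 0, 0, 0, 7, 0, 0, 0, 0, 0, 0, 0, 0, 0, 0, 0, 0, 0, 0, 0, 0, 0, 0, 0, 0, 0, 0, 0, 0, 0, 0, 7, 0, 7, 0, 0, 0, 0, 0, 0, 0, 0, 0, 0, 7, 0, 0, 0, 0, 0, 0, 0, 0, 0, 7, 0, 7, 0, 0, 7, 0, 0, 0, 0, 0, 0, 0, 0, 0, 0, 0, 0, 0, 0, 0, 0, 0, 0, 0, 0, 0, 0, 0, 0, 0, 0, 0, 0, 0, 0, 0, 0, 0, 0, 0, 0, 0, 0, 0, 0, 0, 0, 0, 0, 0, 0, 0, 0, 0, 0, 0, 0, 0, 0, 0, 0, 0, 0, 0, 0, 0, 0, 0, 0, 0, 0, 0, 0, 0, 0, 0, 0, 0, 0, 0, 0, 0, 0, 0, 0, 0, 0, 0, 0, 0, 0, 0, 0, 0, 0, 0, 0, 0, 0, 0, 0, 0, 0, 0, 0, 0, 0, 0, 0, 0, 0, 0, 0, 0, 0, 0, 0, 0, 0, 0, 0, 0, 0, 0, 0, 0, 0, 0, 0, 0, 0, 0, 0, 0, 0, 0, 0, 0, 0, 0, 0, 0, 0, 0, 0, 0, 0, 0, 0, 0, 0, 0, 0, 0, 0, 0, 0, 0, 0, 0, 6],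
    [0, 0, 0, 0, 0, 0, 7, 0, 7, 0, 0, 0, 7, 7, 0, 0, 0, 0, 0, 0, 0, 0, 0, 0, 0, 0, 0, 0, 0, 0, 0, 0, 0, 0, 0, 0, 0, 0, 0, 0, 0, 0, 0, 0, 0, 0, 0, 0, 0, 7, 0, 0, 0, 0, 0, 0, 0, 0, 0, 0, 0, 0, 0, 0, 0, 0, 0, 0, 0, 0, 0, 0, 0, 0, 0, 0, 0, 0, 0, 0, 0, 0, 0, 0, 0, 0, 0, 7, 0, 6, 0, 0, 0, 0, 0, 0, 0, 0, 0, 7, 0, 7, 0, 0, 0, 7, 0, 0, 0, 0, 0, 0, 0, 0, 0, 0, 0, 0, 0, 0, 0, 0, 0, 0, 0, 0, 0, 0, 0, 0, 0, 0, 0, 0, 0, 0, 0, 0, 0, 0, 0, 0, 0, 0, 0, 0, 0, 0, 0, 0, 0, 0, 0, 0, 0, 0, 0, 0, 0, 0, 0, 0, 0, 0, 0, 0, 0, 0, 0, 0, 0, 0, 0, 0, 0, 0, 0, 0, 0, 0, 0, 0, 0, 0, 0, 0, 0, 0, 0, 0, 0, 0, 0, 0, 0, 0, 0, 0, 0, 0, 0, 0, 0, 0, 0, 0, 0, 0, 0, 0, 0, 0, 0, 0, 0, 0, 0, 0, 0, 0, 0, 0, 0, 0, 0, 0, 0, 0, 0, 0, 0, 0, 0, 0, 0, 0, 0, 0, 0, 0, 0, 0, 0, 0, 0, 0, 0, 0, 0, 0, 0, 0, 0, 0, 0, 0, 0, 0, 0, 0, 0, 6],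
    [0, 0, 7, 0, 7, 7, 6, 5, 6, 5, 6, 7, 5, 6, 7, 0, 0, 0, 0, 0, 0, 0, 0, 7, 0, 0, 0, 7, 0, 7, 0, 0, 0, 0, 6, 0, 0, 0, 7, 0, 7, 7, 6, 0, 0, 0, 0, 6, 6, 6, 6, 0, 0, 7, 0, 7, 7, 6, 5, 4, 0, 0, 0, 0, 7, 7, 6, 6, 5, 5, 0, 0, 0, 0, 0, 7, 7, 7, 5, 6, 7, 0, 0, 0, 0, 7, 6, 7, 1, 4, 4, 4, 7, 0, 0, 7, 0, 7, 7, 6, 5, 3, 7, 2, 7, 4, 0, 0, 7, 0, 7, 6, 0, 6, 3, 7, 3, 4, 1, 3, 0, 0, 0, 0, 0, 0, 0, 0, 0, 0, 0, 0, 0, 0, 0, 0, 0, 0, 0, 0, 0, 0, 0, 0, 0, 0, 0, 0, 0, 0, 0, 0, 0, 0, 0, 0, 0, 0, 0, 0, 0, 0, 0, 0, 0, 0, 0, 0, 0, 0, 0, 0, 0, 0, 0, 0, 0, 0, 0, 0, 0, 0, 0, 0, 0, 0, 0, 0, 0, 0, 0, 0, 0, 0, 0, 0, 0, 0, 0, 0, 0, 0, 0, 0, 0, 0, 0, 0, 0, 0, 0, 0, 0, 0, 0, 0, 0, 0, 0, 0, 0, 0, 0, 0, 0, 0, 0, 0, 0, 0, 0, 0, 0, 0, 0, 0, 0, 0, 0, 0, 0, 0, 0, 0, 0, 0, 0, 0, 0, 0, 0, 0, 0, 0, 0, 0, 0, 0, 0, 0, 0, 0, 6],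
    [0, 7, 0, 0, 7, 0, 6, 7, 7, 6, 5, 7, 6, 4, 1, 0, 0, 0, 0, 0, 0, 0, 7, 0, 0, 0, 0, 0, 0, 0, 0, 7, 0, 0, 6, 0, 0, 7, 0, 0, 7, 0, 7, 0, 0, 0, 0, 7, 0, 6, 7, 0, 7, 0, 0, 7, 0, 6, 6, 7, 0, 7, 0, 0, 6, 0, 6, 6, 7, 4, 0, 0, 0, 0, 0, 0, 0, 7, 7, 6, 7, 0, 7, 0, 0, 7, 0, 6, 6, 6, 3, 0, 6, 0, 0, 0, 0, 7, 0, 0, 6, 7, 4, 4, 7, 4, 0, 0, 0, 0, 0, 0, 6, 0, 7, 2, 2, 4, 0, 4, 0, 0, 0, 0, 0, 0, 0, 0, 0, 0, 0, 0, 0, 0, 0, 0, 0, 0, 0, 0, 0, 0, 0, 0, 0, 0, 0, 0, 0, 0, 0, 0, 0, 0, 0, 0, 0, 0, 0, 0, 0, 0, 0, 0, 0, 0, 0, 0, 0, 0, 0, 0, 0, 0, 0, 0, 0, 0, 0, 0, 0, 0, 0, 0, 0, 0, 0, 0, 0, 0, 0, 0, 0, 0, 0, 0, 0, 0, 0, 0, 0, 0, 0, 0, 0, 0, 0, 0, 0, 0, 0, 0, 0, 0, 0, 0, 0, 0, 0, 0, 0, 0, 0, 0, 0, 0, 0, 0, 0, 0, 0, 0, 0, 0, 0, 0, 0, 0, 0, 0, 0, 0, 0, 0, 0, 0, 0, 0, 0, 0, 0, 0, 0, 0, 0, 0, 0, 0, 0, 0, 0, 0, 0, 6]]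

/-- Part of the certificate. -/
def tgtPart0 : List (List (ℕ × ℕ) × List (ℕ × ℕ)) := [
    ([(0, 1), (1, 1)], [(0, 3), (1, 1), (2, 2), (3, 4), (5, 5), (6, 5), (7, 3), (8, 1), (10, 6), (11, 4), (12, 2), (14, 2), (15, 6), (16, 3), (17, 6), (19, 6), (21, 5), (22, 1), (23, 7), (24, 1), (25, 5), (26, 4), (27, 4), (28, 4), (29, 4), (30, 7), (31, 2), (35, 7), (36, 2), (37, 1), (38, 7), (39, 2), (40, 3), (41, 1), (42, 2), (43, 2), (44, 4), (45, 3), (46, 7), (47, 6), (49, 1), (50, 7), (51, 3), (52, 3), (53, 7), (54, 4), (55, 7), (56, 3), (57, 4), (58, 1), (59, 7), (61, 4), (63, 5), (64, 5), (65, 7), (66, 3), (67, 1), (68, 2), (69, 3), (70, 7), (71, 2), (72, 5), (74, 6), (75, 3), (76, 4), (77, 7), (78, 1), (79, 2), (80, 6), (81, 3), (82, 2), (83, 7), (84, 2), (85, 2), (86, 3), (87, 6), (88, 2), (89, 6), (90, 2), (92, 4), (93, 6), (94, 5), (96, 7), (97, 3), (98, 7), (99,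 7), (101, 4), (102, 2), (103, 3), (104, 6), (105, 1), (107, 1), (108, 5), (109, 6), (110, 6), (111, 5), (112, 2), (113, 7), (114, 4), (115, 7), (116, 1), (117, 2), (118, 7), (119, 6), (120, 1), (121, 4), (122, 4), (123, 4), (125, 4), (126, 7), (127, 1), (129, 4), (132, 7), (133, 6), (134, 4), (135, 6), (136, 7), (137, 6), (138, 5), (140, 4), (141, 2), (143, 6), (144, 2), (145, 6), (146, 2), (147, 1), (148, 6), (149, 4), (150, 1), (151, 5), (152, 4), (153, 4), (154, 4), (155, 2), (156, 2), (157, 1), (158, 1), (159, 4), (160, 4), (161, 5), (163, 4), (164, 7), (165, 6), (166, 4), (168, 1), (169, 1), (170, 7), (171, 7), (172, 5), (173, 1), (175, 3), (176, 2), (177, 6), (178, 2), (179, 1)]),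
    ([(0, 1), (1, 1)], [(0, 3), (1, 6), (2, 2), (3, 5), (4, 2), (6, 5), (7, 1), (8, 3), (9, 4), (10, 5), (12, 3), (13, 2), (14, 4), (15, 1), (16, 1), (18, 4), (19, 7), (20, 6), (21, 1), (22, 2), (23, 5), (24, 2), (25, 5), (26, 5), (27, 6), (28, 6), (29, 7), (30, 2), (31, 7), (32, 6), (33, 6), (34, 1), (35, 2), (36, 5), (37, 3), (39, 3), (40, 6), (41, 6), (42, 2), (43, 5), (45, 5), (47, 6), (48, 7), (49, 3), (50, 1), (52, 2), (53, 7), (54, 3), (55, 4), (57, 6), (58, 4), (59, 6), (60, 1), (62, 6), (63, 3), (64, 6), (65, 6), (66, 2), (67, 2), (68, 4), (69, 7), (70, 4), (71, 7), (72, 7), (73, 1), (74, 5), (75, 1), (76, 4), (77, 2), (79, 6), (80, 7), (81, 4), (82, 3), (83, 2), (84, 3), (85, 2), (86, 3), (87, 7), (88, 6), (89, 1), (90, 6), (91, 3), (93, 4), (94, 1), (95, 6), (96, 4), (97, 1), (98, 1), (99, 1), (100, 4), (101, 2), (104, 6), (105, 2), (106, 1), (107, 6),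 (108, 1), (110, 7), (112, 7), (114, 5), (115, 5), (116, 2), (117, 5), (118, 5), (119, 6), (120, 4), (123, 7), (124, 4), (125, 1), (126, 7), (127, 6), (129, 2), (132, 3), (133, 4), (134, 4), (135, 3), (136, 5), (137, 2), (139, 3), (140, 3), (141, 1), (142, 2), (145, 5), (146, 3), (147, 5), (148, 3), (149, 4), (151, 3), (152, 1), (153, 1), (154, 6), (155, 5), (156, 2), (157, 3), (158, 5), (159, 7), (160, 3), (161, 4), (162, 1), (163, 5), (164, 3), (166, 5), (168, 1), (169, 6), (170, 4), (171, 5), (173, 7), (174, 3), (176, 2), (177, 2), (179, 3)]),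
    ([], [(0, 3), (1, 5), (3, 5), (4, 1), (5, 5), (6, 7), (7, 1), (8, 2), (9, 4), (10, 4), (11, 7), (12, 6), (13, 2), (14, 2), (15, 6), (16, 2), (17, 5), (19, 6), (20, 5), (21, 3), (22, 1), (23, 5), (24, 4), (25, 5), (26, 3), (27, 1), (28, 4), (29, 2), (30, 7), (31, 3), (33, 1), (34, 7), (35, 1), (36, 5), (38, 1), (39, 3), (40, 3), (41, 3), (42, 3), (43, 2), (44, 6), (45, 6), (46, 2), (48, 5), (49, 4), (50, 5), (51, 5), (52, 2), (53, 3), (55, 4), (56, 1), (57, 1), (59, 6), (61, 3), (62, 1), (63, 7), (64, 6), (65, 1), (66, 1), (67, 7), (68, 3), (69, 5), (70, 3), (71, 2), (72, 3), (73, 3), (74, 7), (75, 3), (76, 1), (78, 3), (79, 7), (80, 3), (81, 1), (82, 6), (83, 6), (85, 4), (86, 2), (87, 3), (88, 7), (89, 7), (90, 7), (91, 1), (92, 6), (93, 1), (94, 3), (95, 2), (96, 6), (97, 4), (99, 2), (101, 3), (102, 7), (103, 6), (104, 3), (105, 6), (106, 1), (107, 2), (108,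 6), (109, 1), (110, 5), (111, 3), (112, 1), (113, 6), (114, 7), (115, 7), (116, 4), (117, 7), (118, 4), (119, 2), (120, 3), (121, 5), (122, 1), (123, 5), (125, 7), (126, 4), (127, 7), (128, 6), (130, 2), (131, 6), (132, 3), (134, 5), (135, 7), (136, 7), (137, 4), (139, 5), (140, 7), (141, 1), (142, 6), (144, 2), (145, 5), (146, 3), (147, 2), (148, 3), (149, 1), (150, 4), (151, 1), (152, 4), (153, 7), (154, 1), (155, 5), (156, 2), (157, 5), (158, 1), (159, 7), (160, 3), (161, 3), (162, 4), (163, 4), (165, 5), (166, 7), (169, 1), (170, 7), (171, 7), (172, 1), (173, 2), (175, 5), (176, 6), (177, 3), (178, 1), (179, 6)]),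
    ([(0, 1), (1, 1)], [(0, 1), (1, 6), (2, 3), (3, 6), (4, 1), (5, 1), (6, 2), (7, 4), (8, 1), (9, 7), (10, 2), (11, 6), (12, 5), (14, 4), (15, 1), (16, 7), (17, 4), (18, 6), (19, 6), (20, 6), (22, 7), (23, 3), (25, 7), (26, 5), (27, 5), (28, 6), (29, 2), (30, 1), (31, 4), (32, 7), (33, 1), (34, 2), (35, 6), (37, 6), (38, 7), (39, 4), (40, 6), (41, 7), (42, 3), (43, 3), (44, 5), (47, 4), (48, 3), (49, 6), (51, 2), (52, 2), (53, 3), (55, 4), (56, 4), (57, 4), (58, 6), (59, 6), (60, 4), (62, 7), (63, 2), (64, 5), (65, 6), (66, 1), (67, 1), (68, 2), (69, 1), (70, 6), (71, 4), (72, 3), (73, 5), (74, 4), (75, 4), (76, 5), (77, 6), (78, 3), (79, 3), (80, 1), (81, 7), (82, 7), (84, 2), (85, 1), (86, 1), (88, 7), (89, 5), (90, 1), (91, 2), (92, 6), (93, 1), (94, 2), (95, 1), (96, 6), (97, 6), (98, 4), (99, 3), (100, 4), (101, 1), (102, 1), (103, 7), (104, 7), (105, 3),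 (106, 3), (107, 7), (108, 5), (109, 7), (110, 3), (111, 2), (112, 3), (113, 5), (114, 5), (116, 7), (117, 1), (118, 3), (119, 4), (120, 6), (121, 1), (122, 7), (123, 5), (125, 7), (126, 1), (128, 4), (129, 1), (132, 2), (133, 6), (136, 1), (137, 3), (138, 4), (139, 3), (140, 7), (141, 1), (142, 1), (143, 7), (145, 2), (146, 6), (147, 2), (148, 7), (149, 2), (150, 6), (151, 3), (152, 6), (153, 1), (154, 5), (155, 7), (156, 3), (157, 6), (159, 7), (160, 4), (161, 1), (162, 5), (163, 3), (165, 1), (166, 1), (170, 6), (171, 4), (172, 6), (173, 2), (174, 2), (176, 6), (177, 2)]),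
    ([], [(0, 5), (1, 5), (2, 2), (3, 2), (4, 2), (5, 4), (6, 2), (7, 6), (9, 5), (10, 2), (11, 7), (13, 2), (14, 4), (15, 6), (16, 4), (17, 5), (20, 5), (21, 2), (22, 7), (24, 1), (25, 6), (26, 4), (27, 5), (28, 3), (29, 2), (30, 7), (31, 3), (32, 5), (33, 6), (34, 1), (35, 1), (36, 1), (37, 6), (38, 3), (39, 1), (40, 7), (41, 3), (43, 1), (44, 6), (45, 6), (47, 4), (48, 3), (49, 1), (50, 1), (51, 3), (52, 2), (53, 6), (54, 6), (55, 4), (57, 1), (58, 4), (59, 1), (60, 7), (61, 3), (62, 7), (63, 7), (64, 6), (65, 2), (66, 1), (67, 2), (68, 6), (69, 4), (70, 2), (71, 1), (72, 1), (73, 7), (74, 1), (75, 3), (76, 6), (77, 7), (78, 7), (80, 2), (81, 6), (82, 4), (83, 5), (84, 2), (86, 3), (87, 5), (88, 1), (89, 5), (90, 1), (91, 5), (92, 4), (93, 1), (94, 5), (95, 3), (96, 2), (97, 4), (99, 4), (100, 4), (102, 1), (103, 5), (104, 4), (106, 1), (107, 6), (109, 7), (110,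 2), (112, 1), (113, 6), (114, 6), (116, 1), (117, 3), (118, 6), (119, 3), (120, 4), (121, 7), (122, 6), (126, 4), (128, 4), (129, 4), (133, 4), (134, 4), (136, 4), (137, 6), (138, 2), (139, 2), (140, 6), (141, 4), (142, 4), (148, 4), (149, 4), (150, 6), (152, 4), (153, 3), (154, 4), (155, 2), (156, 1), (157, 6), (159, 5), (160, 1), (161, 6), (163, 4), (165, 4), (166, 7), (168, 7), (169, 4), (170, 4), (171, 2), (172, 3), (173, 6), (174, 1), (175, 4), (176, 4), (177, 2), (178, 1), (179, 3)]),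
    ([], [(0, 1), (1, 4), (2, 1), (3, 6), (5, 4), (6, 4), (7, 1), (8, 2), (9, 5), (10, 4), (12, 2), (13, 1), (14, 7), (15, 6), (16, 2), (17, 7), (18, 3), (19, 6), (20, 1), (21, 2), (23, 4), (24, 3), (25, 6), (26, 3), (27, 3), (28, 4), (29, 4), (30, 2), (32, 4), (33, 1), (34, 3), (36, 7), (37, 2), (38, 1), (39, 6), (40, 1), (41, 2), (43, 6), (44, 3), (45, 3), (46, 6), (47, 4), (48, 7), (49, 4), (50, 6), (51, 3), (52, 5), (53, 5), (54, 3), (55, 3), (56, 2), (57, 7), (58, 2), (59, 4), (60, 5), (61, 3), (62, 7), (64, 2), (65, 7), (66, 5), (67, 7), (68, 4), (69, 1), (70, 7), (71, 5), (72, 4), (73, 3), (75, 6), (76, 1), (77, 3), (78, 2), (79, 4), (80, 7), (81, 6), (82, 7), (83, 7), (84, 6), (85, 1), (86, 2), (87, 6), (88, 6), (89, 2), (90, 3), (91, 2), (92, 4), (93, 2), (94, 3), (95, 2), (96, 4), (97, 1), (98, 6), (99, 2), (101, 1), (102, 5), (104, 2), (105, 3), (106,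 5), (107, 4), (108, 2), (109, 3), (110, 1), (111, 3), (112, 2), (113, 5), (114, 6), (115, 5), (116, 7), (117, 2), (118, 3), (119, 1), (120, 7), (121, 2), (123, 1), (129, 5), (132, 1), (133, 3), (136, 6), (137, 2), (138, 6), (139, 4), (140, 3), (141, 5), (142, 5), (143, 1), (145, 5), (146, 4), (147, 2), (149, 5), (150, 1), (151, 4), (152, 7), (154, 7), (155, 7), (156, 1), (157, 4), (158, 1), (159, 4), (160, 1), (161, 1), (162, 2), (163, 2), (164, 3), (165, 7), (166, 1), (167, 2), (168, 3), (169, 4), (171, 2), (172, 2), (173, 4), (174, 7), (176, 2), (178, 1)]),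
    ([(0, 1), (1, 1)], [(0, 7), (1, 1), (2, 1), (3, 3), (4, 5), (5, 2), (6, 3), (7, 1), (9, 6), (10, 1), (11, 4), (12, 2), (13, 3), (14, 2), (15, 6), (16, 5), (17, 4), (18, 1), (19, 1), (20, 7), (21, 2), (22, 4), (23, 5), (24, 5), (25, 6), (26, 1), (27, 5), (28, 1), (29, 6), (31, 1), (32, 5), (33, 1), (34, 3), (35, 2), (36, 4), (37, 3), (38, 5), (39, 7), (41, 6), (42, 6), (43, 5), (44, 7), (45, 2), (46, 1), (48, 3), (49, 7), (50, 1), (52, 3), (53, 6), (54, 1), (56, 4), (57, 1), (58, 2), (59, 5), (60, 1), (61, 1), (62, 3), (63, 5), (64, 7), (65, 7), (66, 7), (68, 1), (69, 7), (70, 6), (71, 4), (72, 1), (73, 6), (74, 3), (75, 4), (76, 1), (78, 2), (79, 2), (80, 4), (81, 3), (83, 7), (84, 5), (85, 7), (86, 3), (87, 6), (89, 1), (90, 5), (91, 2), (93, 3), (94, 6), (96, 4), (99, 5), (100, 4), (101, 5), (102, 3), (104, 7), (105, 4), (106, 5), (107, 6), (108, 2), (109,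 5), (110, 3), (111, 2), (112, 6), (113, 2), (115, 2), (117, 2), (118, 6), (119, 6), (120, 2), (121, 2), (122, 4), (123, 4), (125, 2), (128, 4), (132, 4), (133, 3), (134, 3), (135, 4), (136, 2), (137, 4), (138, 6), (139, 4), (141, 4), (142, 4), (143, 6), (144, 2), (145, 2), (147, 6), (148, 4), (149, 7), (150, 1), (151, 4), (153, 3), (154, 4), (155, 4), (156, 5), (158, 2), (159, 4), (160, 6), (161, 6), (164, 5), (165, 4), (166, 5), (168, 5), (169, 3), (170, 5), (171, 6), (172, 3), (173, 5), (174, 1), (175, 7), (176, 4), (178, 1), (179, 1)]),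
    ([], [(0, 4), (1, 5), (2, 6), (3, 5), (4, 4), (5, 7), (6, 1), (7, 4), (8, 7), (9, 2), (10, 2), (11, 5), (12, 2), (13, 4), (16, 5), (17, 2), (18, 4), (19, 6), (20, 7), (21, 1), (22, 4), (23, 4), (24, 4), (26, 2), (27, 5), (28, 5), (29, 5), (30, 6), (31, 2), (32, 1), (33, 2), (34, 5), (35, 7), (36, 3), (37, 3), (38, 7), (40, 1), (41, 5), (42, 7), (43, 1), (44, 4), (45, 5), (46, 7), (47, 7), (48, 6), (49, 4), (50, 1), (51, 5), (52, 5), (53, 4), (54, 5), (55, 1), (58, 2), (59, 4), (60, 5), (61, 5), (62, 6), (64, 7), (65, 3), (66, 2), (69, 1), (70, 4), (73, 3), (74, 2), (75, 2), (76, 3), (77, 5), (78, 2), (79, 1), (80, 4), (81, 7), (82, 1), (83, 2), (84, 5), (85, 1), (86, 5), (87, 3), (88, 3), (89, 6), (91, 5), (92, 3), (93, 3), (94, 7), (96, 1), (97, 5), (98, 3), (99, 6), (100, 4), (101, 4), (102, 1), (104, 4), (105, 5), (106, 5), (107, 5), (108, 5), (109, 7), (110,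 2), (111, 2), (112, 3), (113, 1), (115, 1), (116, 6), (117, 1), (118, 6), (119, 4), (120, 6), (121, 2), (122, 3), (123, 5), (125, 3), (126, 7), (132, 7), (133, 7), (134, 5), (135, 7), (136, 7), (137, 6), (138, 2), (139, 7), (140, 7), (141, 7), (142, 4), (143, 2), (145, 3), (146, 7), (147, 7), (149, 3), (150, 5), (151, 3), (152, 5), (153, 3), (154, 2), (156, 6), (157, 2), (158, 3), (159, 5), (160, 5), (161, 7), (162, 5), (163, 1), (164, 2), (165, 3), (166, 7), (168, 2), (169, 5), (170, 6), (171, 2), (172, 4), (173, 2), (174, 2), (175, 5), (176, 3), (177, 7), (178, 1), (179, 1)])]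

/-- Part of the certificate. -/
def tgtPart1 : List (List (ℕ × ℕ) × List (ℕ × ℕ)) := [
    ([], [(0, 3), (1, 1), (2, 3), (3, 7), (4, 6), (5, 6), (6, 7), (7, 4), (8, 5), (9, 7), (10, 3), (11, 2), (12, 7), (13, 7), (14, 3), (15, 1), (17, 7), (18, 7), (19, 4), (20, 4), (21, 6), (22, 2), (23, 6), (24, 4), (25, 3), (26, 3), (27, 7), (28, 4), (29, 1), (32, 1), (33, 2), (34, 4), (35, 2), (36, 1), (37, 2), (38, 1), (39, 3), (40, 3), (42, 7), (43, 2), (44, 1), (45, 2), (46, 5), (47, 6), (48, 7), (49, 7), (51, 5), (52, 7), (53, 3), (54, 6), (55, 2), (56, 1), (58, 6), (59, 3), (60, 4), (61, 3), (62, 4), (63, 3), (64, 2), (65, 2), (66, 7), (67, 3), (68, 4), (69, 7), (70, 1), (71, 2), (72, 6), (73, 2), (74, 5), (75, 5), (76, 5), (77, 5), (78, 2), (79, 7), (80, 4), (81, 1), (82, 1), (84, 4), (85, 2), (86, 3), (87, 1), (88, 1), (90, 7), (91, 4), (92, 2), (93, 4), (96, 2), (97,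 2), (98, 6), (99, 6), (101, 2), (102, 4), (103, 2), (104, 6), (105, 4), (106, 4), (107, 4), (108, 4), (109, 4), (110, 6), (111, 4), (112, 2), (113, 2), (114, 4), (115, 6), (116, 4), (117, 2), (119, 2), (122, 6), (125, 6), (126, 2), (129, 2), (132, 2), (133, 2), (134, 4), (135, 6), (136, 4), (137, 6), (140, 6), (141, 4), (142, 6), (144, 2), (145, 4), (146, 6), (147, 4), (151, 2), (153, 2), (154, 2), (155, 6), (156, 2), (157, 6), (158, 4), (159, 6), (160, 6), (161, 4), (164, 6), (166, 2), (168, 6), (169, 4), (171, 2), (173, 6), (175, 6), (176, 4), (178, 2)]),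
    ([(0, 1)], [(0, 5), (1, 2), (2, 6), (3, 4), (4, 2), (5, 2), (6, 6), (7, 3), (8, 6), (10, 6), (11, 3), (12, 1), (13, 5), (15, 5), (16, 6), (17, 2), (18, 6), (19, 2), (20, 3), (21, 5), (22, 3), (23, 4), (24, 6), (26, 6), (27, 5), (28, 2), (29, 1), (30, 4), (31, 4), (32, 2), (33, 2), (34, 6), (35, 7), (36, 3), (37, 6), (38, 7), (39, 7), (40, 2), (41, 3), (42, 7), (43, 6), (46, 7), (47, 1), (48, 1), (50, 2), (51, 3), (52, 7), (53, 6), (55, 7), (56, 2), (57, 3), (58, 4), (59, 2), (60, 3), (61, 5), (62, 7), (63, 2), (64, 2), (65, 1), (66, 5), (67, 7), (68, 6), (69, 2), (70, 5), (71, 5), (73, 2), (75, 7), (76, 5), (77, 3), (78, 5), (79, 5), (80, 4), (81, 4), (82, 7), (83, 1), (84, 4), (86, 2), (87, 5), (88, 7), (89, 2), (91, 2), (92, 1), (93, 1), (94, 1), (96, 3), (97, 1), (98, 4), (101, 2), (102, 2), (103, 3), (104, 2), (105, 5), (106, 5), (107, 3), (108, 6), (109,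 6), (110, 5), (111, 4), (112, 4), (113, 7), (114, 7), (115, 6), (116, 6), (117, 4), (118, 3), (119, 2), (120, 4), (121, 2), (122, 3), (123, 2), (126, 4), (127, 4), (129, 4), (132, 5), (133, 5), (135, 2), (136, 4), (137, 7), (138, 3), (139, 5), (140, 5), (141, 2), (142, 2), (143, 6), (144, 2), (145, 6), (146, 1), (148, 6), (149, 4), (150, 4), (151, 3), (152, 6), (153, 3), (154, 3), (155, 1), (156, 3), (158, 5), (159, 5), (160, 3), (161, 2), (162, 7), (163, 3), (164, 3), (165, 2), (166, 7), (167, 6), (168, 2), (169, 2), (170, 4), (171, 5), (172, 6), (174, 2), (175, 6), (176, 4), (177, 5), (178, 1), (179, 6)]),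
    ([], [(0, 4), (1, 5), (2, 6), (3, 2), (4, 1), (5, 1), (6, 3), (7, 1), (8, 7), (9, 2), (10, 1), (11, 6), (12, 6), (13, 7), (14, 7), (15, 6), (16, 1), (17, 6), (18, 5), (20, 1), (21, 5), (24, 2), (25, 1), (27, 5), (28, 3), (29, 6), (30, 7), (31, 2), (32, 6), (33, 7), (34, 6), (36, 2), (37, 2), (38, 3), (39, 7), (40, 7), (41, 3), (42, 5), (43, 2), (44, 2), (45, 6), (46, 2), (47, 4), (48, 3), (49, 6), (50, 6), (53, 5), (54, 3), (55, 3), (56, 1), (57, 1), (59, 7), (60, 4), (61, 1), (62, 6), (63, 2), (64, 3), (65, 4), (68, 3), (70, 1), (71, 1), (72, 7), (73, 3), (74, 5), (75, 4), (76, 7), (78, 5), (79, 5), (80, 7), (81, 5), (83, 1), (84, 3), (85, 6), (86, 6), (87, 4), (88, 3), (89, 3), (90, 5), (91, 2), (92, 3), (93, 1), (94, 5), (95, 6), (96, 4), (98, 6), (99, 4), (100, 4), (101, 6), (103, 2), (104, 6), (106, 2), (107, 4), (108, 2), (110, 4), (111, 2), (112, 4),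 (113, 4), (114, 4), (115, 4), (116, 4), (117, 4), (118, 2), (120, 2), (121, 6), (122, 6), (123, 4), (125, 2), (126, 4), (129, 6), (135, 6), (136, 6), (137, 6), (138, 2), (140, 2), (141, 4), (142, 6), (143, 2), (145, 2), (146, 4), (147, 6), (148, 4), (149, 4), (150, 4), (151, 4), (152, 2), (154, 2), (155, 6), (156, 2), (157, 2), (158, 4), (159, 2), (160, 4), (162, 2), (163, 6), (164, 6), (166, 2), (169, 6), (170, 4), (171, 6), (172, 4), (175, 6), (176, 6), (177, 6), (179, 6)]),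
    ([], [(0, 2), (1, 7), (2, 6), (3, 6), (5, 7), (6, 4), (7, 1), (8, 1), (9, 5), (10, 7), (11, 4), (12, 2), (13, 6), (14, 1), (16, 2), (17, 5), (18, 5), (19, 2), (20, 5), (21, 6), (22, 4), (23, 2), (24, 5), (25, 5), (26, 6), (27, 3), (28, 6), (29, 5), (30, 7), (31, 4), (33, 4), (35, 2), (36, 7), (41, 5), (42, 2), (43, 5), (44, 7), (45, 7), (46, 6), (47, 3), (48, 7), (49, 4), (50, 4), (51, 1), (52, 7), (53, 6), (54, 4), (55, 3), (56, 6), (57, 4), (58, 1), (59, 6), (60, 3), (61, 5), (63, 5), (64, 5), (65, 7), (66, 2), (68, 1), (69, 1), (70, 5), (71, 2), (72, 3), (73, 5), (74, 4), (75, 5), (76, 6), (77, 5), (78, 3), (79, 2), (80, 1), (81, 5), (82, 5), (83, 4), (84, 4), (85, 7), (86, 1), (87, 7), (88, 6), (89, 2), (90, 1), (91, 1), (92, 3), (93, 3), (94, 3), (95, 1), (97, 2), (98, 4), (100, 4), (101, 6), (103, 6), (104, 6), (105, 4), (106, 6), (108, 2), (111, 6), (112,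 6), (113, 4), (114, 6), (115, 6), (116, 4), (117, 6), (119, 2), (120, 2), (121, 2), (122, 2), (123, 4), (125, 2), (126, 6), (132, 6), (134, 4), (135, 4), (136, 2), (137, 2), (139, 6), (143, 4), (144, 4), (146, 2), (150, 4), (151, 4), (153, 6), (154, 4), (156, 2), (157, 6), (158, 6), (159, 2), (160, 2), (161, 4), (162, 2), (163, 6), (165, 4), (168, 2), (169, 6), (170, 2), (171, 4), (172, 6), (173, 2), (175, 6), (176, 4), (177, 2)]),
    ([], [(0, 6), (1, 7), (3, 4), (4, 6), (5, 4), (6, 1), (7, 6), (8, 5), (9, 2), (10, 5), (12, 4), (13, 2), (14, 1), (15, 4), (16, 7), (17, 5), (18, 7), (19, 5), (20, 4), (21, 2), (22, 5), (23, 1), (24, 5), (25, 2), (26, 2), (27, 5), (28, 5), (29, 4), (30, 5), (31, 5), (32, 4), (33, 3), (34, 3), (36, 7), (37, 1), (39, 6), (40, 1), (41, 1), (42, 3), (43, 6), (45, 3), (46, 3), (47, 5), (48, 7), (49, 3), (51, 5), (52, 5), (54, 7), (55,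 2), (56, 4), (57, 5), (58, 7), (59, 2), (60, 2), (61, 4), (62, 5), (63, 5), (64, 6), (65, 1), (66, 2), (67, 2), (68, 1), (69, 1), (70, 7), (71, 6), (72, 6), (73, 3), (74, 6), (75, 4), (76, 5), (78, 4), (79, 5), (80, 4), (81, 4), (84, 6), (85, 7), (88, 6), (90, 6), (91, 1), (92, 3), (93, 5), (94, 7), (95, 5), (96, 2), (97, 4), (99, 6), (103, 6), (105, 2), (107, 6), (108, 2), (111, 6), (112, 4), (113, 6), (115, 6), (116, 2), (117, 4), (118, 2), (119, 4), (120, 6), (121, 4), (122, 4), (125, 2), (126, 4), (134, 2), (136, 6), (137, 4), (138, 6), (139, 4), (140, 2), (149, 2), (150, 2), (151, 2), (153, 6), (154, 6), (155, 6), (156, 2), (164, 6), (166, 2), (168, 6), (169, 2), (170, 6), (172, 2), (173, 2), (174, 6), (175, 2), (176, 4), (177, 4), (178, 2), (179, 6)]),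
    ([], [(0, 7), (1, 5), (2, 5), (3, 1), (4, 1), (5, 6), (6, 6), (7, 2), (8, 2), (9, 4), (10, 6), (11, 1), (12, 3), (13, 7), (14, 5), (15, 1), (16, 1), (18, 1), (19, 6), (20, 5), (21, 4), (22, 7), (23, 2), (25, 2), (26, 4), (27, 1), (28, 3), (29, 5), (31, 7), (32, 4), (33, 4), (34, 1), (35, 5), (36, 7), (37, 5), (38, 4), (39, 7), (40, 4), (41, 5), (42, 2), (43, 6), (44, 1), (45, 2), (46, 3), (47, 1), (48, 5), (49, 6), (50, 1), (51, 6), (52, 3), (53, 4), (54, 6), (55, 4), (57, 6), (58, 4), (59, 4), (61, 7), (62, 4), (63, 5), (64, 7), (70, 6), (71, 1), (72, 7), (73, 6), (74, 6), (76, 6), (77, 4), (78, 1), (79, 1), (80, 5), (81, 4), (82, 1), (83, 3), (84, 5), (86, 4), (89, 2), (90, 6), (91, 5), (92, 2), (93, 6), (94, 1), (95, 3), (96, 4), (97, 4), (98, 6), (99, 6), (101, 6), (102, 4), (105, 4), (107, 6), (108, 6), (109, 4), (110, 6), (111, 4), (112, 4), (113, 4),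 (114, 6), (115, 6), (116, 6), (118, 2), (119, 2), (121, 2), (123, 6), (126, 4), (133, 2), (134, 2), (135, 6), (136, 2), (139, 6), (140, 6), (141, 6), (142, 4), (145, 2), (146, 4), (147, 6), (149, 4), (151, 6), (152, 4), (153, 4), (154, 2), (155, 2), (156, 4), (158, 4), (159, 4), (160, 4), (161, 6), (164, 2), (165, 6), (168, 4), (169, 6), (171, 6), (172, 4), (175, 6), (176, 6), (177, 4), (179, 6)]),
    ([], [(0, 3), (1, 5), (2, 1), (3, 7), (4, 3), (5, 2), (6, 4), (7, 4), (9, 1), (10, 7), (11, 2), (12, 2), (13, 4), (14, 5), (15, 6), (16, 1), (17, 2), (18, 3), (19, 2), (20, 3), (21, 5), (22, 5), (23, 1), (25, 1), (26, 4), (27, 5), (30, 4), (32, 6), (33, 7), (34, 2), (35, 6), (36, 6), (37, 6), (38, 4), (39, 3), (40, 7), (42, 5), (43, 4), (44, 4), (45, 3), (46, 4), (47, 6), (49, 7), (50, 1), (51, 2), (53, 5), (55, 4), (56, 7), (57, 1), (58, 3), (60, 3), (62, 2), (64,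 2), (65, 4), (66, 5), (68, 4), (70, 3), (71, 1), (72, 3), (73, 5), (74, 1), (75, 2), (76, 3), (77, 6), (78, 1), (79, 5), (80, 1), (81, 3), (82, 1), (84, 7), (85, 4), (86, 5), (87, 3), (88, 7), (89, 7), (90, 3), (91, 4), (93, 1), (94, 1), (95, 7), (96, 6), (97, 6), (98, 4), (99, 2), (100, 4), (101, 2), (102, 2), (103, 6), (104, 2), (105, 2), (106, 4), (107, 6), (108, 4), (109, 6), (110, 4), (111, 4), (113, 2), (114, 2), (115, 4), (116, 4), (118, 6), (119, 4), (120, 4), (122, 6), (123, 4), (125, 2), (126, 4), (132, 6), (133, 4), (137, 6), (138, 2), (139, 6), (140, 2), (141, 4), (143, 4), (145, 4), (146, 6), (147, 4), (149, 2), (150, 6), (151, 4), (152, 2), (153, 2), (154, 2), (155, 2), (158, 6), (159, 2), (160, 2), (161, 4), (162, 2), (163, 6), (164, 2), (166, 6), (169, 4), (171, 6), (172, 4), (173, 4), (175, 4), (177, 6), (178, 2)]),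
    ([], [(0, 3), (1, 7), (2, 7), (3, 4), (4, 2), (5, 7), (6, 7), (7, 3), (8, 6), (9, 5), (10, 6), (11, 3), (13, 6), (14, 7), (15, 4), (16, 4), (17, 7), (18, 4), (19, 4), (20, 4), (21, 2), (22, 1), (23, 1), (26, 6), (27, 4), (29, 2), (30, 2), (31, 5), (32, 6), (33, 3), (34, 6), (35, 6), (36, 3), (38, 1), (39, 4), (40, 4), (41, 2), (42, 5), (43, 7), (44, 1), (45, 2), (46, 1), (47, 3), (48, 4), (49, 4), (50, 2), (51, 3), (52, 5), (53, 7), (55, 1), (56, 7), (57, 4), (58, 2), (60, 4), (61, 6), (62, 4), (63, 1), (64, 1), (65, 2), (66, 2), (67, 4), (70, 7), (72, 6), (73, 5), (74, 3), (75, 1), (76, 5), (77, 6), (78, 1), (79, 4), (80, 2), (81, 1), (82, 4), (83, 6), (84, 6), (85, 2), (86, 6), (87, 6), (88, 5), (89, 3), (90, 7), (91, 1), (92, 7), (93, 5), (94, 6), (95, 5), (96, 4), (97, 2), (101, 2), (102, 7), (103, 5), (104, 5), (105, 5), (106, 2), (107, 2), (108, 5), (109,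 1), (110, 7), (111, 5), (112, 2), (113, 7), (114, 5), (115, 6), (116, 2), (117, 2), (119, 2), (120, 1), (121, 3), (122, 4), (126, 5), (127, 4), (128, 6), (129, 4), (130, 2), (131, 6), (132, 1), (133, 5), (134, 6), (135, 6), (137, 6), (138, 2), (140, 2), (142, 2), (143, 3), (144, 1), (145, 3), (146, 4), (147, 3), (148, 6), (150, 6), (151, 7), (153, 2), (154, 2), (155, 1), (156, 5), (157, 1), (160, 1), (161, 7), (162, 1), (163, 7), (164, 5), (165, 1), (166, 7), (168, 1), (169, 3), (170, 4), (171, 1), (172, 4), (173, 2), (174, 1), (175, 4), (176, 5), (177, 7), (178, 2)])]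

/-- Part of the certificate. -/
def tgtPart2 : List (List (ℕ × ℕ) × List (ℕ × ℕ)) := [
    ([(0, 1), (1, 1)], [(0, 2), (1, 4), (2, 6), (3, 5), (4, 6), (5, 7), (6, 7), (7, 4), (8, 4), (9, 7), (11, 4), (12, 6), (13, 5), (14, 3), (17, 6), (18, 4), (19, 1), (20, 3), (21, 7), (22, 4), (23, 6), (25, 5), (26, 4), (28, 2), (29, 7), (31, 1), (33, 7), (34, 7), (35, 2), (36, 4), (37, 6), (38, 1), (39, 2), (42, 5), (43, 4), (44, 3), (45, 1), (46, 5), (47, 5), (49, 5), (50, 6), (51, 5), (52, 3), (53, 7), (54, 2), (55, 7), (57, 2), (58, 4), (59, 2), (60, 4), (61, 6), (62, 4), (63, 5), (64, 3), (65, 1), (66, 3), (68, 5), (69, 1), (70, 3), (71, 1), (72, 5), (73, 4), (75, 4), (76, 5), (77, 2), (78, 5), (79, 3), (80, 1), (82, 1), (83, 7), (84, 2), (85, 1), (86, 1), (87, 4), (88, 2), (89, 2), (90, 1), (91, 3), (92, 2), (93, 7), (94, 7), (95, 2), (96, 2), (97, 1), (98, 1), (99, 4),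 (101, 3), (104, 4), (105, 4), (106, 1), (107, 5), (108, 2), (110, 6), (112, 4), (114, 1), (115, 7), (116, 5), (117, 4), (118, 1), (121, 3), (123, 4), (125, 1), (126, 1), (127, 3), (128, 4), (129, 4), (132, 6), (133, 4), (134, 3), (135, 4), (138, 5), (139, 5), (141, 6), (142, 5), (143, 6), (144, 1), (147, 2), (148, 5), (149, 1), (151, 1), (152, 3), (153, 4), (154, 6), (155, 4), (156, 6), (157, 3), (158, 1), (159, 7), (160, 2), (161, 5), (162, 7), (163, 2), (164, 5), (166, 7), (167, 2), (168, 4), (169, 5), (170, 4), (171, 2), (172, 5), (173, 7), (174, 2), (175, 5), (176, 5), (177, 6), (179, 1)]),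
    ([], [(1, 2), (2, 6), (3, 2), (4, 2), (5, 6), (6, 5), (7, 6), (8, 1), (9, 4), (10, 3), (11, 1), (12, 5), (13, 7), (15, 3), (16, 4), (17, 6), (19, 3), (20, 4), (21, 2), (22, 5), (23, 7), (24, 1), (25, 1), (27, 5), (28, 7), (29, 4), (30, 6), (31, 7), (32, 2), (33, 7), (34, 1), (35, 5), (36, 3), (37, 3), (38, 1), (39, 6), (40, 4), (43, 1), (45, 1), (46, 2), (47, 2), (48, 3), (49, 5), (50, 3), (51, 4), (52, 3), (54, 4), (55, 6), (56, 3), (57, 7), (58, 6), (59, 5), (60, 2), (61, 5), (62, 1), (63, 1), (64, 3), (65, 3), (66, 1), (67, 4), (68, 2), (69, 7), (70, 3), (71, 6), (72, 5), (74, 1), (75, 5), (76, 5), (77, 4), (78, 4), (79, 5), (80, 7), (82, 6), (84, 2), (86, 1), (87, 6), (88, 5), (89, 6), (90, 5), (91, 2), (92, 2), (93, 4), (94, 7), (95, 3), (96, 6), (97, 2), (98, 6), (99, 5), (101, 7), (102, 3), (103, 5), (105, 6), (106, 7), (107, 1), (108, 5), (109, 5), (110,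 3), (111, 5), (113, 6), (114, 1), (115, 7), (116, 7), (117, 4), (118, 4), (119, 2), (120, 1), (121, 2), (122, 3), (123, 2), (125, 2), (127, 1), (128, 4), (129, 5), (132, 1), (134, 5), (135, 3), (136, 3), (137, 5), (138, 6), (139, 3), (140, 2), (141, 6), (142, 2), (143, 2), (144, 6), (145, 6), (146, 1), (148, 1), (149, 5), (150, 6), (151, 7), (152, 3), (153, 1), (154, 6), (155, 4), (156, 3), (157, 6), (158, 7), (159, 6), (160, 1), (161, 7), (162, 5), (164, 6), (165, 6), (166, 6), (167, 6), (168, 3), (169, 1), (170, 2), (171, 5), (172, 3), (174, 6), (175, 2), (176, 1), (177, 2), (178, 3), (179, 3)]),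
    ([(0, 1), (1, 1)], [(0, 7), (2, 2), (3, 5), (4, 7), (5, 6), (6, 2), (7, 5), (8, 4), (9, 2), (10, 1), (11, 5), (12, 1), (13, 1), (14, 4), (15, 1), (16, 2), (18, 7), (19, 3), (20, 4), (22, 3), (23, 7), (24, 7), (25, 5), (26, 1), (27, 2), (28, 7), (29, 2), (30, 1), (31, 6), (32, 2), (33, 4), (36, 6), (37, 1), (38, 4), (39, 6), (40, 3), (41, 2), (42, 1), (43, 3), (44, 7), (45, 1), (46, 3), (47, 6), (48, 4), (49, 3), (50, 1), (51, 1), (52, 1), (53, 5), (54, 4), (55, 3), (56, 4), (57, 3), (60, 7), (61, 4), (62, 4), (63, 6), (64, 4), (65, 6), (66, 4), (67, 7), (68, 6), (69, 2), (70, 3), (71, 2), (72, 4), (73, 3), (74, 7), (75, 6), (76, 7), (77, 1), (78, 5), (79, 1), (80, 1), (81, 2), (82, 3), (83, 2), (84, 1), (85, 2), (86, 4), (87, 6), (88, 3), (89, 5), (90, 7), (91, 1), (92, 4), (93, 5), (94, 4), (95, 5), (96, 2), (97, 7), (98, 7), (99, 1), (100, 4), (101, 2), (102,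 7), (103, 6), (104, 4), (105, 5), (106, 3), (107, 3), (108, 3), (109, 1), (111, 5), (112, 3), (115, 6), (116, 3), (117, 5), (118, 3), (119, 1), (120, 5), (121, 2), (122, 5), (123, 4), (125, 1), (126, 1), (127, 7), (129, 6), (132, 6), (133, 4), (134, 1), (135, 6), (136, 1), (137, 7), (138, 5), (139, 4), (140, 4), (141, 2), (142, 3), (143, 4), (144, 5), (145, 4), (148, 2), (149, 6), (150, 1), (151, 3), (153, 4), (154, 7), (155, 6), (156, 3), (157, 5), (158, 3), (159, 2), (160, 5), (161, 2), (162, 1), (164, 4), (165, 1), (166, 6), (167, 6), (168, 7), (170, 6), (171, 5), (172, 4), (173, 1), (174, 1), (175, 2), (176, 6), (177, 3), (179, 3)]),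
    ([(1, 1)], [(0, 3), (1, 3), (2, 7), (3, 6), (5, 5), (6, 4), (7, 6), (8, 7), (10, 4), (11, 7), (12, 4), (13, 3), (14, 3), (15, 3), (16, 6), (17, 3), (18, 2), (19, 4), (20, 4), (21, 6), (23, 3), (24, 6), (25, 1), (26, 2), (27, 7), (28, 7), (29, 5), (30, 1), (31, 7), (32, 6), (33, 1), (35, 7), (36, 2), (37, 5), (39, 7), (40, 3), (41, 2), (42, 2), (43, 6), (45, 1), (46, 7), (47, 3), (48, 2), (49, 4), (50, 7), (51, 5), (53, 2), (54, 2), (55, 6), (56, 1), (58, 4), (59, 3), (60, 2), (63, 3), (64, 2), (65, 7), (66, 1), (68, 2), (69, 7), (70, 3), (71, 5), (72, 7), (73, 5), (75, 4), (76, 7), (77, 7), (78, 2), (79, 6), (80, 4), (81, 2), (82, 4), (83, 2), (85, 3), (86, 7), (88, 5), (89, 2), (90, 3), (91, 1), (92, 1), (93, 4), (94, 3), (95, 6), (96, 7), (98, 5), (99, 3), (100, 4), (101, 7), (102, 1), (103, 5), (104, 7), (105, 5), (106, 3), (107, 7), (108, 5), (109, 7), (110,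 5), (111, 6), (112, 5), (113, 3), (114, 6), (115, 5), (116, 4), (117, 7), (120, 2), (121, 4), (122, 1), (123, 7), (126, 2), (128, 2), (129, 2), (130, 6), (131, 2), (132, 2), (133, 5), (134, 2), (135, 3), (137, 6), (138, 2), (139, 4), (140, 4), (141, 5), (142, 1), (143, 6), (144, 7), (145, 6), (146, 1), (147, 2), (148, 3), (149, 7), (150, 5), (151, 6), (152, 7), (154, 1), (155, 2), (156, 3), (157, 1), (158, 7), (159, 3), (160, 6), (161, 7), (162, 2), (163, 7), (164, 5), (165, 4), (166, 6), (168, 5), (169, 3), (170, 5), (171, 6), (172, 2), (173, 1), (174, 1), (175, 5), (177, 7), (178, 1)]),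
    ([(0, 1), (1, 1)], [(0, 7), (1, 2), (3, 4), (4, 6), (5, 3), (6, 6), (7, 6), (8, 6), (9, 1), (10, 6), (11, 5), (12, 5), (13, 6), (14, 5), (15, 7), (16, 2), (17, 3), (19, 6), (21, 4), (22, 4), (23, 2), (24, 5), (25, 3), (26, 2), (27, 6), (28, 2), (29, 6), (31, 1), (32, 3), (33, 4), (34, 3), (35, 3), (36, 6), (39, 5), (40, 4), (42, 7), (43, 1), (44, 7), (45, 7), (46, 5), (48, 7), (49, 3), (50, 4), (51, 3), (52, 7), (53, 2), (54, 5), (55, 1), (56, 2), (57, 7), (58, 6), (59, 5), (60, 5), (61, 4), (62, 6), (63, 3), (64, 2), (65, 2), (66, 6), (67, 6), (68, 4), (69, 4), (70, 5), (71, 1), (72, 4), (73, 7), (75, 7), (76, 3), (77, 3), (78, 2), (79, 2), (80, 3), (81, 4), (82, 4), (83, 2), (84, 7), (85, 4), (86, 4), (87, 1), (88, 1), (89, 4), (90, 6), (91, 3), (92, 1), (94, 3), (95, 1), (96, 3), (97, 2), (98, 5), (99, 5), (100, 4), (101, 4), (102, 5), (103, 1), (104, 5),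 (105, 7), (107, 2), (108, 1), (109, 3), (110, 1), (111, 7), (113, 3), (114, 7), (116, 2), (119, 4), (120, 7), (121, 5), (122, 2), (123, 4), (125, 3), (126, 6), (128, 2), (129, 3), (130, 2), (131, 6), (133, 3), (134, 3), (135, 7), (137, 5), (138, 3), (139, 3), (140, 2), (141, 2), (142, 6), (143, 1), (144, 3), (145, 2), (146, 1), (147, 4), (148, 7), (149, 4), (150, 2), (151, 5), (153, 3), (154, 3), (156, 3), (157, 7), (158, 7), (159, 6), (160, 2), (161, 4), (162, 3), (163, 2), (164, 1), (165, 1), (166, 7), (168, 1), (169, 7), (170, 7), (171, 3), (173, 3), (175, 5), (176, 6), (178, 3), (179, 3)]),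
    ([(1, 1)], [(0, 3), (1, 2), (2, 7), (3, 5), (4, 5), (5, 7), (6, 3), (7, 5), (8, 1), (9, 3), (10, 7), (11, 4), (12, 5), (13, 4), (14, 1), (15, 3), (18, 3), (19, 1), (20, 6), (22, 5), (23, 7), (24, 3), (26, 3), (27, 3), (28, 5), (29, 7), (30, 7), (31, 2), (32, 6), (33, 5), (35, 6), (36, 4), (37, 5), (38, 3), (39, 7), (40, 5), (41, 7), (42, 1), (43, 3), (44, 4), (45, 7), (46, 1), (47, 2), (48, 6), (49, 2), (50, 2), (51, 5), (52, 4), (53, 6), (54, 3), (55, 1), (56, 5), (57, 7), (59, 7), (60, 5), (61, 7), (62, 2), (63, 3), (65, 5), (66, 5), (67, 3), (68, 7), (69, 1), (70, 6), (71, 3), (72, 3), (73, 6), (74, 7), (75, 1), (77, 2), (78, 2), (79, 1), (80, 6), (81, 6), (82, 2), (83, 5), (85, 1), (87, 6), (90, 7), (91, 7), (92, 2), (93, 2), (94, 5), (95, 1), (96, 3), (97, 6), (98, 2), (99, 1), (101, 7), (103, 5), (104, 5), (105, 6), (106, 1), (107, 6), (108, 1), (110,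 2), (111, 5), (112, 4), (113, 2), (114, 5), (115, 7), (116, 3), (119, 2), (120, 1), (121, 6), (122, 7), (123, 6), (125, 7), (126, 4), (127, 5), (129, 5), (132, 1), (134, 6), (135, 3), (136, 7), (137, 4), (138, 1), (139, 4), (140, 7), (141, 2), (142, 6), (143, 2), (144, 6), (145, 2), (146, 5), (148, 1), (149, 5), (150, 6), (151, 7), (152, 7), (153, 1), (154, 2), (156, 7), (157, 5), (158, 3), (159, 2), (160, 1), (161, 7), (162, 5), (163, 4), (164, 3), (166, 1), (167, 6), (168, 2), (170, 7), (171, 6), (172, 2), (173, 5), (174, 2), (175, 7), (176, 5), (177, 2), (179, 3)]),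
    ([(0, 1), (1, 1)], [(0, 7), (1, 6), (2, 2), (4, 6), (5, 5), (6, 5), (7, 7), (9, 5), (10, 3), (11, 4), (12, 7), (14, 4), (15, 1), (17, 6), (18, 3), (19, 7), (20, 2), (23, 1), (24, 2), (25, 6), (26, 7), (28, 5), (29, 6), (30, 1), (31, 2), (33, 2), (34, 2), (35, 6), (36, 5), (37, 6), (39, 4), (40, 1), (41, 3), (42, 2), (43, 3), (44, 6), (45, 2), (47, 7), (48, 7), (49, 7), (50, 3), (51, 2), (54, 4), (55, 4), (56, 2), (57, 1), (58, 1), (59, 5), (60, 3), (61, 2), (62, 4), (63, 2), (64, 7), (65, 2), (67, 1), (68, 6), (69, 7), (70, 5), (71, 2), (72, 6), (73, 3), (74, 3), (76, 1), (77, 5), (78, 6), (79, 3), (81, 2), (82, 1), (83, 1), (84, 6), (85, 6), (86, 3), (87, 7), (88, 4), (89, 3), (91, 7), (92, 3), (93, 4), (94, 3), (95, 6), (96, 5), (101, 3), (102, 3), (103, 5), (104, 6), (106, 7), (107, 5), (108, 1), (109, 5), (110, 7), (112, 7), (113, 2), (114, 2), (115, 6),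 (116, 1), (117, 1), (118, 2), (119, 4), (121, 5), (122, 2), (123, 5), (125, 5), (126, 3), (127, 6), (128, 6), (129, 3), (130, 2), (131, 6), (132, 2), (133, 7), (134, 2), (135, 6), (136, 4), (137, 6), (138, 1), (139, 7), (140, 2), (141, 1), (142, 2), (143, 2), (144, 6), (145, 6), (146, 1), (147, 6), (148, 2), (149, 1), (150, 3), (151, 4), (152, 7), (153, 6), (154, 1), (155, 7), (156, 3), (157, 3), (159, 4), (160, 7), (161, 6), (162, 3), (163, 6), (164, 5), (165, 7), (166, 4), (167, 2), (168, 4), (169, 3), (170, 2), (171, 4), (172, 2), (173, 5), (174, 2), (175, 4), (176, 5), (177, 5), (179, 6)]),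
    ([], [(2, 2), (3, 5), (4, 6), (5, 4), (6, 4), (7, 6), (8, 2), (9, 3), (10, 4), (11, 3), (12, 2), (13, 5), (14, 7), (15, 4), (16, 3), (17, 2), (19, 4), (20, 2), (21, 1), (22, 2), (23, 1), (24, 2), (25, 6), (26, 1), (27, 3), (28, 1), (30, 6), (31, 2), (33, 2), (35, 1), (36, 4), (37, 6), (38, 5), (39, 2), (40, 2), (41, 6), (42, 6), (43, 3), (44, 7), (45, 4), (46, 7), (47, 4), (48, 5), (49, 7), (50, 3), (51, 4), (52, 2), (53, 2), (54, 4), (55, 3), (56, 5), (57, 3), (58, 6), (59, 1), (60, 2), (61, 5), (62, 3), (63, 4), (65, 6), (66, 3), (67, 1), (68, 2), (69, 7), (70, 3), (71, 1), (72, 3), (74, 4), (75, 3), (76, 4), (77, 3), (78, 6), (79, 5), (80, 5), (81, 1), (82, 6), (83, 6), (84, 3), (85, 3), (86, 2), (87, 1), (88, 5), (89, 3), (90, 6), (91, 3), (93, 6), (94, 3), (95, 4), (96, 2), (97, 5), (98, 5), (99, 7), (101, 6), (102, 2), (103, 4), (104, 6), (106, 4), (108,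 2), (109, 6), (111, 1), (112, 4), (113, 6), (115, 2), (117, 4), (118, 7), (119, 7), (120, 1), (121, 7), (122, 7), (123, 5), (125, 3), (126, 2), (127, 7), (128, 4), (129, 1), (132, 6), (133, 5), (134, 3), (137, 6), (138, 7), (139, 1), (140, 6), (141, 7), (142, 2), (143, 6), (145, 7), (146, 2), (147, 5), (148, 6), (149, 4), (150, 1), (151, 2), (152, 4), (153, 6), (154, 4), (155, 1), (156, 1), (157, 7), (159, 6), (160, 5), (161, 5), (162, 2), (163, 5), (165, 4), (166, 5), (167, 2), (168, 1), (169, 2), (170, 3), (171, 7), (172, 1), (173, 5), (174, 5), (175, 5), (176, 7), (177, 6), (178, 3)])]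

/-- Part of the certificate. -/
def tgtPart3 : List (List (ℕ × ℕ) × List (ℕ × ℕ)) := [
    ([(0, 1), (1, 1)], [(0, 6), (1, 4), (3, 2), (4, 3), (5, 4), (6, 1), (7, 7), (8, 1), (9, 2), (10, 2), (11, 1), (12, 6), (13, 4), (14, 7), (16, 6), (17, 6), (18, 1), (19, 1), (20, 7), (22, 2), (23, 2), (24, 1), (25, 7), (26, 1), (28, 5), (29, 7), (30, 7), (31, 3), (32, 1), (33, 5), (34, 1), (35, 3), (36, 5), (37, 1), (38, 1), (40, 4), (41, 3), (42, 4), (43, 5), (44, 3), (45, 7), (46, 2), (47, 6), (48, 1), (50, 3), (51, 5), (52, 1), (53, 3), (54, 3), (56, 5), (57, 7), (58, 5), (59, 1), (60, 7), (61, 2), (62, 1), (63, 7), (64, 7), (66, 4), (67, 6), (68, 6), (69, 4), (70, 4), (71, 1), (72, 2), (73, 4), (74, 6), (75, 3), (77, 1), (78, 3), (79, 1), (80, 7), (82, 7), (83, 2), (84, 1), (85, 4), (86, 7), (87, 2), (88, 6), (89, 4), (90, 4), (91, 3), (94, 6), (96, 6), (97, 2), (99, 6),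 (101, 2), (103, 7), (104, 5), (105, 4), (106, 6), (107, 5), (108, 5), (110, 4), (111, 6), (112, 1), (114, 6), (115, 4), (116, 1), (117, 3), (119, 6), (120, 2), (121, 3), (122, 6), (123, 5), (125, 2), (126, 7), (127, 4), (128, 4), (129, 5), (132, 4), (133, 5), (134, 3), (135, 4), (136, 1), (137, 5), (139, 1), (140, 6), (141, 1), (142, 1), (143, 2), (144, 1), (145, 3), (146, 2), (147, 5), (149, 4), (150, 6), (151, 6), (152, 7), (153, 1), (154, 7), (155, 7), (156, 2), (157, 5), (158, 3), (159, 4), (160, 4), (161, 3), (162, 3), (163, 7), (164, 6), (165, 7), (166, 3), (168, 6), (170, 3), (171, 7), (172, 1), (173, 4), (174, 7), (175, 3), (176, 1), (177, 3), (178, 3), (179, 6)]),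
    ([], [(0, 5), (1, 4), (2, 2), (3, 4), (4, 3), (5, 1), (6, 5), (7, 4), (8, 4), (9, 2), (10, 1), (11, 6), (12, 2), (13, 4), (14, 2), (16, 5), (17, 3), (18, 5), (19, 4), (20, 6), (21, 6), (22, 3), (23, 4), (24, 4), (25, 6), (26, 5), (27, 3), (28, 2), (29, 6), (30, 2), (31, 2), (33, 2), (34, 1), (35, 4), (36, 5), (37, 1), (38, 3), (39, 1), (40, 1), (42, 3), (43, 7), (44, 7), (45, 1), (46, 7), (47, 7), (48, 2), (49, 6), (50, 4), (51, 5), (52, 5), (53, 2), (54, 3), (55, 2), (57, 6), (58, 4), (59, 5), (60, 4), (61, 6), (63, 7), (64, 1), (66, 6), (67, 5), (68, 1), (69, 2), (71, 5), (72, 3), (73, 4), (74, 6), (75, 2), (77, 5), (78, 2), (80, 2), (81, 2), (83, 5), (85, 2), (86, 6), (87, 2), (88, 7), (89, 6), (90, 5), (91, 4), (92, 4), (93, 7), (94, 3), (95, 1), (96, 4), (97, 5), (98, 6), (99, 4), (101, 2), (102, 5), (105, 5), (106, 3), (107, 3), (108, 5), (109, 3), (110,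 6), (111, 6), (112, 2), (113, 3), (114, 3), (115, 4), (116, 2), (117, 2), (118, 5), (119, 1), (120, 2), (121, 2), (122, 1), (123, 1), (125, 4), (126, 1), (127, 4), (129, 1), (132, 3), (133, 2), (134, 4), (135, 4), (136, 5), (137, 3), (138, 6), (139, 7), (141, 5), (142, 1), (144, 5), (145, 1), (146, 3), (147, 1), (148, 4), (149, 2), (151, 4), (152, 6), (153, 7), (154, 2), (156, 7), (157, 1), (159, 5), (160, 1), (161, 7), (163, 6), (165, 7), (166, 7), (167, 6), (168, 3), (169, 1), (171, 6), (172, 2), (173, 5), (175, 6), (176, 1), (177, 2), (178, 1), (179, 3)]),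
    ([(0, 1)], [(0, 5), (1, 3), (2, 3), (3, 3), (4, 7), (5, 6), (6, 1), (7, 4), (8, 3), (9, 1), (10, 3), (11, 1), (12, 5), (13, 5), (14, 6), (15, 5), (16, 3), (17, 2), (18, 2), (19, 2), (20, 3), (21, 7), (22, 3), (24, 6), (25, 5), (27, 3), (28, 6), (30, 2), (31, 3), (32, 6), (34, 2), (37, 4), (38, 5), (39, 7), (40, 1), (41, 2), (42, 7), (43, 4), (44, 1), (45, 2), (46, 4), (47, 5), (48, 6), (49, 5), (50, 6), (51, 1), (52, 4), (53, 5), (54, 3), (55, 3), (56, 5), (57, 6), (58, 3), (60, 2), (61, 7), (62, 2), (63, 3), (64, 7), (65, 4), (66, 7), (67, 6), (68, 2), (69, 1), (70, 5), (71, 7), (72, 6), (73, 2), (74, 1), (75, 2), (77, 3), (78, 3), (79, 7), (80, 6), (81, 4), (82, 5), (85, 4), (86, 3), (87, 1), (88, 5), (89, 3), (90, 7), (91, 4), (92, 5), (93, 7), (94, 1), (95, 6), (98, 3), (99, 6), (101, 2), (102, 6), (104, 1), (105, 5), (106, 2), (107, 4), (108, 4), (109,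 2), (110, 6), (111, 2), (113, 5), (114, 2), (115, 1), (116, 3), (117, 4), (119, 4), (120, 6), (121, 7), (122, 7), (125, 7), (126, 1), (127, 7), (132, 5), (133, 3), (134, 7), (135, 4), (136, 6), (137, 7), (138, 4), (139, 6), (140, 2), (141, 2), (142, 1), (143, 1), (145, 1), (146, 1), (147, 7), (150, 7), (151, 6), (152, 3), (153, 3), (154, 3), (155, 2), (156, 5), (158, 7), (159, 6), (162, 4), (163, 7), (164, 3), (165, 1), (166, 3), (168, 1), (169, 4), (170, 1), (171, 4), (172, 1), (173, 5), (174, 7), (175, 7), (176, 1), (177, 6), (178, 2)]),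
    ([], [(0, 5), (2, 7), (3, 4), (4, 2), (5, 5), (6, 2), (7, 1), (8, 7), (9, 1), (10, 4), (11, 5), (12, 3), (13, 1), (14, 2), (15, 7), (16, 6), (17, 2), (18, 4), (19, 7), (20, 2), (21, 2), (22, 2), (25, 5), (26, 5), (28, 6), (29, 7), (30, 1), (31, 3), (32, 6), (34, 3), (35, 6), (37, 4), (38, 3), (39, 1), (41, 3), (42, 1), (43, 1), (44, 3), (45, 6), (46, 6), (47, 6), (48, 1), (49, 2), (50, 4), (51, 1), (52, 3), (53, 2), (54, 5), (57, 6), (58, 3), (59, 6), (60, 1), (61, 2), (62, 4), (63, 7), (64, 3), (65, 4), (66, 5), (67, 3), (68, 6), (69, 4), (70, 7), (71, 4), (72, 7), (74, 1), (76, 3), (77, 1), (79, 2), (80, 4), (81, 2), (82, 7), (83, 2), (84, 6), (85, 2), (86, 1), (88, 1), (90, 2), (92, 7), (93, 4), (94, 2), (95, 1), (97, 1), (99, 7), (101, 4), (103, 4), (104, 4), (106, 7), (108, 1), (110, 3), (111, 3), (114, 1), (115, 5), (116, 5), (118, 6), (119, 2), (120,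 3), (121, 2), (122, 3), (123, 6), (125, 6), (127, 3), (128, 6), (129, 7), (130, 2), (131, 6), (132, 6), (133, 3), (134, 7), (135, 1), (136, 4), (137, 6), (138, 5), (139, 3), (140, 1), (141, 6), (142, 1), (143, 7), (144, 6), (145, 6), (146, 5), (147, 6), (148, 7), (149, 3), (150, 4), (151, 3), (152, 6), (153, 4), (154, 1), (155, 7), (156, 7), (157, 6), (158, 4), (159, 6), (160, 1), (161, 6), (162, 2), (163, 2), (164, 2), (167, 6), (168, 1), (169, 6), (172, 5), (173, 7), (176, 6), (177, 3), (179, 3)]),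
    ([(0, 1)], [(0, 4), (2, 5), (3, 2), (4, 7), (5, 5), (6, 3), (7, 7), (9, 7), (10, 1), (11, 3), (12, 3), (13, 5), (14, 4), (15, 2), (16, 7), (17, 3), (18, 5), (19, 4), (20, 7), (21, 7), (22, 4), (23, 7), (24, 2), (25, 5), (26, 6), (27, 2), (29, 5), (30, 7), (31, 2), (32, 4), (33, 7), (34, 2), (36, 2), (37, 4), (38, 2), (39, 1), (40, 5), (41, 3), (42, 1), (43, 2), (44, 4), (45, 3), (46, 2), (47, 7), (48, 1), (49, 1), (50, 7), (51, 6), (52, 5), (53, 3), (54, 2), (55, 2), (57, 3), (58, 6), (59, 4), (60, 2), (61, 5), (62, 7), (63, 1), (65, 2), (66, 1), (67, 1), (68, 1), (69, 5), (70, 4), (72, 2), (74, 6), (75, 4), (76, 7), (78, 4), (79, 3), (80, 4), (81, 2), (83, 7), (84, 1), (85, 2), (86, 1), (87, 5), (88, 1), (89, 1), (90, 6), (91, 2), (92, 7), (93, 3), (94, 2), (96, 3), (97, 6), (98, 4), (99, 2), (100, 4), (101, 1), (102, 3), (103, 5), (104, 2), (105, 4), (106,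 6), (107, 7), (109, 5), (111, 1), (113, 4), (114, 5), (115, 3), (116, 3), (117, 4), (118, 4), (119, 7), (120, 5), (121, 4), (122, 5), (123, 5), (125, 4), (126, 2), (128, 4), (129, 1), (132, 2), (133, 2), (137, 5), (138, 3), (139, 5), (141, 5), (142, 1), (143, 3), (147, 6), (149, 1), (150, 1), (151, 7), (152, 5), (153, 7), (154, 6), (155, 2), (157, 6), (159, 7), (160, 4), (161, 1), (162, 5), (163, 3), (164, 4), (165, 1), (166, 5), (168, 4), (170, 6), (171, 1), (172, 6), (173, 2), (174, 7), (176, 6), (177, 1), (178, 2), (179, 3)]),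
    ([(0, 1)], [(0, 6), (1, 4), (2, 2), (3, 3), (4, 5), (5, 5), (6, 2), (7, 2), (8, 4), (9, 7), (10, 7), (11, 4), (12, 7), (13, 5), (14, 3), (15, 7), (16, 2), (17, 3), (18, 3), (19, 5), (20, 6), (21, 4), (22, 2), (25, 4), (26, 5), (27, 6), (28, 4), (29, 7), (30, 1), (32, 5), (33, 7), (34, 2), (35, 3), (36, 3), (37, 5), (38, 6), (39, 3), (40, 2), (41, 6), (42, 4), (43, 3), (44, 1), (45, 1), (46, 4), (47, 5), (48, 5), (49, 1), (50, 5), (51, 7), (52, 6), (53, 1), (54, 1), (55, 4), (56, 7), (57, 3), (58, 6), (59, 3), (60, 4), (61, 1), (62, 5), (64, 4), (66, 7), (67, 3), (68, 4), (69, 5), (70, 3), (71, 5), (72, 7), (75, 5), (76, 7), (77, 1), (78, 4), (79, 5), (80, 1), (81, 3), (82, 4), (83, 6), (84, 1), (85, 2), (88, 7), (89, 3), (90, 6), (91, 5), (93, 4), (94, 5), (96, 2), (97, 5), (98, 1), (99, 6), (101, 3), (102, 5), (103, 6), (104, 7), (106, 3), (109, 3), (110, 5),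 (111, 3), (112, 6), (115, 4), (116, 4), (117, 2), (118, 5), (119, 1), (120, 3), (121, 5), (122, 3), (123, 1), (125, 5), (126, 4), (127, 3), (128, 4), (129, 5), (132, 6), (133, 2), (134, 6), (135, 4), (136, 2), (137, 6), (138, 5), (139, 1), (141, 7), (142, 2), (143, 6), (144, 4), (145, 7), (146, 6), (147, 5), (149, 3), (150, 6), (152, 6), (153, 1), (155, 7), (156, 4), (157, 4), (158, 4), (159, 2), (160, 1), (161, 1), (162, 2), (163, 5), (166, 7), (167, 2), (168, 3), (169, 6), (170, 3), (172, 3), (173, 3), (175, 5), (176, 3), (178, 3), (179, 3)]),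
    ([(0, 1), (1, 1)], [(0, 3), (1, 1), (2, 3), (3, 7), (6, 1), (7, 2), (8, 6), (9, 4), (10, 3), (11, 2), (12, 5), (13, 1), (14, 2), (15, 7), (16, 7), (17, 5), (18, 3), (19, 5), (21, 1), (22, 7), (23, 3), (24, 2), (25, 4), (26, 7), (27, 6), (28, 3), (30, 2), (31, 5), (32, 7), (33, 5), (34, 3), (35, 7), (36, 1), (38, 2), (39, 1), (40, 2), (42, 6), (43, 5), (44, 2), (45, 7), (46, 6), (47, 1), (48, 1), (49, 4), (50, 7), (51, 5), (52, 6), (53, 1), (54, 4), (55, 4), (56, 6), (57, 5), (58, 1), (59, 3), (60, 5), (61, 4), (62, 4), (63, 4), (64, 3), (65, 7), (67, 7), (68, 5), (69, 4), (71, 2), (72, 1), (73, 7), (74, 7), (75, 1), (76, 1), (77, 7), (78, 3), (80, 6), (81, 3), (82, 3), (83, 6), (84, 5), (85, 3), (86, 1), (87, 5), (88, 5), (89, 3), (90, 4), (91, 4), (92, 7), (93, 3), (94, 5), (95, 2), (96, 1), (97, 5), (98, 5), (99, 6), (100, 4), (101, 6), (102, 4), (103, 3),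 (104, 6), (105, 3), (106, 2), (107, 1), (108, 1), (109, 4), (111, 2), (112, 6), (113, 7), (115, 7), (116, 3), (117, 6), (118, 6), (119, 7), (120, 6), (121, 1), (122, 1), (123, 7), (126, 4), (128, 6), (130, 2), (131, 6), (132, 5), (133, 7), (134, 2), (135, 1), (137, 1), (138, 1), (139, 7), (140, 4), (141, 1), (142, 7), (143, 1), (145, 3), (146, 4), (147, 3), (148, 3), (149, 5), (150, 1), (151, 3), (152, 1), (153, 4), (155, 5), (156, 3), (157, 7), (158, 1), (159, 3), (160, 7), (161, 3), (162, 1), (163, 6), (164, 4), (166, 1), (167, 2), (168, 5), (169, 7), (170, 6), (171, 4), (172, 7), (173, 3), (176, 5), (177, 2), (178, 1)]),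
    ([(1, 1)], [(0, 7), (1, 7), (2, 4), (3, 4), (4, 7), (5, 2), (6, 2), (7, 1), (8, 1), (9, 1), (10, 4), (11, 7), (12, 1), (14, 5), (15, 1), (16, 3), (17, 3), (18, 6), (19, 2), (20, 2), (21, 3), (22, 3), (23, 6), (24, 3), (25, 5), (26, 1), (27, 5), (28, 3), (29, 6), (30, 5), (31, 4), (32, 6), (33, 4), (34, 1), (35, 5), (36, 4), (37, 7), (38, 3), (39, 1), (41, 7), (42, 6), (43, 7), (44, 3), (46, 6), (47, 5), (49, 6), (50, 4), (52, 5), (53, 5), (54, 5), (56, 7), (57, 6), (58, 4), (59, 4), (60, 3), (61, 5), (62, 4), (63, 7), (65, 3), (66, 3), (67, 3), (68, 7), (69, 3), (70, 5), (71, 7), (72, 5), (73, 6), (74, 4), (76, 1), (78, 5), (80, 1), (81, 3), (82, 4), (83, 7), (84, 4), (86, 2), (87, 2), (88, 1), (89, 1), (90, 4), (91, 7), (92, 2), (93, 3), (94, 4), (96, 2), (97, 5), (98, 5), (99, 6), (102, 5), (103, 2), (104, 3), (106, 6), (107, 7), (108, 6), (109, 3), (110,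 3), (111, 4), (112, 3), (113, 2), (114, 7), (115, 3), (117, 5), (118, 3), (119, 3), (120, 4), (122, 6), (123, 2), (125, 3), (127, 2), (128, 4), (129, 5), (132, 5), (133, 2), (134, 2), (135, 3), (136, 6), (137, 3), (138, 2), (140, 2), (141, 4), (142, 1), (143, 5), (144, 4), (145, 7), (146, 7), (147, 7), (148, 6), (149, 6), (150, 4), (151, 3), (152, 4), (153, 4), (154, 1), (155, 7), (156, 4), (157, 2), (158, 3), (159, 6), (160, 7), (162, 4), (163, 2), (164, 4), (165, 2), (166, 6), (168, 2), (169, 7), (170, 6), (171, 1), (173, 2), (174, 5), (175, 3), (176, 5), (178, 3)])]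

/-- Part of the certificate. -/
def tgtPart4 : List (List (ℕ × ℕ) × List (ℕ × ℕ)) := [
    ([(1, 1)], [(0, 7), (1, 7), (2, 7), (3, 5), (4, 6), (5, 4), (6, 2), (7, 1), (8, 2), (9, 2), (10, 1), (12, 1), (13, 4), (14, 6), (15, 1), (16, 3), (17, 1), (18, 4), (19, 5), (21, 3), (22, 7), (25, 3), (26, 3), (27, 2), (28, 4), (29, 5), (30, 6), (31, 6), (32, 4), (33, 7), (34, 3), (35, 3), (36, 2), (37, 5), (38, 5), (39, 4), (40, 1), (41, 4), (42, 5), (43, 3), (44, 7), (45, 5), (46, 4), (47, 7), (48, 3), (50, 5), (51, 1), (52, 4), (53, 6), (54, 3), (55, 4), (56, 6), (57, 6), (58, 3), (59, 2), (60, 4), (61, 6), (62, 5), (63, 5), (65, 1), (66, 1), (67, 1), (68, 3), (69, 3), (70, 6), (71, 7), (72, 7), (74, 3), (75, 3), (76, 2), (77, 1), (78, 3), (79, 1), (80, 7), (81, 2), (82, 7), (83, 6), (84, 6), (85, 2), (86, 1), (87, 3), (88, 7), (89, 3), (90, 2), (91, 6), (92, 6), (95, 5),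 (96, 5), (97, 5), (98, 6), (99, 3), (100, 4), (101, 4), (102, 5), (103, 4), (104, 2), (105, 7), (107, 5), (108, 6), (109, 3), (110, 1), (111, 1), (113, 7), (114, 2), (115, 3), (116, 3), (117, 4), (118, 1), (119, 7), (120, 5), (121, 4), (123, 5), (125, 3), (126, 7), (127, 2), (128, 6), (129, 3), (130, 6), (131, 2), (132, 5), (133, 6), (134, 6), (135, 6), (136, 5), (137, 7), (138, 5), (139, 6), (140, 4), (141, 5), (142, 6), (143, 6), (144, 4), (145, 4), (146, 6), (147, 4), (148, 5), (149, 2), (152, 3), (153, 2), (154, 5), (155, 4), (156, 3), (157, 2), (158, 1), (159, 2), (160, 5), (161, 5), (162, 4), (163, 5), (164, 7), (166, 2), (168, 1), (169, 6), (171, 1), (172, 1), (173, 5), (174, 2), (175, 7), (176, 4), (177, 1), (178, 1), (179, 3)]),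
    ([], [(1, 3), (2, 4), (3, 3), (4, 6), (5, 3), (6, 5), (7, 7), (8, 1), (9, 6), (10, 6), (12, 1), (14, 4), (15, 3), (16, 2), (17, 1), (18, 2), (19, 1), (20, 5), (21, 7), (22, 3), (23, 6), (24, 3), (25, 1), (26, 3), (27, 1), (28, 6), (29, 5), (30, 6), (31, 4), (33, 4), (34, 3), (35, 4), (36, 6), (37, 4), (38, 5), (39, 6), (40, 5), (41, 1), (42, 3), (43, 3), (44, 3), (45, 1), (46, 7), (47, 4), (48, 6), (50, 4), (51, 6), (52, 5), (54, 5), (55, 7), (57, 2), (58, 6), (59, 3), (60, 6), (61, 7), (62, 7), (63, 2), (64, 4), (65, 1), (66, 4), (67, 4), (68, 3), (70, 3), (71, 7), (72, 6), (73, 5), (74, 4), (75, 5), (76, 1), (77, 5), (78, 4), (79, 5), (80, 1), (81, 5), (82, 3), (83, 2), (84, 5), (85, 1), (86, 1), (87, 4), (88, 3), (89, 4), (90, 3), (91, 4), (92, 6), (93, 4), (94, 6), (95, 4), (96, 4), (97, 2), (100, 4), (102, 7), (103, 7), (104, 1), (105, 7), (107, 6), (108,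 3), (109, 1), (110, 7), (112, 1), (113, 1), (114, 3), (115, 6), (116, 3), (117, 7), (118, 3), (119, 6), (121, 3), (122, 1), (123, 1), (125, 6), (126, 1), (129, 5), (132, 2), (133, 1), (134, 5), (136, 7), (137, 3), (138, 2), (139, 7), (140, 5), (141, 1), (142, 5), (143, 7), (144, 4), (145, 6), (146, 6), (147, 6), (148, 6), (149, 3), (150, 5), (151, 3), (152, 6), (153, 2), (154, 1), (155, 1), (156, 6), (157, 2), (158, 4), (159, 5), (160, 2), (161, 7), (162, 1), (163, 7), (164, 7), (165, 7), (168, 3), (169, 5), (170, 1), (171, 5), (172, 5), (173, 3), (174, 2), (175, 3), (176, 6), (177, 5), (178, 1), (179, 6)]),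
    ([(1, 1)], [(0, 1), (1, 3), (2, 2), (3, 7), (4, 3), (5, 1), (6, 4), (8, 7), (9, 5), (10, 2), (11, 2), (12, 2), (13, 7), (14, 1), (15, 6), (16, 2), (17, 3), (18, 5), (20, 5), (21, 6), (22, 6), (23, 6), (24, 7), (25, 6), (26, 1), (28, 5), (29, 3), (30, 3), (31, 1), (32, 1), (33, 1), (34, 6), (35, 4), (36, 3), (37, 3), (38, 2), (40, 7), (41, 3), (42, 1), (43, 3), (44, 5), (45, 3), (46, 4), (47, 5), (48, 6), (49, 7), (50, 3), (52, 4), (53, 3), (54, 2), (55, 3), (56, 2), (57, 3), (58, 2), (59, 2), (60, 2), (61, 4), (62, 3), (63, 3), (64, 5), (65, 4), (66, 3), (67, 1), (68, 1), (69, 2), (70, 5), (71, 2), (72, 4), (73, 5), (74, 1), (76, 5), (77, 7), (78, 5), (79, 4), (80, 6), (81, 5), (82, 7), (83, 2), (85, 2), (87, 4), (88, 4), (90, 5), (92, 5), (93, 4), (94, 5), (95, 3), (96, 7), (98, 5), (99, 7), (101, 5), (102, 7), (104, 1), (105, 6), (107, 2), (108, 7), (109,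 1), (110, 2), (111, 6), (112, 4), (114, 1), (115, 5), (116, 3), (118, 3), (119, 1), (120, 2), (121, 5), (122, 6), (123, 7), (125, 2), (126, 1), (127, 2), (128, 4), (129, 4), (133, 1), (134, 6), (135, 5), (136, 3), (137, 5), (138, 3), (139, 2), (140, 4), (141, 5), (142, 4), (143, 4), (144, 4), (145, 1), (147, 3), (148, 2), (149, 6), (150, 4), (152, 3), (153, 7), (154, 3), (155, 5), (156, 2), (157, 2), (158, 2), (161, 3), (162, 2), (164, 4), (165, 3), (166, 1), (167, 6), (168, 1), (170, 3), (171, 3), (172, 1), (173, 7), (174, 5), (175, 6), (176, 5), (177, 2), (178, 3), (179, 6)]),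
    ([(0, 1)], [(0, 3), (1, 1), (2, 7), (3, 1), (4, 1), (5, 3), (6, 1), (7, 4), (8, 2), (9, 2), (10, 3), (11, 2), (12, 5), (13, 1), (14, 2), (15, 1), (16, 2), (17, 2), (18, 2), (19, 4), (20, 2), (21, 1), (22, 7), (23, 4), (24, 6), (25, 3), (26, 7), (27, 3), (28, 4), (29, 2), (30, 4), (31, 6), (32, 4), (33, 6), (34, 6), (35, 6), (36, 7), (37, 7), (38, 5), (39, 1), (40, 3), (41, 7), (43, 3), (44, 6), (45, 1), (46, 2), (48, 2), (49, 3), (50, 3), (51, 1), (53, 6), (55, 1), (56, 7), (57, 4), (58, 2), (59, 4), (60, 3), (61, 5), (63, 3), (64, 6), (65, 3), (67, 1), (68, 4), (69, 2), (70, 4), (71, 2), (72, 1), (73, 1), (76, 6), (77, 2), (78, 2), (80, 3), (81, 2), (82, 7), (83, 1), (84, 4), (85, 3), (86, 6), (88, 4), (89, 7), (90, 4), (91, 6), (92, 7), (94, 3), (95, 3), (96, 3), (97, 2), (99, 5), (102, 6), (104, 4), (105, 2), (106, 6), (107, 6), (108, 6), (109, 2), (110,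 4), (111, 1), (112, 3), (113, 4), (114, 1), (115, 3), (116, 6), (117, 5), (120, 1), (121, 1), (122, 5), (123, 5), (125, 7), (126, 1), (127, 6), (128, 2), (129, 3), (130, 6), (131, 2), (132, 6), (133, 5), (134, 2), (135, 2), (136, 1), (138, 2), (139, 5), (140, 3), (141, 1), (142, 2), (143, 4), (144, 4), (145, 6), (146, 5), (148, 5), (149, 4), (150, 6), (151, 4), (152, 2), (153, 6), (154, 2), (155, 7), (156, 2), (157, 2), (158, 4), (159, 1), (161, 5), (162, 7), (163, 6), (164, 7), (167, 6), (168, 6), (169, 3), (170, 5), (171, 6), (172, 6), (173, 6), (174, 7), (175, 2), (177, 2), (178, 1)]),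
    ([(0, 1), (1, 1)], [(0, 3), (1, 2), (3, 6), (4, 3), (5, 4), (6, 2), (7, 2), (8, 7), (9, 2), (10, 3), (11, 6), (12, 6), (13, 7), (14, 2), (15, 2), (16, 4), (17, 5), (18, 1), (19, 1), (20, 2), (21, 2), (23, 6), (24, 5), (25, 6), (26, 7), (27, 2), (28, 7), (29, 6), (30, 1), (31, 2), (32, 5), (33, 3), (34, 3), (35, 1), (37, 5), (39, 7), (40, 7), (41, 7), (42, 3), (43, 2), (44, 6), (45, 5), (46, 5), (47, 1), (48, 6), (49, 4), (50, 3), (51, 2), (52, 2), (53, 7), (54, 3), (55, 6), (56, 3), (57, 5), (58, 5), (59, 2), (60, 1), (61, 6), (62, 6), (63, 3), (64, 4), (66, 1), (67, 5), (69, 6), (70, 2), (71, 1), (72, 3), (73, 7), (74, 3), (75, 5), (76, 7), (78, 3), (79, 1), (80, 4), (81, 5), (82, 7), (83, 7), (84, 6), (85, 6), (86, 7), (87, 7), (88, 7), (89, 4), (90, 4), (91, 7), (92, 3), (93, 6), (94, 3), (95, 7), (96, 1), (97, 5), (98, 6), (99, 5), (100, 4), (101, 4), (102,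 3), (103, 2), (104, 1), (106, 1), (107, 1), (108, 3), (109, 5), (111, 7), (112, 2), (113, 6), (114, 1), (115, 3), (116, 1), (117, 6), (118, 2), (119, 2), (120, 7), (121, 6), (122, 5), (123, 4), (125, 7), (126, 1), (132, 1), (133, 3), (136, 7), (137, 3), (138, 4), (139, 5), (140, 4), (143, 2), (144, 4), (145, 4), (146, 5), (148, 4), (149, 5), (150, 1), (151, 2), (153, 2), (154, 2), (155, 2), (156, 6), (157, 5), (158, 3), (159, 1), (160, 1), (161, 2), (162, 7), (163, 1), (164, 7), (165, 2), (166, 3), (167, 2), (168, 6), (169, 6), (170, 4), (171, 6), (172, 2), (174, 7), (175, 2), (176, 4), (177, 7), (178, 3), (179, 3)]),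
    ([], [(1, 6), (2, 3), (3, 4), (4, 6), (5, 7), (6, 6), (7, 6), (8, 7), (9, 7), (10, 3), (11, 5), (12, 1), (13, 7), (14, 1), (15, 1), (16, 4), (17, 7), (18, 6), (20, 5), (21, 6), (22, 2), (24, 6), (25, 4), (26, 1), (27, 4), (28, 7), (30, 5), (31, 3), (32, 1), (33, 3), (34, 3), (35, 4), (36, 2), (37, 1), (38, 4), (39, 6), (40, 4), (41, 7), (42, 4), (43, 1), (44, 2), (45, 7), (46, 3), (47, 1), (48, 4), (49, 7), (51, 5), (52, 2), (53, 1), (54, 2), (55, 4), (56, 2), (58, 3), (59, 3), (60, 2), (61, 3), (62, 2), (63, 6), (64, 4), (66, 7), (67, 1), (68, 3), (69, 7), (70, 5), (71, 1), (72, 3), (73, 2), (74, 1), (75, 5), (76, 5), (77, 5), (78, 2), (79, 3), (82, 5), (83, 7), (84, 2), (85, 7), (86, 5), (87, 5), (88, 4), (89, 6), (90, 4), (92, 5), (93, 4), (94, 5), (95, 2), (96, 6), (97, 5), (98, 7), (99, 7), (101, 1), (102, 7), (103, 7), (104, 6), (105, 2), (106, 2), (107,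 5), (108, 2), (109, 1), (111, 4), (112, 4), (113, 6), (114, 5), (115, 1), (116, 3), (118, 1), (119, 4), (121, 1), (122, 2), (123, 4), (125, 1), (126, 3), (128, 6), (129, 3), (130, 6), (131, 2), (132, 1), (133, 7), (135, 3), (136, 1), (138, 7), (140, 1), (141, 6), (142, 2), (143, 2), (144, 4), (145, 7), (147, 3), (148, 3), (149, 5), (150, 1), (151, 5), (152, 2), (153, 6), (154, 3), (155, 4), (156, 4), (158, 3), (160, 7), (161, 2), (162, 6), (163, 1), (164, 6), (165, 5), (166, 2), (167, 2), (168, 3), (169, 3), (170, 6), (172, 1), (173, 7), (176, 1), (177, 7), (178, 1)]),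
    ([(0, 1)], [(0, 1), (1, 4), (2, 3), (4, 1), (7, 2), (8, 5), (9, 6), (10, 3), (11, 3), (14, 1), (15, 6), (17, 2), (19, 5), (20, 1), (21, 6), (22, 4), (23, 5), (24, 5), (25, 7), (26, 2), (27, 5), (29, 3), (30, 2), (31, 6), (32, 5), (36, 2), (37, 7), (38, 5), (39, 1), (40, 5), (41, 7), (42, 6), (43, 4), (44, 3), (45, 4), (46, 2), (47, 3), (48, 4), (49, 7), (50, 7), (51, 5), (52, 6), (54, 7), (56, 4), (57, 5), (58, 2), (60, 1), (61, 7), (62, 5), (63, 1), (65, 2), (66, 5), (67, 4), (68, 2), (69, 4), (70, 7), (71, 5), (72, 7), (73, 2), (74, 6), (75, 1), (76, 7), (77, 7), (78, 5), (81, 2), (82, 3), (83, 2), (84, 7), (85, 1), (86, 1), (87, 2), (88, 3), (89, 6), (91, 3), (92, 6), (93, 5), (94, 4), (95, 7), (96, 4), (97, 6), (98, 5), (99, 7), (100, 4), (101, 1), (103, 1), (104, 2), (105, 5), (106, 4), (108, 4), (110, 3), (111, 2), (112, 7), (113, 5), (114, 4), (115, 7),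 (116, 4), (117, 5), (118, 2), (119, 1), (120, 6), (121, 6), (122, 7), (123, 4), (125, 6), (126, 5), (127, 4), (128, 2), (129, 3), (130, 2), (131, 6), (132, 6), (133, 6), (135, 7), (136, 7), (137, 7), (139, 1), (140, 4), (141, 2), (142, 6), (144, 4), (145, 5), (146, 3), (147, 3), (148, 3), (149, 5), (150, 5), (151, 4), (153, 5), (154, 6), (155, 3), (156, 3), (157, 2), (158, 2), (159, 7), (160, 6), (161, 2), (162, 5), (163, 2), (164, 7), (165, 7), (166, 1), (168, 3), (169, 3), (170, 4), (171, 1), (172, 3), (173, 5), (175, 4), (176, 1), (177, 6), (179, 6)]),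
    ([], [(0, 2), (1, 6), (2, 6), (4, 6), (5, 4), (6, 5), (7, 4), (8, 1), (9, 2), (10, 5), (11, 7), (12, 3), (13, 2), (14, 4), (15, 3), (16, 2), (18, 6), (19, 3), (21, 3), (22, 7), (23, 3), (25, 5), (26, 3), (27, 7), (28, 3), (29, 3), (30, 6), (31, 7), (32, 1), (33, 3), (34, 5), (35, 1), (36, 1), (37, 2), (38, 2), (39, 6), (40, 5), (41, 4), (42, 1), (43, 1), (44, 4), (45, 7), (46, 6), (47, 3), (48, 5), (49, 6), (50, 5), (51, 4), (52, 4), (53, 2), (54, 5), (55, 6), (56, 4), (57, 3), (58, 7), (59, 7), (60, 7), (61, 6), (62, 2), (63, 1), (64, 7), (65, 5), (66, 3), (67, 6), (68, 2), (69, 6), (71, 7), (73, 5), (74, 6), (75, 7), (76, 6), (77, 6), (78, 7), (79, 6), (80, 6), (81, 4), (83, 4), (84, 5), (85, 4), (86, 2), (87, 7), (89, 1), (90, 3), (91, 5), (92, 7), (93, 1), (94, 7), (96, 1), (97, 6), (98, 7), (99, 3), (100, 4), (101, 3), (102, 4), (103, 3), (104, 4), (105,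 5), (106, 2), (107, 4), (108, 6), (109, 4), (110, 3), (112, 7), (113, 7), (114, 2), (115, 7), (117, 5), (118, 2), (119, 3), (120, 4), (121, 4), (122, 7), (123, 2), (125, 2), (126, 2), (127, 6), (129, 5), (132, 6), (134, 7), (135, 3), (136, 2), (138, 3), (139, 3), (140, 5), (141, 4), (142, 1), (143, 7), (144, 4), (145, 5), (146, 6), (147, 7), (148, 4), (149, 3), (150, 7), (151, 6), (152, 2), (153, 2), (154, 4), (157, 6), (158, 6), (159, 1), (160, 2), (162, 7), (163, 3), (164, 4), (165, 6), (167, 6), (168, 5), (170, 3), (171, 2), (172, 5), (173, 5), (175, 2), (176, 5), (177, 5), (178, 1), (179, 1)])]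

/-- Part of the certificate. -/
def tgtPart5 : List (List (ℕ × ℕ) × List (ℕ × ℕ)) := [
    ([], [(0, 5), (1, 3), (2, 3), (3, 5), (4, 3), (5, 4), (6, 1), (8, 1), (9, 2), (10, 4), (11, 4), (12, 4), (13, 6), (14, 1), (15, 6), (16, 5), (17, 2), (18, 6), (19, 5), (20, 4), (21, 2), (22, 3), (23, 7), (24, 6), (25, 4), (27, 6), (28, 5), (29, 4), (30, 2), (31, 3), (32, 3), (34, 7), (35, 3), (36, 5), (37, 5), (38, 6), (40, 1), (41, 2), (43, 5), (44, 7), (46, 1), (47, 6), (48, 3), (49, 6), (50, 6), (51, 3), (52, 7), (53, 5), (54, 1), (55, 2), (56, 5), (57, 6), (58, 5), (62, 1), (63, 7), (64, 2), (65, 4), (66, 6), (67, 4), (68, 5), (70, 7), (71, 7), (72, 5), (73, 1), (74, 1), (75, 4), (77, 6), (78, 1), (79, 2), (80, 7), (82, 6), (83, 7), (84, 6), (85, 6), (86, 4), (87, 6), (88, 1), (89, 7), (90, 4), (91, 7), (92, 2), (93, 5), (94, 5), (95, 6), (96, 1), (102, 1), (103, 5),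 (104, 4), (106, 1), (107, 6), (109, 7), (110, 2), (112, 5), (116, 5), (117, 3), (119, 3), (121, 3), (125, 7), (126, 6), (133, 4), (135, 4), (137, 2), (138, 2), (139, 6), (140, 6)]),
    ([(0, 1), (1, 1)], [(0, 6), (1, 3), (2, 7), (4, 5), (5, 6), (6, 4), (7, 3), (8, 4), (9, 2), (11, 4), (12, 1), (13, 3), (14, 2), (15, 7), (16, 7), (17, 2), (18, 2), (19, 3), (20, 1), (22, 7), (23, 6), (24, 7), (25, 2), (26, 7), (27, 1), (28, 5), (29, 2), (30, 3), (31, 3), (32, 3), (33, 4), (34, 5), (35, 6), (36, 6), (38, 2), (39, 2), (40, 7), (41, 6), (42, 6), (44, 2), (45, 4), (46, 5), (47, 5), (48, 1), (50, 3), (51, 7), (52, 4), (53, 4), (54, 3), (55, 2), (56, 7), (57, 5), (58, 6), (59, 1), (60, 7), (61, 7), (62, 4), (63, 1), (64, 3), (65, 3), (66, 6), (67, 6), (68, 6), (69, 3), (70, 5), (72, 3), (74, 7), (75, 4), (76, 6), (77, 7), (78, 5), (80, 4), (81, 5), (82, 6), (84, 4), (85,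 2), (86, 5), (87, 6), (88, 5), (89, 3), (90, 5), (91, 1), (92, 5), (93, 6), (94, 4), (95, 5), (96, 6), (97, 5), (98, 3), (99, 1), (101, 2), (102, 3), (103, 2), (104, 4), (105, 5), (106, 3), (107, 3), (108, 7), (109, 5), (110, 4), (111, 5), (113, 5), (114, 3), (115, 6), (118, 6), (119, 4), (120, 5), (121, 5), (122, 2), (123, 4), (125, 6), (126, 4), (128, 2), (129, 3), (130, 2), (131, 6), (132, 5), (134, 3), (135, 7), (136, 2), (137, 2), (139, 6), (140, 4), (141, 6), (142, 2), (143, 2), (144, 4), (145, 5), (146, 6), (147, 7), (148, 1), (149, 7), (150, 1), (151, 6), (152, 4), (155, 3), (157, 6), (158, 3), (159, 6), (160, 1), (162, 2), (163, 5), (164, 2), (165, 1), (166, 6), (167, 6), (168, 5), (169, 3), (170, 2), (171, 4), (172, 5), (173, 5), (174, 6), (176, 1), (177, 5), (178, 3)]),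
    ([(0, 1), (1, 1)], [(0, 5), (1, 5), (2, 7), (3, 2), (4, 5), (5, 6), (6, 1), (7, 1), (8, 7), (9, 3), (10, 7), (11, 4), (12, 4), (13, 6), (14, 5), (15, 4), (16, 3), (17, 4), (18, 4), (19, 5), (20, 5), (22, 3), (23, 6), (25, 2), (26, 1), (27, 6), (28, 7), (29, 5), (30, 4), (31, 7), (32, 2), (33, 4), (34, 6), (35, 4), (36, 3), (37, 4), (38, 7), (39, 3), (40, 1), (41, 6), (42, 3), (43, 5), (45, 3), (46, 4), (47, 3), (48, 2), (49, 4), (50, 7), (51, 5), (52, 5), (53, 2), (54, 4), (55, 4), (56, 7), (57, 2), (58, 6), (59, 1), (60, 2), (62, 4), (63, 3), (64, 6), (65, 2), (66, 3), (67, 4), (68, 4), (69, 5), (70, 4), (71, 1), (72, 6), (73, 4), (74, 1), (75, 7), (76, 3), (77, 6), (78, 1), (79, 4), (80, 3), (81, 2), (82, 3), (83, 6), (84, 7), (85, 2), (86, 1), (87, 3), (88, 3), (89, 4), (90, 3), (92, 5), (93, 4), (94, 7), (95, 5), (96, 7), (97, 5), (98, 7), (99, 3), (101,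 5), (102, 6), (103, 6), (104, 5), (105, 3), (106, 2), (107, 7), (108, 1), (109, 2), (110, 3), (111, 4), (112, 3), (113, 3), (114, 4), (115, 3), (117, 1), (119, 2), (121, 6), (122, 7), (123, 7), (125, 7), (126, 5), (127, 6), (128, 4), (129, 4), (132, 5), (134, 6), (135, 5), (136, 1), (137, 6), (138, 6), (139, 1), (140, 5), (141, 1), (143, 2), (144, 4), (145, 7), (146, 3), (147, 7), (148, 2), (149, 2), (150, 4), (151, 7), (152, 1), (153, 6), (154, 6), (155, 4), (156, 1), (157, 4), (158, 5), (159, 3), (160, 3), (161, 7), (162, 1), (163, 5), (164, 1), (165, 5), (168, 1), (170, 1), (171, 4), (172, 3), (173, 1), (174, 1), (175, 6), (176, 5), (177, 1), (178, 2)]),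
    ([(1, 1)], [(0, 3), (1, 3), (2, 4), (3, 5), (4, 6), (6, 4), (7, 4), (8, 5), (10, 1), (12, 2), (13, 7), (14, 5), (15, 2), (16, 4), (17, 7), (18, 5), (19, 2), (20, 5), (21, 5), (22, 2), (23, 5), (24, 2), (26, 5), (27, 7), (29, 4), (30, 5), (31, 4), (32, 2), (33, 3), (34, 5), (35, 3), (36, 2), (37, 7), (38, 2), (39, 1), (40, 3), (42, 3), (44, 3), (45, 2), (46, 2), (47, 1), (48, 7), (49, 7), (50, 2), (51, 3), (53, 7), (54, 7), (56, 2), (57, 4), (58, 3), (59, 7), (60, 4), (61, 3), (63, 4), (64, 1), (65, 1), (66, 7), (67, 5), (68, 3), (69, 5), (70, 5), (71, 5), (72, 6), (73, 7), (74, 6), (75, 3), (76, 1), (77, 6), (78, 1), (79, 5), (80, 3), (81, 7), (82, 7), (83, 4), (84, 5), (85, 4), (86, 3), (87, 4), (88, 3), (89, 5), (90, 5), (91, 4), (92, 1), (93, 7), (94, 5), (96, 2), (97, 1), (98, 2), (99, 3), (101, 1), (102, 1), (103, 5), (104, 4), (106, 3), (107, 5), (108,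 7), (109, 7), (110, 3), (112, 2), (113, 4), (115, 6), (116, 4), (117, 6), (119, 5), (121, 2), (122, 4), (123, 1), (125, 7), (126, 3), (128, 4), (129, 5), (132, 1), (133, 3), (134, 2), (135, 4), (136, 3), (138, 7), (139, 6), (141, 5), (142, 5), (143, 1), (146, 3), (147, 6), (148, 4), (149, 6), (150, 2), (153, 4), (154, 6), (156, 2), (157, 6), (158, 1), (159, 2), (160, 3), (161, 7), (162, 2), (163, 2), (164, 7), (165, 7), (166, 2), (167, 6), (170, 4), (172, 4), (174, 7), (176, 6), (177, 4), (178, 3), (179, 1)]),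
    ([(0, 1)], [(1, 1), (2, 3), (3, 3), (4, 2), (5, 4), (6, 3), (7, 4), (8, 2), (10, 3), (12, 5), (13, 2), (14, 2), (15, 3), (16, 2), (17, 6), (18, 3), (19, 6), (21, 7), (23, 1), (24, 5), (25, 2), (26, 4), (27, 5), (28, 5), (29, 6), (30, 2), (31, 1), (32, 1), (33, 7), (34, 4), (35, 7), (36, 2), (37, 5), (38, 2), (39, 1), (40, 4), (41, 4), (42, 1), (43, 3), (44, 3), (45, 6), (47, 7), (48, 1), (49, 3), (50, 3), (51, 2), (52, 1), (53, 1), (54, 5), (56, 7), (58, 4), (59, 3), (60, 5), (61, 6), (62, 2), (64, 5), (65, 2), (66, 1), (67, 5), (68, 7), (69, 6), (70, 5), (71, 2), (72, 1), (74, 1), (75, 4), (76, 5), (77, 7), (78, 4), (79, 5), (80, 7), (81, 4), (82, 5), (83, 4), (84, 2), (85, 4), (86, 6), (88, 7), (89, 7), (90, 2), (91, 3), (92, 2), (93, 5), (94, 6), (95, 3), (96, 2), (97, 5), (98, 1), (99, 5), (101, 5), (103, 6), (105, 2), (106, 3), (107, 1), (108, 4), (110,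 6), (111, 6), (112, 7), (114, 7), (115, 5), (116, 6), (117, 5), (118, 1), (119, 7), (120, 2), (121, 4), (122, 6), (123, 6), (125, 2), (127, 2), (129, 5), (132, 1), (133, 7), (134, 1), (135, 3), (137, 3), (138, 4), (139, 4), (140, 4), (141, 4), (142, 5), (143, 5), (144, 4), (145, 7), (146, 7), (147, 7), (149, 5), (150, 1), (151, 1), (152, 6), (153, 7), (154, 5), (155, 5), (156, 7), (158, 7), (159, 2), (160, 7), (161, 4), (163, 6), (164, 7), (166, 5), (168, 5), (170, 1), (171, 1), (172, 7), (173, 7), (175, 6), (176, 5), (177, 2), (178, 2), (179, 3)]),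
    ([(0, 1), (1, 1)], [(0, 5), (2, 1), (3, 5), (4, 4), (5, 5), (6, 7), (7, 4), (8, 7), (9, 1), (11, 5), (12, 6), (13, 4), (14, 4), (16, 2), (17, 1), (18, 2), (19, 6), (20, 7), (21, 3), (22, 3), (23, 1), (24, 6), (25, 2), (27, 7), (28, 2), (29, 7), (30, 2), (31, 3), (32, 1), (34, 2), (35, 1), (36, 3), (37, 2), (38, 3), (39, 5), (40, 1), (41, 2), (43, 7), (44, 3), (45, 1), (46, 3), (47, 7), (48, 7), (49, 4), (50, 4), (52, 3), (53, 2), (54, 1), (55, 4), (56, 5), (57, 1), (58, 7), (60, 6), (61, 1), (62, 1), (63, 4), (64, 6), (65, 1), (67, 3), (68, 6), (69, 2), (70, 3), (71, 7), (73, 4), (75, 2), (76, 5), (77, 1), (78, 4), (79, 6), (80, 6), (81, 3), (82, 6), (83, 1), (84, 6), (85, 1), (86, 7), (87, 5), (88, 1), (89, 6), (90, 2), (91, 4), (92, 1), (93, 6), (94, 2), (95, 7), (96, 5), (97, 4), (99, 7), (100, 4), (101, 5), (103, 1), (104, 1), (105, 6), (106, 6), (107, 4),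 (108, 6), (110, 1), (111, 2), (112, 1), (113, 6), (114, 4), (115, 2), (116, 3), (117, 7), (118, 2), (119, 7), (120, 2), (121, 7), (125, 7), (128, 4), (132, 4), (133, 1), (134, 1), (135, 4), (136, 2), (138, 6), (140, 2), (143, 4), (148, 6), (149, 3), (150, 1), (151, 4), (153, 1), (155, 6), (156, 3), (157, 2), (158, 4), (159, 4), (161, 4), (162, 4), (163, 4), (164, 1), (165, 6), (166, 1), (168, 1), (169, 3), (170, 1), (172, 1), (173, 7), (174, 1), (175, 5), (176, 4), (177, 6), (178, 1), (179, 1)]),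
    ([(0, 1), (1, 1)], [(1, 1), (3, 6), (5, 6), (7, 4), (8, 6), (9, 3), (10, 2), (11, 4), (12, 6), (16, 4), (17, 3), (18, 6), (19, 1), (20, 1), (22, 4), (24, 6), (25, 2), (26, 3), (27, 4), (28, 7), (29, 4), (30, 7), (31, 7), (32, 4), (33, 2), (34, 3), (35, 4), (36, 1), (38, 6), (39, 4), (40, 3), (41, 6), (42, 3), (43, 6), (44, 1), (45, 3), (46, 6), (47, 3), (48, 2), (49, 3), (50, 6), (51, 3), (52, 6), (53, 2), (54, 4), (55, 5), (56, 5), (58, 3), (59, 6), (60, 2), (61, 7), (62, 2), (65, 7), (66, 7), (67, 2), (69, 1), (70, 6), (71, 5), (72, 7), (73, 5), (74, 2), (75, 6), (76, 3), (77, 6), (78, 2), (79, 5), (80, 1), (81, 3), (82, 5), (83, 1), (85, 2), (86, 1), (88, 6), (89, 7), (90, 3), (91, 3), (93, 7), (94, 2), (95, 7), (96, 3), (98, 4), (99, 7), (100, 4), (101, 5), (102, 6), (103, 1), (104, 1), (105, 4), (106, 6), (107, 2), (108, 2), (109, 2), (110, 7), (111, 6),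 (112, 5), (113, 6), (114, 4), (115, 6), (116, 3), (117, 7), (118, 6), (119, 3), (120, 2), (121, 3), (122, 4), (123, 4), (125, 1), (126, 2), (128, 4), (132, 4), (133, 5), (134, 1), (136, 6), (137, 6), (139, 2), (143, 4), (148, 6), (149, 3), (150, 1), (151, 4), (153, 1), (155, 6), (156, 3), (157, 2), (158, 4), (159, 4), (161, 4), (162, 4), (163, 4), (164, 1), (165, 6), (166, 1), (168, 1), (169, 3), (170, 1), (172, 1), (173, 7), (174, 1), (175, 5), (176, 4), (177, 6), (178, 1), (179, 1)]),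
    ([], [(0, 3), (1, 7), (2, 1), (3, 7), (4, 4), (5, 6), (6, 2), (7, 6), (8, 6), (10, 7), (11, 6), (12, 5), (13, 6), (14, 3), (15, 3), (16, 4), (18, 4), (19, 5), (21, 3), (22, 4), (23, 3), (24, 3), (25, 4), (26, 5), (27, 4), (30, 2), (31, 6), (32, 3), (33, 5), (34, 4), (35, 5), (36, 3), (37, 7), (39, 5), (40, 7), (41, 2), (42, 1), (43, 7), (44, 5), (45, 5), (46, 5), (47, 7), (49, 5), (50, 2), (51, 5), (52, 6), (53, 3), (55, 2), (56, 4), (57, 7), (58, 3), (59, 7), (60, 1), (61, 7), (62, 6), (63, 1), (64, 1), (65, 7), (66, 1), (67, 5), (68, 3), (69, 1), (70, 7), (71, 6), (72, 4), (73, 6), (75, 1), (76, 3), (77, 5), (78, 2), (79, 4), (80, 4), (81, 2), (82, 5), (83, 5), (85, 6), (86, 2), (87, 5), (88, 4), (89, 6), (92, 7), (93, 7), (94, 7), (95, 2), (96, 4), (98, 4), (99, 4), (100, 4), (101, 4), (102, 6), (104, 4), (105, 2), (107, 2), (109, 2), (110, 2), (112, 2),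 (113, 4), (114, 4), (116, 2), (117, 6), (118, 4), (119, 6), (121, 6), (122, 4), (126, 2), (134, 6), (135, 4), (137, 2), (138, 2), (139, 6), (140, 6)])]

/-- Part of the certificate. -/
def tgtPart6 : List (List (ℕ × ℕ) × List (ℕ × ℕ)) := [
    ([(0, 1)], [(0, 4), (1, 4), (2, 5), (4, 1), (5, 4), (6, 3), (7, 6), (8, 5), (10, 2), (11, 6), (12, 7), (13, 6), (14, 6), (15, 7), (16, 5), (18, 7), (19, 3), (20, 2), (21, 3), (22, 2), (23, 1), (24, 4), (25, 5), (26, 2), (27, 5), (28, 6), (29, 1), (30, 6), (31, 7), (32, 7), (34, 5), (35, 1), (36, 5), (37, 1), (38, 4), (39, 1), (40, 6), (41, 6), (42, 1), (43, 5), (44, 1), (45, 2), (46, 6), (47, 5), (48, 1), (49, 1), (50, 5), (52, 1), (53, 5), (54, 3), (55, 2), (56, 2), (57, 4), (58, 4), (59, 3), (60, 7), (61, 5), (63, 1), (65, 2), (66, 7), (67, 3), (68, 7), (70, 2), (71, 2), (72, 4), (73, 2), (74, 1), (75, 5), (76, 4), (77,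 6), (78, 6), (80, 7), (81, 6), (83, 4), (84, 4), (86, 1), (87, 7), (88, 2), (89, 2), (90, 2), (91, 3), (92, 2), (94, 2), (95, 2), (97, 5), (98, 3), (99, 5), (101, 1), (102, 5), (103, 7), (104, 3), (105, 3), (106, 5), (107, 3), (108, 3), (109, 3), (110, 1), (111, 2), (113, 1), (114, 4), (115, 1), (116, 3), (117, 4), (118, 2), (119, 1), (120, 6), (121, 1), (122, 3), (123, 3), (125, 6), (126, 7), (127, 6), (129, 4), (132, 5), (133, 4), (134, 6), (135, 5), (136, 3), (137, 6), (139, 5), (140, 7), (141, 1), (142, 4), (143, 6), (145, 3), (146, 7), (147, 3), (148, 6), (150, 2), (151, 4), (152, 6), (153, 7), (154, 4), (155, 4), (156, 1), (157, 6), (158, 1), (159, 7), (160, 3), (161, 7), (162, 5), (163, 1), (164, 4), (165, 3), (166, 3), (168, 6), (169, 1), (170, 4), (172, 2), (174, 6), (175, 5), (176, 5), (177, 7), (178, 3), (179, 3)]),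
    ([(0, 1), (1, 1)], [(0, 1), (1, 4), (2, 1), (3, 5), (5, 5), (6, 2), (7, 7), (8, 6), (9, 4), (10, 7), (11, 4), (12, 7), (13, 6), (14, 3), (15, 3), (16, 4), (17, 1), (18, 2), (19, 5), (20, 4), (21, 6), (22, 3), (24, 3), (25, 1), (26, 2), (27, 2), (28, 1), (30, 1), (31, 4), (32, 7), (33, 5), (34, 3), (35, 7), (36, 5), (37, 7), (38, 6), (39, 3), (40, 4), (41, 7), (42, 5), (43, 5), (44, 2), (45, 4), (47, 2), (48, 2), (49, 1), (50, 3), (51, 2), (53, 7), (54, 6), (55, 4), (56, 3), (58, 4), (60, 1), (61, 5), (62, 7), (63, 5), (64, 1), (65, 7), (66, 7), (67, 6), (68, 3), (70, 3), (72, 5), (73, 2), (74, 6), (75, 5), (76, 6), (77, 5), (78, 2), (79, 7), (80, 6), (81, 2), (82, 7), (83, 5), (84, 6), (85, 5), (86, 4), (87, 2), (88, 6), (89, 6), (90, 5), (92, 1), (93, 5), (94, 4), (95, 4), (96, 3), (97, 4), (99, 7), (101, 5), (102, 4), (103, 7), (104, 7), (105, 6), (107, 6),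 (108, 6), (109, 4), (110, 7), (111, 2), (112, 1), (113, 2), (114, 4), (115, 2), (116, 3), (117, 3), (118, 2), (119, 3), (120, 6), (121, 7), (122, 4), (125, 1), (126, 4), (128, 4), (132, 4), (133, 5), (134, 1), (136, 2), (137, 6), (138, 4), (139, 2), (140, 4), (143, 4), (148, 6), (149, 3), (150, 1), (151, 4), (153, 1), (155, 6), (156, 3), (157, 2), (158, 4), (159, 4), (161, 4), (162, 4), (163, 4), (164, 1), (165, 6), (166, 1), (168, 1), (169, 3), (170, 1), (172, 1), (173, 7), (174, 1), (175, 5), (176, 4), (177, 6), (178, 1), (179, 1)]),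
    ([(1, 1)], [(0, 7), (3, 2), (6, 6), (7, 7), (8, 4), (9, 1), (10, 5), (11, 1), (12, 1), (13, 2), (14, 2), (15, 3), (16, 4), (17, 1), (18, 7), (19, 1), (20, 2), (21, 2), (22, 6), (23, 6), (24, 1), (27, 4), (28, 5), (29, 3), (30, 1), (31, 4), (33, 2), (35, 7), (36, 2), (37, 3), (38, 7), (39, 7), (41, 1), (43, 2), (44, 5), (45, 4), (47, 1), (49, 7), (50, 6), (52, 6), (53, 4), (54, 6), (55, 2), (56, 1), (57, 1), (58, 6), (59, 4), (60, 6), (61, 4), (62, 7), (63, 7), (64, 7), (65, 2), (66, 7), (67, 4), (68, 4), (69, 2), (70, 6), (71, 5), (72, 5), (73, 4), (74, 4), (75, 7), (76, 3), (77, 3), (78, 2), (79, 3), (80, 3), (81, 1), (82, 6), (83, 6), (84, 5), (85, 7), (87, 4), (89, 4), (90, 2), (93, 1), (94, 2), (95, 5), (96, 6), (97, 5), (98, 6), (99, 5), (100, 4), (101, 3), (102, 6), (103, 4), (104, 5), (105, 5), (106, 7), (107, 7), (108, 4), (109, 2), (110, 2), (111, 4),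 (112, 7), (113, 5), (114, 7), (115, 4), (116, 3), (117, 1), (118, 3), (119, 5), (120, 4), (121, 1), (122, 1), (123, 4), (125, 5), (126, 2), (128, 4), (129, 4), (132, 5), (133, 6), (134, 5), (135, 4), (137, 3), (138, 3), (139, 5), (140, 1), (143, 2), (145, 6), (146, 3), (148, 6), (149, 1), (150, 7), (151, 1), (152, 4), (153, 4), (154, 7), (155, 1), (156, 4), (158, 3), (159, 3), (160, 3), (162, 3), (163, 1), (164, 2), (166, 4), (167, 6), (168, 1), (169, 7), (170, 7), (171, 5), (172, 3), (173, 5), (174, 1), (175, 5), (176, 4), (177, 5), (179, 3)]),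
    ([(0, 1), (1, 1)], [(0, 7), (1, 4), (2, 7), (3, 5), (4, 1), (5, 2), (6, 6), (9, 6), (10, 2), (11, 5), (12, 5), (13, 5), (14, 7), (15, 7), (16, 5), (19, 3), (20, 5), (21, 2), (22, 1), (23, 7), (24, 3), (25, 5), (26, 7), (27, 7), (28, 7), (29, 2), (30, 2), (32, 3), (33, 4), (34, 3), (35, 3), (36, 3), (37, 2), (38, 4), (39, 3), (40, 6), (41, 1), (42, 4), (44, 7), (45, 6), (46, 6), (47, 3), (48, 7), (50, 1), (51, 7), (52, 6), (53, 5), (54, 2), (55, 3), (56, 4), (57, 5), (59, 3), (60, 2), (61, 7), (62, 5), (63, 1), (64, 6), (65, 3), (66, 6), (67, 4), (68, 7), (69, 5), (70, 3), (71, 7), (72, 4), (73, 7), (74, 4), (75, 3), (76, 7), (77, 5), (78, 1), (79, 7), (80, 7), (81, 2), (82, 7), (83, 6), (84, 6), (85, 6), (87, 4), (88, 4), (89, 2), (90, 1), (91, 3), (93, 2), (94, 2), (95, 7), (96, 7), (97, 1), (98, 1), (99, 2), (101, 5), (102, 6), (103, 6), (104, 5), (105, 3),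 (106, 6), (107, 7), (108, 5), (109, 2), (110, 7), (111, 7), (112, 6), (113, 7), (114, 1), (115, 2), (116, 6), (117, 6), (118, 2), (120, 3), (121, 5), (122, 6), (123, 6), (125, 7), (126, 5), (127, 2), (129, 5), (132, 1), (133, 3), (134, 1), (135, 3), (136, 5), (137, 3), (138, 7), (139, 4), (140, 5), (141, 4), (142, 5), (143, 5), (144, 4), (145, 5), (146, 1), (147, 7), (149, 6), (150, 2), (151, 1), (152, 3), (153, 7), (154, 4), (155, 6), (157, 6), (158, 7), (160, 1), (161, 2), (163, 6), (164, 3), (166, 1), (168, 1), (170, 1), (171, 1), (172, 3), (173, 3), (175, 6), (176, 5), (178, 2), (179, 3)]),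
    ([(0, 1)], [(0, 3), (1, 4), (2, 4), (3, 5), (4, 2), (5, 5), (6, 5), (7, 5), (8, 4), (9, 2), (10, 6), (11, 3), (12, 1), (13, 2), (15, 3), (16, 6), (17, 7), (18, 5), (19, 1), (20, 1), (21, 2), (22, 4), (23, 1), (24, 5), (25, 7), (26, 7), (28, 2), (29, 5), (30, 4), (32, 6), (33, 5), (34, 4), (35, 1), (36, 2), (37, 6), (38, 6), (39, 1), (40, 1), (41, 1), (42, 4), (43, 1), (44, 1), (45, 7), (46, 2), (48, 3), (49, 4), (50, 2), (54, 5), (55, 4), (56, 7), (57, 1), (58, 4), (59, 5), (60, 6), (61, 1), (62, 5), (63, 4), (64, 6), (65, 7), (67, 2), (69, 2), (70, 3), (71, 6), (72, 6), (73, 4), (74, 5), (75, 4), (76, 6), (77, 4), (78, 3), (80, 6), (81, 2), (82, 2), (83, 6), (84, 6), (85, 4), (86, 6), (87, 1), (88, 3), (89, 7), (90, 1), (91, 5), (93, 4), (95, 6), (97, 2), (99, 5), (100, 4), (101, 1), (102, 4), (103, 3), (104, 2), (105, 7), (106, 3), (107, 6), (108, 3), (109,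 4), (110, 6), (111, 4), (112, 7), (113, 5), (114, 7), (115, 2), (116, 5), (117, 5), (118, 3), (119, 4), (121, 5), (122, 1), (123, 1), (125, 6), (126, 7), (127, 4), (129, 1), (132, 2), (133, 2), (136, 3), (137, 1), (138, 4), (139, 1), (140, 3), (141, 1), (142, 5), (143, 3), (145, 2), (146, 2), (147, 2), (148, 4), (151, 4), (152, 3), (153, 4), (154, 7), (155, 7), (156, 1), (157, 2), (159, 1), (160, 6), (161, 3), (162, 5), (163, 3), (164, 3), (165, 3), (166, 4), (168, 5), (169, 1), (170, 5), (171, 5), (172, 5), (173, 5), (175, 3), (176, 6), (177, 1), (178, 3), (179, 6)]),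
    ([(1, 1)], [(0, 6), (1, 2), (2, 3), (3, 2), (4, 4), (5, 1), (6, 4), (7, 2), (8, 1), (9, 5), (10, 2), (12, 7), (14, 7), (15, 7), (16, 1), (17, 2), (18, 6), (19, 4), (20, 5), (21, 5), (22, 7), (24, 1), (25, 3), (26, 6), (27, 4), (28, 2), (29, 6), (30, 2), (31, 4), (32, 6), (33, 7), (34, 2), (35, 4), (37, 7), (38, 2), (39, 5), (40, 1), (41, 1), (42, 5), (43, 2), (44, 5), (45, 1), (46, 1), (47, 4), (49, 2), (50, 4), (51, 7), (52, 7), (53, 6), (54, 5), (56, 1), (57, 4), (58, 2), (59, 1), (61, 2), (62, 1), (63, 3), (64, 5), (65, 2), (66, 4), (67, 5), (68, 3), (70, 4), (71, 4), (72, 3), (73, 5), (74, 6), (76, 2), (77, 4), (78, 6), (79, 5), (80, 6), (81, 3), (82, 5), (83, 4), (86, 3), (87, 6), (89, 4), (90, 6), (91, 6), (92, 1), (93, 1), (94, 2), (95, 4), (96, 4), (98, 1), (99, 7), (101, 5), (102, 6), (103, 3), (104, 3), (106, 7), (107, 4), (108, 7), (109, 2), (111,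 6), (112, 1), (114, 5), (115, 5), (117, 7), (118, 7), (119, 4), (120, 6), (122, 6), (123, 3), (125, 7), (126, 1), (127, 6), (128, 4), (132, 4), (133, 5), (134, 4), (135, 1), (136, 3), (137, 7), (138, 5), (140, 2), (141, 5), (142, 4), (143, 4), (144, 4), (145, 1), (147, 3), (148, 2), (149, 6), (150, 4), (152, 3), (153, 7), (154, 3), (155, 5), (156, 2), (157, 2), (158, 2), (161, 3), (162, 2), (164, 4), (165, 3), (166, 1), (167, 6), (168, 1), (170, 3), (171, 3), (172, 1), (173, 7), (174, 5), (175, 6), (176, 5), (177, 2), (178, 3), (179, 6)]),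
    ([(1, 1)], [(0, 4), (1, 4), (2, 5), (3, 5), (5, 4), (6, 3), (7, 1), (8, 2), (9, 3), (11, 5), (13, 3), (14, 3), (16, 3), (17, 2), (18, 2), (19, 7), (20, 2), (21, 5), (22, 3), (23, 7), (24, 7), (25, 1), (26, 2), (27, 6), (28, 6), (29, 5), (30, 6), (31, 1), (32, 6), (33, 5), (34, 5), (35, 6), (36, 2), (37, 5), (38, 1), (39, 6), (40, 7), (41, 5), (42, 3), (44, 4), (45, 6), (46, 2), (47, 7), (48, 2), (49, 7), (50, 3), (51, 2), (52, 3), (53, 5), (54, 7), (55, 2), (56, 5), (57, 7), (58, 7), (59, 5), (60, 3), (61, 6), (62, 7), (63, 1), (65, 6), (67, 6), (68, 6), (69, 2), (71, 6), (72, 1), (73, 4), (74, 5), (75, 5), (76, 1), (77, 2), (78, 4), (79, 1), (80, 1), (81, 6), (83, 5), (84, 1), (85, 3), (86, 4), (87, 5), (88, 1), (90, 5), (91, 3), (92, 7), (93, 3), (94, 1), (95, 7), (96, 4), (97, 5), (98, 6), (99, 1), (100, 4), (101, 7), (104, 1), (105, 7), (106, 7), (107, 1),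 (111, 4), (112, 1), (113, 1), (114, 3), (115, 4), (116, 5), (117, 7), (118, 7), (119, 3), (120, 4), (121, 7), (122, 5), (123, 4), (125, 1), (126, 6), (128, 4), (129, 4), (132, 5), (133, 2), (134, 3), (135, 4), (136, 4), (137, 3), (138, 7), (139, 5), (140, 5), (143, 2), (145, 6), (146, 3), (148, 6), (149, 1), (150, 7), (151, 1), (152, 4), (153, 4), (154, 7), (155, 1), (156, 4), (158, 3), (159, 3), (160, 3), (162, 3), (163, 1), (164, 2), (166, 4), (167, 6), (168, 1), (169, 7), (170, 7), (171, 5), (172, 3), (173, 5), (174, 1), (175, 5), (176, 4), (177, 5), (179, 3)]),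
    ([], [(2, 4), (3, 7), (4, 5), (5, 4), (6, 5), (7, 1), (8, 3), (9, 4), (10, 6), (11, 5), (12, 3), (13, 3), (14, 2), (15, 1), (16, 4), (17, 2), (18, 1), (19, 7), (20, 3), (21, 7), (22, 1), (24, 3), (25, 7), (27, 3), (28, 5), (29, 3), (30, 7), (31, 6), (32, 4), (33, 5), (34, 4), (35, 4), (36, 4), (37, 4), (38, 5), (39, 1), (40, 3), (41, 3), (42, 3), (43, 1), (44, 4), (45, 1), (46, 2), (47, 1), (48, 7), (49, 4), (50, 7), (51, 3), (52, 5), (53, 6), (54, 6), (55, 2), (56, 7), (57, 5), (58, 4), (60, 2), (61, 7), (63, 7), (64, 3), (65, 7), (66, 5), (67, 7), (68, 7), (69, 4), (70, 7), (71, 6), (72, 4), (73, 2), (74, 6), (76, 2), (77, 5), (79, 3), (80, 2), (81, 7), (82, 3), (83, 5), (84, 7), (85, 7), (86, 7), (87, 3), (88, 1), (89, 7), (90, 6), (91, 2), (92, 3), (93, 7), (94, 5), (97, 1), (98, 7), (99, 4), (101, 4), (102, 4), (103, 1), (104, 4), (105, 7), (106, 4), (107,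 1), (108, 7), (109, 4), (110, 4), (111, 6), (112, 2), (113, 1), (114, 4), (115, 5), (116, 1), (117, 6), (118, 6), (119, 3), (120, 6), (121, 7), (122, 7), (123, 3), (126, 7), (127, 6), (132, 1), (133, 7), (134, 5), (135, 1), (136, 3), (138, 2), (139, 3), (140, 5), (141, 1), (142, 4), (143, 6), (144, 4), (145, 7), (146, 3), (147, 7), (148, 4), (149, 3), (150, 7), (151, 3), (152, 1), (153, 1), (154, 6), (155, 6), (156, 2), (157, 6), (158, 5), (159, 7), (160, 7), (161, 3), (162, 1), (163, 5), (165, 3), (166, 7), (168, 4), (169, 5), (170, 4), (172, 2), (173, 6), (175, 1), (176, 5), (177, 3), (178, 1), (179, 3)])]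

/-- Part of the certificate. -/
def tgtPart7 : List (List (ℕ × ℕ) × List (ℕ × ℕ)) := [
    ([(0, 1)], [(0, 4), (1, 5), (2, 7), (3, 6), (4, 2), (5, 5), (6, 5), (7, 4), (8, 5), (9, 2), (10, 2), (11, 7), (14, 3), (15, 4), (16, 4), (18, 7), (19, 1), (21, 3), (22, 4), (24, 6), (25, 7), (26, 4), (27, 5), (28, 5), (29, 1), (30, 4), (32, 6), (34, 7), (35, 5), (38, 1), (40, 6), (41, 4), (42, 3), (43, 4), (44, 1), (45, 3), (46, 3), (47, 6), (48, 6), (49, 7), (50, 6), (51, 1), (52, 1), (53, 2), (54, 6), (55, 4), (56, 4), (57, 3), (58, 2), (59, 2), (60, 6), (61, 4), (62, 2), (63, 4), (66, 3), (68, 1), (69, 1), (71, 5), (72, 6), (73, 3), (74, 3), (75, 6), (76, 4), (77, 5), (79, 3), (80, 1), (81, 2), (82, 7), (83, 7), (84, 2), (85, 2), (86, 2), (87, 4), (88, 6), (90, 4), (91, 7), (92, 6), (93, 2), (94, 6), (95, 1), (96, 4), (97, 5), (98, 7), (99, 1), (101, 5), (102, 7), (103,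 5), (104, 7), (105, 3), (106, 3), (107, 7), (108, 7), (109, 1), (110, 5), (111, 2), (112, 6), (113, 5), (115, 1), (116, 1), (117, 6), (118, 6), (119, 3), (120, 6), (121, 3), (122, 7), (123, 3), (125, 6), (126, 3), (127, 2), (129, 4), (132, 5), (135, 5), (136, 7), (137, 6), (138, 4), (139, 5), (140, 3), (141, 1), (142, 4), (143, 6), (145, 3), (146, 7), (147, 3), (148, 6), (150, 2), (151, 4), (152, 6), (153, 7), (154, 4), (155, 4), (156, 1), (157, 6), (158, 1), (159, 7), (160, 3), (161, 7), (162, 5), (163, 1), (164, 4), (165, 3), (166, 3), (168, 6), (169, 1), (170, 4), (172, 2), (174, 6), (175, 5), (176, 5), (177, 7), (178, 3), (179, 3)]),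
    ([(1, 1)], [(0, 1), (1, 4), (2, 6), (3, 4), (4, 7), (5, 3), (6, 5), (7, 7), (8, 7), (9, 5), (10, 2), (11, 3), (12, 5), (13, 7), (15, 7), (16, 5), (17, 7), (18, 5), (19, 2), (20, 4), (21, 4), (22, 7), (23, 2), (24, 4), (25, 6), (26, 2), (27, 7), (29, 1), (30, 7), (31, 2), (32, 1), (33, 5), (34, 3), (36, 1), (37, 3), (39, 7), (40, 2), (41, 7), (42, 1), (43, 2), (44, 6), (45, 6), (46, 4), (47, 1), (48, 5), (49, 5), (50, 2), (51, 2), (52, 2), (53, 2), (54, 5), (55, 5), (56, 4), (57, 1), (58, 3), (59, 4), (60, 4), (61, 3), (62, 7), (63, 2), (64, 1), (65, 1), (66, 6), (68, 7), (69, 7), (70, 5), (71, 7), (72, 4), (73, 6), (75, 2), (76, 2), (77, 5), (78, 6), (80, 4), (81, 6), (82, 5), (83, 7), (84, 4), (85, 4), (86, 5), (87, 6), (88, 6), (89, 2), (90, 7), (91, 6), (93, 7), (95, 7), (96, 4), (97, 5), (98, 6), (99, 1), (100, 4), (101, 3), (103, 2), (104, 5), (105, 1),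 (106, 5), (107, 7), (108, 4), (110, 2), (112, 1), (113, 5), (114, 3), (116, 1), (117, 7), (118, 3), (119, 3), (121, 7), (122, 5), (123, 4), (125, 7), (126, 4), (128, 4), (129, 4), (132, 5), (133, 6), (134, 3), (135, 4), (137, 3), (138, 3), (139, 5), (140, 1), (143, 2), (145, 6), (146, 3), (148, 6), (149, 1), (150, 7), (151, 1), (152, 4), (153, 4), (154, 7), (155, 1), (156, 4), (158, 3), (159, 3), (160, 3), (162, 3), (163, 1), (164, 2), (166, 4), (167, 6), (168, 1), (169, 7), (170, 7), (171, 5), (172, 3), (173, 5), (174, 1), (175, 5), (176, 4), (177, 5), (179, 3)]),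
    ([(1, 1)], [(0, 1), (1, 3), (2, 2), (4, 5), (5, 6), (6, 2), (7, 5), (8, 3), (9, 6), (10, 2), (11, 4), (12, 4), (13, 2), (14, 1), (15, 6), (16, 1), (17, 4), (18, 3), (19, 6), (20, 7), (21, 7), (22, 6), (23, 3), (24, 1), (25, 3), (26, 4), (27, 2), (28, 3), (29, 3), (31, 2), (32, 3), (33, 6), (34, 2), (35, 7), (36, 6), (37, 4), (38, 5), (40, 5), (41, 6), (42, 2), (43, 1), (44, 5), (45, 7), (47, 3), (48, 3), (49, 4), (50, 6), (51, 4), (52, 4), (53, 5), (54, 1), (56, 5), (57, 6), (58, 7), (59, 6), (60, 6), (61, 1), (62, 4), (63, 1), (65, 5), (66, 3), (67, 5), (68, 3), (69, 5), (70, 6), (71, 4), (72, 6), (74, 1), (75, 5), (76, 4), (77, 6), (78, 7), (79, 2), (80, 5), (81, 6), (83, 4), (84, 7), (85, 3), (86, 1), (87, 2), (88, 4), (89, 5), (90, 6), (91, 3), (92, 4), (93, 2), (94, 2), (96, 4), (97, 1), (98, 6), (99, 1), (100, 4), (101, 3), (102, 6), (103, 2), (104, 3),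 (105, 1), (106, 1), (107, 5), (108, 4), (109, 2), (110, 4), (111, 4), (112, 1), (113, 1), (114, 7), (115, 4), (116, 5), (117, 3), (118, 3), (119, 7), (121, 7), (122, 5), (123, 4), (125, 7), (126, 4), (128, 4), (129, 4), (132, 5), (133, 6), (134, 3), (135, 4), (137, 3), (138, 3), (139, 5), (140, 1), (143, 2), (145, 6), (146, 3), (148, 6), (149, 1), (150, 7), (151, 1), (152, 4), (153, 4), (154, 7), (155, 1), (156, 4), (158, 3), (159, 3), (160, 3), (162, 3), (163, 1), (164, 2), (166, 4), (167, 6), (168, 1), (169, 7), (170, 7), (171, 5), (172, 3), (173, 5), (174, 1), (175, 5), (176, 4), (177, 5), (179, 3)]),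
    ([(0, 1)], [(0, 7), (1, 2), (2, 6), (3, 6), (4, 3), (5, 1), (6, 7), (7, 7), (8, 6), (9, 6), (10, 4), (11, 2), (12, 5), (13, 5), (15, 7), (16, 2), (18, 3), (19, 4), (20, 4), (21, 7), (22, 3), (23, 1), (24, 1), (25, 4), (26, 5), (27, 2), (29, 3), (30, 6), (31, 1), (33, 3), (34, 6), (35, 4), (36, 6), (37, 4), (38, 3), (39, 5), (40, 1), (41, 2), (42, 1), (45, 1), (46, 7), (47, 3), (49, 7), (50, 4), (51, 2), (52, 4), (53, 2), (54, 7), (55, 7), (56, 4), (57, 4), (58, 2), (59, 1), (60, 3), (61, 2), (62, 5), (63, 6), (64, 1), (65, 7), (66, 7), (67, 1), (68, 1), (69, 7), (70, 1), (71, 3), (72, 1), (73, 5), (74, 5), (75, 7), (76, 5), (77, 1), (78, 5), (79, 2), (80, 5), (81, 6), (82, 1), (83, 5), (84, 6), (85, 4), (86, 4), (87, 4), (88, 5), (90, 6), (92, 5), (93, 3), (95, 5), (96, 5), (97, 5), (98, 6), (100, 4), (101, 4), (102, 4), (103, 7), (104, 6), (105, 7), (106, 7),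 (107, 7), (108, 6), (109, 4), (110, 7), (111, 6), (113, 3), (114, 7), (115, 6), (116, 6), (117, 4), (118, 1), (119, 4), (120, 2), (122, 1), (126, 6), (129, 4), (132, 5), (133, 7), (135, 4), (136, 6), (137, 7), (138, 1), (139, 1), (140, 3), (143, 6), (145, 6), (146, 7), (147, 4), (148, 4), (150, 4), (151, 7), (152, 6), (153, 3), (154, 3), (155, 7), (156, 3), (157, 2), (158, 7), (159, 3), (160, 7), (162, 3), (163, 1), (164, 5), (165, 2), (166, 3), (167, 6), (168, 4), (170, 6), (171, 1), (172, 2), (173, 2), (175, 4), (176, 4), (177, 3), (178, 3), (179, 6)]),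
    ([(1, 1)], [(0, 5), (1, 3), (2, 6), (3, 4), (4, 7), (6, 1), (7, 5), (8, 1), (9, 6), (10, 7), (11, 7), (12, 7), (13, 7), (14, 7), (15, 7), (16, 4), (17, 2), (18, 4), (19, 3), (20, 2), (21, 4), (22, 1), (23, 4), (24, 6), (25, 6), (26, 7), (27, 1), (28, 7), (29, 7), (31, 6), (32, 3), (34, 4), (35, 5), (36, 4), (37, 1), (39, 3), (40, 5), (41, 2), (42, 4), (43, 1), (44, 6), (45, 3), (46, 5), (48, 1), (49, 7), (50, 4), (51, 7), (52, 2), (53, 2), (55, 4), (56, 6), (57, 6), (58, 7), (59, 2), (60, 5), (61, 4), (63, 7), (64, 4), (65, 1), (66, 2), (67, 1), (68, 2), (70, 2), (72, 3), (75, 5), (76, 1), (77, 1), (78, 5), (79, 7), (80, 3), (81, 4), (82, 4), (83, 7), (84, 5), (85, 7), (87, 3), (88, 5), (89, 1), (90, 1), (91, 6), (92, 2), (93, 4), (95, 4), (99, 1), (100, 4), (102, 1), (103, 1), (104, 5), (105, 3), (107, 2), (108, 5), (109, 7), (110, 1), (111, 5), (112, 4), (113,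 7), (114, 6), (115, 1), (116, 1), (117, 4), (118, 1), (119, 4), (120, 5), (121, 4), (122, 4), (125, 3), (126, 1), (133, 4), (134, 2), (136, 1), (138, 3), (139, 4), (140, 5), (141, 4), (143, 4), (144, 4), (145, 2), (146, 2), (148, 4), (149, 1), (150, 1), (152, 1), (153, 4), (154, 3), (155, 5), (156, 1), (157, 6), (158, 4), (159, 6), (160, 6), (161, 6), (162, 4), (163, 4), (165, 4), (169, 4), (171, 4), (176, 4), (177, 2)]),
    ([(0, 1), (1, 1)], [(0, 4), (1, 3), (2, 2), (4, 6), (5, 4), (6, 5), (7, 6), (8, 1), (9, 6), (10, 2), (11, 2), (12, 5), (13, 3), (14, 4), (15, 3), (16, 1), (17, 6), (18, 3), (19, 6), (20, 4), (21, 7), (22, 7), (23, 5), (26, 7), (27, 6), (29, 1), (30, 5), (33, 6), (34, 7), (36, 4), (37, 6), (39, 7), (40, 7), (42, 6), (43, 6), (46, 7), (47, 3), (48, 2), (50, 6), (52, 1), (53, 4), (54, 7), (55, 7), (56, 7), (57, 4), (58, 4), (59, 7), (61, 2), (62,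 3), (63, 5), (64, 6), (65, 5), (66, 3), (67, 7), (68, 6), (69, 3), (70, 1), (71, 6), (72, 7), (74, 6), (75, 6), (76, 3), (77, 2), (78, 3), (79, 1), (80, 6), (81, 3), (82, 4), (83, 7), (84, 7), (85, 4), (86, 3), (87, 6), (88, 5), (89, 4), (90, 2), (91, 4), (92, 6), (95, 3), (96, 4), (97, 4), (99, 3), (100, 4), (101, 1), (102, 7), (103, 2), (104, 7), (105, 6), (106, 7), (108, 2), (109, 1), (110, 5), (111, 6), (112, 2), (113, 2), (114, 4), (115, 6), (117, 6), (118, 6), (119, 2), (120, 6), (121, 6), (123, 4), (125, 5), (126, 6), (128, 4), (129, 4), (133, 5), (134, 7), (135, 4), (136, 6), (138, 2), (140, 6), (143, 4), (148, 6), (149, 3), (150, 1), (151, 4), (153, 1), (155, 6), (156, 3), (157, 2), (158, 4), (159, 4), (161, 4), (162, 4), (163, 4), (164, 1), (165, 6), (166, 1), (168, 1), (169, 3), (170, 1), (172, 1), (173, 7), (174, 1), (175, 5), (176, 4), (177, 6), (178,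 1), (179, 1)]),
    ([], [(0, 3), (1, 1), (2, 1), (3, 4), (4, 3), (5, 3), (6, 4), (7, 5), (8, 5), (9, 1), (10, 1), (11, 4), (12, 5), (13, 2), (14, 5), (15, 3), (16, 5), (18, 2), (20, 7), (21, 5), (22, 1), (23, 1), (24, 5), (25, 3), (26, 6), (27, 6), (29, 1), (30, 2), (31, 5), (32, 4), (33, 5), (34, 3), (36, 4), (37, 4), (38, 4), (39, 2), (40, 5), (41, 7), (42, 1), (43, 4), (44, 7), (45, 5), (46, 1), (47, 2), (48, 7), (49, 5), (50, 1), (51, 6), (52, 1), (53, 5), (54, 1), (55, 7), (56, 6), (57, 1), (58, 7), (59, 6), (60, 6), (62, 1), (63, 5), (64, 6), (65, 4), (66, 4), (68, 4), (69, 5), (70, 7), (71, 2), (72, 4), (73, 5), (75, 3), (76, 6), (77, 3), (79, 5), (81, 4), (82, 5), (83, 6), (85, 6), (88, 7), (89, 5), (90, 1), (91, 3), (92, 3), (93, 6), (94, 4), (95, 1), (97, 5), (98, 3), (99, 1), (101, 4), (102, 1), (104, 5), (105, 4), (106, 6), (107, 5), (108, 4), (109,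 7), (110, 3), (111, 7), (112, 6), (113, 4), (114, 2), (115, 2), (116, 6), (117, 2), (118, 3), (119, 7), (120, 7), (121, 3), (122, 3), (123, 3), (125, 4), (127, 6), (128, 4), (132, 1), (133, 3), (134, 1), (135, 5), (137, 4), (138, 1), (139, 7), (140, 2), (141, 5), (143, 2), (144, 4), (145, 5), (146, 1), (147, 3), (149, 4), (151, 6), (152, 7), (154, 1), (155, 5), (156, 1), (157, 2), (158, 1), (159, 5), (160, 1), (161, 1), (162, 5), (163, 1), (164, 5), (165, 5), (166, 4), (168, 7), (170, 1), (171, 4), (172, 7), (173, 7), (174, 3), (175, 6), (176, 5), (177, 3)]),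
    ([(1, 1)], [(1, 1), (2, 7), (3, 5), (4, 5), (5, 6), (6, 5), (7, 6), (8, 1), (10, 4), (12, 2), (13, 4), (14, 7), (15, 6), (16, 2), (17, 6), (20, 6), (22, 6), (23, 1), (24, 7), (25, 5), (27, 5), (28, 2), (30, 6), (31, 5), (32, 6), (33, 4), (34, 3), (35, 3), (36, 2), (37, 5), (39, 2), (40, 1), (41, 2), (43, 6), (44, 3), (45, 1), (47, 6), (49, 3), (50, 2), (52, 2), (53, 3), (54, 3), (55, 1), (56, 3), (57, 6), (58, 5), (59, 4), (60, 2), (61, 3), (62, 6), (63, 6), (64, 5), (65, 7), (66, 1), (67, 4), (68, 2), (69, 5), (70, 5), (71, 5), (72, 7), (74, 1), (75, 5), (76, 3), (77, 6), (78, 3), (79, 6), (80, 1), (81, 6), (82, 5), (83, 4), (85, 7), (87, 2), (88, 5), (89, 5), (90, 1), (91, 7), (92, 6), (93, 3), (94, 5), (95, 5), (96, 7), (97, 4), (99, 2), (100, 4), (102, 7), (103, 1), (104, 4), (105, 2), (106, 3), (108, 6), (109, 1), (110, 2), (111, 6), (112, 1), (113, 2),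 (115, 6), (116, 7), (117, 3), (118, 2), (119, 3), (120, 2), (121, 7), (125, 1), (126, 4), (128, 4), (134, 2), (135, 4), (136, 6), (138, 6), (139, 4), (140, 6), (142, 4), (143, 4), (144, 4), (145, 4), (146, 4), (147, 4), (149, 6), (150, 6), (151, 3), (152, 7), (153, 7), (154, 6), (155, 4), (156, 4), (157, 2), (158, 4), (159, 4), (162, 4), (163, 4), (164, 1), (165, 2), (166, 1), (168, 7), (169, 3), (170, 1), (171, 4), (172, 5), (173, 5), (174, 7), (175, 5), (176, 4), (177, 6), (178, 3), (179, 1)])]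

/-- Part of the certificate. -/
def tgtPart8 : List (List (ℕ × ℕ) × List (ℕ × ℕ)) := [
    ([(1, 1)], [(0, 1), (2, 2), (4, 3), (5, 3), (6, 3), (7, 7), (8, 7), (9, 2), (12, 6), (14, 3), (17, 2), (18, 4), (19, 1), (21, 1), (22, 7), (23, 5), (24, 6), (26, 3), (27, 4), (28, 4), (29, 5), (30, 7), (31, 7), (32, 2), (33, 3), (34, 3), (36, 3), (37, 3), (39, 2), (40, 3), (41, 5), (43, 5), (44, 4), (45, 4), (46, 1), (47, 6), (48, 3), (49, 5), (50, 1), (51, 4), (52, 3), (53, 2), (54, 2), (55, 4), (56, 3), (57, 1), (59, 7), (60, 1), (61, 7), (62, 7), (63, 3), (64, 7), (65, 3), (67, 6), (68, 5), (69, 4), (70, 2), (71, 2), (72, 2), (73, 6), (75, 4), (76, 2), (77, 4), (78, 3), (79, 5), (80, 1), (82, 4), (83, 3), (84, 3), (85, 4), (87, 4), (88, 2), (89, 3), (90, 1), (91, 7), (92, 1), (93, 4), (94, 4), (96, 2), (97, 5), (98, 6), (99, 5), (100, 4), (101, 7), (103, 2), (104, 1),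 (105, 5), (106, 1), (107, 3), (108, 4), (110, 2), (112, 5), (113, 5), (114, 7), (116, 5), (117, 7), (118, 7), (119, 3), (120, 4), (121, 3), (122, 5), (123, 4), (125, 7), (126, 4), (128, 4), (129, 4), (132, 5), (133, 2), (134, 3), (135, 4), (137, 3), (138, 3), (139, 5), (140, 1), (143, 2), (145, 6), (146, 3), (148, 6), (149, 1), (150, 7), (151, 1), (152, 4), (153, 4), (154, 7), (155, 1), (156, 4), (158, 3), (159, 3), (160, 3), (162, 3), (163, 1), (164, 2), (166, 4), (167, 6), (168, 1), (169, 7), (170, 7), (171, 5), (172, 3), (173, 5), (174, 1), (175, 5), (176, 4), (177, 5), (179, 3)]),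
    ([(0, 1), (1, 1)], [(0, 3), (1, 6), (2, 5), (3, 2), (4, 5), (5, 6), (6, 1), (7, 4), (8, 7), (9, 6), (10, 3), (11, 7), (12, 3), (13, 6), (14, 3), (15, 5), (16, 6), (17, 3), (20, 2), (21, 3), (22, 7), (23, 2), (24, 6), (25, 7), (26, 4), (27, 3), (29, 7), (30, 3), (32, 5), (33, 5), (34, 4), (35, 1), (36, 4), (37, 1), (39, 6), (40, 6), (41, 4), (42, 2), (43, 1), (44, 6), (45, 7), (47, 6), (48, 3), (49, 3), (50, 5), (51, 4), (52, 5), (57, 7), (58, 4), (59, 1), (62, 7), (63, 1), (64, 2), (65, 6), (66, 6), (67, 5), (68, 5), (69, 4), (71, 5), (72, 3), (73, 1), (74, 4), (75, 3), (76, 6), (77, 1), (78, 7), (79, 4), (80, 2), (81, 2), (82, 6), (83, 4), (84, 2), (85, 1), (86, 3), (88, 1), (89, 7), (91, 3), (92, 4), (93, 6), (94, 5), (95, 2), (96, 5), (97, 1), (98, 7), (99, 6), (100, 4), (101, 5), (102, 1), (103, 7), (104, 6), (105, 4), (107, 3), (108, 4), (109, 7), (110,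 4), (111, 7), (112, 1), (113, 4), (114, 6), (115, 2), (116, 1), (117, 3), (118, 7), (119, 4), (120, 3), (122, 3), (123, 7), (125, 3), (126, 6), (127, 2), (129, 4), (132, 5), (134, 4), (135, 5), (137, 6), (138, 7), (139, 1), (141, 5), (142, 4), (143, 6), (145, 5), (146, 1), (147, 7), (148, 6), (149, 1), (150, 3), (151, 4), (152, 7), (153, 7), (154, 7), (155, 1), (156, 6), (157, 4), (158, 5), (159, 1), (160, 1), (161, 5), (162, 1), (163, 5), (164, 4), (165, 3), (166, 3), (168, 2), (169, 5), (171, 4), (172, 6), (173, 4), (174, 6), (175, 5), (176, 5), (177, 1), (178, 3), (179, 3)]),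
    ([], [(0, 2), (5, 4), (6, 1), (7, 2), (9, 1), (12, 4), (15, 6), (16, 4), (17, 5), (18, 6), (19, 3), (20, 6), (21, 3), (22, 2), (23, 4), (24, 1), (25, 2), (26, 3), (27, 4), (28, 2), (29, 5), (31, 2), (32, 5), (33, 6), (34, 4), (35, 2), (36, 1), (38, 3), (39, 5), (40, 7), (41, 6), (42, 6), (43, 6), (44, 6), (45, 7), (47, 5), (48, 3), (49, 2), (50, 1), (51, 6), (52, 1), (53, 4), (54, 2), (56, 5), (57, 2), (58, 7), (59, 2), (60, 3), (63, 7), (64, 4), (65, 6), (66, 7), (67, 6), (68, 6), (69, 1), (70, 7), (71, 2), (72, 2), (73, 1), (74, 5), (75, 7), (77, 3), (78, 7), (79, 3), (80, 6), (81, 6), (82, 7), (83, 6), (84, 2), (86, 3), (87, 5), (88, 4), (89, 4), (90, 4), (91, 3), (92, 2), (93, 6), (98, 4), (100, 4), (102, 2), (103, 4), (104, 6), (107, 6), (109, 6), (110, 2), (113, 4), (117, 4), (119, 4), (120, 4), (122, 4), (126, 2), (133, 4), (134, 6), (135, 4), (137, 2),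 (138, 2), (139, 6), (140, 6)]),
    ([(0, 1)], [(0, 3), (1, 2), (3, 4), (5, 7), (7, 1), (10, 1), (11, 5), (12, 2), (13, 7), (14, 1), (15, 2), (16, 1), (19, 5), (20, 1), (21, 3), (22, 4), (23, 6), (24, 6), (25, 6), (26, 7), (28, 3), (29, 7), (30, 6), (31, 7), (33, 5), (34, 5), (35, 5), (36, 2), (37, 4), (38, 6), (39, 4), (40, 6), (41, 5), (42, 4), (43, 2), (44, 6), (45, 3), (46, 5), (47, 2), (50, 4), (52, 4), (53, 1), (55, 6), (56, 1), (57, 6), (58, 2), (59, 5), (60, 7), (61, 4), (62, 7), (63, 3), (64, 4), (66, 4), (67, 2), (69, 7), (70, 4), (71, 3), (72, 1), (73, 3), (74, 1), (75, 5), (78, 4), (79, 1), (80, 6), (81, 3), (82, 3), (83, 4), (84, 1), (85, 5), (87, 3), (88, 2), (89, 2), (90, 4), (91, 1), (92, 7), (93, 7), (94, 7), (95, 7), (96, 5), (97, 1), (98, 2), (99, 4), (100, 4), (102, 4), (103, 3), (104, 6), (105, 3), (106, 7), (107, 7), (108, 6), (109, 4), (110,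 3), (111, 6), (113, 7), (114, 7), (115, 6), (116, 6), (118, 1), (120, 6), (122, 5), (125, 2), (129, 4), (132, 5), (133, 7), (136, 6), (137, 5), (138, 7), (139, 3), (140, 5), (143, 6), (145, 6), (146, 7), (147, 4), (148, 4), (150, 4), (151, 7), (152, 6), (153, 3), (154, 3), (155, 7), (156, 3), (157, 2), (158, 7), (159, 3), (160, 7), (162, 3), (163, 1), (164, 5), (165, 2), (166, 3), (167, 6), (168, 4), (170, 6), (171, 1), (172, 2), (173, 2), (175, 4), (176, 4), (177, 3), (178, 3), (179, 6)]),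
    ([], [(0, 4), (1, 4), (2, 6), (3, 2), (4, 1), (5, 6), (6, 7), (7, 2), (8, 5), (9, 5), (10, 6), (11, 3), (12, 5), (13, 7), (14, 1), (15, 3), (16, 1), (17, 6), (18, 5), (19, 7), (20, 5), (22, 7), (24, 6), (25, 3), (26, 1), (27, 2), (29, 5), (30, 4), (31, 1), (32, 1), (33, 1), (34, 5), (35, 6), (36, 5), (37, 3), (38, 5), (39, 7), (40, 3), (41, 2), (43, 6), (44, 6), (45, 7), (46, 7), (47, 5), (48, 6), (50, 4), (51, 2), (52, 4), (53, 4), (54, 3), (55, 6), (56, 3), (57, 3), (58, 6), (60, 7), (61, 6), (62, 1), (63, 6), (64, 5), (65, 4), (66, 4), (67, 4), (68, 4), (69, 4), (70, 7), (71, 6), (72, 6), (73, 7), (74, 7), (75, 5), (76, 5), (77, 1), (78, 3), (80, 6), (81, 6), (82, 6), (84, 3), (85, 7), (86, 1), (88, 7), (89, 2), (90, 1), (91, 1), (92, 6), (93, 3), (94, 1), (95, 6), (96, 6), (97, 4), (99, 4), (103, 2), (104, 6), (106, 6), (107, 2), (110, 6), (112, 2), (113,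 4), (116, 2), (117, 2), (119, 2), (120, 4), (121, 6), (122, 4), (125, 4), (126, 4), (133, 4), (134, 6), (135, 4), (137, 2), (138, 2), (139, 6), (140, 6)]),
    ([], [(0, 1), (1, 2), (2, 1), (3, 7), (4, 5), (5, 4), (6, 7), (7, 6), (8, 2), (9, 1), (11, 6), (12, 6), (13, 5), (15, 6), (16, 4), (17, 1), (18, 3), (19, 4), (20, 2), (21, 5), (22, 3), (23, 5), (24, 3), (25, 4), (26, 3), (27, 1), (28, 5), (29, 1), (30, 1), (31, 7), (32, 2), (33, 7), (34, 7), (35, 1), (37, 3), (42, 5), (43, 3), (44, 2), (45, 3), (46, 3), (47, 2), (50, 2), (51, 4), (52, 7), (53, 4), (54, 2), (55, 5), (56, 6), (57, 4), (58, 7), (59, 7), (60, 6), (61, 3), (62, 1), (63, 7), (64, 4), (66, 2), (67, 1), (68, 7), (69, 1), (70, 7), (71, 5), (72, 1), (73, 7), (74, 5), (75, 4), (76, 5), (77, 1), (78, 7), (79, 5), (80, 6), (81, 6), (82, 5), (83, 4), (84, 4), (86, 2), (87, 6), (88, 3), (89, 5), (91, 3),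 (92, 2), (93, 3), (94, 2), (95, 7), (96, 2), (97, 4), (99, 4), (101, 4), (103, 6), (104, 6), (105, 4), (106, 2), (107, 2), (108, 4), (110, 6), (112, 6), (116, 6), (117, 2), (119, 2), (121, 2), (125, 6), (126, 6), (135, 4), (136, 4), (137, 2), (138, 6), (139, 6), (140, 2)]),
    ([(1, 1)], [(0, 6), (1, 5), (2, 7), (3, 4), (4, 2), (5, 6), (6, 2), (8, 2), (10, 5), (12, 1), (14, 2), (15, 5), (16, 2), (17, 1), (19, 7), (20, 3), (21, 2), (22, 6), (23, 5), (24, 2), (25, 7), (26, 5), (27, 2), (28, 5), (29, 3), (30, 3), (31, 2), (32, 6), (33, 4), (34, 5), (35, 2), (36, 6), (37, 6), (38, 4), (39, 5), (40, 6), (41, 3), (42, 4), (43, 7), (44, 4), (45, 1), (46, 3), (47, 1), (48, 2), (49, 5), (50, 2), (51, 3), (52, 6), (53, 6), (54, 7), (55, 1), (56, 1), (57, 1), (58, 5), (59, 4), (60, 4), (61, 6), (62, 1), (63, 5), (64, 3), (65, 2), (66, 2), (67, 4), (68, 5), (69, 2), (70, 5),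 (71, 6), (72, 1), (73, 6), (74, 6), (75, 1), (77, 6), (78, 3), (79, 5), (80, 1), (81, 2), (82, 2), (84, 7), (85, 4), (86, 6), (87, 1), (88, 3), (89, 7), (90, 3), (91, 3), (92, 5), (94, 7), (95, 2), (96, 5), (98, 5), (99, 2), (101, 5), (102, 2), (103, 1), (105, 1), (106, 6), (107, 6), (108, 2), (109, 6), (110, 3), (111, 1), (112, 4), (113, 1), (114, 7), (115, 4), (116, 6), (117, 4), (118, 6), (119, 5), (120, 1), (121, 5), (122, 2), (123, 7), (125, 5), (127, 2), (129, 4), (133, 5), (134, 4), (135, 5), (136, 6), (137, 3), (138, 2), (140, 5), (141, 5), (144, 4), (145, 7), (146, 6), (147, 7), (148, 6), (149, 1), (150, 7), (151, 5), (152, 1), (153, 4), (154, 4), (155, 2), (156, 3), (157, 2), (158, 6), (159, 6), (160, 2), (161, 5), (162, 6), (163, 4), (164, 7), (165, 1), (166, 4), (167, 2), (168, 2), (169, 5), (170, 6), (171, 3), (173, 6), (174, 2), (175, 5), (176, 5),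 (177, 6), (179, 1)]),
    ([], [(0, 2), (1, 2), (2, 6), (3, 2), (4, 3), (5, 1), (6, 7), (7, 4), (8, 5), (9, 3), (10, 7), (11, 1), (12, 7), (14, 5), (15, 5), (16, 1), (17, 2), (18, 6), (19, 5), (20, 4), (21, 5), (22, 3), (23, 3), (24, 6), (26, 4), (27, 1), (28, 6), (29, 7), (32, 1), (33, 2), (34, 2), (35, 5), (36, 5), (37, 2), (38, 7), (39, 1), (40, 5), (41, 5), (42, 6), (43, 3), (44, 3), (45, 4), (46, 5), (47, 7), (48, 7), (49, 6), (50, 3), (52, 4), (53, 1), (54, 5), (55, 7), (56, 5), (57, 5), (58, 3), (59, 5), (60, 7), (61, 7), (62, 6), (64, 4), (65, 3), (66, 6), (67, 1), (68, 2), (69, 2), (70, 3), (71, 1), (72, 4), (74, 4), (75, 3), (76, 6), (77, 5), (78, 1), (79, 1), (80, 4), (81, 4), (82, 6), (84, 1), (85, 7), (86, 7), (87, 2), (88, 1), (89, 5), (90, 2), (92, 7), (93, 7), (95, 7), (96, 7), (97, 4), (100, 4), (102, 3), (103, 5), (104, 6), (106, 1), (108, 4),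 (109, 5), (110, 4), (111, 4), (112, 7), (113, 4), (115, 4), (116, 3), (117, 1), (118, 4), (119, 5), (120, 4), (121, 1), (123, 4), (125, 4), (126, 6), (134, 6), (136, 4), (138, 4), (140, 4)])]

/-- Part of the certificate. -/
def tgtPart9 : List (List (ℕ × ℕ) × List (ℕ × ℕ)) := [
    ([(1, 1)], [(0, 2), (1, 7), (2, 3), (3, 4), (4, 2), (5, 3), (6, 1), (7, 4), (8, 4), (9, 2), (10, 6), (11, 1), (12, 2), (13, 3), (14, 1), (15, 6), (17, 1), (18, 1), (19, 4), (20, 2), (21, 1), (22, 4), (23, 7), (24, 3), (26, 1), (27, 4), (29, 1), (30, 6), (31, 4), (32, 6), (34, 2), (35, 6), (36, 2), (38, 3), (39, 6), (40, 5), (41, 4), (42, 6), (43, 1), (44, 3), (45, 7), (46, 2), (47, 2), (48, 3), (49, 5), (51, 3), (52, 5), (54, 5), (55, 7), (56, 3), (57, 3), (59, 1), (60, 5), (61, 1), (62, 7), (63, 6), (64, 6), (65, 5), (68, 5), (69, 7), (70, 2), (71, 7), (72, 5), (73, 3), (74, 2), (75,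 7), (76, 6), (77, 1), (78, 7), (80, 5), (81, 7), (82, 2), (83, 6), (85, 7), (86, 6), (89, 3), (90, 3), (91, 2), (92, 2), (93, 3), (94, 5), (95, 7), (98, 1), (99, 6), (101, 1), (102, 3), (103, 4), (104, 2), (105, 5), (106, 1), (107, 6), (108, 6), (109, 5), (110, 3), (111, 1), (112, 5), (113, 5), (114, 3), (115, 4), (116, 7), (117, 3), (118, 2), (119, 4), (120, 1), (121, 4), (122, 6), (123, 7), (125, 3), (126, 6), (127, 2), (132, 4), (133, 5), (134, 2), (135, 1), (136, 2), (137, 1), (138, 4), (139, 2), (140, 3), (141, 5), (144, 4), (145, 7), (146, 6), (147, 7), (148, 6), (149, 1), (150, 7), (151, 5), (152, 1), (153, 4), (154, 4), (155, 2), (156, 3), (157, 2), (158, 6), (159, 6), (160, 2), (161, 5), (162, 6), (163, 4), (164, 7), (165, 1), (166, 4), (167, 2), (168, 2), (169, 5), (170, 6), (171, 3), (173, 6), (174, 2), (175, 5), (176, 5), (177, 6), (179, 1)]),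
    ([(0, 1), (1, 1)], [(0, 3), (1, 5), (2, 1), (3, 7), (4, 1), (5, 2), (6, 7), (7, 3), (8, 2), (9, 4), (10, 2), (11, 1), (12, 4), (13, 1), (14, 5), (15, 4), (16, 4), (17, 6), (18, 1), (19, 6), (20, 3), (21, 1), (22, 7), (23, 6), (24, 1), (25, 5), (26, 7), (27, 4), (28, 1), (29, 3), (30, 4), (31, 6), (32, 1), (33, 3), (34, 2), (35, 2), (36, 3), (37, 6), (38, 1), (39, 3), (40, 3), (42, 5), (43, 3), (45, 6), (46, 3), (47, 1), (48, 1), (49, 5), (50, 5), (51, 2), (52, 1), (53, 2), (54, 3), (55, 4), (56, 7), (58, 6), (59, 3), (61, 6), (62, 1), (64, 3), (65, 1), (66, 5), (67, 4), (68, 2), (70, 1), (71, 7), (72, 1), (73, 1), (74, 1), (75, 6), (76, 7), (77, 1), (78, 5), (79, 3), (80, 5), (83, 6), (84, 4), (86, 6), (87, 2), (88, 5), (89, 5), (90, 7), (91, 2), (92, 6), (93, 6), (94, 6), (95, 7), (97, 1), (98, 2), (99, 2), (100, 4), (102, 7), (103, 2), (104, 4), (105, 1),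 (106, 4), (107, 1), (108, 4), (109, 1), (110, 3), (111, 4), (112, 7), (113, 1), (114, 7), (115, 4), (116, 3), (117, 5), (118, 3), (119, 5), (121, 1), (122, 5), (125, 1), (126, 4), (127, 4), (128, 4), (129, 4), (132, 5), (133, 7), (134, 6), (135, 4), (136, 4), (137, 3), (138, 3), (139, 1), (140, 5), (142, 4), (143, 6), (145, 2), (146, 7), (147, 4), (149, 6), (150, 2), (151, 2), (152, 5), (153, 2), (154, 1), (155, 3), (156, 7), (157, 4), (158, 3), (159, 7), (160, 7), (162, 7), (163, 5), (164, 2), (166, 4), (167, 6), (168, 3), (169, 7), (170, 7), (171, 5), (172, 7), (173, 7), (174, 7), (175, 5), (176, 4), (177, 1), (178, 2), (179, 3)]),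
    ([], [(0, 1), (1, 4), (2, 5), (3, 3), (4, 3), (5, 3), (7, 7), (8, 5), (9, 2), (10, 5), (11, 2), (12, 2), (13, 2), (14, 2), (15, 6), (16, 6), (18, 7), (19, 2), (20, 1), (23, 2), (24, 2), (25, 6), (27, 5), (28, 3), (29, 7), (30, 3), (31, 2), (32, 5), (33, 2), (34, 4), (35, 5), (36, 6), (37, 5), (38, 3), (39, 6), (40, 6), (41, 7), (42, 3), (43, 1), (44, 3), (45, 3), (46, 4), (47, 3), (48, 7), (49, 5), (50, 4), (51, 2), (52, 4), (53, 3), (54, 1), (55, 1), (56, 2), (57, 2), (58, 5), (59, 6), (60, 7), (61, 1), (62, 6), (63, 1), (64, 1), (65, 3), (66, 7), (67, 5), (69, 2), (70, 7), (71, 3), (72, 5), (73, 5), (74, 7), (75, 1), (76, 5), (78, 6), (79, 6), (80, 7), (81, 7), (82, 2), (83, 7), (84, 5), (85, 3), (87, 1), (88, 7), (90, 6), (92, 2), (93, 2), (94, 5), (95, 6), (97, 4), (98, 4), (100, 4), (102, 4), (103, 4), (106, 4), (109, 4), (112, 4), (116, 4), (117, 4), (121,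 4), (123, 4), (125, 6)]),
    ([(1, 1)], [(0, 4), (1, 6), (2, 7), (5, 6), (6, 3), (7, 4), (8, 5), (9, 7), (10, 6), (12, 5), (14, 1), (15, 5), (16, 3), (17, 2), (18, 4), (19, 4), (21, 7), (23, 3), (24, 6), (25, 6), (26, 3), (28, 1), (29, 7), (30, 1), (32, 6), (33, 2), (34, 2), (35, 6), (36, 7), (37, 6), (38, 1), (39, 4), (40, 2), (41, 1), (42, 7), (43, 7), (44, 7), (45, 4), (46, 2), (47, 4), (48, 7), (50, 1), (51, 1), (52, 2), (53, 2), (54, 5), (56, 1), (57, 3), (58, 4), (59, 4), (60, 5), (61, 1), (62, 6), (63, 4), (64, 4), (66, 1), (67, 1), (68, 1), (69, 2), (70, 7), (71, 5), (72, 6), (73, 2), (74, 2), (75, 7), (76, 6), (77, 3), (78, 4), (79, 2), (80, 3), (81, 3), (82, 6), (83, 3), (85, 1), (86, 1), (88, 3), (89, 7), (90, 4), (91, 5), (92, 3), (93, 4), (94, 7), (95, 2), (96, 2), (97, 4), (98, 1), (99, 2), (101, 1), (102, 7), (104, 2), (105, 5), (106, 5), (107, 6),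 (108, 6), (109, 1), (110, 3), (111, 1), (112, 5), (113, 1), (114, 3), (115, 4), (116, 7), (117, 7), (118, 2), (120, 5), (121, 4), (122, 2), (123, 7), (125, 5), (126, 2), (127, 2), (132, 4), (133, 1), (134, 2), (135, 5), (136, 2), (137, 3), (138, 6), (140, 1), (141, 5), (144, 4), (145, 7), (146, 6), (147, 7), (148, 6), (149, 1), (150, 7), (151, 5), (152, 1), (153, 4), (154, 4), (155, 2), (156, 3), (157, 2), (158, 6), (159, 6), (160, 2), (161, 5), (162, 6), (163, 4), (164, 7), (165, 1), (166, 4), (167, 2), (168, 2), (169, 5), (170, 6), (171, 3), (173, 6), (174, 2), (175, 5), (176, 5), (177, 6), (179, 1)]),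
    ([], [(2, 4), (3, 4), (4, 1), (5, 6), (6, 2), (8, 4), (9, 2), (12, 2), (13, 4), (16, 6), (17, 5), (19, 1), (20, 6), (21, 2), (23, 4), (24, 2), (25, 3), (26, 7), (27, 5), (29, 7), (32, 1), (33, 2), (34, 7), (36, 4), (37, 7), (38, 4), (40, 3), (42, 3), (43, 4), (44, 7), (45, 4), (46, 6), (48, 5), (49, 2), (50, 2), (53, 3), (54, 3), (55, 4), (56, 6), (57, 5), (58, 4), (59, 2), (60, 6), (61, 3), (63, 6), (64, 1), (65, 5), (66, 6), (67, 4), (68, 4), (69, 5), (70, 1), (71, 4), (72, 6), (73, 7), (74, 2), (75, 1), (76, 5), (77, 4), (78, 7), (79, 5), (81, 6), (82, 6), (83, 5), (84, 7), (85, 6), (86, 5), (87, 7), (88, 2), (89, 6), (90, 5), (91, 3), (92, 6), (93, 2), (94, 6), (95, 3), (96, 4), (98, 4), (100, 4), (101, 4), (102, 2), (104, 6), (105, 4), (107, 6), (109, 6), (110, 6), (112, 4), (113, 4), (116, 4), (120, 4), (121, 4), (122, 4), (126, 2), (134, 6), (135, 4),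 (137, 2), (138, 2), (139, 6), (140, 6)]),
    ([], [(0, 6), (1, 1), (2, 4), (3, 4), (4, 6), (5, 4), (6, 5), (7, 7), (8, 4), (9, 6), (10, 3), (11, 2), (12, 4), (13, 7), (14, 4), (15, 6), (16, 5), (17, 3), (19, 5), (20, 1), (21, 1), (22, 1), (23, 7), (24, 2), (25, 7), (27, 7), (28, 5), (30, 5), (31, 3), (32, 2), (33, 6), (34, 6), (35, 3), (37, 6), (38, 4), (39, 3), (40, 5), (41, 7), (44, 3), (45, 7), (46, 3), (47, 2), (48, 5), (49, 3), (50, 4), (51, 6), (52, 2), (54, 4), (55, 5), (57, 1), (58, 4), (59, 3), (62, 4), (63, 5), (64, 2), (65, 6), (68, 1), (69, 1), (70, 7), (71, 3), (72, 2), (73, 4), (74, 1), (75, 2), (76, 4), (77, 1), (78, 6), (79, 6), (80, 4), (81, 1), (82, 1), (85, 5), (86, 3), (87, 7), (88, 6), (89, 4), (90, 7), (91, 4), (92, 7), (93, 4), (94, 2), (95, 2), (96, 2), (97, 4), (98, 4), (100, 4), (101, 4), (102, 6), (103, 4), (104, 6), (105, 4), (107, 6),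 (108, 4), (109, 2), (110, 2), (111, 4), (112, 4), (113, 4), (115, 4), (117, 4), (118, 4), (120, 4), (121, 4), (123, 4), (125, 6), (135, 4), (136, 4), (137, 2), (138, 6), (139, 6), (140, 2)]),
    ([], [(0, 3), (1, 1), (2, 3), (3, 5), (4, 1), (5, 7), (6, 6), (7, 5), (8, 4), (9, 4), (12, 4), (13, 7), (14, 3), (15, 2), (16, 2), (17, 4), (18, 3), (19, 6), (20, 7), (21, 5), (22, 1), (23, 3), (24, 5), (25, 6), (26, 1), (27, 5), (28, 7), (30, 6), (32, 6), (34, 3), (35, 3), (36, 6), (37, 4), (38, 7), (39, 2), (40, 4), (41, 1), (42, 1), (43, 3), (44, 5), (45, 2), (47, 3), (48, 1), (49, 4), (50, 7), (51, 1), (52, 4), (53, 2), (54, 7), (55, 7), (56, 6), (57, 6), (58, 1), (59, 5), (60, 1), (61, 7), (62, 6), (63, 2), (64, 7), (65, 1), (67, 3), (68, 1), (69, 5), (70, 3), (71, 5), (72, 2), (73, 4), (74, 1), (75, 7), (76, 2), (77, 6), (78, 5), (79, 3), (80, 7), (81, 2), (82, 7),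 (83, 1), (84, 4), (85, 7), (86, 3), (87, 2), (88, 4), (89, 4), (90, 5), (92, 3), (93, 4), (94, 1), (95, 4), (96, 4), (97, 4), (100, 4), (101, 4), (102, 4), (103, 2), (104, 2), (106, 6), (107, 2), (108, 4), (109, 4), (110, 6), (112, 6), (113, 4), (116, 6), (117, 6), (119, 2), (120, 4), (121, 2), (122, 4), (123, 4), (126, 2), (133, 4), (136, 4), (138, 4), (140, 4)]),
    ([], [(0, 6), (1, 6), (2, 4), (3, 4), (4, 2), (5, 6), (6, 1), (7, 7), (8, 7), (10, 1), (11, 5), (12, 5), (14, 7), (15, 3), (16, 7), (17, 1), (18, 5), (19, 4), (20, 3), (21, 5), (22, 6), (23, 1), (24, 4), (25, 5), (26, 3), (27, 2), (28, 3), (29, 7), (30, 4), (31, 4), (32, 5), (33, 6), (34, 3), (35, 5), (36, 2), (37, 3), (38, 6), (39, 7), (40, 2), (42, 1), (43, 4), (44, 6), (45, 6), (47, 4), (48, 7), (49, 3), (50, 5), (51, 1), (52, 2), (53, 4), (54, 1), (56, 2), (57, 4), (58, 7), (59, 2), (60, 4), (61,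 4), (62, 6), (63, 4), (64, 6), (65, 5), (66, 6), (67, 3), (68, 1), (69, 4), (70, 2), (71, 5), (72, 1), (73, 6), (74, 7), (75, 1), (76, 1), (77, 7), (78, 5), (79, 7), (80, 7), (81, 6), (82, 3), (83, 6), (84, 3), (85, 1), (86, 7), (88, 1), (89, 5), (90, 5), (91, 7), (92, 7), (93, 7), (94, 1), (96, 6), (98, 4), (99, 4), (100, 4), (101, 4), (102, 6), (103, 4), (104, 6), (105, 4), (106, 4), (107, 6), (109, 2), (110, 6), (111, 4), (113, 4), (114, 4), (115, 4), (116, 4), (117, 4), (119, 4), (125, 4), (126, 6), (135, 4), (137, 2), (138, 2), (139, 6), (140, 6)])]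

/-- Part of the certificate. -/
def tgtPart10 : List (List (ℕ × ℕ) × List (ℕ × ℕ)) := [
    ([], [(0, 7), (1, 5), (2, 7), (3, 1), (4, 6), (5, 2), (6, 3), (7, 5), (8, 7), (9, 4), (10, 6), (11, 5), (12, 5), (15, 7), (16, 3), (17, 6), (18, 2), (20, 3), (21, 2), (22, 2), (23, 6), (24, 7), (25, 1), (26, 4), (27, 4), (28, 5), (29, 3), (31, 3), (32, 2), (33, 5), (34, 7), (35, 6), (36, 3), (37, 7), (38, 3), (39, 6), (40, 7), (41, 4), (42, 1), (43, 7), (44, 3), (45, 4), (46, 5), (47, 4), (48, 1), (49, 5), (50, 1), (51, 2), (52, 2), (53, 1), (54, 7), (55, 5), (57, 4), (58, 5), (59, 5), (62, 3), (63, 5), (64, 1), (65, 2), (66, 4), (68, 1), (69, 3), (70, 5), (71, 4), (72, 7), (73, 2), (74, 6), (77, 3), (79, 7), (80, 4), (81, 6), (82, 3), (83, 7), (84, 5), (86, 7), (87, 3), (88, 6), (89, 4), (90, 1), (91, 7), (92, 3), (93, 7), (94, 2), (95, 2), (96, 6), (99, 4), (101, 4), (102,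 6), (103, 6), (106, 6), (108, 4), (109, 2), (111, 4), (112, 6), (113, 4), (114, 4), (115, 4), (116, 2), (117, 6), (119, 6), (121, 2), (133, 4), (136, 4), (138, 4), (140, 4)]),
    ([(0, 1)], [(1, 6), (2, 5), (3, 3), (4, 1), (5, 6), (7, 4), (8, 1), (9, 5), (10, 3), (11, 3), (12, 6), (13, 6), (14, 1), (15, 4), (16, 1), (17, 1), (18, 7), (20, 4), (21, 1), (22, 2), (23, 2), (24, 7), (25, 5), (26, 4), (27, 6), (28, 5), (29, 6), (30, 1), (31, 4), (32, 5), (33, 6), (34, 3), (35, 3), (36, 1), (37, 6), (38, 4), (39, 4), (40, 1), (41, 2), (42, 5), (44, 1), (45, 6), (46, 6), (48, 1), (49, 3), (50, 3), (52, 3), (53, 1), (54, 2), (56, 6), (57, 1), (58, 4), (59, 4), (61, 7), (62, 6), (63, 4), (64, 1), (65, 6), (66, 3), (67, 4), (68, 5), (69, 1), (70, 5), (71, 3), (72, 1), (73, 6), (74, 4), (75, 2), (76, 2), (77, 1), (78, 6), (79, 5), (80, 1), (81, 7), (82, 6), (83, 2), (84, 3),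 (85, 5), (86, 6), (87, 6), (88, 3), (89, 4), (91, 1), (92, 5), (93, 6), (94, 1), (96, 3), (97, 5), (98, 2), (99, 4), (103, 1), (105, 7), (106, 5), (107, 1), (108, 2), (110, 5), (111, 6), (112, 2), (113, 3), (114, 7), (115, 6), (117, 2), (118, 1), (119, 6), (120, 2), (121, 6), (122, 1), (123, 4), (126, 4), (127, 4), (132, 1), (133, 7), (134, 6), (136, 2), (137, 5), (138, 3), (139, 3), (140, 1), (143, 6), (145, 6), (146, 7), (147, 4), (148, 4), (150, 4), (151, 7), (152, 6), (153, 3), (154, 3), (155, 7), (156, 3), (157, 2), (158, 7), (159, 3), (160, 7), (162, 3), (163, 1), (164, 5), (165, 2), (166, 3), (167, 6), (168, 4), (170, 6), (171, 1), (172, 2), (173, 2), (175, 4), (176, 4), (177, 3), (178, 3), (179, 6)]),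
    ([], [(1, 3), (2, 6), (3, 2), (4, 6), (5, 4), (6, 5), (7, 2), (9, 3), (11, 4), (12, 2), (13, 7), (14, 1), (15, 6), (16, 2), (17, 5), (18, 2), (19, 6), (20, 4), (21, 7), (22, 7), (23, 1), (24, 1), (25, 3), (26, 5), (27, 1), (28, 6), (29, 5), (30, 2), (31, 3), (32, 2), (33, 6), (34, 5), (35, 7), (36, 6), (37, 2), (38, 5), (39, 6), (40, 4), (41, 6), (42, 2), (44, 1), (45, 1), (46, 5), (47, 1), (48, 1), (49, 6), (50, 1), (52, 7), (53, 3), (54, 2), (55, 5), (56, 5), (57, 4), (58, 7), (59, 4), (60, 7), (61, 6), (62, 1), (63, 7), (64, 5), (65, 2), (66, 1), (67, 3), (68, 2), (69, 3), (70, 7), (71, 7), (72, 3), (73, 5), (74, 5), (75, 4), (76, 4), (77, 6), (78, 2), (79, 3), (80, 6), (81, 7), (82, 5), (83, 5), (85, 7), (86, 2), (87, 1), (88, 6), (89, 6), (90, 3), (91, 4), (92, 4), (95, 3), (97, 4), (98, 4), (100, 4), (101, 4), (103, 4), (104, 4), (106, 4), (108, 4), (113,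 4), (114, 4), (118, 4), (122, 4), (126, 2), (134, 6), (135, 4), (136, 4), (137, 2), (138, 6), (139, 6), (140, 2)]),
    ([(0, 1)], [(0, 1), (1, 1), (6, 2), (7, 1), (8, 1), (9, 6), (10, 4), (11, 3), (12, 6), (13, 6), (15, 6), (16, 6), (17, 7), (18, 4), (19, 7), (21, 2), (22, 1), (23, 1), (24, 1), (25, 5), (26, 3), (27, 1), (28, 6), (29, 7), (30, 4), (31, 3), (32, 7), (33, 4), (34, 7), (36, 4), (37, 2), (38, 4), (40, 3), (42, 7), (43, 6), (45, 3), (46, 7), (47, 6), (50, 5), (52, 3), (53, 1), (54, 2), (55, 3), (56, 4), (57, 1), (58, 5), (60, 6), (61, 3), (62, 6), (63, 3), (64, 7), (65, 2), (66, 4), (67, 4), (68, 1), (69, 6), (70, 4), (72, 5), (73, 6), (75, 1), (76, 3), (77, 3), (79, 7), (83, 2), (85, 2), (86, 7), (87, 7), (88, 5), (89, 7), (91, 4), (92, 5), (93, 6), (94, 3), (95, 7), (96, 7), (97, 5), (98, 6), (99, 4), (100, 4), (102, 6), (103, 7), (104, 4), (105,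 3), (106, 3), (107, 5), (108, 2), (109, 2), (110, 1), (111, 6), (112, 4), (113, 7), (114, 7), (115, 6), (116, 2), (117, 4), (118, 1), (120, 6), (121, 4), (122, 5), (123, 4), (125, 6), (127, 4), (132, 1), (133, 3), (134, 6), (135, 4), (136, 2), (137, 7), (138, 5), (139, 1), (140, 7), (143, 6), (145, 6), (146, 7), (147, 4), (148, 4), (150, 4), (151, 7), (152, 6), (153, 3), (154, 3), (155, 7), (156, 3), (157, 2), (158, 7), (159, 3), (160, 7), (162, 3), (163, 1), (164, 5), (165, 2), (166, 3), (167, 6), (168, 4), (170, 6), (171, 1), (172, 2), (173, 2), (175, 4), (176, 4), (177, 3), (178, 3), (179, 6)]),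
    ([], [(0, 7), (1, 6), (2, 7), (3, 1), (4, 1), (5, 2), (6, 3), (7, 1), (8, 4), (9, 7), (10, 6), (11, 1), (12, 1), (13, 6), (15, 5), (16, 3), (17, 1), (18, 2), (20, 5), (21, 2), (22, 5), (23, 6), (24, 2), (25, 7), (26, 1), (27, 5), (29, 5), (30, 5), (32, 5), (33, 4), (34, 2), (35, 7), (36, 6), (37, 2), (38, 5), (39, 2), (40, 5), (41, 7), (42, 3), (44, 4), (45, 6), (46, 2), (47, 2), (48, 6), (49, 5), (50, 5), (51, 4), (52, 1), (53, 6), (54, 5), (55, 3), (58, 1), (60, 2), (62, 4), (63, 1), (64, 2), (65, 4), (66, 7), (67, 6), (68, 2), (70, 4), (71, 3), (72, 4), (73, 6), (74, 7), (75, 4), (76, 3), (77, 5), (78, 1), (80, 4), (81, 2), (82, 5), (84, 1), (86, 7), (87, 4), (88, 7), (89, 5), (90, 1), (91, 2), (92, 3), (93, 7), (94, 2), (95, 2), (96, 2), (98, 4), (102, 6), (103, 6), (106, 2), (107, 4), (108, 4), (109, 2), (112, 6), (113, 4), (114, 4), (116, 6), (117, 2),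 (118, 4), (119, 6), (121, 2), (122, 4), (123, 4), (125, 2), (126, 2), (136, 4), (138, 4), (140, 4)]),
    ([], [(0, 7), (1, 4), (2, 3), (3, 5), (4, 3), (5, 6), (6, 5), (7, 5), (8, 6), (9, 1), (10, 3), (11, 1), (12, 1), (13, 5), (14, 3), (15, 7), (16, 2), (17, 3), (18, 3), (19, 6), (20, 4), (21, 2), (22, 2), (24, 6), (25, 2), (27, 3), (28, 5), (29, 4), (30, 3), (31, 3), (32, 2), (33, 1), (35, 5), (36, 2), (37, 1), (38, 7), (39, 4), (40, 6), (41, 2), (42, 5), (43, 5), (44, 6), (45, 7), (46, 5), (47, 6), (48, 5), (49, 6), (50, 2), (51, 4), (52, 3), (53, 7), (54, 7), (55, 6), (56, 2), (57, 5), (58, 7), (59, 2), (60, 1), (61, 7), (62, 6), (63, 2), (64, 3), (65, 1), (66, 6), (67, 6), (68, 6), (69, 5), (70, 7), (71, 1), (72, 1), (73, 4), (74, 6), (75, 3), (76, 1), (77, 3), (78, 2), (79, 6), (80, 7), (81, 5), (82, 1), (83, 5), (84, 5), (85, 3), (87, 4), (88, 5), (89, 5),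 (90, 3), (92, 4), (93, 5), (94, 7), (95, 5), (97, 4), (98, 4), (99, 4), (100, 4), (101, 4), (103, 6), (104, 6), (105, 4), (106, 2), (107, 2), (108, 4), (110, 6), (112, 6), (113, 4), (114, 4), (116, 6), (117, 2), (118, 4), (119, 6), (121, 2), (122, 4), (123, 4), (125, 2), (126, 4), (134, 6), (135, 4), (136, 4), (137, 2), (138, 6), (139, 6), (140, 2)]),
    ([(0, 1)], [(0, 7), (1, 4), (2, 4), (3, 4), (5, 3), (6, 2), (7, 1), (8, 1), (9, 7), (10, 3), (11, 5), (12, 2), (14, 3), (16, 1), (17, 3), (18, 7), (19, 1), (20, 5), (21, 3), (22, 2), (23, 7), (24, 7), (25, 1), (26, 5), (27, 6), (28, 4), (29, 6), (30, 7), (31, 4), (32, 4), (34, 1), (35, 7), (37, 2), (38, 3), (39, 1), (40, 7), (41, 3), (42, 4), (43, 3), (44, 1), (45, 4), (46, 6), (48, 3), (49, 5), (50, 7), (52, 4), (53, 3), (54, 1), (55, 3), (56, 7), (57, 2), (58, 6), (59, 6), (60, 5), (61, 2), (62, 4), (63, 6),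 (64, 6), (65, 5), (66, 1), (67, 1), (68, 2), (70, 7), (71, 7), (73, 7), (74, 7), (75, 7), (77, 2), (78, 7), (81, 2), (83, 5), (84, 4), (85, 2), (86, 1), (87, 2), (88, 7), (89, 3), (90, 2), (92, 5), (94, 1), (95, 7), (96, 1), (97, 1), (98, 6), (101, 4), (102, 6), (103, 3), (105, 3), (106, 7), (107, 5), (108, 6), (109, 2), (110, 1), (111, 2), (112, 4), (113, 3), (114, 3), (115, 2), (116, 6), (118, 1), (120, 6), (121, 4), (122, 5), (125, 6), (126, 2), (127, 4), (132, 1), (133, 3), (134, 6), (136, 6), (137, 5), (138, 7), (139, 3), (140, 5), (143, 6), (145, 6), (146, 7), (147, 4), (148, 4), (150, 4), (151, 7), (152, 6), (153, 3), (154, 3), (155, 7), (156, 3), (157, 2), (158, 7), (159, 3), (160, 7), (162, 3), (163, 1), (164, 5), (165, 2), (166, 3), (167, 6), (168, 4), (170, 6), (171, 1), (172, 2), (173, 2), (175, 4), (176, 4), (177, 3), (178, 3), (179, 6)]),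
    ([], [(55, 1)])]

/-- Part of the certificate. -/
def tgtPart11 : List (List (ℕ × ℕ) × List (ℕ × ℕ)) := [
    ([], [(0, 1), (1, 7), (2, 7), (3, 1), (4, 5), (5, 6), (6, 2), (7, 6), (8, 3), (9, 2), (10, 1), (11, 1), (12, 5), (13, 6), (14, 7), (15, 1), (16, 7), (18, 7), (19, 2), (20, 5), (21, 1), (22, 7), (23, 4), (24, 3), (25, 5), (27, 7), (28, 3), (29, 2), (31, 2), (32, 3), (33, 6), (34, 7), (36, 2), (37, 5), (38, 4), (40, 1), (41, 2), (42, 4), (43, 4), (44, 7), (46, 6), (47, 1), (49, 1), (50, 1), (52, 3), (53, 1), (54, 6), (55, 4), (56, 6), (57, 7), (58, 1), (59, 2), (60, 4), (61, 7), (62, 6), (63, 5), (65, 7), (66, 1), (67, 6), (68, 5), (69, 1), (70, 2), (71, 7), (72, 5), (73, 1), (74, 4), (75, 2), (76, 3), (77, 1), (78, 6), (80, 3), (81, 2), (82, 2), (83, 7), (85, 7), (86, 7), (87, 2), (88, 5), (89, 6), (90, 6), (91, 7), (92, 6), (93, 2), (94, 3), (95, 4),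 (96, 2), (98, 4), (101, 4), (102, 2), (103, 2), (106, 2), (108, 4), (109, 6), (111, 4), (112, 6), (113, 4), (114, 4), (115, 4), (116, 2), (117, 6), (119, 2), (121, 2), (123, 4), (125, 6), (126, 6), (133, 4), (134, 6), (136, 4), (138, 4), (140, 4)]),
    ([], [(0, 5), (1, 6), (2, 3), (3, 5), (4, 5), (5, 5), (6, 7), (7, 3), (9, 4), (11, 5), (12, 5), (14, 3), (15, 5), (16, 5), (17, 6), (18, 1), (19, 3), (21, 7), (22, 1), (23, 1), (24, 4), (25, 6), (26, 4), (27, 3), (28, 6), (29, 1), (30, 7), (31, 3), (32, 3), (33, 7), (34, 7), (35, 4), (36, 6), (37, 7), (38, 3), (39, 7), (40, 2), (41, 5), (42, 1), (44, 4), (45, 3), (46, 7), (48, 4), (49, 5), (50, 4), (52, 6), (53, 1), (54, 4), (56, 6), (57, 7), (58, 7), (59, 2), (60, 7), (61, 2), (62, 7), (63, 1), (64, 6), (65, 5), (66, 1), (67, 6), (68, 3), (69, 4), (70, 7), (71, 2), (72, 1), (73, 2), (74, 3), (75, 3), (76, 5), (77,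 3), (78, 1), (79, 2), (80, 5), (81, 1), (82, 7), (83, 5), (84, 5), (85, 1), (88, 1), (89, 4), (90, 4), (91, 7), (92, 7), (93, 3), (95, 4), (99, 4), (101, 4), (103, 2), (104, 2), (105, 4), (106, 6), (107, 6), (108, 4), (110, 2), (111, 4), (112, 6), (113, 4), (114, 4), (115, 4), (116, 2), (117, 6), (119, 6), (121, 2), (135, 4), (136, 4), (137, 2), (138, 6), (139, 6), (140, 2)]),
    ([], [(0, 7), (1, 1), (2, 3), (3, 5), (4, 6), (5, 5), (6, 2), (7, 6), (8, 2), (10, 1), (12, 4), (13, 1), (14, 2), (15, 2), (16, 1), (17, 3), (18, 2), (19, 4), (20, 6), (21, 3), (22, 5), (23, 5), (24, 7), (25, 6), (26, 5), (27, 5), (28, 5), (29, 2), (30, 5), (31, 1), (32, 1), (33, 1), (34, 4), (35, 1), (37, 7), (38, 3), (39, 2), (40, 4), (42, 6), (43, 2), (44, 4), (46, 7), (47, 2), (48, 7), (49, 3), (50, 2), (51, 2), (53, 6), (54, 4), (55, 3), (56, 3), (58, 1), (60, 5), (61, 7), (62, 7),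 (63, 3), (64, 1), (65, 6), (66, 4), (67, 4), (68, 1), (69, 2), (70, 5), (71, 1), (73, 2), (74, 3), (75, 1), (76, 5), (77, 6), (78, 6), (80, 5), (81, 5), (82, 2), (83, 6), (84, 6), (85, 5), (86, 1), (87, 2), (88, 1), (89, 4), (90, 6), (91, 7), (92, 7), (93, 7), (94, 5), (95, 4), (99, 4), (101, 4), (102, 4), (103, 4), (107, 4), (109, 4), (111, 4), (114, 4), (115, 4), (116, 4), (120, 4), (122, 4), (125, 4), (126, 4), (133, 4), (134, 6)]),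
    ([], [(0, 4), (1, 6), (2, 2), (3, 6), (4, 5), (5, 4), (6, 1), (7, 2), (8, 2), (9, 2), (10, 3), (11, 3), (12, 1), (13, 5), (14, 6), (15, 7), (16, 4), (17, 3), (19, 2), (20, 5), (21, 2), (22, 3), (23, 7), (24, 3), (25, 5), (26, 5), (28, 6), (29, 2), (30, 6), (31, 5), (32, 4), (34, 3), (35, 7), (36, 4), (37, 5), (38, 6), (39, 3), (40, 3), (41, 1), (42, 4), (43, 6), (44, 7), (45, 1), (46, 5), (48, 4), (49, 5), (50, 6), (51, 1), (52, 2), (53, 4), (54, 4), (55, 4), (57, 2), (58, 3), (59, 5), (60, 2), (61, 5), (62, 4), (63, 7), (64, 5), (65, 3), (66, 1), (67, 6), (68, 7), (69, 4), (70, 4), (71, 6), (72, 3), (73, 3), (74, 5), (75, 7), (76, 3), (77, 4), (78, 3), (80, 2), (81, 1), (82, 7), (83, 5), (84, 4), (85, 1), (86, 7), (87, 4), (88, 6), (89, 7), (90, 4), (91, 6), (92, 3), (93, 4), (94, 2), (95, 7), (96, 4), (98, 4), (99, 4), (100, 4), (103, 4), (104, 4), (107, 4),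 (108, 4), (114, 4), (117, 4), (118, 4), (119, 4), (120, 4), (125, 4), (126, 6), (133, 4), (135, 4), (136, 4), (137, 2), (138, 6), (139, 6), (140, 2)]),
    ([], [(0, 1), (1, 6), (2, 3), (3, 5), (4, 2), (5, 7), (6, 7), (8, 2), (9, 2), (10, 1), (11, 2), (13, 4), (14, 7), (16, 4), (17, 1), (18, 1), (20, 5), (21, 6), (22, 3), (24, 7), (25, 6), (26, 6), (27, 5), (30, 2), (31, 1), (32, 3), (33, 7), (37, 4), (38, 1), (39, 5), (41, 4), (42, 5), (45, 7), (46, 3), (47, 1), (48, 5), (49, 6), (51, 4), (52, 7), (53, 3), (54, 4), (55, 7), (56, 7), (57, 3), (58, 4), (59, 7), (60, 5), (61, 6), (62, 2), (63, 4), (64, 4), (65, 1), (66, 6), (67, 3), (68, 5), (69, 4), (70, 5), (71, 6), (72, 6), (73, 1), (74, 2), (75, 3), (76, 1), (77, 4), (78, 4), (80, 6), (81, 4), (82, 7), (85, 7), (86, 4), (87, 7), (88, 6), (89, 7), (90, 5), (91, 2), (92, 1), (93, 4), (94, 4), (95, 7), (96, 4), (97,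 4), (98, 4), (100, 4), (101, 4), (102, 4), (103, 2), (104, 6), (105, 4), (106, 6), (107, 2), (108, 4), (109, 4), (110, 6), (111, 4), (112, 6), (113, 4), (114, 4), (115, 4), (116, 2), (117, 6), (119, 6), (121, 2), (125, 4), (126, 6), (135, 4), (136, 4), (137, 2), (138, 6), (139, 6), (140, 2)]),
    ([], [(0, 2), (2, 4), (3, 4), (4, 1), (5, 4), (6, 7), (7, 3), (8, 7), (9, 2), (10, 3), (11, 6), (12, 6), (13, 7), (14, 1), (15, 4), (16, 7), (17, 4), (18, 1), (19, 6), (20, 5), (21, 3), (22, 2), (23, 5), (25, 7), (26, 1), (27, 5), (28, 4), (29, 5), (30, 6), (31, 3), (32, 7), (33, 2), (34, 5), (35, 2), (36, 1), (38, 1), (39, 2), (40, 6), (41, 2), (42, 2), (43, 1), (44, 7), (45, 6), (46, 7), (47, 4), (48, 7), (49, 5), (50, 7), (51, 7), (52, 2), (53, 2), (54, 3), (55, 4), (56, 7), (57, 4), (58, 1), (59, 7), (60, 7), (61, 2), (63, 1), (65, 5), (66, 7), (67, 3), (68, 5), (69,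 1), (70, 3), (71, 5), (72, 2), (73, 4), (74, 1), (75, 3), (76, 6), (77, 7), (78, 5), (79, 2), (82, 4), (83, 3), (84, 7), (86, 7), (87, 1), (88, 5), (89, 1), (92, 3), (93, 5), (94, 2), (95, 1), (96, 4), (97, 4), (98, 4), (100, 4), (102, 4), (103, 2), (104, 6), (105, 4), (106, 6), (107, 6), (109, 4), (110, 2), (111, 4), (112, 6), (114, 4), (115, 4), (116, 2), (117, 2), (119, 2), (120, 4), (121, 2), (122, 4), (126, 2), (133, 4), (134, 6), (135, 4), (137, 2), (138, 2), (139, 6), (140, 6)]),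
    ([], [(0, 5), (2, 1), (3, 7), (4, 1), (5, 7), (6, 6), (7, 7), (8, 7), (9, 4), (10, 1), (11, 4), (12, 2), (13, 3), (14, 6), (15, 4), (16, 7), (17, 4), (18, 1), (19, 1), (20, 4), (21, 1), (22, 1), (23, 1), (24, 3), (25, 2), (26, 3), (27, 3), (28, 2), (29, 4), (30, 6), (31, 7), (32, 5), (34, 3), (35, 2), (36, 1), (37, 1), (38, 5), (39, 1), (40, 7), (42, 4), (43, 2), (44, 6), (46, 7), (47, 5), (48, 4), (49, 1), (50, 1), (51, 5), (52, 7), (54, 6), (55, 1), (56, 6), (57, 1), (59, 5), (60, 1), (61, 4), (62, 6), (63, 6), (64, 7), (65, 1), (66, 6), (67, 4), (68, 6), (69, 1), (70, 4), (71, 6), (72, 5), (74, 6), (75, 6), (76, 6), (77, 5), (78, 5), (79, 3), (80, 4), (81, 6), (82, 7), (83, 7), (84, 7), (85, 4), (87, 5), (89, 1), (90, 6), (91, 6), (92, 5), (93, 7), (94, 2), (95, 4), (96, 6), (97, 4), (101, 4), (102, 4), (103, 2), (104, 2), (106, 6), (107, 2), (108, 4), (109,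 4), (110, 6), (111, 4), (112, 6), (114, 4), (115, 4), (116, 2), (117, 2), (119, 2), (120, 4), (121, 2), (122, 4), (125, 4), (126, 4), (133, 4), (134, 6), (136, 4), (138, 4), (140, 4)]),
    ([], [(0, 6), (1, 3), (2, 4), (3, 4), (4, 2), (5, 7), (6, 4), (7, 5), (8, 2), (9, 1), (11, 5), (12, 5), (13, 7), (14, 5), (15, 7), (16, 4), (17, 1), (19, 6), (20, 2), (21, 6), (22, 5), (23, 7), (24, 3), (25, 5), (26, 2), (27, 6), (28, 1), (29, 3), (30, 6), (31, 3), (32, 1), (33, 7), (34, 6), (35, 6), (36, 1), (37, 6), (38, 1), (39, 2), (40, 2), (41, 6), (42, 2), (43, 2), (44, 3), (45, 6), (46, 1), (47, 1), (48, 2), (49, 5), (50, 1), (51, 5), (52, 2), (54, 4), (55, 1), (56, 1), (57, 7), (58, 6), (59, 1), (60, 6), (61, 2), (62, 4), (63, 2), (64, 2), (65, 6), (66, 1), (67, 5), (68, 2), (69, 7), (70, 7), (71, 6), (72, 6), (73, 3), (74, 7), (75, 2), (76, 2), (78, 2), (79, 1), (80,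 2), (81, 6), (82, 2), (85, 3), (86, 2), (87, 6), (88, 1), (89, 3), (90, 4), (91, 5), (93, 1), (94, 4), (95, 4), (96, 6), (100, 4), (101, 4), (102, 4), (104, 4), (106, 4), (109, 4), (110, 4), (112, 4), (113, 4), (114, 4), (116, 4), (117, 4), (118, 4), (121, 4), (122, 4), (123, 4), (126, 2), (133, 4)])]

/-- Part of the certificate. -/
def tgtPart12 : List (List (ℕ × ℕ) × List (ℕ × ℕ)) := [
    ([(0, 1)], [(0, 1), (1, 3), (2, 2), (3, 6), (4, 4), (5, 4), (6, 7), (7, 6), (8, 2), (9, 6), (10, 4), (11, 1), (12, 4), (13, 6), (14, 2), (15, 4), (16, 5), (18, 5), (19, 6), (20, 4), (21, 5), (22, 4), (23, 6), (24, 5), (25, 5), (26, 7), (27, 7), (28, 2), (29, 6), (30, 5), (31, 6), (32, 4), (33, 6), (34, 3), (36, 5), (38, 6), (39, 4), (40, 4), (41, 1), (42, 6), (43, 7), (44, 4), (45, 3), (47, 7), (49, 6), (50, 5), (51, 5), (53, 1), (54, 5), (56, 1), (57, 5), (58, 5), (59, 6),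 (60, 4), (61, 3), (62, 7), (63, 2), (65, 7), (66, 2), (67, 7), (68, 4), (69, 7), (70, 2), (72, 3), (73, 1), (74, 3), (75, 1), (76, 3), (77, 4), (78, 2), (80, 7), (81, 7), (82, 3), (83, 7), (84, 6), (85, 3), (86, 2), (87, 5), (88, 5), (89, 6), (90, 4), (91, 7), (93, 1), (94, 6), (95, 2), (96, 5), (97, 1), (98, 6), (100, 4), (101, 4), (103, 5), (105, 3), (106, 1), (107, 1), (108, 6), (110, 5), (111, 6), (112, 6), (113, 7), (114, 7), (115, 6), (116, 4), (117, 2), (118, 1), (119, 6), (120, 6), (121, 2), (122, 5), (123, 4), (125, 6), (127, 4), (132, 1), (133, 7), (134, 6), (135, 4), (136, 6), (137, 7), (138, 1), (139, 1), (140, 3), (143, 6), (145, 6), (146, 7), (147, 4), (148, 4), (150, 4), (151, 7), (152, 6), (153, 3), (154, 3), (155, 7), (156, 3), (157, 2), (158, 7), (159, 3), (160, 7), (162, 3), (163, 1), (164, 5), (165, 2), (166, 3), (167, 6), (168, 4), (170, 6),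 (171, 1), (172, 2), (173, 2), (175, 4), (176, 4), (177, 3), (178, 3), (179, 6)]),
    ([], [(0, 2), (1, 2), (2, 6), (3, 2), (4, 1), (5, 1), (6, 3), (7, 3), (8, 2), (9, 5), (10, 2), (12, 6), (13, 7), (14, 6), (15, 2), (17, 5), (18, 2), (19, 5), (20, 6), (21, 1), (22, 6), (23, 2), (24, 3), (25, 7), (26, 5), (27, 2), (28, 6), (29, 2), (30, 4), (31, 3), (32, 2), (33, 6), (34, 1), (35, 6), (36, 6), (37, 7), (38, 5), (41, 7), (42, 2), (43, 3), (44, 2), (45, 5), (46, 3), (47, 1), (48, 4), (49, 5), (50, 2), (51, 6), (52, 3), (53, 2), (54, 2), (55, 4), (56, 2), (57, 3), (58, 2), (59, 2), (60, 2), (61, 1), (62, 1), (63, 7), (64, 5), (65, 5), (66, 2), (67, 4), (70, 5), (71, 6), (72, 4), (73, 7), (74, 7), (75, 5), (76, 1), (77, 3), (78, 7), (80, 7), (81, 2), (82, 7), (83, 6), (84, 1), (85, 4), (86, 1), (87, 6), (89, 7), (90, 5), (91, 3), (92, 1), (93, 2), (94, 4), (95, 3),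 (97, 4), (98, 4), (99, 4), (100, 4), (102, 4), (103, 6), (104, 6), (106, 2), (107, 2), (109, 4), (110, 6), (112, 6), (114, 4), (116, 6), (117, 6), (118, 4), (119, 2), (120, 4), (121, 2), (123, 4), (125, 6), (133, 4), (135, 4), (137, 2), (138, 2), (139, 6), (140, 6)]),
    ([], [(1, 3), (2, 2), (3, 6), (4, 5), (5, 7), (6, 2), (7, 7), (8, 3), (9, 2), (10, 6), (12, 2), (13, 5), (14, 2), (15, 2), (16, 2), (17, 6), (18, 4), (19, 2), (20, 5), (21, 6), (22, 4), (24, 4), (25, 3), (26, 1), (27, 6), (28, 1), (30, 5), (31, 2), (32, 6), (33, 7), (34, 4), (35, 1), (36, 4), (38, 2), (39, 6), (40, 7), (42, 1), (43, 5), (44, 4), (45, 3), (46, 6), (47, 6), (48, 3), (49, 6), (50, 7), (51, 2), (52, 2), (53, 4), (54, 4), (56, 1), (57, 4), (58, 3), (59, 5), (60, 1), (61, 5), (62, 2), (63, 7), (64, 4), (65, 1), (67, 3), (69, 1), (70, 5), (72, 6), (73, 3), (74, 7), (75, 3), (76, 3), (77,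 2), (78, 5), (79, 3), (80, 1), (82, 7), (83, 4), (84, 7), (85, 3), (86, 5), (87, 4), (88, 2), (89, 7), (91, 6), (92, 7), (94, 5), (95, 3), (96, 6), (103, 2), (104, 6), (106, 6), (107, 2), (110, 6), (111, 4), (112, 2), (115, 4), (116, 6), (117, 2), (118, 4), (119, 2), (121, 6), (122, 4), (125, 4), (126, 4), (134, 6)]),
    ([], [(1, 2), (2, 4), (3, 4), (4, 7), (5, 1), (6, 1), (7, 5), (8, 2), (9, 7), (11, 6), (13, 1), (14, 4), (16, 4), (17, 7), (19, 1), (20, 2), (21, 5), (22, 2), (23, 6), (24, 7), (25, 3), (26, 1), (27, 4), (28, 4), (29, 6), (30, 6), (31, 5), (32, 6), (34, 1), (35, 4), (36, 2), (37, 1), (38, 7), (39, 4), (40, 4), (41, 7), (43, 1), (44, 2), (45, 3), (46, 1), (47, 5), (48, 2), (49, 1), (50, 2), (51, 6), (52, 1), (54, 4), (55, 3), (56, 2), (57, 5), (58, 4), (59, 6), (61, 3), (62, 1), (63, 3), (64, 3), (65, 3), (66, 2), (67, 4), (69, 6), (70, 6), (71,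 5), (72, 2), (73, 7), (74, 3), (75, 7), (76, 3), (77, 5), (78, 3), (79, 4), (80, 5), (82, 1), (83, 4), (84, 3), (85, 6), (86, 5), (87, 6), (88, 2), (89, 1), (90, 3), (91, 7), (92, 1), (93, 4), (94, 2), (95, 1), (98, 4), (99, 4), (100, 4), (102, 4), (103, 2), (104, 2), (106, 2), (107, 6), (108, 4), (109, 4), (110, 6), (112, 2), (116, 2), (117, 6), (119, 2), (121, 6), (123, 4), (125, 6), (133, 4), (135, 4), (136, 4), (137, 2), (138, 6), (139, 6), (140, 2)]),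
    ([], [(0, 2), (2, 6), (3, 2), (4, 6), (5, 7), (6, 3), (7, 6), (8, 6), (9, 7), (10, 7), (12, 6), (14, 2), (15, 6), (16, 6), (17, 1), (18, 4), (19, 5), (20, 3), (21, 4), (23, 1), (25, 2), (26, 6), (27, 1), (28, 1), (29, 1), (30, 2), (31, 6), (32, 3), (33, 3), (34, 4), (35, 1), (36, 3), (37, 7), (38, 6), (39, 5), (40, 1), (41, 1), (42, 5), (43, 3), (44, 6), (46, 4), (47, 6), (48, 7), (49, 1), (50, 7), (51, 2), (52, 1), (53, 4), (54, 2), (55, 6), (56, 4), (59, 1), (61, 2), (62, 5), (63, 5), (65, 5), (66, 5), (67, 3), (69, 2), (70, 5), (71, 4), (72, 6), (73, 4), (75, 2), (76, 2), (77, 5), (78, 4), (79, 5), (80, 3), (82, 1), (83, 6), (84, 6), (85, 2), (86, 1), (87, 4), (88, 2), (90, 5), (91, 5), (93, 1), (94, 3), (96, 6), (97, 4), (98, 4), (99, 4), (100, 4), (102, 4), (103, 4), (104, 4), (105, 4), (106, 4), (109, 4), (111, 4), (112, 4), (115, 4), (118, 4), (121, 4),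 (122, 4), (126, 2), (133, 4), (134, 6), (135, 4), (137, 2), (138, 2), (139, 6), (140, 6)]),
    ([], [(0, 6), (1, 3), (4, 2), (5, 2), (6, 5), (7, 7), (8, 6), (9, 7), (10, 5), (11, 1), (12, 1), (13, 2), (14, 1), (15, 7), (16, 5), (17, 7), (18, 6), (19, 2), (20, 3), (21, 5), (22, 1), (23, 5), (24, 3), (25, 3), (26, 2), (27, 6), (28, 6), (29, 3), (30, 4), (31, 7), (32, 7), (34, 2), (35, 5), (36, 2), (37, 6), (38, 2), (39, 6), (40, 3), (41, 7), (42, 2), (43, 5), (44, 4), (46, 1), (47, 5), (48, 7), (49, 4), (50, 7), (51, 2), (52, 3), (53, 1), (54, 4), (55, 6), (56, 4), (58, 3), (60, 7), (61, 5), (62, 7), (63, 3), (64, 7), (65, 5), (66, 3), (67, 6), (68, 5), (69, 6), (70, 7), (71, 7), (72, 4), (74, 2), (75, 5), (78, 5), (79, 1), (80, 4), (81, 1), (82, 6), (83, 6), (85, 6), (86, 3), (87, 1), (88, 3), (89, 3), (90, 5), (91, 7), (92, 4), (93, 1), (95, 1), (96, 6), (97, 4),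 (98, 4), (99, 4), (100, 4), (101, 4), (102, 6), (104, 6), (107, 2), (109, 2), (110, 2), (112, 4), (114, 4), (116, 4), (118, 4), (119, 4), (120, 4), (121, 4), (123, 4), (125, 6), (135, 4), (137, 2), (138, 2), (139, 6), (140, 6)]),
    ([], [(0, 1), (1, 3), (2, 1), (3, 7), (4, 2), (5, 3), (6, 4), (7, 5), (8, 2), (9, 6), (10, 7), (11, 1), (12, 1), (13, 3), (14, 1), (15, 5), (16, 3), (17, 2), (19, 5), (20, 6), (22, 4), (23, 6), (24, 6), (25, 3), (26, 7), (27, 3), (28, 7), (29, 1), (30, 6), (32, 7), (34, 1), (35, 4), (36, 7), (37, 7), (38, 1), (39, 7), (40, 6), (41, 6), (42, 5), (43, 4), (46, 2), (47, 7), (48, 5), (49, 3), (50, 3), (51, 6), (52, 3), (53, 2), (54, 3), (55, 2), (56, 5), (58, 3), (59, 1), (61, 5), (62, 2), (63, 5), (64, 2), (65, 6), (66, 6), (67, 4), (68, 5), (70, 7), (71, 6), (72, 6), (73, 2), (74, 5), (76, 5), (77, 7), (78, 6), (79, 2), (80, 7), (81,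 5), (82, 3), (83, 3), (84, 7), (85, 5), (86, 3), (87, 4), (88, 1), (89, 3), (90, 4), (91, 4), (93, 4), (94, 4), (95, 4), (96, 4), (97, 4), (98, 4), (100, 4), (101, 4), (102, 2), (103, 2), (106, 2), (108, 4), (109, 6), (112, 2), (113, 4), (116, 2), (117, 2), (119, 6), (120, 4), (121, 6), (122, 4), (123, 4), (125, 2), (126, 4), (134, 6), (135, 4), (136, 4), (137, 2), (138, 6), (139, 6), (140, 2)]),
    ([], [(0, 1), (1, 5), (2, 7), (3, 1), (4, 7), (5, 4), (7, 1), (8, 5), (9, 3), (10, 1), (11, 7), (12, 7), (13, 4), (15, 5), (17, 4), (18, 1), (19, 3), (20, 2), (21, 2), (22, 5), (23, 1), (24, 3), (25, 2), (26, 3), (27, 4), (28, 5), (29, 1), (30, 5), (32, 3), (33, 6), (37, 1), (38, 4), (39, 5), (40, 1), (41, 1), (42, 2), (43, 2), (44, 7), (45, 4), (47, 6), (48, 2), (49, 2), (50, 4), (51, 6), (52, 5), (53, 4), (54, 2), (55, 3), (56, 5), (57, 5), (58, 4), (60, 4), (61,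 2), (62, 2), (63, 7), (64, 1), (65, 3), (67, 1), (68, 3), (69, 6), (70, 2), (71, 1), (72, 5), (73, 5), (74, 2), (75, 5), (76, 6), (77, 4), (78, 3), (79, 4), (80, 5), (81, 5), (82, 1), (83, 6), (84, 1), (85, 3), (86, 5), (87, 7), (88, 3), (89, 2), (90, 3), (91, 6), (92, 7), (93, 4), (94, 5), (97, 4), (98, 4), (100, 4), (101, 4), (104, 4), (105, 4), (106, 4), (107, 4), (111, 4), (112, 4), (114, 4), (115, 4), (117, 4), (119, 4), (120, 4), (121, 4), (122, 4), (126, 2), (134, 6), (135, 4), (137, 2), (138, 2), (139, 6), (140, 6)])]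

/-- Part of the certificate. -/
def tgtPart13 : List (List (ℕ × ℕ) × List (ℕ × ℕ)) := [
    ([], [(0, 7), (1, 6), (2, 1), (3, 7), (5, 1), (6, 7), (7, 3), (8, 3), (10, 3), (11, 3), (12, 3), (13, 4), (14, 4), (15, 3), (16, 6), (18, 6), (19, 5), (20, 7), (21, 4), (22, 2), (23, 7), (24, 5), (25, 5), (27, 5), (28, 2), (29, 5), (30, 7), (31, 7), (32, 1), (33, 4), (34, 1), (35, 3), (36, 7), (37, 4), (38, 3), (40, 1), (41, 6), (42, 6), (43, 6), (44, 7), (45, 3), (46, 7), (47, 3), (48, 7), (49, 4), (51, 5), (52, 6), (53, 5), (55, 6), (56, 7), (57, 1), (58, 1), (59, 1), (60, 7), (61, 4), (62, 2), (65, 2), (66, 5), (68, 6), (69, 7), (70, 1), (71, 1), (72, 1), (73, 6), (74, 3), (75, 4), (76, 2), (78, 4), (79, 3), (80, 3), (81, 2), (82, 3), (84, 3), (85, 1), (86, 2), (87, 4), (89, 2), (90, 4), (91, 3), (92, 2), (93, 7), (97, 4), (101, 4), (103, 6), (104, 6), (105, 4), (106,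 6), (107, 2), (110, 2), (112, 2), (113, 4), (114, 4), (116, 2), (117, 6), (118, 4), (119, 6), (121, 6), (122, 4), (125, 2), (126, 2), (134, 6), (135, 4), (137, 2), (138, 2), (139, 6), (140, 6)]),
    ([], [(0, 4), (1, 7), (2, 4), (3, 4), (5, 4), (6, 6), (7, 1), (8, 1), (9, 1), (10, 7), (12, 6), (13, 6), (14, 2), (16, 1), (17, 2), (18, 1), (19, 1), (20, 6), (21, 6), (22, 2), (23, 6), (24, 1), (25, 7), (26, 1), (27, 1), (28, 2), (29, 2), (30, 5), (31, 7), (32, 5), (33, 4), (34, 2), (35, 4), (36, 2), (37, 2), (38, 5), (39, 7), (40, 3), (41, 3), (42, 5), (43, 4), (44, 6), (45, 3), (46, 7), (48, 1), (49, 1), (51, 2), (52, 5), (53, 2), (54, 4), (55, 2), (56, 2), (57, 1), (58, 1), (59, 6), (60, 3), (61, 1), (62, 5), (63, 7), (64, 5), (65, 2), (66, 5), (67, 6), (68, 3), (70, 7), (71, 3), (72, 1), (73, 2), (74, 7), (75, 7), (76, 6), (77, 5), (78, 1), (80, 3), (81, 3), (82,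 3), (83, 3), (84, 6), (85, 5), (86, 6), (87, 6), (88, 4), (89, 7), (90, 2), (91, 2), (92, 4), (93, 4), (94, 4), (95, 6), (96, 4), (99, 4), (101, 4), (102, 6), (103, 4), (104, 6), (105, 4), (107, 6), (108, 4), (109, 2), (110, 2), (113, 4), (114, 4), (118, 4), (122, 4), (125, 2), (126, 2), (134, 6), (135, 4), (136, 4), (137, 2), (138, 6), (139, 6), (140, 2)]),
    ([], [(0, 6), (1, 3), (2, 6), (3, 2), (4, 4), (5, 2), (6, 4), (7, 2), (8, 6), (9, 4), (10, 4), (11, 7), (12, 3), (13, 7), (14, 7), (15, 3), (16, 6), (17, 2), (18, 5), (19, 2), (20, 5), (22, 2), (23, 1), (25, 1), (26, 4), (27, 3), (28, 1), (29, 3), (30, 3), (31, 5), (32, 4), (33, 5), (34, 1), (36, 2), (37, 5), (39, 4), (40, 5), (41, 3), (42, 1), (43, 7), (44, 7), (45, 5), (46, 3), (47, 7), (48, 2), (49, 5), (50, 4), (51, 7), (52, 7), (53, 2), (55, 6), (56, 4), (57, 2), (58, 1), (59, 6), (60, 1), (61, 6),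 (62, 6), (63, 3), (64, 4), (65, 3), (66, 6), (67, 5), (68, 3), (71, 4), (73, 3), (74, 7), (75, 6), (76, 5), (77, 2), (78, 4), (79, 4), (80, 6), (81, 1), (82, 6), (83, 7), (85, 1), (86, 1), (87, 4), (89, 7), (90, 3), (92, 1), (93, 4), (94, 6), (95, 7), (96, 4), (97, 4), (99, 4), (103, 2), (104, 6), (106, 2), (107, 2), (108, 4), (110, 2), (111, 4), (112, 2), (115, 4), (116, 6), (117, 2), (118, 4), (119, 2), (121, 6), (122, 4), (125, 2), (126, 2), (133, 4), (134, 6), (135, 4), (136, 4), (137, 2), (138, 6), (139, 6), (140, 2)]),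
    ([], [(0, 4), (1, 2), (2, 4), (3, 4), (5, 3), (6, 5), (8, 7), (9, 2), (10, 5), (11, 1), (12, 1), (13, 7), (14, 5), (15, 3), (16, 4), (17, 4), (18, 3), (20, 2), (21, 6), (22, 5), (23, 6), (24, 7), (25, 5), (26, 4), (27, 6), (29, 3), (30, 3), (31, 7), (32, 6), (33, 4), (34, 7), (35, 1), (36, 7), (37, 4), (38, 5), (39, 2), (41, 3), (42, 6), (44, 4), (45, 5), (46, 7), (47, 2), (48, 3), (49, 6), (50, 6), (51, 5), (52, 2), (53, 5), (54, 1), (55, 3), (56, 4), (58, 1), (60, 2), (62, 4), (63, 4), (64, 7), (65, 7), (66, 1), (68, 6), (69, 4), (70, 5), (71, 6), (72, 3), (73, 7), (74, 5), (75, 7), (76, 5), (77, 6), (78, 6), (80, 5), (81, 5), (82, 2), (83, 7), (84, 6), (85, 2), (87, 4), (88, 5), (90, 7), (91, 5), (93, 4), (94, 1), (95, 5), (96, 4), (100, 4), (101, 4), (102, 6), (103, 4), (104, 2), (107, 6), (108, 4), (109, 2), (110, 2), (111, 4), (114, 4), (115, 4), (116,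 4), (119, 4), (120, 4), (122, 4), (123, 4), (126, 2), (133, 4), (136, 4), (138, 4), (140, 4)]),
    ([], [(0, 3), (1, 2), (2, 1), (3, 7), (4, 2), (5, 1), (6, 5), (8, 7), (10, 6), (12, 6), (13, 2), (14, 7), (15, 2), (16, 1), (17, 4), (18, 1), (19, 5), (20, 1), (21, 6), (22, 7), (23, 5), (24, 7), (25, 4), (26, 2), (28, 3), (30, 4), (31, 6), (32, 5), (33, 5), (34, 1), (35, 3), (36, 7), (37, 6), (38, 6), (39, 2), (40, 2), (41, 7), (42, 6), (43, 6), (44, 7), (45, 2), (46, 6), (47, 2), (48, 5), (49, 1), (50, 2), (51, 5), (52, 6), (53, 7), (54, 6), (55, 5), (56, 6), (57, 6), (58, 2), (59, 5), (60, 2), (61, 1), (62, 2), (63, 5), (64, 1), (65, 1), (67, 7), (68, 1), (69, 7), (70, 3), (71, 5), (72, 7), (73, 6), (74, 6), (75, 7), (76, 6), (77, 3), (78, 2), (79, 7), (80, 7), (81, 1), (83, 3), (84, 1), (85, 5), (86, 1), (87, 4), (88, 7), (89, 5), (90, 4), (92, 6), (93, 5), (95,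 5), (96, 2), (97, 4), (99, 4), (102, 6), (103, 4), (104, 2), (106, 4), (107, 2), (108, 4), (109, 2), (110, 2), (133, 4), (135, 4), (136, 4), (137, 2), (138, 6), (139, 6), (140, 2)]),
    ([], [(0, 6), (2, 6), (3, 2), (4, 4), (5, 2), (6, 6), (7, 2), (8, 6), (10, 4), (11, 2), (12, 2), (13, 4), (15, 2), (16, 4), (17, 4), (18, 4), (19, 2), (20, 6), (23, 2), (24, 6), (25, 2), (27, 2), (28, 4), (29, 2), (30, 2), (31, 6), (32, 2), (34, 6), (35, 2), (36, 6), (37, 4), (38, 6), (39, 4), (40, 6), (41, 4), (42, 4), (44, 1), (45, 3), (46, 6), (47, 6), (48, 6), (49, 4), (51, 6), (52, 4), (53, 2), (55, 4), (56, 2), (57, 6), (58, 6), (59, 6), (60, 2), (61, 4), (62, 4), (63, 4), (66, 2), (67, 4), (68, 4), (69, 2), (70, 6), (71, 2), (72, 2), (73, 4), (74, 6), (76, 4), (77, 4), (78, 4), (79, 2), (80, 2), (82, 6), (83, 4), (84, 6), (85, 6), (86, 4), (88, 4), (89, 4), (91, 6), (92,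 4), (93, 2), (96, 4), (104, 4), (105, 4), (106, 4), (108, 4), (110, 4), (111, 4), (113, 4), (115, 4), (116, 4), (118, 4), (120, 4), (136, 4), (138, 4), (140, 4)]),
    ([], [(0, 7), (1, 7), (2, 7), (3, 1), (4, 2), (6, 5), (7, 3), (8, 2), (9, 1), (10, 5), (11, 5), (12, 5), (13, 1), (14, 2), (15, 3), (17, 1), (18, 5), (19, 6), (21, 2), (22, 5), (23, 5), (24, 2), (25, 3), (26, 1), (27, 2), (28, 7), (29, 5), (30, 5), (31, 7), (32, 1), (33, 5), (34, 6), (35, 3), (36, 4), (37, 4), (38, 3), (40, 1), (41, 5), (43, 4), (44, 6), (46, 7), (47, 6), (48, 3), (50, 3), (51, 6), (52, 6), (53, 4), (54, 7), (55, 1), (56, 2), (58, 6), (59, 3), (60, 5), (61, 5), (62, 3), (63, 4), (64, 3), (65, 1), (66, 5), (68, 7), (69, 3), (70, 6), (71, 4), (72, 7), (73, 5), (74, 3), (75, 4), (76, 7), (77, 4), (78, 7), (79, 4), (80, 3), (81, 4), (82, 1), (83, 7), (85, 1), (86, 2), (87, 5), (88, 5),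 (91, 1), (94, 5), (97, 4), (100, 4), (103, 2), (104, 6), (106, 6), (107, 2), (110, 6), (112, 6), (116, 6), (117, 2), (119, 6), (121, 2), (123, 4), (125, 4), (126, 6), (134, 6)]),
    ([], [(0, 7), (1, 7), (2, 5), (3, 3), (5, 1), (6, 7), (7, 2), (8, 2), (9, 1), (10, 2), (11, 2), (12, 2), (13, 7), (14, 1), (15, 2), (16, 3), (18, 2), (19, 3), (20, 4), (21, 3), (22, 3), (24, 1), (26, 5), (27, 5), (28, 4), (29, 2), (30, 7), (31, 5), (32, 3), (33, 2), (34, 1), (35, 3), (36, 7), (37, 1), (38, 4), (39, 7), (40, 2), (41, 4), (42, 2), (43, 1), (44, 3), (45, 3), (46, 3), (47, 1), (48, 4), (50, 3), (51, 1), (53, 1), (54, 7), (55, 5), (56, 6), (57, 6), (58, 5), (60, 3), (61, 6), (62, 2), (63, 6), (64, 7), (65, 5), (66, 2), (67, 7), (68, 1), (69, 2), (70, 2), (71, 4), (72, 3), (73, 1), (74, 5), (75, 3), (76, 7), (77, 7), (78, 3), (79, 6), (80, 7), (81, 4), (82, 4), (84, 6), (85,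 3), (86, 7), (87, 2), (88, 3), (89, 4), (90, 1), (91, 3), (92, 6), (93, 6), (94, 2), (95, 1), (99, 4), (102, 6), (103, 2), (104, 4), (106, 2), (109, 2), (111, 4), (112, 2), (114, 4), (115, 4), (116, 6), (117, 6), (119, 6), (120, 4), (121, 6), (122, 4), (125, 2), (126, 2), (133, 4), (134, 6), (135, 4), (137, 2), (138, 2), (139, 6), (140, 6)])]

/-- Part of the certificate. -/
def tgtPart14 : List (List (ℕ × ℕ) × List (ℕ × ℕ)) := [
    ([], [(0, 3), (1, 3), (2, 1), (3, 7), (4, 7), (5, 2), (7, 1), (8, 4), (9, 7), (10, 7), (11, 4), (13, 7), (15, 6), (16, 7), (17, 2), (18, 7), (19, 5), (20, 2), (21, 3), (22, 7), (23, 1), (26, 2), (27, 7), (28, 4), (29, 3), (30, 1), (31, 4), (32, 2), (33, 7), (34, 7), (35, 4), (36, 6), (37, 6), (38, 2), (39, 1), (40, 6), (41, 3), (42, 5), (43, 7), (44, 5), (45, 7), (46, 2), (47, 7), (49, 5), (50, 2), (51, 2), (53, 4), (54, 4), (55, 2),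 (56, 4), (57, 5), (59, 7), (60, 6), (61, 4), (62, 3), (64, 2), (65, 3), (66, 4), (67, 5), (72, 4), (73, 6), (74, 5), (75, 3), (76, 4), (78, 6), (79, 2), (80, 1), (81, 7), (82, 1), (83, 1), (85, 6), (86, 4), (87, 7), (88, 3), (89, 3), (90, 3), (91, 1), (92, 1), (93, 5), (94, 7), (95, 3), (96, 2), (97, 4), (98, 4), (100, 4), (103, 4), (104, 4), (106, 4), (107, 4), (110, 4), (112, 4), (116, 4), (117, 4), (121, 4), (123, 4), (125, 6), (133, 4), (135, 4), (137, 2), (138, 2), (139, 6), (140, 6)]),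
    ([], [(0, 6), (1, 4), (2, 6), (3, 2), (4, 2), (5, 1), (6, 1), (7, 6), (8, 6), (9, 5), (10, 5), (11, 4), (12, 6), (13, 4), (14, 2), (15, 6), (16, 6), (17, 3), (18, 4), (19, 3), (20, 1), (21, 4), (22, 4), (23, 7), (25, 2), (26, 6), (27, 7), (28, 3), (29, 3), (30, 6), (31, 2), (32, 1), (33, 1), (35, 3), (36, 5), (37, 5), (38, 6), (39, 7), (40, 3), (41, 3), (42, 7), (43, 5), (44, 6), (46, 4), (47, 6), (48, 1), (49, 7), (50, 1), (51, 2), (52, 3), (53, 4), (54, 6), (55, 2), (59, 3), (60, 4), (61, 6), (62, 3), (63, 7), (65, 7), (66, 7), (67, 5), (69, 6), (70, 7), (72, 2), (73, 4), (75, 6), (76, 6), (77, 7), (78, 4), (79, 7), (80, 5), (81, 4), (82, 7), (83, 7), (84, 2), (85, 6), (86, 7), (88, 6), (90, 3), (91, 3), (93, 7), (94, 5), (96, 2), (97, 4), (98, 4), (100, 4), (102, 4), (104, 4), (106, 4), (107, 4), (108, 4), (109, 4), (113, 4), (114, 4), (118, 4), (122, 4),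 (126, 2), (133, 4), (134, 6), (135, 4), (136, 4), (137, 2), (138, 6), (139, 6), (140, 2)]),
    ([], [(0, 6), (1, 7), (2, 6), (3, 2), (4, 7), (5, 3), (6, 7), (7, 2), (8, 5), (9, 5), (10, 2), (12, 6), (13, 4), (14, 7), (15, 4), (17, 7), (18, 1), (19, 6), (20, 7), (21, 2), (22, 3), (23, 3), (25, 3), (26, 6), (27, 7), (28, 4), (29, 2), (31, 7), (32, 3), (34, 7), (35, 1), (36, 3), (37, 6), (38, 7), (39, 5), (40, 6), (41, 4), (42, 6), (43, 2), (44, 7), (45, 1), (46, 3), (47, 3), (48, 4), (49, 6), (50, 6), (51, 3), (52, 7), (53, 4), (54, 2), (56, 7), (57, 5), (58, 6), (59, 3), (60, 7), (61, 4), (62, 7), (63, 2), (64, 1), (65, 4), (66, 5), (67, 4), (70, 6), (71, 1), (73, 7), (74, 1), (75, 4), (76, 7), (77, 2), (78, 5), (79, 4), (80, 5), (82, 4), (83, 1), (84, 5), (85, 7), (87, 4), (88, 1), (89, 2), (90, 6), (91, 7), (92, 5), (93, 3), (94, 3), (95, 7), (96, 6), (99, 4),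 (100, 4), (102, 6), (104, 2), (105, 4), (106, 4), (107, 6), (109, 2), (110, 2), (111, 4), (113, 4), (115, 4), (116, 4), (118, 4), (119, 4), (120, 4), (123, 4), (125, 4), (126, 6), (134, 6)]),
    ([], [(0, 4), (1, 3), (2, 6), (3, 2), (6, 7), (7, 7), (8, 6), (9, 1), (10, 3), (11, 3), (12, 5), (13, 3), (14, 3), (15, 3), (16, 6), (17, 3), (18, 4), (19, 1), (20, 5), (22, 7), (23, 4), (24, 4), (25, 5), (27, 2), (29, 4), (30, 5), (31, 4), (32, 3), (33, 2), (34, 4), (35, 4), (36, 1), (37, 6), (38, 4), (39, 5), (40, 4), (41, 4), (43, 3), (44, 4), (45, 3), (46, 6), (48, 2), (49, 7), (50, 1), (51, 4), (52, 2), (55, 1), (56, 4), (57, 6), (58, 4), (59, 1), (60, 7), (61, 3), (65, 6), (67, 5), (68, 7), (69, 6), (70, 4), (71, 5), (72, 1), (73, 1), (74, 1), (75, 2), (76, 1), (77, 6), (78, 2), (80, 7), (81, 5), (82, 6), (83, 1), (84, 5), (85, 6), (86, 3), (87, 1), (88, 1), (89,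 3), (92, 1), (93, 7), (94, 6), (95, 5), (96, 6), (97, 4), (98, 4), (99, 4), (100, 4), (101, 4), (102, 4), (103, 6), (104, 2), (105, 4), (106, 6), (107, 6), (109, 4), (110, 6), (111, 4), (112, 6), (114, 4), (115, 4), (116, 2), (117, 2), (119, 6), (120, 4), (121, 2), (122, 4), (123, 4), (125, 2), (126, 4), (134, 6), (135, 4), (137, 2), (138, 2), (139, 6), (140, 6)]),
    ([], [(0, 2), (1, 5), (2, 6), (3, 2), (4, 4), (5, 3), (6, 1), (7, 6), (8, 2), (9, 3), (10, 7), (11, 7), (12, 1), (13, 7), (14, 5), (15, 3), (16, 2), (17, 7), (18, 5), (19, 4), (20, 4), (23, 4), (25, 2), (26, 3), (27, 3), (28, 3), (29, 6), (30, 3), (31, 7), (33, 6), (34, 4), (35, 5), (36, 5), (37, 4), (38, 3), (39, 1), (40, 4), (41, 4), (42, 4), (43, 5), (44, 2), (45, 3), (46, 3), (47, 3), (48, 2), (49, 5), (50, 7), (51, 2), (52, 7), (53, 4), (54, 2), (55, 1), (57, 1), (58, 6), (59, 6), (60, 1), (62,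 5), (64, 3), (65, 7), (66, 3), (67, 3), (68, 1), (69, 2), (70, 3), (71, 6), (72, 7), (73, 4), (74, 4), (75, 3), (76, 7), (77, 3), (79, 6), (80, 1), (81, 6), (82, 7), (83, 3), (84, 5), (85, 5), (86, 2), (88, 1), (89, 1), (90, 6), (91, 1), (93, 4), (94, 3), (95, 3), (97, 4), (98, 4), (100, 4), (102, 6), (103, 4), (104, 2), (106, 4), (107, 2), (108, 4), (109, 2), (110, 2), (113, 4), (114, 4), (118, 4), (122, 4), (126, 2), (133, 4), (134, 6), (135, 4), (136, 4), (137, 2), (138, 6), (139, 6), (140, 2)]),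
    ([], [(0, 4), (1, 2), (2, 2), (3, 6), (5, 2), (6, 3), (7, 3), (8, 5), (9, 7), (10, 6), (11, 7), (12, 7), (13, 5), (14, 4), (15, 1), (16, 6), (17, 5), (18, 2), (19, 5), (20, 5), (21, 5), (23, 5), (24, 1), (25, 4), (26, 6), (28, 7), (29, 2), (30, 2), (31, 5), (32, 3), (33, 1), (34, 3), (35, 3), (36, 4), (38, 2), (39, 2), (40, 5), (43, 6), (44, 6), (45, 6), (46, 1), (48, 5), (49, 4), (52, 2), (53, 3), (54, 7), (55, 4), (56, 4), (57, 6), (58, 4), (59, 3), (60, 7), (61, 3), (63, 7), (64, 1), (65, 3), (67, 4), (68, 2), (69, 1), (71, 6), (72, 6), (73, 3), (74, 1), (75, 3), (76, 3), (77, 4), (78, 7), (79, 7), (80, 7), (81, 6), (82, 3), (83, 2), (84, 6), (85, 2), (86, 3), (87, 2), (88, 5), (89, 4), (90, 4), (91, 1), (93, 1), (94, 3), (95, 3), (96, 2), (101, 4), (102, 2), (103, 4), (104, 6), (106, 4), (107, 2), (109, 6), (110, 2), (111, 4), (112, 4), (115, 4), (118, 4),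 (121, 4), (122, 4), (125, 4), (126, 4), (133, 4), (134, 6)]),
    ([], [(0, 6), (1, 4), (2, 6), (3, 2), (4, 4), (5, 6), (6, 6), (8, 4), (10, 7), (13, 4), (14, 2), (17, 6), (18, 2), (20, 2), (22, 2), (23, 4), (24, 6), (27, 2), (28, 4), (29, 4), (30, 4), (31, 6), (32, 2), (33, 2), (35, 4), (36, 4), (38, 2), (39, 6), (42, 2), (43, 4), (45, 2), (46, 6), (47, 2), (48, 6), (49, 4), (51, 4), (52, 6), (53, 2), (55, 7), (56, 2), (57, 2), (59, 2), (60, 2), (62, 4), (63, 4), (64, 4), (65, 5), (66, 1), (67, 6), (68, 2), (70, 2), (71, 4), (73, 2), (74, 4), (75, 2), (76, 6), (77, 4), (82, 6), (84, 4), (85, 6), (86, 4), (87, 2), (89, 6), (90, 6), (92, 2), (94, 4), (95, 2), (99, 4), (101, 4), (102, 4), (105, 4), (108, 4), (109, 4), (111, 4), (113, 4), (114, 4), (115, 4), (116, 4), (117, 4), (119, 4), (133, 4), (136, 4), (138, 4), (140, 4)]),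
    ([], [(0, 7), (1, 6), (2, 3), (3, 5), (4, 2), (5, 1), (6, 6), (7, 1), (8, 4), (9, 5), (10, 7), (11, 7), (12, 3), (13, 4), (14, 3), (15, 5), (17, 1), (18, 1), (19, 5), (20, 4), (21, 2), (22, 3), (23, 5), (24, 3), (26, 2), (27, 7), (28, 4), (29, 1), (30, 3), (31, 6), (33, 7), (34, 3), (35, 5), (36, 4), (37, 1), (38, 3), (39, 1), (40, 1), (41, 7), (42, 6), (43, 5), (44, 5), (45, 5), (47, 1), (48, 6), (49, 6), (50, 2), (52, 7), (53, 4), (54, 7), (55, 1), (56, 7), (57, 4), (58, 4), (59, 1), (61, 4), (62, 6), (63, 4), (64, 7), (65, 4), (66, 3), (67, 5), (68, 1), (70, 4), (71, 3), (72, 2), (74, 2), (75, 2), (76, 1), (77, 2), (81, 5), (82, 4), (83, 4), (84, 4), (86, 7), (87, 3), (88, 3), (90, 1), (91, 2), (92, 1), (94, 4), (95, 2), (96, 6), (98, 4), (99, 4), (100, 4), (101, 4), (102, 4), (103, 4), (104, 4), (105, 4), (106, 4), (107, 4), (108, 4), (109, 4), (110, 4),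 (112, 4), (116, 4), (117, 4), (121, 4), (123, 4), (125, 6), (135, 4), (136, 4), (137, 2), (138, 6), (139, 6), (140, 2)])]

/-- The certificate. -/
def cert : Spor.SchurCert.Cert where
  p := 2
  m := 15
  N := 8
  rules := [
    ([0, 0], [2, 4, 5, 7, 11, 13, 14]),
    ([1, 1], [6, 8, 10, 13]),
    ([2, 2], [6, 7, 8, 10, 14]),
    ([3, 3], [10, 11, 12, 13, 14]),
    ([4, 4], []),
    ([5, 5], [10, 11, 12, 13]),
    ([6, 6], [12]),
    ([7, 7], [13, 14]),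
    ([8, 8], []),
    ([9, 9], [14]),
    ([10, 10], []),
    ([11, 11], []),
    ([12, 12], []),
    ([13, 13], []),
    ([14, 14], []),
    ([1, 0], [0, 1, 2, 4, 5, 8, 10, 12]),
    ([2, 0], [0, 2, 7, 9, 14]),
    ([2, 1], [1, 2, 7, 8, 9, 14]),
    ([3, 0], [0, 3, 6, 7, 8, 9, 10, 11, 12, 14]),
    ([3, 1], [1, 3, 9]),
    ([3, 2], [2, 3, 9, 10, 11, 12, 13, 14]),
    ([4, 0], [0, 4, 7, 8, 9, 11]),
    ([4, 1], [1, 4, 6, 9, 10, 12]),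
    ([4, 2], [2, 4, 6, 7, 9, 10, 12, 13, 14]),
    ([4, 3], [3, 4, 8, 12, 13, 14]),
    ([5, 0], [0, 5, 8, 13]),
    ([5, 1], [1, 5, 6, 7, 9, 12]),
    ([5, 2], [2, 5, 6, 7, 8, 12, 13]),
    ([5, 3], [3, 5, 10, 11, 12, 13, 14]),
    ([5, 4], [4, 5, 6, 7, 9, 10, 11, 13]),
    ([6, 0], [0, 6, 8, 9, 10, 12]),
    ([6, 1], [1, 6, 10, 11, 12]),
    ([6, 2], [2, 6, 8, 9, 12]),
    ([6, 3], [3, 6, 10, 11, 13, 14]),
    ([6, 4], [4, 6, 12, 13]),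
    ([6, 5], [5, 6, 8, 9, 14]),
    ([7, 0], [0, 7, 11, 12]),
    ([7, 1], [1, 7, 8, 9, 12, 13]),
    ([7, 2], [2, 7, 8, 9, 12, 13, 14]),
    ([7, 3], [3, 7, 10, 11, 14]),
    ([7, 4], [4, 7]),
    ([7, 5], [5, 7, 8, 9, 12, 13]),
    ([7, 6], [6, 7, 12, 13, 14]),
    ([8, 0], [0, 8, 10, 11, 12, 13]),
    ([8, 1], [1, 8, 10, 11]),
    ([8, 2], [2, 8, 12]),
    ([8, 3], [3, 8, 12]),
    ([8, 4], [4, 8]),
    ([8, 5], [5, 8, 13, 14]),
    ([8, 6], [6, 8, 12]),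
    ([8, 7], [7, 8, 12, 14]),
    ([9, 0], [0, 9, 10, 11]),
    ([9, 1], [1, 9, 10, 11, 13, 14]),
    ([9, 2], [2, 9, 12, 13]),
    ([9, 3], [3, 9, 12, 14]),
    ([9, 4], [4, 9, 13, 14]),
    ([9, 5], [5, 9, 13, 14]),
    ([9, 6], [6, 9, 12, 14]),
    ([9, 7], [7, 9, 12, 14]),
    ([9, 8], [8, 9, 14]),
    ([10, 0], [0, 10]),
    ([10, 1], [1, 10, 12]),
    ([10, 2], [2, 10, 12, 13, 14]),
    ([10, 3], [3, 10, 12]),
    ([10, 4], [4, 10, 12, 14]),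
    ([10, 5], [5, 10, 13, 14]),
    ([10, 6], [6, 10]),
    ([10, 7], [7, 10, 14]),
    ([10, 8], [8, 10]),
    ([10, 9], [9, 10]),
    ([11, 0], [0, 11, 13]),
    ([11, 1], [1, 11]),
    ([11, 2], [2, 11, 13]),
    ([11, 3], [3, 11, 12, 14]),
    ([11, 4], [4, 11]),
    ([11, 5], [5, 11, 13]),
    ([11, 6], [6, 11]),
    ([11, 7], [7, 11]),
    ([11, 8], [8, 11]),
    ([11, 9], [9, 11]),
    ([11, 10], [10, 11]),
    ([12, 0], [0, 12, 14]),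
    ([12, 1], [1, 12]),
    ([12, 2], [2, 12, 14]),
    ([12, 3], [3, 12]),
    ([12, 4], [4, 12]),
    ([12, 5], [5, 12, 14]),
    ([12, 6], [6, 12]),
    ([12, 7], [7, 12]),
    ([12, 8], [8, 12]),
    ([12, 9], [9, 12]),
    ([12, 10], [10, 12]),
    ([12, 11], [11, 12]),
    ([13, 0], [0, 13]),
    ([13, 1], [1, 13]),
    ([13, 2], [2, 13]),
    ([13, 3], [3, 13, 14]),
    ([13, 4], [4, 13]),
    ([13, 5], [5, 13]),
    ([13, 6], [6, 13]),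
    ([13, 7], [7, 13]),
    ([13, 8], [8, 13]),
    ([13, 9], [9, 13]),
    ([13, 10], [10, 13]),
    ([13, 11], [11, 13]),
    ([13, 12], [12, 13]),
    ([14, 0], [0, 14]),
    ([14, 1], [1, 14]),
    ([14, 2], [2, 14]),
    ([14, 3], [3, 14]),
    ([14, 4], [4, 14]),
    ([14, 5], [5, 14]),
    ([14, 6], [6, 14]),
    ([14, 7], [7, 14]),
    ([14, 8], [8, 14]),
    ([14, 9], [9, 14]),
    ([14, 10], [10, 14]),
    ([14, 11], [11, 14]),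
    ([14, 12], [12, 14]),
    ([14, 13], [13, 14])]
  maps := [
    [([0, 1, 5, 9], [0, 1, 5, 9]), ([4], [0, 1, 5, 9, 12, 13]), ([6, 7, 9, 10], [6, 7, 9, 10]), ([8, 14], [6, 7, 8, 9, 10]), ([11], [4, 12, 14]), ([12, 14], [0, 1, 5, 9, 11, 12, 13]), ([13, 14], [4, 11, 12, 13])],
    [([0, 1, 5, 11], [0, 1, 3, 5, 7, 9, 12, 13, 14]), ([2, 7], [0, 1, 4, 5, 6, 7, 9, 11, 12, 14]), ([3, 7, 11], [2, 3, 4, 6, 7, 10, 11, 14]), ([4], [0, 1, 4, 5, 8, 9, 12]), ([6, 7, 11], [2, 4, 6, 8, 9, 10]), ([8], [8]), ([9], [3, 6, 9, 14]), ([10, 11], [2, 3, 4, 6, 7, 9, 10, 11, 12, 14]), ([12], [6, 7, 9, 10, 12, 14]), ([13], [6, 7, 8, 9, 10, 13]), ([14], [14])],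
    [([0, 1], [4, 5, 8, 9, 10, 11, 13, 14]), ([2], [2, 4, 8, 12, 13]), ([3], [3, 4, 6, 7, 9, 10, 14]), ([4], [4]), ([5], [0, 1, 4, 9, 10]), ([6], [4, 7, 8, 9, 10, 12, 13]), ([7], [4, 7, 12, 14]), ([8], [8]), ([9], [6, 7, 10, 13, 14]), ([10], [8, 10, 12, 14]), ([11], [11]), ([12], [12]), ([13], [13]), ([14], [14])],
    [([1, 4, 7], [2, 4, 5, 7, 8, 10, 11, 13, 14]), ([2, 4, 5, 7, 9], [1, 2, 5, 7, 8, 11, 12, 14]), ([6, 9], [8, 9, 10, 12, 13]), ([8, 9], [2, 4, 5, 6, 7, 10, 11, 12, 13]), ([10], [1, 4, 6, 7, 9, 10, 14]), ([11], [1, 2, 5, 6, 7, 8, 9, 13, 14]), ([12], [2, 4, 5, 7, 8, 10, 12, 13, 14]), ([13], [1, 4, 6, 7, 8, 10, 11, 13, 14]), ([14], [1, 2, 5, 6, 7, 8, 9, 11, 13])],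
    [([1, 4, 5, 6, 7, 8, 12, 13], [1, 3, 4, 5, 7, 8, 9, 12, 13]), ([2, 4, 7, 9, 13, 14], [2, 3, 4, 6, 7, 12, 14]), ([3, 6, 8, 9, 10, 11, 12, 13, 14], [3, 6, 8, 9, 10, 11, 12, 13, 14])],
    [([1, 4, 5, 11], [1, 2, 5, 6, 8, 9, 10, 11, 13, 14]), ([2, 4, 7], [3, 6, 8, 10, 11, 12]), ([3, 7, 11], [6, 7, 8, 9, 11, 12, 14]), ([6, 7, 11], [6, 7, 8, 9, 10, 12, 13]), ([8], [3, 6, 8]), ([9], [3, 6, 9]), ([10, 11], [2, 3, 4, 6, 7, 13, 14]), ([12], [3, 6, 10, 11, 13]), ([13], [2, 4, 7, 8, 10, 11, 12, 13, 14]), ([14], [14])],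
    [([1, 4, 5, 6, 7, 8, 10, 11], [1, 3, 4, 5, 7, 10, 11]), ([2, 4, 7, 8, 10, 11, 12, 14], [2, 3, 4, 6, 7, 10, 11, 13, 14]), ([3, 6, 10, 11, 12, 13, 14], [3, 6, 10, 11, 12, 13, 14])],
    [([0, 5], [0, 5, 6, 8, 10, 11]), ([1], [1, 2, 4, 5, 6, 7, 11]), ([2, 5], [0, 1, 5, 6, 12, 13, 14]), ([4], [0, 1, 4, 5, 8, 9, 11, 12, 13]), ([6], [4, 6, 7, 8, 9, 11, 12, 13]), ([7], [0, 1, 2, 4, 7, 9, 10, 12, 13]), ([8], [4, 6, 7, 8, 9, 10, 13]), ([9], [2, 5, 6, 7, 9, 11, 12]), ([10], [6, 8, 12, 14]), ([11], [12, 14]), ([12], [12]), ([13], [12, 13]), ([14], [11, 12])],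
    [([1, 4, 7], [1, 2, 5, 6, 7, 10, 12, 13, 14]), ([2, 4, 5, 7, 9], [1, 2, 5, 6, 7, 8, 9, 13]), ([6, 9], [1, 4, 6, 7, 9, 11, 12, 13, 14]), ([8, 9], [1, 4, 7, 8, 9, 11]), ([10], [1, 4, 6, 7, 8, 10, 11, 12, 13, 14]), ([11], [2, 4, 5, 7, 9, 11, 12, 13, 14]), ([12], [2, 4, 5, 7, 9, 13, 14]), ([13], [2, 4, 5, 6, 7, 8, 9, 12, 13]), ([14], [1, 4, 6, 7, 9, 10, 12])],
    [([1, 4, 7], [1, 2, 5, 7, 8, 11, 12, 14]), ([2, 4, 5, 7, 9], [1, 2, 5, 7, 9, 14]), ([6, 9], [1, 4, 6, 7, 8, 11, 13]), ([8, 9], [1, 2, 5, 6, 7, 10, 11, 12]), ([10], [1, 4, 6, 7, 9, 12, 14]), ([11], [6, 8, 11, 13]), ([12], [6, 8, 12, 13]), ([13], [2, 4, 5, 7, 9, 13, 14]), ([14], [1, 4, 6, 7, 9, 10, 12])]]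
  overlaps := List.flatten [overlapsPart0, overlapsPart1, overlapsPart2, overlapsPart3, overlapsPart4, overlapsPart5, overlapsPart6, overlapsPart7, overlapsPart8, overlapsPart9, overlapsPart10, overlapsPart11]
  fuses := List.flatten [fusesPart0, fusesPart1, fusesPart2, fusesPart3, fusesPart4, fusesPart5, fusesPart6, fusesPart7, fusesPart8, fusesPart9, fusesPart10]
  adj := [
    [(154, 2), (203, 7), (230, 3), (232, 5), (237, 5), (244, 7), (255, 5), (256, 6), (257, 2), (258, 5), (262, 3), (263, 7)],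
    [(154, 6), (211, 4), (230, 6), (232, 1), (237, 1), (244, 3), (246, 2), (255, 3), (256, 1), (257, 1), (258, 3), (261, 4), (262, 1), (263, 1)],
    [(22, 5), (24, 7), (36, 1), (121, 2), (124, 4), (136, 2), (150, 2), (151, 2), (154, 2), (159, 1), (168, 4), (169, 4), (170, 4), (172, 4), (173, 4), (201, 7), (202, 5), (210, 4), (225, 6), (226, 4), (227, 4), (228, 4), (229, 1), (231, 6), (233, 2), (236, 4), (237, 1), (240, 4), (242, 4), (243, 2), (244, 2), (245, 4), (247, 6), (248, 6), (255, 2), (256, 7), (257, 2), (258, 1), (259, 2), (261, 4), (262, 7), (263, 2)],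
    [(154, 2), (211, 1), (230, 2), (232, 2), (255, 1), (258, 1), (261, 1), (262, 2), (263, 3)],
    [(154, 2), (230, 2), (232, 1), (237, 3), (244, 1), (246, 1), (255, 2), (256, 1), (257, 2), (258, 3), (261, 2), (262, 3), (263, 1)],
    [(154, 4), (203, 3), (230, 4), (232, 4), (237, 6), (244, 5), (246, 5), (255, 2), (256, 6), (258, 4), (261, 2), (262, 6), (263, 5)],
    [(22, 2), (124, 2), (135, 4), (180, 2), (198, 2), (200, 2), (201, 1), (202, 3), (203, 3), (210, 2), (211, 2), (225, 4), (226, 2), (227, 2), (229, 1), (230, 6), (231, 3), (236, 1), (237, 2), (241, 4), (242, 4), (243, 2), (244, 4), (248, 4), (255, 6), (256, 2), (257, 2), (259, 2), (261, 2)],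
    [(22, 3), (24, 4), (123, 4), (124, 2), (136, 6), (154, 4), (156, 6), (167, 6), (168, 4), (169, 4), (170, 4), (172, 4), (173, 6), (181, 2), (195, 4), (196, 2), (198, 4), (200, 4), (201, 2), (202, 2), (203, 2), (211, 4), (225, 4), (226, 6), (227, 1), (228, 1), (229, 1), (230, 4), (231, 1), (232, 3), (233, 4), (236, 6), (237, 5), (240, 4), (241, 4), (242, 6), (243, 4), (244, 4), (246, 6), (247, 4), (248, 2), (255, 6), (256, 2), (258, 2), (260, 2), (263, 6)],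
    [(22, 6), (24, 7), (25, 1), (36, 2), (121, 2), (123, 2), (124, 6), (135, 2), (150, 4), (151, 4), (154, 6), (156, 4), (159, 1), (167, 4), (169, 2), (173, 6), (180, 2), (181, 6), (197, 2), (200, 6), (201, 6), (202, 4), (203, 6), (210, 4), (211, 4), (225, 4), (226, 4), (227, 6), (228, 6), (229, 3), (231, 7), (232, 6), (233, 3), (236, 1), (237, 5), (240, 4), (241, 4), (242, 2), (243, 4), (244, 6), (246, 2), (248, 4), (255, 6), (256, 4), (257, 6), (258, 4), (259, 2), (261, 4), (262, 2), (263, 4)],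
    [(22, 7), (24, 7), (25, 1), (36, 1), (123, 2), (124, 4), (135, 6), (150, 2), (151, 2), (154, 2), (156, 2), (159, 1), (168, 4), (169, 4), (170, 4), (172, 4), (173, 4), (180, 2), (181, 6), (195, 6), (196, 2), (197, 2), (198, 4), (200, 2), (201, 4), (202, 2), (203, 4), (210, 4), (211, 6), (225, 4), (226, 6), (228, 6), (229, 3), (230, 2), (231, 1), (232, 4), (236, 3), (237, 2), (240, 4), (241, 6), (242, 2), (244, 4), (246, 2), (247, 6), (248, 2), (255, 4), (256, 4), (257, 2), (258, 2), (259, 2), (261, 2), (262, 2)],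
    [(22, 6), (24, 5), (25, 1), (36, 1), (123, 6), (124, 4), (135, 2), (136, 6), (150, 2), (151, 2), (154, 2), (156, 4), (159, 1), (167, 4), (169, 2), (181, 6), (195, 6), (197, 2), (198, 6), (201, 7), (202, 5), (203, 1), (210, 6), (225, 4), (227, 6), (229, 3), (230, 4), (231, 1), (232, 4), (233, 5), (237, 3), (240, 2), (241, 2), (242, 2), (244, 6), (245, 4), (246, 4), (247, 2), (248, 4), (255, 6), (256, 4), (259, 2), (260, 2), (261, 2), (262, 4), (263, 2)],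
    [(22, 2), (24, 2), (36, 1), (121, 2), (123, 4), (124, 4), (135, 6), (136, 2), (150, 2), (151, 2), (154, 2), (173, 2), (180, 4), (195, 2), (198, 4), (202, 2), (211, 4), (225, 4), (226, 6), (229, 1), (230, 4), (231, 5), (232, 6), (233, 1), (236, 4), (237, 3), (240, 6), (241, 2), (242, 4), (244, 4), (245, 4), (246, 2), (247, 6), (248, 6), (255, 4), (256, 2), (257, 2), (258, 4), (259, 2), (261, 2), (262, 4), (263, 4)],
    [(22, 2), (24, 3), (25, 1), (36, 1), (124, 2), (136, 2), (150, 2), (151, 2), (195, 2), (203, 4), (225, 2), (227, 2), (228, 2), (229, 2), (230, 4), (232, 2), (236, 4), (237, 1), (242, 2), (243, 4), (244, 2), (246, 6), (247, 6), (248, 2), (256, 2), (257, 2), (258, 6), (259, 2), (262, 6), (263, 2)],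
    [(22, 4), (24, 1), (123, 2), (124, 2), (135, 2), (136, 2), (154, 4), (156, 2), (159, 1), (167, 4), (180, 2), (181, 2), (195, 2), (196, 2), (201, 4), (202, 2), (203, 2), (210, 6), (211, 4), (226, 4), (227, 2), (228, 2), (229, 1), (230, 6), (231, 5), (232, 4), (233, 1), (236, 1), (237, 7), (240, 4), (242, 6), (243, 2), (245, 4), (246, 4), (247, 2), (248, 4), (255, 6), (257, 4), (258, 4), (259, 2), (260, 2), (263, 2)],
    [(22, 4), (24, 5), (25, 1), (36, 2), (121, 2), (123, 4), (124, 6), (135, 6), (136, 4), (150, 4), (151, 4), (154, 2), (173, 2), (180, 4), (195, 4), (198, 4), (202, 2), (203, 4), (211, 4), (225, 6), (226, 6), (227, 2), (228, 2), (229, 3), (231, 5), (233, 1), (236, 6), (237, 3), (240, 6), (241, 2), (242, 2), (243, 4), (244, 6), (245, 4), (246, 4), (248, 4), (255, 2), (256, 4), (258, 4), (261, 6), (262, 2), (263, 4)]]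
  base := [
    ([(22, 2), (124, 2), (135, 2), (180, 2), (211, 4), (225, 2), (229, 1), (231, 1), (232, 4), (233, 1), (236, 3), (237, 5), (246, 4), (257, 4), (258, 4), (262, 4)], 2, [(2, 2), (3, 6), (4, 1), (5, 7), (6, 1), (9, 4), (10, 1), (11, 2), (12, 6), (13, 6), (14, 7), (15, 2), (16, 5), (17, 5), (18, 6), (19, 1), (20, 5), (22, 6), (23, 3), (24, 3), (25, 7), (26, 1), (27, 1), (28, 1), (29, 2), (30, 3), (31, 6), (32, 6), (33, 1), (34, 3), (35, 3), (36, 3), (37, 1), (38, 5), (39, 4), (40, 4), (41, 6), (43, 7), (44, 4), (45, 7), (46, 2), (47, 6), (48, 1), (49, 6), (50, 7), (51, 7), (52, 6), (53, 5), (54, 4), (55, 3), (56, 6), (57, 6), (58, 4), (59, 5), (60, 2), (61, 2), (62, 6), (63, 2), (64, 7), (65, 3), (66, 3), (67, 7), (68, 1), (69, 3), (70, 3), (71, 5), (72, 5), (73, 1), (74, 5), (75, 2), (76, 5), (77, 1), (78, 1), (79, 7), (81, 1), (82, 1), (84, 1), (85,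 7), (88, 3), (89, 4), (90, 2), (91, 2), (92, 6), (93, 5), (94, 2), (95, 1), (97, 4), (99, 6), (101, 2), (102, 6), (103, 2), (105, 4), (106, 4), (107, 6), (109, 2), (111, 4), (112, 6), (113, 4), (114, 4), (115, 4), (116, 2), (117, 6), (119, 6), (121, 2), (133, 6), (149, 6), (150, 2), (151, 6), (152, 6), (153, 4), (154, 4), (155, 4), (156, 2)]),
    ([(22, 2), (24, 3), (25, 1), (36, 1), (124, 2), (136, 2), (150, 2), (151, 2), (195, 2), (203, 4), (225, 2), (227, 2), (228, 2), (229, 2), (230, 4), (232, 2), (236, 3), (237, 1), (261, 4)], 2, [(0, 4), (1, 5), (2, 6), (3, 6), (4, 3), (5, 5), (6, 7), (7, 7), (8, 2), (9, 1), (10, 1), (11, 6), (12, 4), (13, 3), (14, 5), (15, 2), (16, 5), (17, 7), (19, 1), (20, 5), (21, 5), (22, 6), (23, 1), (24, 3), (26, 2), (28, 1), (29, 1), (30, 1), (31, 1), (32, 5), (33, 4), (34, 5), (35, 4), (36, 2), (37, 6), (38, 7), (42, 5), (43, 2),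 (44, 7), (45, 6), (46, 7), (47, 1), (48, 2), (49, 1), (50, 1), (51, 1), (52, 1), (53, 7), (54, 2), (55, 4), (56, 2), (57, 6), (58, 7), (60, 4), (62, 1), (65, 3), (66, 7), (68, 4), (69, 6), (70, 6), (71, 6), (72, 1), (73, 4), (74, 2), (75, 1), (76, 7), (77, 3), (78, 7), (79, 4), (80, 2), (81, 4), (82, 2), (83, 3), (84, 5), (85, 5), (86, 5), (87, 4), (88, 1), (89, 7), (91, 1), (93, 6), (94, 3), (96, 4), (99, 6), (102, 4), (103, 2), (105, 2), (106, 4), (107, 6), (108, 2), (109, 4), (111, 6), (112, 4), (113, 2), (115, 6), (116, 2), (118, 2), (120, 2), (121, 4), (136, 6), (138, 2), (140, 6), (149, 6), (150, 6), (152, 6), (153, 4), (154, 2), (155, 6), (156, 2)])]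
  dense := List.flatten [densePart0, densePart1, densePart2, densePart3, densePart4, densePart5, densePart6, densePart7, densePart8, densePart9, densePart10, densePart11, densePart12, densePart13, densePart14, densePart15, densePart16, densePart17, densePart18, densePart19, densePart20, densePart21, densePart22]
  tgt := List.flatten [tgtPart0, tgtPart1, tgtPart2, tgtPart3, tgtPart4, tgtPart5, tgtPart6, tgtPart7, tgtPart8, tgtPart9, tgtPart10, tgtPart11, tgtPart12, tgtPart13, tgtPart14]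

/-- Part of an orbit. -/
def orbit0Part0 : List (ℕ × List ℕ) := [(0, []), (1, [8, 9, 10]), (2, [2, 3, 6, 12]), (4, [3, 4, 5, 6]), (5, [1, 3, 14]), (6, [1, 5, 7]), (7, [3, 8, 12]), (8, [2, 3, 9]), (9, [3, 5, 9, 12]), (11, [2, 9, 14]), (12, [5, 9, 12]), (13, [1, 3, 5, 14]), (14, [2, 14]), (15, [3, 7, 12, 13, 14]), (17, [1, 3, 4, 9]), (18, [2, 8, 9]), (19, [2, 6, 8]), (20, [3, 5, 6, 7]), (23, [2, 4, 14]), (24, [3, 5, 6, 8]), (25, [2, 7]), (26, [3, 5, 12]), (28, [9, 12, 13]), (29, [7, 10, 13, 14]), (31, [7, 14]), (33, [8, 12, 14]), (34, [5, 7, 10, 12]), (35, [3, 6, 9, 13, 14]), (36, [3, 5, 7]), (37, [3, 12, 14]), (38, [0, 3, 14]), (39, [2, 4, 6, 14])]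

/-- Part of an orbit. -/
def orbit0Part1 : List (ℕ × List ℕ) := [(40, [0, 10, 13]), (42, [2, 12]), (43, [1, 3, 5, 13]), (44, [3, 7, 8, 9, 10]), (45, [1, 2, 3, 14]), (46, [4, 5, 8]), (47, [0, 13]), (49, [3, 4, 13, 14]), (50, [0, 3, 12, 13]), (51, [0, 4, 8]), (52, [3, 4, 7, 14]), (53, [5, 7, 12]), (54, [3, 10, 13, 14]), (55, [2, 3, 4, 14]), (56, [3, 5]), (58, [2, 7, 10]), (60, [5, 7, 9]), (61, [3, 5, 10, 13]), (63, [9, 10]), (64, [4, 6, 8]), (65, [6, 14]), (66, [4]), (69, [0, 3, 6, 14]), (70, [3, 7, 12, 14]), (71, [3, 5, 6, 7, 12]), (72, [1, 3, 6, 7, 10]), (74, [7, 8, 10]), (75, [8, 13, 14]), (76, [7, 9, 14]), (77, [4, 12, 13]), (79, [4, 10]), (80, [4, 9, 12])]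

/-- Part of an orbit. -/
def orbit0Part2 : List (ℕ × List ℕ) := [(81, [4, 6]), (82, [9]), (85, [0, 4, 6]), (87, [3, 10, 14]), (88, [0, 3, 13]), (89, [3, 8, 9, 14]), (92, [5, 7, 10, 14]), (93, [0, 3, 6, 9]), (94, [3, 6, 7]), (96, [2, 3, 5, 6]), (97, [2, 4, 10]), (98, [3, 4, 5]), (99, [1, 2]), (100, [3, 4, 8]), (101, [3, 4, 9, 14]), (103, [3, 5, 10, 14]), (104, [6, 9]), (105, [0, 5]), (106, [6, 8, 14]), (107, [1]), (108, [6, 9, 10, 14]), (109, [12, 13]), (110, [3, 5, 9]), (112, [3, 5, 8, 13]), (113, [3, 8, 12, 13]), (114, [5, 10, 12, 14]), (115, [3, 9, 12, 14]), (116, [1, 2, 3, 4]), (117, [2, 3, 6]), (119, [4, 5, 12]), (120, [3, 5, 8, 14]), (121, [5, 10])]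

/-- Part of an orbit. -/
def orbit0Part3 : List (ℕ × List ℕ) := [(122, [3, 5, 6]), (124, [3, 9, 10]), (126, [3, 5, 9, 13, 14]), (127, [3, 5, 9, 10]), (128, [5, 13]), (129, [3, 6, 14]), (130, [3, 5, 6, 12]), (131, [1, 3, 10]), (132, [2, 3, 8, 13]), (133, [0, 8]), (135, [5, 6, 9, 10]), (136, [0, 3, 7, 8]), (137, [3, 5, 9, 10, 12]), (138, [3, 8, 10, 14]), (140, [3, 4, 6, 8, 14]), (142, [1, 2, 3, 12, 14]), (144, [0, 3, 8, 10]), (145, [3, 4, 14]), (146, [1, 3, 4, 10]), (147, [3, 4, 5, 12]), (148, [3, 4, 8, 13]), (150, [0, 7, 10]), (152, [3, 6, 7, 13]), (153, [3, 7, 8, 12]), (154, [0, 3, 7, 13]), (155, [2, 4, 12]), (156, [1, 4, 9]), (158, [6, 7, 10]), (159, [4, 6, 7]), (160, [7, 12, 13, 14]), (161, [8, 10, 12, 14]), (162, [0, 1, 2])]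

/-- Part of an orbit. -/
def orbit0Part4 : List (ℕ × List ℕ) := [(163, [7, 9, 10, 12]), (165, [7, 10, 12, 14]), (167, [0, 3, 12, 14]), (169, [5, 6, 7, 9]), (170, [3, 12, 13, 14]), (171, [5, 7, 14]), (174, [3, 5, 7, 12]), (175, [3, 6, 9, 14]), (176, [3, 5, 8, 10]), (177, [2, 9, 10]), (178, [3, 4, 5, 8]), (180, [3, 8, 10, 12]), (182, [2, 3, 6, 14]), (183, [3, 5, 9, 14]), (184, [5, 6, 9]), (185, [3, 4, 6, 7, 14]), (186, [2, 9, 13]), (188, [3, 9, 10, 14]), (190, [3, 6]), (191, [5, 8, 9]), (192, [6, 9, 10]), (193, [10, 12]), (194, [6, 9, 12]), (195, [8, 9, 12]), (196, [13]), (197, [6, 8]), (198, [3, 8, 13]), (199, [0, 8, 10]), (201, [0, 8, 14]), (203, [3, 9, 14]), (204, [1, 9, 10]), (205, [1, 7])]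

/-- Part of an orbit. -/
def orbit0Part5 : List (ℕ × List ℕ) := [(207, [4, 12, 13, 14]), (209, [8, 10]), (211, [3, 5, 7, 10]), (213, [5, 7, 8, 9]), (214, [1, 3, 8, 14]), (215, [5, 7, 10]), (218, [2, 3, 7, 12]), (219, [3, 13, 14]), (220, [0, 10]), (221, [3, 5, 7, 8, 10]), (222, [5, 8, 14]), (223, [3, 4, 10]), (225, [3, 4, 12, 13]), (226, [0]), (227, [5, 6]), (228, [0, 3, 6]), (230, [1, 3, 4]), (231, [3, 5, 6, 9, 12]), (232, [3, 4, 6, 12]), (234, [2, 4, 13]), (236, [3, 4, 9]), (237, [3, 6, 7, 14]), (238, [3, 5, 8, 9]), (239, [0, 1, 4]), (240, [2, 3, 12, 13]), (242, [2, 7, 12]), (244, [0, 4, 10]), (245, [2, 3, 10]), (246, [6, 7, 13]), (247, [1, 7, 13]), (248, [7, 8, 12]), (250, [9, 12])]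

/-- Part of an orbit. -/
def orbit0Part6 : List (ℕ × List ℕ) := [(252, [6, 7, 8, 9]), (253, [4, 8, 13]), (254, [4, 12, 14]), (255, [8, 12, 13, 14]), (256, [2, 13]), (258, [0, 10, 12]), (259, [2, 3, 7, 9]), (260, [3, 4]), (261, [0, 3, 8]), (262, [0, 12]), (263, [5, 8, 12, 14]), (265, [3, 4, 6, 8]), (267, [1, 3, 6]), (269, [0, 3, 12]), (270, [1, 5, 10]), (271, [3, 5, 7, 12, 14]), (274, [3, 10, 12]), (275, [0, 7, 9, 10]), (276, [3, 10, 13]), (277, [0, 3, 4, 7, 14]), (278, [2, 7, 9, 10]), (279, [2, 3, 7, 14]), (280, [2, 4, 9]), (281, [3, 4, 7]), (282, [3, 7, 9, 10]), (284, [3, 7, 8, 10, 13]), (285, [5, 7, 8, 10]), (286, [0, 3, 7, 12]), (287, [2, 4, 12, 13]), (288, [3, 7, 8, 14]), (289, [3, 7, 9, 13, 14]), (291, [3, 5, 14])]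

/-- Part of an orbit. -/
def orbit0Part7 : List (ℕ × List ℕ) := [(292, [5, 8, 13]), (293, [3, 7, 14]), (294, [2, 12, 14]), (296, [2, 3, 6, 7, 10]), (298, [5, 9]), (299, [0, 1, 13]), (300, [3, 7, 10, 13, 14]), (301, [0, 3, 9, 14]), (302, [4, 8]), (303, [6]), (304, [6, 7]), (305, [7, 13, 14]), (307, [7, 10, 14]), (308, [1, 2, 5]), (309, [4, 9, 14]), (310, [9, 10, 14]), (312, [2, 3, 10, 12]), (314, [5, 7, 9, 12]), (316, [1, 2, 14]), (317, [2, 3, 13]), (318, [7, 9]), (319, [1, 4]), (320, [4, 6, 14]), (322, [9, 10, 13]), (324, [7, 8, 13]), (325, [6, 7, 12]), (326, [7, 12]), (327, [8, 10, 14]), (328, [5, 8]), (330, [0, 14]), (331, [3, 5, 7, 9, 14]), (332, [3, 7, 10, 12, 13])]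

/-- Part of an orbit. -/
def orbit0Part8 : List (ℕ × List ℕ) := [(333, [0, 1, 3, 14]), (334, [0, 1]), (335, [5, 6, 14]), (337, [3, 7, 12]), (339, [1, 3, 8]), (341, [3, 5, 7, 13]), (342, [2, 7, 9]), (343, [0, 3, 13, 14]), (346, [3, 13]), (347, [1, 5, 12]), (349, [5, 7, 10, 13]), (351, [3, 6, 9]), (352, [2, 3, 7, 13]), (353, [3, 12, 13]), (356, [0, 1, 6, 7]), (357, [2, 3, 4, 10]), (358, [0, 7]), (359, [3, 5, 12, 13]), (361, [3, 5, 10, 12]), (363, [5, 7, 9, 13]), (365, [3, 5, 7, 8]), (366, [3, 7, 10, 14]), (367, [1, 3, 5, 10]), (368, [3, 7, 13, 14]), (370, [4, 10, 13]), (372, [4, 6, 7, 14]), (374, [8, 10, 12]), (375, [4, 12]), (376, [0, 3, 4, 8]), (377, [2, 6]), (378, [2, 3, 8, 10, 12]), (380, [3, 8, 13, 14])]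

/-- Part of an orbit. -/
def orbit0Part9 : List (ℕ × List ℕ) := [(382, [3, 5, 8, 12]), (383, [1, 3, 5, 7]), (384, [4, 5, 10]), (385, [3, 9]), (386, [0, 6]), (388, [1, 3, 4, 7]), (390, [3, 9, 12]), (391, [5, 6, 9, 14]), (392, [10]), (393, [6, 9, 13, 14]), (394, [0, 5, 12]), (395, [12, 14]), (396, [1, 12]), (397, [8, 9]), (398, [3, 9, 13, 14]), (399, [5, 10, 14]), (401, [4, 5]), (403, [3, 8]), (404, [6, 7, 14]), (406, [4, 6, 12]), (407, [9, 13, 14]), (408, [4, 14]), (409, [8]), (410, [4, 8, 14]), (411, [4, 9]), (413, [4, 6, 8, 14]), (414, [1, 5, 13]), (415, [3, 14]), (416, [2, 3, 7]), (417, [3, 8, 9, 10, 14]), (418, [0, 3, 4, 7]), (419, [2, 4, 8, 13])]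

/-- Part of an orbit. -/
def orbit0Part10 : List (ℕ × List ℕ) := [(420, [3, 7]), (422, [1, 3, 4, 5]), (424, [1, 2, 3]), (425, [3, 7, 10, 13]), (427, [5, 6, 7, 12]), (428, [2, 3]), (429, [0, 4, 10, 13]), (430, [0, 3, 4]), (432, [3, 12]), (433, [0, 3, 10]), (434, [1, 5]), (435, [0, 1, 3, 6]), (436, [2, 4, 8]), (437, [3, 6, 9, 13]), (438, [3, 7, 8, 10]), (440, [3, 4, 6]), (441, [0, 4]), (442, [3, 5, 12, 14]), (443, [1, 2, 13]), (444, [3, 7, 9, 14]), (445, [3, 4, 9, 12]), (447, [0, 3, 7]), (448, [2]), (449, [3, 4, 10, 13, 14]), (450, [4, 5, 8, 12]), (452, [1, 2, 3, 10]), (454, [0, 6, 8]), (455, [2, 6, 9]), (456, [3, 4, 12, 14]), (457, [3, 5, 7, 9, 12]), (458, [2, 5]), (459, [8, 12])]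

/-- Part of an orbit. -/
def orbit0Part11 : List (ℕ × List ℕ) := [(460, [7, 9, 13]), (461, [4, 13]), (463, [6, 7, 9]), (464, [7, 8]), (465, [1, 6, 7]), (466, [1, 9]), (468, [3, 7, 9]), (469, [2, 7, 14]), (470, [3, 6, 7, 12]), (471, [2, 3, 12, 14]), (473, [3, 5, 6, 9, 13]), (474, [3, 4, 6, 14]), (475, [3, 7, 8, 13]), (476, [2, 4]), (479, [9, 10, 12]), (480, [1, 7, 12]), (481, [6, 12, 14]), (482, [4, 13, 14]), (484, [1, 3, 5, 6, 9]), (485, [3, 7, 10, 12]), (487, [3, 7, 12, 13]), (489, [2, 3, 4, 9]), (490, [0, 3]), (491, [2, 4, 8, 14]), (492, [3, 6, 9, 10]), (493, [1, 5, 14]), (494, [3, 6, 8]), (495, [3, 5, 7, 14]), (496, [7, 9, 13, 14]), (498, [7, 8, 14]), (499, [9, 10, 12, 14]), (500, [7])]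

/-- Part of an orbit. -/
def orbit0Part12 : List (ℕ × List ℕ) := [(501, [6, 12]), (502, [2, 5, 14]), (503, [7, 9, 10]), (505, [7, 10, 13]), (506, [2, 4, 6]), (507, [3, 6, 8, 14]), (508, [1, 2, 3, 6]), (509, [3, 6, 9, 10, 14]), (510, [0, 3, 10, 14]), (511, [2, 6, 7, 10]), (512, [3, 4, 10, 13]), (514, [0, 1, 3, 10]), (516, [1, 3, 5]), (517, [3, 4, 12]), (519, [0, 4, 14]), (520, [2, 3, 10, 13]), (521, [0, 7, 12]), (522, [2, 3, 12]), (524, [2, 3, 9, 14]), (525, [5, 10, 13]), (526, [3, 5, 8, 10, 12]), (528, [3, 9, 10, 12, 14]), (530, [2, 3, 8]), (531, [2, 3, 6, 12, 14]), (532, [5]), (533, [3, 6, 12]), (534, [2, 8]), (536, [1, 3]), (538, [3, 8, 12, 14]), (539, [5, 14]), (540, [0, 2, 8]), (541, [4, 7])]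

/-- Part of an orbit. -/
def orbit0Part13 : List (ℕ × List ℕ) := [(542, [1, 13]), (543, [10, 13]), (544, [4, 7, 14]), (545, [14]), (546, [3, 9, 10, 12]), (547, [2, 9]), (549, [5, 8, 9, 13]), (551, [3, 6, 12, 14]), (552, [9, 12, 14]), (553, [7, 10, 12]), (555, [7, 12, 13]), (557, [8, 12, 13]), (559, [1, 3, 5, 8]), (561, [5, 7]), (562, [1, 3, 6, 14]), (563, [1, 2, 9]), (566, [2, 3, 4, 10, 14]), (567, [3, 10, 12, 14]), (568, [0, 12, 14]), (569, [3, 5, 7, 9, 10]), (570, [2, 13, 14]), (571, [3, 7, 13]), (573, [3, 7, 10]), (574, [2, 4, 7]), (575, [5, 8, 12]), (576, [1, 2, 3, 12]), (578, [3, 6, 7, 10]), (579, [3, 5, 8, 9, 12]), (580, [3, 6, 7, 13, 14]), (582, [5, 7, 8]), (584, [1, 3, 4, 13]), (585, [3, 7, 9, 10, 12])]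

/-- Part of an orbit. -/
def orbit0Part14 : List (ℕ × List ℕ) := [(586, [3, 5, 6, 9]), (587, [0, 4, 12]), (588, [2, 3, 8, 10]), (589, [2, 9, 13, 14]), (590, [3, 5, 9, 13]), (592, [3, 9, 13]), (594, [3, 5, 6, 14]), (595, [3, 5, 8]), (596, [0, 6, 12]), (597, [3, 8, 14]), (598, [5, 12]), (600, [3, 8, 10]), (602, [1, 3, 10, 14]), (603, [5, 6, 8]), (604, [12, 13, 14]), (605, [13, 14]), (606, [12]), (607, [6, 9, 12, 14]), (608, [6, 9, 13]), (609, [6, 9, 14]), (610, [3, 8, 10, 12, 14]), (611, [5, 12, 13]), (613, [5, 10, 12]), (615, [3, 4, 6, 7]), (617, [2, 7, 9, 14]), (619, [3, 8, 9]), (620, [3, 5, 7, 10, 14]), (621, [3, 10]), (624, [5, 7, 13]), (625, [1, 2, 3, 9]), (626, [2, 4, 13, 14]), (627, [3, 5, 10])]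

/-- Part of an orbit. -/
def orbit0Part15 : List (ℕ × List ℕ) := [(629, [3, 5, 13]), (631, [5, 6, 7]), (633, [3, 5, 7, 9]), (634, [3, 4, 12, 13, 14]), (635, [0, 1, 3]), (636, [3, 4, 10, 14]), (638, [1, 4, 14]), (640, [9, 14]), (642, [8, 13]), (643, [7, 12, 14]), (644, [3, 7, 8]), (645, [5, 7, 9, 14]), (646, [0, 3, 5]), (647, [0, 3, 4, 14]), (649, [2, 3, 14]), (650, [3, 4, 9, 10]), (651, [3, 7, 9, 13]), (652, [1, 2, 12]), (655, [9, 13]), (656, [7, 10]), (657, [8, 14]), (658, [7, 13]), (660, [0, 3, 8, 12]), (661, [3, 4, 13]), (663, [3, 6, 7, 9]), (665, [0, 3, 9]), (666, [2, 3, 4]), (667, [2, 4, 9, 14]), (668, [3, 8, 9, 10]), (669, [2, 7, 9, 10, 14]), (670, [3]), (671, [1, 3, 4, 5, 6])]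

/-- Part of an orbit. -/
def orbit1Part0 : List (ℕ × List ℕ) := [(1, []), (607, [0, 2, 9, 10, 13]), (608, [0, 5, 6, 9, 10]), (609, [1, 10, 12, 14])]

/-- Part of an orbit. -/
def orbit2Part0 : List (ℕ × List ℕ) := [(2, []), (110, [1, 4, 7, 8, 9, 10]), (120, [6, 8, 10, 12, 13]), (130, [1, 4, 6, 7, 9, 14]), (176, [1, 4, 6, 7, 9, 11]), (376, [2, 4, 5, 6, 7, 12, 13]), (524, [6, 8, 10, 11, 12, 13, 14]), (588, [11, 14])]

/-- Part of an orbit. -/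
def orbit3Part0 : List (ℕ × List ℕ) := [(12, []), (40, [1, 2, 5, 7, 8, 11, 12, 13, 14])]

/-- Orbits inside the subgroup. -/
def orbits : List (ℕ × List (ℕ × List ℕ)) := [(0, List.flatten [orbit0Part0, orbit0Part1, orbit0Part2, orbit0Part3, orbit0Part4, orbit0Part5, orbit0Part6, orbit0Part7, orbit0Part8, orbit0Part9, orbit0Part10, orbit0Part11, orbit0Part12, orbit0Part13, orbit0Part14, orbit0Part15]), (1, List.flatten [orbit1Part0]), (2, List.flatten [orbit2Part0]), (12, List.flatten [orbit3Part0])]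

end CfsgLib.Lie.MultExc.USixTwo.P2
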