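import Cfsg.Agent.Lib.Lie.MultExc.USixTwo.P2

/-!
Some dense vectors agree with their relations.
-/

set_option autoImplicit false
set_option maxRecDepth 100000
set_option maxHeartbeats 0

namespace CfsgLib.Lie.MultExc.USixTwo.P2

open CfsgLib.Spor.SchurCert

theorem part120_ok : Packed.allP cert ((cert.eqs.drop 120).take 1000) ((cert.dense.drop 120).take 1000) = true := by
  decide +kernel

end CfsgLib.Lie.MultExc.USixTwo.P2
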