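import Cfsg.Agent.Lib.Lie.MultExc.USixTwo.P2LinA0
import Cfsg.Agent.Lib.Lie.MultExc.USixTwo.P2LinA1
import Cfsg.Agent.Lib.Lie.MultExc.USixTwo.P2LinA2

/-!
The dense vectors agree with the relations.
-/

set_option autoImplicit false
set_option maxRecDepth 100000
set_option maxHeartbeats 0

namespace CfsgLib.Lie.MultExc.USixTwo.P2

open CfsgLib.Spor.SchurCert

theorem allP_append (C : Cert) : ∀ (e e' : List (Form × Form)) (d d' : List (List ℕ)),
    Packed.allP C e d = true → Packed.allP C e' d' = true → Packed.allP C (e ++ e') (d ++ d') = true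
  | [], _, [], _, _, h => h
  | [], _, _ :: _, _, h, _ => by simp [Packed.allP] at h
  | _ :: _, _, [], _, h, _ => by simp [Packed.allP] at h
  | a :: e, e', b :: d, d', h, h' => by
    simp only [Packed.allP, Bool.and_eq_true, List.cons_append] at h ⊢
    exact ⟨h.1, allP_append C e e' d d' h.2 h'⟩

theorem split3 {α : Type*} (l : List α) (h : (l.drop 120).length ≤ 1000) :
    l = (l.drop 0).take 60 ++ ((l.drop 60).take 60 ++ (l.drop 120).take 1000) := by
  rw [List.take_of_length_le h, List.drop_zero]
  conv_lhs => rw [← List.take_append_drop 60 l, ← List.take_append_drop 60 (l.drop 60), List.drop_drop]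

theorem lengths_ok : Nat.ble cert.dense.length 1000 = true ∧ Nat.ble cert.eqs.length 1000 = true := by
  decide +kernel

theorem dense_ok : ((cert.dense.all fun d => d.all fun x => Nat.ble x cert.N) && Packed.allP cert cert.eqs cert.dense) = true := by
  have h1 : (cert.dense.all fun d => d.all fun x => Nat.ble x cert.N) = true := by decide +kernel
  rw [h1, Bool.true_and]
  have hd := Nat.le_of_ble_eq_true lengths_ok.1
  have he := Nat.le_of_ble_eq_true lengths_ok.2
  rw [split3 cert.eqs (le_trans (by simp) he), split3 cert.dense (le_trans (by simp) hd)]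
  exact allP_append _ _ _ _ _ part0_ok (allP_append _ _ _ _ _ part60_ok part120_ok)

end CfsgLib.Lie.MultExc.USixTwo.P2
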